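import Cfsg.Agent.LargeExtra.TransferPow

/-!
# The transfer trick with a 2-group acting on the `⟨u⟩`-orbits (S1763, case [HN])

`G` a finite group without subgroups of index two, `C₀ ≤ C ≤ G` with `|C : C₀| = 2`, `u ∈ C ∖ C₀`, `P ≤ C` a
2-group centralising `u`. The number of `⟨u⟩`-orbits on `G / C` at which the factor of the transfer of `u` is
`-1` is even; `P` permutes them and fixes the orbit `{C}`, hence a further one.
-/

set_option autoImplicit false
set_option linter.style.haveILetI false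

namespace Cfsg.Agent.LargeExtra.TransferOrbit

open Cfsg.Agent.LargeExtra.Transfer Cfsg.Agent.LargeExtra.TransferPow

variable {G : Type*} [Group G] {C C₀ : Subgroup G}

/-- the factor of the transfer of `u` at the orbit of `gC` is `-1` -/
def Neg (C C₀ : Subgroup G) (u g : G) : Prop :=
  g⁻¹ * u ^ Function.minimalPeriod (u • ·) (g : G ⧸ C) * g ∉ C₀

theorem per_congr (u v : G) (hvu : v * u = u * v) (x : G ⧸ C) :
    Function.minimalPeriod (u • ·) (v • x) = Function.minimalPeriod (u • ·) x := by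
  rw [Function.minimalPeriod_eq_minimalPeriod_iff]
  intro n
  have hc : v * u ^ n = u ^ n * v := (show Commute v (u ^ n) from (show Commute v u from hvu).pow_right n)
  show (u • ·)^[n] (v • x) = v • x ↔ (u • ·)^[n] x = x
  rw [smul_iterate]
  show u ^ n • v • x = v • x ↔ u ^ n • x = x
  rw [← mul_smul, ← hc, mul_smul]
  exact (MulAction.injective v).eq_iff

theorem neg_congr (hle : C₀ ≤ C) (h2 : C₀.relIndex C = 2) (u v g c : G) (hvu : v * u = u * v) (hc : c ∈ C) :
    Neg C C₀ u (v * g * c) ↔ Neg C C₀ u g := by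
  have e1 : ((v * g * c : G) : G ⧸ C) = v • (g : G ⧸ C) := by
    rw [QuotientGroup.mk_mul_of_mem _ hc]
    rfl
  unfold Neg
  rw [e1, per_congr u v hvu]
  set k := Function.minimalPeriod (u • ·) (g : G ⧸ C)
  have hck : v * u ^ k = u ^ k * v := (show Commute v (u ^ k) from (show Commute v u from hvu).pow_right k)
  have e2 : (v * g * c)⁻¹ * u ^ k * (v * g * c) = c⁻¹ * (g⁻¹ * u ^ k * g) * c := by
    calc (v * g * c)⁻¹ * u ^ k * (v * g * c) = c⁻¹ * g⁻¹ * v⁻¹ * (u ^ k * v) * g * c := by group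
      _ = c⁻¹ * g⁻¹ * v⁻¹ * (v * u ^ k) * g * c := by rw [hck]
      _ = _ := by group
  rw [e2, normal_of_relIndex hle h2 hc]

/-- the element attached to an orbit -/
noncomputable def rep (C : Subgroup G) (u : G)
    (q : Quotient (MulAction.orbitRel (Subgroup.zpowers u) (G ⧸ C))) : G := q.out.out

theorem exists_rep (C : Subgroup G) (u g : G) :
    ∃ (m : ℤ) (c : G), c ∈ C ∧
      rep C u (Quotient.mk (MulAction.orbitRel (Subgroup.zpowers u) (G ⧸ C)) (g : G ⧸ C)) = u ^ m * g * c := by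
  set q := Quotient.mk (MulAction.orbitRel (Subgroup.zpowers u) (G ⧸ C)) (g : G ⧸ C) with hq
  have h1 : (MulAction.orbitRel (Subgroup.zpowers u) (G ⧸ C)) q.out (g : G ⧸ C) :=
    Quotient.mk_out (s := MulAction.orbitRel (Subgroup.zpowers u) (G ⧸ C)) _
  obtain ⟨⟨v, hv⟩, hvy⟩ := h1
  obtain ⟨m, rfl⟩ := Subgroup.mem_zpowers_iff.1 hv
  have h2 : ((u ^ m * g : G) : G ⧸ C) = q.out := hvy
  refine ⟨m, (u ^ m * g)⁻¹ * rep C u q, ?_, by group⟩
  rw [← QuotientGroup.eq, h2]
  show q.out = ((q.out.out : G) : G ⧸ C)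
  rw [QuotientGroup.out_eq']

theorem neg_rep_iff (hle : C₀ ≤ C) (h2 : C₀.relIndex C = 2) (u g : G) :
    Neg C C₀ u (rep C u (Quotient.mk (MulAction.orbitRel (Subgroup.zpowers u) (G ⧸ C)) (g : G ⧸ C))) ↔
      Neg C C₀ u g := by
  obtain ⟨m, c, hc, h3⟩ := exists_rep C u g
  rw [h3]
  exact neg_congr hle h2 u _ g c ((Commute.refl u).zpow_left m) hc

/-- The number of `⟨u⟩`-orbits of sign `-1` is even. -/
theorem even_card_neg [Finite G] (hG : ∀ H : Subgroup G, H.index ≠ 2)
    (_hle : C₀ ≤ C) (h2 : C₀.relIndex C = 2) (u : G) :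
    Even (Nat.card {q : Quotient (MulAction.orbitRel (Subgroup.zpowers u) (G ⧸ C)) //
      Neg C C₀ u (rep C u q)}) := by
  classical
  have : Fintype (G ⧸ C) := Fintype.ofFinite _
  have : Fintype (Quotient (MulAction.orbitRel (Subgroup.zpowers u) (G ⧸ C))) := Fintype.ofFinite _
  set f : G →* ℤˣ := MonoidHom.transfer (sgn h2) with hf
  have hf1 : f u = 1 := by
    by_contra hne
    have h3 : f u = -1 := (Int.units_eq_one_or (f u)).resolve_left hne
    apply hG f.ker
    rw [Subgroup.index_ker]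
    have : f.range = ⊤ := by
      rw [eq_top_iff]
      intro x _
      rcases Int.units_eq_one_or x with rfl | rfl
      · exact f.range.one_mem
      · exact ⟨u, h3⟩
    rw [this, Subgroup.card_top, Nat.card_eq_fintype_card]
    rfl
  rw [hf, MonoidHom.transfer_eq_prod_quotient_orbitRel_zpowers_quot] at hf1
  set P : Quotient (MulAction.orbitRel (Subgroup.zpowers u) (G ⧸ C)) → ℤˣ := fun q =>
    sgn h2 ⟨q.out.out⁻¹ * u ^ Function.minimalPeriod (u • ·) q.out * q.out.out,
      QuotientGroup.out_conj_pow_minimalPeriod_mem C u q.out⟩ with hP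
  have hprod : ∏ q, P q = 1 := hf1
  have heven : Even (Finset.univ.filter (fun q => P q = -1)).card := by
    have h3 : ∏ q, P q = ∏ q ∈ Finset.univ.filter (fun q => P q = -1), (-1 : ℤˣ) := by
      rw [Finset.prod_filter]
      apply Finset.prod_congr rfl
      intro q _
      by_cases hq : P q = -1
      · rw [if_pos hq, hq]
      · rw [if_neg hq]
        exact (Int.units_eq_one_or (P q)).resolve_right hq
    rw [h3, Finset.prod_const] at hprod
    by_contra hodd
    rw [Nat.not_even_iff_odd] at hodd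
    rw [hodd.neg_one_pow] at hprod
    exact absurd hprod (by decide)
  have hP_iff : ∀ q, P q = -1 ↔ Neg C C₀ u (rep C u q) := by
    intro q
    have e0 : ((rep C u q : G) : G ⧸ C) = q.out := by
      show ((q.out.out : G) : G ⧸ C) = q.out
      rw [QuotientGroup.out_eq']
    unfold Neg
    rw [e0]
    show P q = -1 ↔ q.out.out⁻¹ * u ^ Function.minimalPeriod (u • ·) q.out * q.out.out ∉ C₀
    rw [← sgn_eq_one_iff h2 ⟨_, QuotientGroup.out_conj_pow_minimalPeriod_mem C u q.out⟩]
    constructor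
    · intro h3 h4
      have h5 : P q = 1 := h4
      rw [h5] at h3
      exact absurd h3 (by decide)
    · intro h3
      exact (Int.units_eq_one_or (P q)).resolve_left h3
  have hcard : Nat.card {q : Quotient (MulAction.orbitRel (Subgroup.zpowers u) (G ⧸ C)) //
      Neg C C₀ u (rep C u q)} = (Finset.univ.filter (fun q => P q = -1)).card := by
    rw [← Fintype.card_subtype, ← Nat.card_eq_fintype_card]
    exact Nat.card_congr (Equiv.subtypeEquivRight (fun q => (hP_iff q).symm))
  rw [hcard]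
  exact heven

/-- **The transfer trick, orbit form.** -/
theorem exists_orbit [Finite G] (hG : ∀ H : Subgroup G, H.index ≠ 2) {C C₀ : Subgroup G} (hle : C₀ ≤ C)
    (h2 : C₀.relIndex C = 2) (u : G) (huC : u ∈ C) (hu0 : u ∉ C₀) (P : Subgroup G) (hP : IsPGroup 2 P)
    (hPC : P ≤ C) (hPu : ∀ p ∈ P, p * u = u * p) :
    ∃ (g : G) (k : ℕ), g ∉ C ∧ 0 < k ∧ k ∣ orderOf u ∧ g⁻¹ * u ^ k * g ∈ C ∧ g⁻¹ * u ^ k * g ∉ C₀ ∧
      ∀ p ∈ P, ∃ i : ℕ, g⁻¹ * (u ^ i * p) * g ∈ C := by
  classical
  have : Fact (Nat.Prime 2) := ⟨Nat.prime_two⟩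
  set R := MulAction.orbitRel (Subgroup.zpowers u) (G ⧸ C) with hR
  -- the action of `P` on the orbits
  have hresp : ∀ p ∈ P, ∀ x y : G ⧸ C, R x y → R (p • x) (p • y) := by
    rintro p hp x y ⟨⟨v, hv⟩, hvy⟩
    obtain ⟨m, rfl⟩ := Subgroup.mem_zpowers_iff.1 hv
    have h3 : u ^ m • y = x := hvy
    have h4 : u ^ m * p = p * u ^ m := ((show Commute p u from hPu p hp).zpow_right m).symm
    refine ⟨⟨u ^ m, hv⟩, ?_⟩
    show u ^ m • p • y = p • x
    rw [← mul_smul, h4, mul_smul, h3]
  letI act : MulAction P (Quotient R) :=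
    { smul := fun p q => Quotient.map (fun x => (p : G) • x) (fun x y h => hresp p p.2 x y h) q
      one_smul := by
        intro q
        induction q using Quotient.inductionOn with
        | _ x =>
          show Quotient.mk R (((1 : P) : G) • x) = Quotient.mk R x
          rw [Subgroup.coe_one, one_smul]
      mul_smul := by
        intro a b q
        induction q using Quotient.inductionOn with
        | _ x =>
          show Quotient.mk R (((a * b : P) : G) • x) = Quotient.mk R ((a : G) • (b : G) • x)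
          rw [Subgroup.coe_mul, mul_smul] }
  have hsmul : ∀ (p : P) (g : G), p • Quotient.mk R (g : G ⧸ C) = Quotient.mk R ((p * g : G) : G ⧸ C) :=
    fun _ _ => rfl
  have hnegiff : ∀ g : G, Neg C C₀ u (rep C u (Quotient.mk R (g : G ⧸ C))) ↔ Neg C C₀ u g :=
    fun g => neg_rep_iff hle h2 u g
  have hinv : ∀ (p : P) (q : Quotient R), Neg C C₀ u (rep C u q) → Neg C C₀ u (rep C u (p • q)) := by
    intro p q hq
    induction q using Quotient.inductionOn with
    | _ x =>
      obtain ⟨g, rfl⟩ := QuotientGroup.mk_surjective x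
      have h3 := (hnegiff g).1 hq
      rw [hsmul]
      have h4 := (neg_congr hle h2 u p g 1 (hPu p p.2) C.one_mem).2 h3
      rw [mul_one] at h4
      exact (hnegiff _).2 h4
  letI : MulAction P {q : Quotient R // Neg C C₀ u (rep C u q)} :=
    { smul := fun p q => ⟨p • q.1, hinv p q.1 q.2⟩
      one_smul := fun q => Subtype.ext (one_smul P q.1)
      mul_smul := fun a b q => Subtype.ext (mul_smul a b q.1) }
  have h3 := hP.card_modEq_card_fixedPoints {q : Quotient R // Neg C C₀ u (rep C u q)}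
  have h5 := even_card_neg hG hle h2 u
  have h6 : Even (Nat.card (MulAction.fixedPoints P {q : Quotient R // Neg C C₀ u (rep C u q)})) := by
    rw [Nat.even_iff] at h5 ⊢
    rw [← h5]
    exact h3.symm
  -- the trivial orbit
  have hneg1 : Neg C C₀ u 1 := by
    unfold Neg
    have : Function.minimalPeriod (u • ·) ((1 : G) : G ⧸ C) = 1 := by
      rw [Function.minimalPeriod_eq_one_iff_isFixedPt]
      show u • ((1 : G) : G ⧸ C) = ((1 : G) : G ⧸ C)
      exact (smul_eq_iff C u 1).2 (by rw [inv_one, one_mul, mul_one]; exact huC)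
    rw [this, pow_one, inv_one, one_mul, mul_one]
    exact hu0
  have hq1 : Neg C C₀ u (rep C u (Quotient.mk R ((1 : G) : G ⧸ C))) := (hnegiff 1).2 hneg1
  have hfix1 : (⟨Quotient.mk R ((1 : G) : G ⧸ C), hq1⟩ : {q : Quotient R // Neg C C₀ u (rep C u q)}) ∈
      MulAction.fixedPoints P {q : Quotient R // Neg C C₀ u (rep C u q)} := by
    intro p
    apply Subtype.ext
    show p • Quotient.mk R ((1 : G) : G ⧸ C) = Quotient.mk R ((1 : G) : G ⧸ C)
    rw [hsmul]
    congr 1
    rw [QuotientGroup.eq, mul_one, mul_one]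
    exact C.inv_mem (hPC p.2)
  have hlt : 1 < Nat.card (MulAction.fixedPoints P {q : Quotient R // Neg C C₀ u (rep C u q)}) := by
    have hpos : 0 < Nat.card (MulAction.fixedPoints P {q : Quotient R // Neg C C₀ u (rep C u q)}) :=
      Nat.card_pos_iff.2 ⟨⟨⟨_, hfix1⟩⟩, inferInstance⟩
    obtain ⟨r, hr⟩ := h6
    omega
  rw [Finite.one_lt_card_iff_nontrivial] at hlt
  obtain ⟨⟨⟨q, hq⟩, hqf⟩, hqne⟩ := exists_ne
    (⟨_, hfix1⟩ : MulAction.fixedPoints P {q : Quotient R // Neg C C₀ u (rep C u q)})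
  have hqne' : q ≠ Quotient.mk R ((1 : G) : G ⧸ C) := by
    intro h
    apply hqne
    apply Subtype.ext
    apply Subtype.ext
    exact h
  obtain ⟨x, rfl⟩ := Quotient.exists_rep q
  obtain ⟨g, rfl⟩ := QuotientGroup.mk_surjective x
  have hng := (hnegiff g).1 hq
  have hper : u ^ Function.minimalPeriod (u • ·) (g : G ⧸ C) • (g : G ⧸ C) = (g : G ⧸ C) := by
    have h7 := Function.iterate_minimalPeriod (f := (u • · : G ⧸ C → G ⧸ C)) (x := (g : G ⧸ C))
    rw [smul_iterate] at h7
    exact h7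
  refine ⟨g, Function.minimalPeriod (u • ·) (g : G ⧸ C), ?_, ?_, ?_, ?_, hng, ?_⟩
  · intro hg
    apply hqne'
    congr 1
    rw [QuotientGroup.eq, mul_one]
    exact C.inv_mem hg
  · apply Function.minimalPeriod_pos_of_mem_periodicPts
    refine ⟨orderOf u, orderOf_pos u, ?_⟩
    show (u • ·)^[orderOf u] (g : G ⧸ C) = (g : G ⧸ C)
    rw [smul_iterate, pow_orderOf_eq_one]
    exact one_smul _ _
  · apply Function.IsPeriodicPt.minimalPeriod_dvd
    show (u • ·)^[orderOf u] (g : G ⧸ C) = (g : G ⧸ C)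
    rw [smul_iterate, pow_orderOf_eq_one]
    exact one_smul _ _
  · exact (smul_eq_iff C _ g).1 hper
  · intro p hp
    have h8 : (⟨p, hp⟩ : P) • Quotient.mk R (g : G ⧸ C) = Quotient.mk R (g : G ⧸ C) :=
      congrArg Subtype.val (hqf ⟨p, hp⟩)
    rw [hsmul] at h8
    have h9 : R (g : G ⧸ C) ((p * g : G) : G ⧸ C) := (Quotient.eq (r := R)).1 h8.symm
    obtain ⟨⟨v, hv⟩, hvy⟩ := h9
    obtain ⟨i, hi⟩ := (Submonoid.mem_powers_iff _ _).1
      ((mem_powers_iff_mem_zpowers (x := u)).2 hv)
    subst hi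
    have h10 : ((u ^ i * (p * g) : G) : G ⧸ C) = (g : G ⧸ C) := hvy
    refine ⟨i, ?_⟩
    rw [eq_comm, QuotientGroup.eq] at h10
    have e : g⁻¹ * (u ^ i * p) * g = g⁻¹ * (u ^ i * (p * g)) := by group
    rw [e]
    exact h10

end Cfsg.Agent.LargeExtra.TransferOrbit
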