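import Cfsg.Agent.LargeExtra.Base

/-!
# Case II of the large extraspecial problem in the language of `V = Q / ⟨z⟩` (helper73)

For `p : Pair Q z A a`: `p.va = pr a`, `p.D` (the image of `Q ∩ A`), `p.X` (the image of `C_A(z)` in
`GL(V)`), and the facts (L2).
-/

set_option autoImplicit false

namespace Cfsg.Agent.LargeExtra.Local

open Cfsg.Agent.Co2Type.Quad Cfsg.Agent.LargeExtra.Base

variable {G : Type*} [Group G]

section Large

variable {Q : Subgroup G} {z : G}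

theorem relIndex_centralizer (h : Large Q z) {x : G} (hx : x ∈ Q) (h1 : x ≠ 1) (hz : x ≠ z) :
    (Subgroup.centralizer ({x} : Set G)).relIndex Q = 2 := by
  obtain ⟨y, hy, hyx⟩ := exists_not_comm h hx h1 hz
  rw [Subgroup.relIndex, Subgroup.index_eq_two_iff]
  refine ⟨⟨y, hy⟩, fun b => ?_⟩
  rw [Subgroup.mem_subgroupOf, Subgroup.mem_subgroupOf, Subgroup.mem_centralizer_singleton_iff,
    Subgroup.mem_centralizer_singleton_iff]
  have e : (b : G) * y * x = b * x * y * z := by rw [mul_assoc, hyx]; group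
  have hyz := h.comm_z y hy
  have hne : ∀ g : G, g ≠ g * z := fun g hg => h.z_ne (mul_eq_left.1 hg.symm)
  rcases h.comm b b.2 x hx with h2 | h2
  · right
    refine ⟨h2, ?_⟩
    show ¬ (b : G) * y * x = x * (b * y)
    rw [e, h2]
    intro h3
    apply hne (x * b * y)
    rw [h3, mul_assoc]
  · left
    refine ⟨?_, ?_⟩
    · show (b : G) * y * x = x * (b * y)
      rw [e, h2]
      calc x * b * z * y * z = x * b * (z * y) * z := by group
        _ = x * b * (y * z) * z := by rw [hyz]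
        _ = x * (b * y) * (z * z) := by group
        _ = x * (b * y) := by rw [h.z_sq, mul_one]
    · show ¬ (b : G) * x = x * b
      rw [h2]
      exact fun h3 => hne (x * b) h3.symm

theorem card_centralizer (h : Large Q z) {x : G} (hx : x ∈ Q) (h1 : x ≠ 1) (hz : x ≠ z) :
    Nat.card ↥(Subgroup.centralizer ({x} : Set G) ⊓ Q) * 2 = Nat.card Q := by
  rw [← relIndex_centralizer h hx h1 hz, Subgroup.relIndex]
  have e := Subgroup.card_mul_index ((Subgroup.centralizer ({x} : Set G)).subgroupOf Q)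
  rw [← e, ← Subgroup.inf_subgroupOf_right]
  congr 1
  exact (Nat.card_congr (Subgroup.subgroupOfEquivOfLe (inf_le_right)).toEquiv).symm

/-- The submodule of `V` given by a subgroup `B` of `G`. -/
def sub (h : Large Q z) (B : Subgroup G) : Submodule (ZMod 2) h.V where
  carrier := {v | ∃ x : Q, (x : G) ∈ B ∧ h.pr x = v}
  zero_mem' := ⟨1, B.one_mem, h.pr_one⟩
  add_mem' := by
    rintro _ _ ⟨x, hx, rfl⟩ ⟨y, hy, rfl⟩
    exact ⟨x * y, B.mul_mem hx hy, h.pr_mul x y⟩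
  smul_mem' := by
    rintro c _ ⟨x, hx, rfl⟩
    have hc : c = 0 ∨ c = 1 := by revert c; decide
    rcases hc with rfl | rfl
    · exact ⟨1, B.one_mem, by rw [zero_smul]; exact h.pr_one⟩
    · exact ⟨x, hx, by rw [one_smul]⟩

theorem mem_sub (h : Large Q z) (B : Subgroup G) (v : h.V) :
    v ∈ sub h B ↔ ∃ x : Q, (x : G) ∈ B ∧ h.pr x = v := Iff.rfl

theorem pr_mem_sub (h : Large Q z) {B : Subgroup G} (hz : z ∈ B) (x : Q) :
    h.pr x ∈ sub h B ↔ (x : G) ∈ B := by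
  constructor
  · rintro ⟨y, hy, hyx⟩
    rcases h.pr_eq_pr.1 hyx with h1 | h1
    · rwa [← h1]
    · have : (x : G) = y * z := by rw [h1, mul_assoc, h.z_sq, mul_one]
      rw [this]; exact B.mul_mem hy hz
  · intro hx
    exact ⟨x, hx, rfl⟩

theorem card_sub [Finite Q] (h : Large Q z) {B : Subgroup G} (hz : z ∈ B) :
    Nat.card ↥(B ⊓ Q) = 2 * Nat.card (sub h B) := by
  classical
  -- `B ∩ Q → sub h B` is surjective with fibres of size two
  have hfin : Finite ↥(B ⊓ Q) := Finite.of_injective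
    (fun x : ↥(B ⊓ Q) => (⟨x, (Subgroup.mem_inf.1 x.2).2⟩ : Q))
    (fun x y hxy => Subtype.ext (congrArg (fun t : Q => (t : G)) hxy))
  let f : ↥(B ⊓ Q) →* Multiplicative (sub h B) :=
    { toFun := fun x => Multiplicative.ofAdd ⟨h.pr ⟨x, (Subgroup.mem_inf.1 x.2).2⟩,
        ⟨x, (Subgroup.mem_inf.1 x.2).2⟩, (Subgroup.mem_inf.1 x.2).1, rfl⟩
      map_one' := by
        apply Multiplicative.toAdd.injective
        apply Subtype.ext
        exact h.pr_one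
      map_mul' := by
        intro x y
        apply Multiplicative.toAdd.injective
        apply Subtype.ext
        exact h.pr_mul ⟨x, (Subgroup.mem_inf.1 x.2).2⟩ ⟨y, (Subgroup.mem_inf.1 y.2).2⟩ }
  have hf : Function.Surjective f := by
    intro v
    obtain ⟨x, hx, hv⟩ := (Multiplicative.toAdd v).2
    refine ⟨⟨x, Subgroup.mem_inf.2 ⟨hx, x.2⟩⟩, ?_⟩
    apply Multiplicative.toAdd.injective
    apply Subtype.ext
    exact hv
  have hk : Nat.card f.ker = 2 := by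
    have hzm : (⟨z, Subgroup.mem_inf.2 ⟨hz, h.z_mem⟩⟩ : ↥(B ⊓ Q)) ∈ f.ker := by
      rw [MonoidHom.mem_ker]
      apply Multiplicative.toAdd.injective
      apply Subtype.ext
      exact h.pr_eq_zero.2 (Or.inr rfl)
    rw [Nat.card_eq_two_iff]
    refine ⟨1, ⟨⟨z, Subgroup.mem_inf.2 ⟨hz, h.z_mem⟩⟩, hzm⟩, ?_, ?_⟩
    · intro he
      apply h.z_ne
      exact (congrArg (fun t : f.ker => ((t : ↥(B ⊓ Q)) : G)) he).symm
    · ext x
      simp only [Set.mem_insert_iff, Set.mem_singleton_iff, Set.mem_univ, iff_true]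
      have hx := MonoidHom.mem_ker.1 x.2
      have hx' : h.pr ⟨((x : ↥(B ⊓ Q)) : G), (Subgroup.mem_inf.1 (x : ↥(B ⊓ Q)).2).2⟩ = 0 :=
        congrArg (fun t : Multiplicative (sub h B) => ((Multiplicative.toAdd t : sub h B) : h.V)) hx
      rcases h.pr_eq_zero.1 hx' with h1 | h1
      · left; exact Subtype.ext (Subtype.ext h1)
      · right; exact Subtype.ext (Subtype.ext h1)
  have h1 := Subgroup.card_eq_card_quotient_mul_card_subgroup f.ker
  have h2 : Nat.card (↥(B ⊓ Q) ⧸ f.ker) = Nat.card (Multiplicative (sub h B)) :=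
    Nat.card_congr (QuotientGroup.quotientKerEquivOfSurjective f hf).toEquiv
  rw [h1, h2, hk, mul_comm]
  rfl

/-- The image of a subgroup `B ≤ C_G(z)` in `GL(V)`. -/
noncomputable def img (h : Large Q z) (B : Subgroup G) : Subgroup (h.V ≃ₗ[ZMod 2] h.V) :=
  (B.subgroupOf (Subgroup.centralizer ({z} : Set G))).map h.act

theorem mem_img (h : Large Q z) (B : Subgroup G) (f : h.V ≃ₗ[ZMod 2] h.V) :
    f ∈ img h B ↔ ∃ c : Subgroup.centralizer ({z} : Set G), (c : G) ∈ B ∧ h.act c = f := Iff.rfl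

theorem card_img [Finite G] (h : Large Q z) {B : Subgroup G}
    (hB : B ≤ Subgroup.centralizer ({z} : Set G)) :
    Nat.card (img h B) * Nat.card ↥(B ⊓ Q) = Nat.card B := by
  classical
  set C := Subgroup.centralizer ({z} : Set G) with hC
  let f : B →* (h.V ≃ₗ[ZMod 2] h.V) := h.act.comp (Subgroup.inclusion hB)
  have hr : f.range = img h B := by
    ext g
    constructor
    · rintro ⟨x, rfl⟩
      exact ⟨⟨x, hB x.2⟩, x.2, rfl⟩
    · rintro ⟨c, hc, rfl⟩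
      exact ⟨⟨c, hc⟩, rfl⟩
  have hk : f.ker = (B ⊓ Q).subgroupOf B := by
    ext x
    rw [MonoidHom.mem_ker, Subgroup.mem_subgroupOf, Subgroup.mem_inf]
    constructor
    · intro hx
      exact ⟨x.2, h.mem_of_act ⟨x, hB x.2⟩ hx⟩
    · rintro ⟨-, hx⟩
      exact h.act_mem ⟨x, hB x.2⟩ hx
  have h1 := Subgroup.card_eq_card_quotient_mul_card_subgroup f.ker
  have h2 : Nat.card (B ⧸ f.ker) = Nat.card f.range :=
    Nat.card_congr (QuotientGroup.quotientKerEquivRange f).toEquiv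
  rw [h1, h2, hr, hk]
  congr 1
  exact (Nat.card_congr (Subgroup.subgroupOfEquivOfLe inf_le_left).toEquiv).symm

end Large

end Cfsg.Agent.LargeExtra.Local

/-! ### pairs in the language of `V` -/

namespace Cfsg.Agent.LargeExtra.Base.Pair

open Cfsg.Agent.Co2Type.Quad Cfsg.Agent.LargeExtra.Local

variable {G : Type*} [Group G] {Q A : Subgroup G} {z a : G}

/-- the singular vector `ã` -/
noncomputable def va (p : Pair Q z A a) : p.lz.V := p.lz.pr ⟨a, p.a_mem⟩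

/-- the totally singular subspace `D̃ = (Q ∩ A) / ⟨z⟩` -/
def D (p : Pair Q z A a) : Submodule (ZMod 2) p.lz.V := sub p.lz A

/-- the image of `C_A(z)` in `GL(V)` -/
noncomputable def X (p : Pair Q z A a) : Subgroup (p.lz.V ≃ₗ[ZMod 2] p.lz.V) :=
  img p.lz (A ⊓ Subgroup.centralizer ({z} : Set G))

/-- the image of `C_G(z)` in `GL(V)` -/
noncomputable def H (p : Pair Q z A a) : Subgroup (p.lz.V ≃ₗ[ZMod 2] p.lz.V) := p.lz.act.range

theorem pr_mem_D (p : Pair Q z A a) (x : Q) : p.lz.pr x ∈ p.D ↔ (x : G) ∈ A :=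
  pr_mem_sub p.lz p.z_mem x

theorem mem_D (p : Pair Q z A a) {v : p.lz.V} :
    v ∈ p.D ↔ ∃ x : Q, (x : G) ∈ A ∧ p.lz.pr x = v := Iff.rfl

theorem mem_X (p : Pair Q z A a) {f : p.lz.V ≃ₗ[ZMod 2] p.lz.V} :
    f ∈ p.X ↔ ∃ c : Subgroup.centralizer ({z} : Set G), (c : G) ∈ A ∧ p.lz.act c = f := by
  constructor
  · rintro ⟨c, hc, rfl⟩
    exact ⟨c, (Subgroup.mem_inf.1 hc).1, rfl⟩
  · rintro ⟨c, hc, rfl⟩
    exact ⟨c, Subgroup.mem_inf.2 ⟨hc, c.2⟩, rfl⟩

theorem X_le_H (p : Pair Q z A a) : p.X ≤ p.H := by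
  intro f hf
  obtain ⟨c, -, rfl⟩ := p.mem_X.1 hf
  exact ⟨c, rfl⟩

theorem va_ne (p : Pair Q z A a) : p.va ≠ 0 := by
  intro h
  rcases p.lz.pr_eq_zero.1 h with h1 | h1
  · exact p.la.z_ne h1
  · exact p.ne h1

theorem va_mem_D (p : Pair Q z A a) : p.va ∈ p.D := (p.pr_mem_D _).2 p.la.z_mem

theorem q_D (p : Pair Q z A a) {v : p.lz.V} (hv : v ∈ p.D) : p.lz.q v = 0 := by
  obtain ⟨x, hx, rfl⟩ := hv
  exact p.lz.q_eq_zero.2 (p.sq_D x.2 hx)

theorem b_D (p : Pair Q z A a) {v w : p.lz.V} (hv : v ∈ p.D) (hw : w ∈ p.D) : p.lz.b v w = 0 := by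
  obtain ⟨x, hx, rfl⟩ := hv
  obtain ⟨y, hy, rfl⟩ := hw
  exact (p.lz.b_pr x y).2 (p.comm_D x.2 hx y.2 hy)

theorem act_pr_coe (h : Large Q z) (c : Subgroup.centralizer ({z} : Set G)) (x : Q) (y : Q)
    (hxy : (c : G) * x * (c : G)⁻¹ = y) : h.act c (h.pr x) = h.pr y := by
  rw [h.act_pr]
  congr 1
  exact Subtype.ext hxy

/-- `x ∈ X` acts on `D̃` by `d ↦ d` or `d ↦ d + ã`. -/
theorem X_D (p : Pair Q z A a) {f : p.lz.V ≃ₗ[ZMod 2] p.lz.V} (hf : f ∈ p.X) {v : p.lz.V}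
    (hv : v ∈ p.D) : f v = v ∨ f v = v + p.va := by
  obtain ⟨c, hc, rfl⟩ := p.mem_X.1 hf
  obtain ⟨x, hx, rfl⟩ := hv
  rcases p.conj_D hx hc with h1 | h1
  · left; exact act_pr_coe p.lz c x x h1
  · right
    rw [va, ← p.lz.pr_mul]
    exact act_pr_coe p.lz c x _ h1

theorem X_va (p : Pair Q z A a) {f : p.lz.V ≃ₗ[ZMod 2] p.lz.V} (hf : f ∈ p.X) : f p.va = p.va := by
  obtain ⟨c, hc, rfl⟩ := p.mem_X.1 hf
  apply act_pr_coe
  show (c : G) * a * (c : G)⁻¹ = a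
  rw [p.la.comm_z c hc]; group

/-- `[ã^⊥, X] ≤ D̃` -/
theorem X_perp (p : Pair Q z A a) {f : p.lz.V ≃ₗ[ZMod 2] p.lz.V} (hf : f ∈ p.X) {v : p.lz.V}
    (hv : p.lz.b p.va v = 0) : f v + v ∈ p.D := by
  obtain ⟨c, hc, rfl⟩ := p.mem_X.1 hf
  obtain ⟨r, rfl⟩ := p.lz.pr_surjective v
  have hra : (r : G) * a = a * r := ((p.lz.b_pr _ _).1 hv).symm
  have hcz : (c : G) * z = z * c := Subgroup.mem_centralizer_singleton_iff.1 c.2
  have h1 := Subgroup.mem_inf.1 (p.comm_mem r.2 hra hc hcz)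
  -- `c r c⁻¹ r⁻¹` is the inverse
  have h2 : (c : G) * r * (c : G)⁻¹ * (r : G)⁻¹ ∈ A := by
    have : (c : G) * r * (c : G)⁻¹ * (r : G)⁻¹ = ((r : G) * c * (r : G)⁻¹ * (c : G)⁻¹)⁻¹ := by group
    rw [this]; exact A.inv_mem h1.2
  have h3 : p.lz.act c (p.lz.pr r) + p.lz.pr r =
      p.lz.pr (p.lz.conjQ c r * r⁻¹) := by
    rw [p.lz.act_pr, p.lz.pr_mul, p.lz.pr_inv, p.lz.neg_eq]
  rw [h3, p.pr_mem_D]
  exact h2

theorem X_sq (p : Pair Q z A a) {f : p.lz.V ≃ₗ[ZMod 2] p.lz.V} (hf : f ∈ p.X) : f * f = 1 := by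
  obtain ⟨c, hc, rfl⟩ := p.mem_X.1 hf
  rw [← map_mul]
  apply p.lz.act_mem
  rcases p.la.sq c hc with h1 | h1
  · show (c : G) * c ∈ Q
    rw [h1]; exact Q.one_mem
  · show (c : G) * c ∈ Q
    rw [h1]; exact p.a_mem

theorem X_comm (p : Pair Q z A a) {f g : p.lz.V ≃ₗ[ZMod 2] p.lz.V} (hf : f ∈ p.X) (hg : g ∈ p.X) :
    f * g = g * f := by
  obtain ⟨c, hc, rfl⟩ := p.mem_X.1 hf
  obtain ⟨d, hd, rfl⟩ := p.mem_X.1 hg
  have h1 : p.lz.act (c * d * c⁻¹ * d⁻¹) = 1 := by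
    apply p.lz.act_mem
    show (c : G) * d * (c : G)⁻¹ * (d : G)⁻¹ ∈ Q
    rcases p.la.comm c hc d hd with h2 | h2
    · have : (c : G) * d * (c : G)⁻¹ * (d : G)⁻¹ = 1 := by rw [h2]; group
      rw [this]; exact Q.one_mem
    · have : (c : G) * d * (c : G)⁻¹ * (d : G)⁻¹ = a := by
        rw [h2, mul_assoc _ a, ← (p.la.commz hc).inv_left.eq]
        have e : (d : G) * c * ((c : G)⁻¹ * a) * (d : G)⁻¹ = d * a * (d : G)⁻¹ := by group
        rw [e, (p.la.commz hd).eq]; group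
      rw [this]; exact p.a_mem
  rw [map_mul, map_mul, map_mul, map_inv, map_inv, mul_inv_eq_one, mul_inv_eq_iff_eq_mul] at h1
  exact h1

/-- Elements of `H` fixing `ã` come from elements of `C_G(z) ∩ C_G(a)`. -/
theorem exists_lift (p : Pair Q z A a) {f : p.lz.V ≃ₗ[ZMod 2] p.lz.V} (hf : f ∈ p.H)
    (hfa : f p.va = p.va) :
    ∃ c : Subgroup.centralizer ({z} : Set G), (c : G) * a = a * c ∧ p.lz.act c = f := by
  obtain ⟨c, rfl⟩ := hf
  rw [va, p.lz.act_pr, p.lz.pr_eq_pr, p.lz.conjQ_coe] at hfa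
  rcases hfa with h1 | h1
  · refine ⟨c, ?_, rfl⟩
    rw [mul_inv_eq_iff_eq_mul] at h1
    exact h1
  · obtain ⟨y, hy, hya⟩ := exists_not_comm p.lz p.a_mem p.la.z_ne p.ne
    have hyC : y ∈ Subgroup.centralizer ({z} : Set G) :=
      Subgroup.mem_centralizer_singleton_iff.2 (p.lz.comm_z y hy)
    refine ⟨⟨y, hyC⟩ * c, ?_, ?_⟩
    · show y * (c : G) * a = a * (y * c)
      have h1' : (c : G) * a = a * z * c := by
        rw [mul_inv_eq_iff_eq_mul] at h1; exact h1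
      calc y * (c : G) * a = y * (c * a) := by group
        _ = y * a * z * c := by rw [h1']; group
        _ = a * y * (z * z) * c := by rw [hya]; group
        _ = a * (y * c) := by rw [p.lz.z_sq]; group
    · rw [map_mul, p.lz.act_mem _ hy, one_mul]

theorem conj_mem_A (p : Pair Q z A a) {c x : G} (hc : c * a = a * c) (hx : x ∈ A) :
    c * x * c⁻¹ ∈ A := p.la.conj_mem c hc x hx

/-- `X` is normal in the stabiliser of `ã`. -/
theorem X_normal (p : Pair Q z A a) {f g : p.lz.V ≃ₗ[ZMod 2] p.lz.V} (hf : f ∈ p.H)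
    (hfa : f p.va = p.va) (hg : g ∈ p.X) : f * g * f⁻¹ ∈ p.X := by
  obtain ⟨c, hca, rfl⟩ := p.exists_lift hf hfa
  obtain ⟨d, hd, rfl⟩ := p.mem_X.1 hg
  rw [← map_mul, ← map_inv, ← map_mul]
  exact p.mem_X.2 ⟨c * d * c⁻¹, p.conj_mem_A hca hd, rfl⟩

/-- `D̃` is invariant under the stabiliser of `ã`. -/
theorem D_inv (p : Pair Q z A a) {f : p.lz.V ≃ₗ[ZMod 2] p.lz.V} (hf : f ∈ p.H)
    (hfa : f p.va = p.va) {v : p.lz.V} (hv : v ∈ p.D) : f v ∈ p.D := by
  obtain ⟨c, hca, rfl⟩ := p.exists_lift hf hfa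
  obtain ⟨x, hx, rfl⟩ := hv
  exact ⟨p.lz.conjQ c x, p.conj_mem_A hca hx, (p.lz.act_pr c x).symm⟩

/-- `X` induces on `D̃` all transvections with centre `ã`. -/
theorem exists_X [Finite G] (p : Pair Q z A a) (φ : p.lz.V →ₗ[ZMod 2] ZMod 2) (hφ : φ p.va = 0) :
    ∃ f ∈ p.X, ∀ v ∈ p.D, f v = v + φ v • p.va := by
  obtain ⟨x, hxA, hxz, hx⟩ := p.exists_transvection φ hφ
  have hxC : x ∈ Subgroup.centralizer ({z} : Set G) := Subgroup.mem_centralizer_singleton_iff.2 hxz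
  refine ⟨p.lz.act ⟨x, hxC⟩, p.mem_X.2 ⟨⟨x, hxC⟩, hxA, rfl⟩, ?_⟩
  rintro _ ⟨d, hd, rfl⟩
  obtain ⟨h0, h1⟩ := hx d d.2 hd
  have hc : ∀ c : ZMod 2, c = 0 ∨ c = 1 := by decide
  rcases hc (φ (p.lz.pr d)) with h2 | h2
  · rw [h2, zero_smul, add_zero]
    exact act_pr_coe p.lz _ d d (h0 h2)
  · rw [h2, one_smul, va, ← p.lz.pr_mul]
    exact act_pr_coe p.lz _ d _ (h1 h2)

theorem card_eq (p : Pair Q z A a) : Nat.card A = Nat.card Q := by
  obtain ⟨g, -, -, h, -⟩ := p.isConj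
  rw [h]
  exact Subgroup.card_map_of_injective (MulAut.conj g).injective

/-- `|X| |D̃| = |V| / 2` -/
theorem card_X [Finite G] (p : Pair Q z A a) :
    Nat.card p.X * Nat.card p.D * 2 = Nat.card p.lz.V := by
  have h1 := card_img p.lz (B := A ⊓ Subgroup.centralizer ({z} : Set G)) inf_le_right
  have h2 := Local.card_centralizer p.la p.z_mem p.lz.z_ne p.ne.symm
  have h3 := card_sub p.lz p.z_mem
  have h4 := p.lz.card_eq
  have h5 : A ⊓ Subgroup.centralizer ({z} : Set G) ⊓ Q = A ⊓ Q := by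
    ext x
    simp only [Subgroup.mem_inf]
    constructor
    · rintro ⟨⟨h, -⟩, h'⟩; exact ⟨h, h'⟩
    · rintro ⟨h, h'⟩
      exact ⟨⟨h, Subgroup.mem_centralizer_singleton_iff.2 (p.lz.comm_z x h')⟩, h'⟩
  rw [h5, h3] at h1
  rw [inf_comm, ← h1, p.card_eq, h4] at h2
  have h6 : Nat.card p.X * (2 * Nat.card p.D) * 2 = 2 * Nat.card p.lz.V := h2
  have h7 : 2 * (Nat.card p.X * Nat.card p.D * 2) = 2 * Nat.card p.lz.V := by
    rw [← h6]; ring
  exact Nat.eq_of_mul_eq_mul_left (by norm_num) h7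

end Cfsg.Agent.LargeExtra.Base.Pair
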