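import Mathlib
import Cfsg.Agent.Transfer.ExtraspecialTwo

/-!
# A recursive bound for the number of automorphisms of an extraspecial 2-group
-/

set_option autoImplicit false

namespace Cfsg.Agent.LargeExtra.AutBound

open Cfsg.Agent.Transfer.ExtraspecialTwo
open scoped commutatorElement

variable {E : Type*} [Group E]

/-- The pairs `(a, b)` of non-commuting elements with prescribed squares. -/
def Pairs (x y : E) : Type _ :=
  {p : E × E // ⁅p.1, p.2⁆ ≠ 1 ∧ p.1 ^ 2 = x ^ 2 ∧ p.2 ^ 2 = y ^ 2}

theorem finite_mulAut [Finite E] : Finite (MulAut E) :=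
  Finite.of_injective (fun a : MulAut E => (a : E → E)) DFunLike.coe_injective

theorem card_mulAut_congr {E' : Type*} [Group E'] (e : E ≃* E') :
    Nat.card (MulAut E) = Nat.card (MulAut E') :=
  Nat.card_congr (MulAut.congr e).toEquiv

/-- Automorphisms fixing the centre pointwise (automatic when the centre has order two) fix squares. -/
theorem map_sq_eq (h : CentralTwo E) (α : MulAut E) (x : E) : (α x) ^ 2 = x ^ 2 := by
  have h1 : α (x ^ 2) = x ^ 2 := by
    by_cases h0 : x ^ 2 = 1
    · rw [h0, map_one]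
    · apply h.eq_of_ne_one _ (h.sq_mem x) (fun h' => h0 (α.injective (by rw [h', map_one]))) h0
      rw [map_pow]; exact h.sq_mem _
  rw [← map_pow, h1]

theorem card_mulAut_le [Finite E] (h : CentralTwo E) {x y : E} (hxy : ⁅x, y⁆ ≠ 1) :
    Nat.card (MulAut E) ≤
      Nat.card (Pairs x y) * Nat.card (MulAut (Subgroup.centralizer ({x, y} : Set E))) := by
  classical
  have := finite_mulAut (E := E)
  have := finite_mulAut (E := Subgroup.centralizer ({x, y} : Set E))
  have : Finite (Pairs x y) := by unfold Pairs; infer_instance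
  set K := Subgroup.centralizer ({x, y} : Set E) with hK
  -- restriction to `K` of an automorphism fixing `x`, `y`
  have hmem : ∀ α : MulAut E, α x = x → α y = y → ∀ k, k ∈ K → α k ∈ K := by
    intro α hx hy k hk
    rw [hK, Subgroup.mem_centralizer_iff] at hk ⊢
    rintro g (rfl | rfl)
    · have := hk g (Or.inl rfl)
      have h2 := congrArg α this
      rwa [map_mul, map_mul, hx] at h2
    · have := hk g (Or.inr rfl)
      have h2 := congrArg α this
      rwa [map_mul, map_mul, hy] at h2
  let f : MulAut E → Pairs x y := fun α => ⟨(α x, α y), by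
    refine ⟨?_, map_sq_eq h α x, map_sq_eq h α y⟩
    intro h0
    apply hxy
    apply α.injective
    rw [map_commutatorElement, h0, map_one]⟩
  have hf : ∀ α β : MulAut E, f α = f β → α x = β x ∧ α y = β y := by
    intro α β hαβ
    have h1 := congrArg Subtype.val hαβ
    exact ⟨congrArg Prod.fst h1, congrArg Prod.snd h1⟩
  -- a section
  let g : Pairs x y → MulAut E := fun p => if hp : ∃ α, f α = p then hp.choose else 1
  have hg : ∀ α, f (g (f α)) = f α := by
    intro α
    have hp : ∃ β, f β = f α := ⟨α, rfl⟩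
    have : g (f α) = hp.choose := dif_pos hp
    rw [this]; exact hp.choose_spec
  have hfix : ∀ α : MulAut E, ((g (f α))⁻¹ * α) x = x ∧ ((g (f α))⁻¹ * α) y = y := by
    intro α
    obtain ⟨h1, h2⟩ := hf _ _ (hg α)
    constructor
    · rw [MulAut.mul_apply, ← h1, MulAut.inv_apply_self]
    · rw [MulAut.mul_apply, ← h2, MulAut.inv_apply_self]
  let S : Type _ := {α : MulAut E // α x = x ∧ α y = y}
  let r : S → MulAut K := fun α =>
    { toFun := fun k => ⟨α.1 k.1, hmem _ α.2.1 α.2.2 _ k.2⟩
      invFun := fun k => ⟨α.1.symm k.1, by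
        refine hmem α.1.symm ?_ ?_ _ k.2
        · rw [MulEquiv.symm_apply_eq]; exact α.2.1.symm
        · rw [MulEquiv.symm_apply_eq]; exact α.2.2.symm⟩
      left_inv := fun k => Subtype.ext (by simp)
      right_inv := fun k => Subtype.ext (by simp)
      map_mul' := fun a b => Subtype.ext (by simp) }
  have hr : Function.Injective r := by
    intro α β hαβ
    apply Subtype.ext
    apply MulEquiv.ext
    intro e
    obtain ⟨⟨i, j, k⟩, hk⟩ := (coord_bijective h hxy).2 e
    have h1 : α.1 (k : E) = β.1 (k : E) := congrArg Subtype.val (DFunLike.congr_fun hαβ k)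
    rw [← hk]
    have hb : ∀ (γ : MulAut E) (w : E) (b : Bool), γ w = w → γ (bpow w b) = bpow w b := by
      intro γ w b hw
      cases b
      · exact map_one γ
      · exact hw
    simp only [coord, map_mul, hb _ _ _ α.2.1, hb _ _ _ α.2.2, hb _ _ _ β.2.1, hb _ _ _ β.2.2, h1]
  have hinj : Function.Injective (fun α : MulAut E =>
      ((f α, r ⟨(g (f α))⁻¹ * α, hfix α⟩) : Pairs x y × MulAut K)) := by
    intro α β hαβ
    simp only [Prod.mk.injEq] at hαβ
    have h1 := congrArg Subtype.val (hr hαβ.2)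
    simp only at h1
    rw [hαβ.1] at h1
    exact mul_left_cancel h1
  have h2 := Nat.card_le_card_of_injective _ hinj
  rwa [Nat.card_prod] at h2

/-- Two of three: an isomorphism criterion by the number of square roots of one. -/
noncomputable def sqOne (E : Type*) [Group E] : ℕ := Nat.card {x : E // x * x = 1}

theorem sqOne_congr {E' : Type*} [Group E'] (e : E ≃* E') : sqOne E = sqOne E' :=
  Nat.card_congr (e.toEquiv.subtypeEquiv (fun x => by
    show x * x = 1 ↔ e x * e x = 1
    rw [← map_mul, map_eq_one_iff e e.injective]))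

theorem iso_or {E M M' : Type*} [Group E] [Group M] [Group M'] [Finite E] [Finite M] [Finite M']
    (hE : CentralTwo E) (hM : CentralTwo M) (hM' : CentralTwo M') {n : ℕ}
    (h1 : Nat.card E = 2 ^ (2 * n + 1)) (h2 : Nat.card M = 2 ^ (2 * n + 1))
    (h3 : Nat.card M' = 2 ^ (2 * n + 1)) (hne : sqOne M ≠ sqOne M') :
    Nonempty (E ≃* M) ∨ Nonempty (E ≃* M') := by
  rcases two_of_three n hE hM hM' h1 h2 h3 with h | ⟨⟨e⟩⟩ | h
  · exact Or.inl h
  · exact absurd (sqOne_congr e) hne
  · exact Or.inr h

theorem iso_of_sqOne {E M M' : Type*} [Group E] [Group M] [Group M'] [Finite E] [Finite M]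
    [Finite M'] (hE : CentralTwo E) (hM : CentralTwo M) (hM' : CentralTwo M') {n : ℕ}
    (h1 : Nat.card E = 2 ^ (2 * n + 1)) (h2 : Nat.card M = 2 ^ (2 * n + 1))
    (h3 : Nat.card M' = 2 ^ (2 * n + 1)) (hne : sqOne M ≠ sqOne M') (h : sqOne E = sqOne M) :
    Nonempty (E ≃* M) := by
  rcases iso_or hE hM hM' h1 h2 h3 hne with h' | ⟨⟨e⟩⟩
  · exact h'
  · exact absurd (h.symm.trans (sqOne_congr e)) hne

/-! ### Counting -/

section Count

open Cfsg.Agent.Transfer.CentralComm

theorem CT.mul_self_or (h : CentralTwo E) {c : E} (hc : c ∈ Subgroup.center E) (hc1 : c ≠ 1) (x : E) :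
    x ^ 2 = 1 ∨ x ^ 2 = c := by
  by_cases h0 : x ^ 2 = 1
  · exact Or.inl h0
  · exact Or.inr (h.eq_of_ne_one (h.sq_mem x) hc h0 hc1)

theorem two_mul_card_not_comm [Finite E] (h : CentralTwo E) (a : E) :
    Nat.card {b : E // ⁅a, b⁆ ≠ 1} * 2 ≤ Nat.card E := by
  classical
  by_cases he : ∃ b0 : E, ⁅a, b0⁆ ≠ 1
  · obtain ⟨b0, hb0⟩ := he
    have h1 : Nat.card {b : E // ⁅a, b⁆ ≠ 1} ≤ Nat.card {b : E // ⁅a, b⁆ = 1} := by
      apply Nat.card_le_card_of_injective
        (fun b : {b : E // ⁅a, b⁆ ≠ 1} => (⟨b0 * b.1, by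
          rw [comm_mul_right h.comm_mem,
            h.eq_of_ne_one (h.comm_mem a b0) (h.comm_mem a b.1) hb0 b.2, ← sq]
          exact h.sq_eq_one (h.comm_mem a b.1)⟩ : {b : E // ⁅a, b⁆ = 1}))
      intro b c hbc
      have := congrArg Subtype.val hbc
      exact Subtype.ext (mul_left_cancel this)
    have h2 : Nat.card {b : E // ⁅a, b⁆ = 1} + Nat.card {b : E // ⁅a, b⁆ ≠ 1} = Nat.card E := by
      rw [← Nat.card_sum]
      exact Nat.card_congr (Equiv.sumCompl (fun b : E => ⁅a, b⁆ = 1))
    omega
  · push Not at he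
    have : IsEmpty {b : E // ⁅a, b⁆ ≠ 1} := ⟨fun b => b.2 (he b.1)⟩
    rw [Nat.card_of_isEmpty]
    omega

theorem four_mul_card_le [Finite E] (h : CentralTwo E) {a : E} (ha : a ^ 2 = 1) :
    Nat.card {b : E // ⁅a, b⁆ ≠ 1 ∧ b ^ 2 = 1} * 4 ≤ Nat.card E := by
  classical
  have h1 : Nat.card {b : E // ⁅a, b⁆ ≠ 1 ∧ b ^ 2 = 1} ≤
      Nat.card {b : E // ⁅a, b⁆ ≠ 1 ∧ b ^ 2 ≠ 1} := by
    apply Nat.card_le_card_of_injective
      (fun b : {b : E // ⁅a, b⁆ ≠ 1 ∧ b ^ 2 = 1} => (⟨a * b.1, by
        rw [comm_mul_right h.comm_mem, commutatorElement_self, one_mul]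
        refine ⟨b.2.1, ?_⟩
        rw [h.mul_sq, ha, one_mul, b.2.2, one_mul]
        intro h0
        apply b.2.1
        rw [← commutatorElement_inv, h0, inv_one]⟩ :
        {b : E // ⁅a, b⁆ ≠ 1 ∧ b ^ 2 ≠ 1}))
    intro b c hbc
    have := congrArg Subtype.val hbc
    exact Subtype.ext (mul_left_cancel this)
  have h2 : Nat.card {b : E // ⁅a, b⁆ ≠ 1 ∧ b ^ 2 = 1} + Nat.card {b : E // ⁅a, b⁆ ≠ 1 ∧ b ^ 2 ≠ 1} =
      Nat.card {b : E // ⁅a, b⁆ ≠ 1} := by
    rw [← Nat.card_sum]
    apply Nat.card_congr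
    exact {
      toFun := fun s => s.elim (fun b => ⟨b.1, b.2.1⟩) (fun b => ⟨b.1, b.2.1⟩)
      invFun := fun b => if hb : b.1 ^ 2 = 1 then Sum.inl ⟨b.1, b.2, hb⟩ else Sum.inr ⟨b.1, b.2, hb⟩
      left_inv := by
        rintro (⟨b, hb1, hb2⟩ | ⟨b, hb1, hb2⟩)
        · simp [hb2]
        · simp [hb2]
      right_inv := by
        rintro ⟨b, hb⟩
        by_cases h0 : b ^ 2 = 1 <;> simp [h0] }
  have h3 := two_mul_card_not_comm h a
  omega

/-- The number of elements of square one, in terms of the centralizer of a pair of involutions. -/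
theorem sqOne_eq [Finite E] (h : CentralTwo E) {x y : E} (hxy : ⁅x, y⁆ ≠ 1) (hx : x ^ 2 = 1)
    (hy : y ^ 2 = 1) : sqOne E = 2 * sqOne (Subgroup.centralizer ({x, y} : Set E)) +
      Nat.card (Subgroup.centralizer ({x, y} : Set E)) := by
  classical
  set K := Subgroup.centralizer ({x, y} : Set E) with hK
  have hyx : ⁅y, x⁆ ≠ 1 := by
    rw [← commutatorElement_inv]
    exact inv_ne_one.mpr hxy
  have hcx : ∀ k : K, ⁅(k : E), x⁆ = 1 := fun k =>
    commutatorElement_eq_one_iff_mul_comm.mpr (Subgroup.mem_centralizer_iff.mp k.2 x (by simp)).symm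
  have hcy : ∀ k : K, ⁅(k : E), y⁆ = 1 := fun k =>
    commutatorElement_eq_one_iff_mul_comm.mpr (Subgroup.mem_centralizer_iff.mp k.2 y (by simp)).symm
  have hsq : ∀ t : Bool × Bool × K, (coord x y t) ^ 2 =
      (t.2.2 : E) ^ 2 * (if (t.1 && t.2.1) = true then ⁅y, x⁆ else 1) := by
    rintro ⟨i, j, k⟩
    simp only [coord]
    rw [h.mul_sq, h.mul_sq]
    have e1 : ⁅(k : E), bpow x i * bpow y j⁆ = 1 := by
      rw [comm_mul_right h.comm_mem]
      cases i <;> cases j <;> simp [bpow, hcx, hcy]
    rw [e1, mul_one]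
    have e2 : bpow x i ^ 2 = 1 := by cases i <;> simp [bpow, hx]
    have e3 : bpow y j ^ 2 = 1 := by cases j <;> simp [bpow, hy]
    rw [e2, e3, one_mul, one_mul]
    have e4 : ⁅bpow y j, bpow x i⁆ = if (i && j) = true then ⁅y, x⁆ else 1 := by
      cases i <;> cases j <;> simp [bpow]
    rw [e4]
    have e5 : (if (i && j) = true then ⁅y, x⁆ else 1) ∈ Subgroup.center E := by
      split_ifs
      · exact h.comm_mem y x
      · exact Subgroup.one_mem _
    exact ((Subgroup.mem_center_iff.mp e5) _).symm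
  have h1 : sqOne E = Nat.card {t : Bool × Bool × K // (coord x y t) * (coord x y t) = 1} := by
    apply Nat.card_congr
    exact ((Equiv.ofBijective _ (coord_bijective h hxy)).subtypeEquiv (fun t => Iff.rfl)).symm
  have h2 : ∀ t : Bool × Bool × K, (coord x y t) * (coord x y t) = 1 ↔
      (if (t.1 && t.2.1) = true then (t.2.2 * t.2.2 ≠ 1) else (t.2.2 * t.2.2 = 1)) := by
    rintro ⟨i, j, k⟩
    rw [← sq, hsq]
    have hk : ((k * k = 1) ↔ ((k : E) ^ 2 = 1)) := by
      rw [← OneMemClass.coe_eq_one, Subgroup.coe_mul, sq]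
    simp only
    split_ifs with hij
    · rw [Ne, hk]
      constructor
      · intro h3 h4
        rw [h4, one_mul] at h3
        exact hyx h3
      · intro h3
        rw [h.eq_of_ne_one (h.sq_mem (k : E)) (h.comm_mem y x) h3 hyx, ← sq]
        exact h.sq_eq_one (h.comm_mem y x)
    · rw [mul_one, hk]
  have h3 : Nat.card {t : Bool × Bool × K // (coord x y t) * (coord x y t) = 1} =
      Nat.card ((Bool × {k : K // k * k = 1}) ⊕ K) := by
    apply Nat.card_congr
    refine (Equiv.subtypeEquivRight h2).trans ?_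
    exact {
      toFun := fun t =>
        match t with
        | ⟨(false, j, k), hk⟩ => Sum.inl (j, ⟨k, by simpa using hk⟩)
        | ⟨(true, false, k), hk⟩ => Sum.inr k
        | ⟨(true, true, k), hk⟩ => Sum.inr k
      invFun := fun s =>
        match s with
        | Sum.inl (j, k) => ⟨(false, j, k.1), by simpa using k.2⟩
        | Sum.inr k => if hk : k * k = 1 then ⟨(true, false, k), by simpa using hk⟩
            else ⟨(true, true, k), by simpa using hk⟩
      left_inv := by
        rintro ⟨⟨i, j, k⟩, hk⟩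
        cases i
        · rfl
        · cases j
          · have : k * k = 1 := by simpa using hk
            simp [this]
          · have : ¬ k * k = 1 := by simpa using hk
            simp [this]
      right_inv := by
        rintro (⟨j, k⟩ | k)
        · rfl
        · by_cases hk : k * k = 1
          · simp [hk]
          · simp [hk] }
  rw [h1, h3, Nat.card_sum, Nat.card_prod]
  have h4 : Nat.card Bool = 2 := by simp
  rw [h4]
  rfl

theorem mem_center_of_comm {a : E} (ha' : ∀ b : E, ⁅a, b⁆ = 1) :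
    a ∈ Subgroup.center E := by
  rw [Subgroup.mem_center_iff]
  intro g
  exact (commutatorElement_eq_one_iff_mul_comm.mp (ha' g)).symm

/-- The number of pairs of non-commuting involutions. -/
theorem card_pairs_invol [Finite E] (h : CentralTwo E) {x y : E} (hx : x ^ 2 = 1)
    (hy : y ^ 2 = 1) : Nat.card (Pairs x y) * 4 ≤ (sqOne E - 2) * Nat.card E := by
  classical
  have : Finite (Pairs x y) := by unfold Pairs; infer_instance
  -- central elements have square one
  have hcen : Nat.card {a : E // a * a = 1 ∧ a ∉ Subgroup.center E} + 2 = sqOne E := by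
    rw [← h.card_center]
    unfold sqOne
    rw [add_comm, ← Nat.card_sum]
    apply Nat.card_congr
    exact {
      toFun := fun s => s.elim (fun b => ⟨b.1, by rw [← sq]; exact h.sq_eq_one b.2⟩)
        (fun b => ⟨b.1, b.2.1⟩)
      invFun := fun b => if hb : b.1 ∈ Subgroup.center E then Sum.inl ⟨b.1, hb⟩
        else Sum.inr ⟨b.1, b.2, hb⟩
      left_inv := by
        rintro (⟨b, hb1⟩ | ⟨b, hb1, hb2⟩)
        · simp [hb1]
        · simp [hb2]
      right_inv := by
        rintro ⟨b, hb⟩
        by_cases h0 : b ∈ Subgroup.center E <;> simp [h0] }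
  have h1 : Nat.card (Pairs x y) ≤ Nat.card (Σ a : {a : E // a * a = 1 ∧ a ∉ Subgroup.center E},
      {b : E // ⁅a.1, b⁆ ≠ 1 ∧ b ^ 2 = 1}) := by
    apply Nat.card_le_card_of_injective
      (fun p : Pairs x y => (⟨⟨p.1.1, by
        refine ⟨?_, ?_⟩
        · rw [← sq, p.2.2.1, hx]
        · intro hc
          exact p.2.1 (commutatorElement_eq_one_iff_mul_comm.mpr
            ((Subgroup.mem_center_iff.mp hc) _).symm)⟩, ⟨p.1.2, p.2.1, by rw [p.2.2.2, hy]⟩⟩ :
        Σ a : {a : E // a * a = 1 ∧ a ∉ Subgroup.center E}, {b : E // ⁅a.1, b⁆ ≠ 1 ∧ b ^ 2 = 1}))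
    intro p p' hpp
    apply Subtype.ext
    simp only [Sigma.mk.injEq, Subtype.mk.injEq] at hpp
    obtain ⟨h2, h3⟩ := hpp
    apply Prod.ext h2
    obtain ⟨⟨a, b⟩, hp⟩ := p
    obtain ⟨⟨a', b'⟩, hp'⟩ := p'
    simp only at h2 h3 ⊢
    subst h2
    exact congrArg Subtype.val (eq_of_heq h3)
  have h2 : Nat.card (Σ a : {a : E // a * a = 1 ∧ a ∉ Subgroup.center E},
      {b : E // ⁅a.1, b⁆ ≠ 1 ∧ b ^ 2 = 1}) * 4 ≤
      Nat.card {a : E // a * a = 1 ∧ a ∉ Subgroup.center E} * Nat.card E := by
    let _ : Fintype {a : E // a * a = 1 ∧ a ∉ Subgroup.center E} := Fintype.ofFinite _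
    rw [Nat.card_sigma, Finset.sum_mul]
    calc _ ≤ ∑ _a : {a : E // a * a = 1 ∧ a ∉ Subgroup.center E}, Nat.card E :=
          Finset.sum_le_sum (fun a _ => four_mul_card_le h (by rw [sq]; exact a.2.1))
      _ = _ := by rw [Finset.sum_const, smul_eq_mul, Nat.card_eq_fintype_card (α := {a : E // _})]; rfl
  have h3 : Nat.card {a : E // a * a = 1 ∧ a ∉ Subgroup.center E} = sqOne E - 2 := by omega
  rw [h3] at h2
  omega

/-- The number of pairs of non-commuting elements. -/
theorem card_pairs_le [Finite E] (h : CentralTwo E) (x y : E) :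
    Nat.card (Pairs x y) * 2 ≤ (Nat.card E - 2) * Nat.card E := by
  classical
  have : Finite (Pairs x y) := by unfold Pairs; infer_instance
  have hcen : Nat.card {a : E // a ∉ Subgroup.center E} + 2 = Nat.card E := by
    rw [← h.card_center, add_comm, ← Nat.card_sum]
    exact Nat.card_congr (Equiv.sumCompl (fun b : E => b ∈ Subgroup.center E))
  have h1 : Nat.card (Pairs x y) ≤ Nat.card (Σ a : {a : E // a ∉ Subgroup.center E},
      {b : E // ⁅a.1, b⁆ ≠ 1}) := by
    apply Nat.card_le_card_of_injective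
      (fun p : Pairs x y => (⟨⟨p.1.1, by
        intro hc
        exact p.2.1 (commutatorElement_eq_one_iff_mul_comm.mpr
            ((Subgroup.mem_center_iff.mp hc) _).symm)⟩, ⟨p.1.2, p.2.1⟩⟩ :
        Σ a : {a : E // a ∉ Subgroup.center E}, {b : E // ⁅a.1, b⁆ ≠ 1}))
    intro p p' hpp
    apply Subtype.ext
    simp only [Sigma.mk.injEq, Subtype.mk.injEq] at hpp
    obtain ⟨h2, h3⟩ := hpp
    apply Prod.ext h2
    obtain ⟨⟨a, b⟩, hp⟩ := p
    obtain ⟨⟨a', b'⟩, hp'⟩ := p'
    simp only at h2 h3 ⊢
    subst h2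
    exact congrArg Subtype.val (eq_of_heq h3)
  have h2 : Nat.card (Σ a : {a : E // a ∉ Subgroup.center E}, {b : E // ⁅a.1, b⁆ ≠ 1}) * 2 ≤
      Nat.card {a : E // a ∉ Subgroup.center E} * Nat.card E := by
    let _ : Fintype {a : E // a ∉ Subgroup.center E} := Fintype.ofFinite _
    rw [Nat.card_sigma, Finset.sum_mul]
    calc _ ≤ ∑ _a : {a : E // a ∉ Subgroup.center E}, Nat.card E :=
          Finset.sum_le_sum (fun a _ => two_mul_card_not_comm h a.1)
      _ = _ := by rw [Finset.sum_const, smul_eq_mul, Nat.card_eq_fintype_card (α := {a : E // _})]; rfl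
  have h3 : Nat.card {a : E // a ∉ Subgroup.center E} = Nat.card E - 2 := by omega
  rw [h3] at h2
  omega

/-- The bound: `n`, `s` = number of elements of square one. -/
def AB : ℕ → ℕ → ℕ
  | 0, _ => 1
  | 1, s => if s = 2 then 24 else 8
  | n + 2, s => (s - 2) * 2 ^ (2 * n + 3) * AB (n + 1) ((s - 2 ^ (2 * n + 3)) / 2)

theorem card_mulAut_of_card_two [Finite E] (h2 : Nat.card E = 2) : Nat.card (MulAut E) = 1 := by
  rw [Nat.card_eq_one_iff_unique]
  refine ⟨⟨fun α β => MulEquiv.ext fun x => ?_⟩, ⟨1⟩⟩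
  obtain ⟨z, -, hu⟩ := (Nat.card_eq_two_iff' (1 : E)).mp h2
  by_cases hx : x = 1
  · rw [hx, map_one, map_one]
  · rw [hu (α x) (fun h => hx (α.injective (by rw [h, map_one]))),
      hu (β x) (fun h => hx (β.injective (by rw [h, map_one])))]

theorem card_mulAut_le_AB (n : ℕ) : ∀ {E : Type*} [Group E] [Finite E], CentralTwo E →
    Nat.card E = 2 ^ (2 * n + 1) → Nat.card (MulAut E) ≤ AB n (sqOne E) := by
  induction n with
  | zero =>
    intro E _ _ h hc
    exact (card_mulAut_of_card_two hc).le
  | succ n ih =>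
    intro E _ _ h hc
    cases n with
    | zero =>
      obtain ⟨x, y, hxy⟩ := exists_comm_ne_one_of_pow h hc
      have hK : Nat.card (Subgroup.centralizer ({x, y} : Set E)) = 2 := card_centralizer h hc hxy
      by_cases hI : HasInvPair E
      · obtain ⟨x, y, hxy, hx, hy⟩ := hI
        have hK : Nat.card (Subgroup.centralizer ({x, y} : Set E)) = 2 := card_centralizer h hc hxy
        have h1 := card_mulAut_le h hxy
        rw [card_mulAut_of_card_two hK, mul_one] at h1
        have h2 := card_pairs_invol h hx hy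
        have h3 := sqOne_eq h hxy hx hy
        have h4 : sqOne (Subgroup.centralizer ({x, y} : Set E)) = 2 := by
          have : sqOne (Subgroup.centralizer ({x, y} : Set E)) =
              Nat.card (Subgroup.centralizer ({x, y} : Set E)) := by
            apply Nat.card_congr
            refine (Equiv.subtypeEquivRight (q := fun _ => True) (fun k => ?_)).trans
              (Equiv.Set.univ _)
            simp only [iff_true]
            have h5 : k ^ Nat.card (Subgroup.centralizer ({x, y} : Set E)) = 1 := pow_card_eq_one'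
            rwa [hK, sq] at h5
          rw [this, hK]
        rw [h4, hK] at h3
        rw [hc, h3] at h2
        rw [h3]
        have h6 : AB (0 + 1) (2 * 2 + 2) = 8 := rfl
        rw [h6]
        norm_num at h2
        omega
      · -- no involution pair: at most 24, and `sqOne E = 2`
        have hnc : ∀ a : E, a * a = 1 → a ∈ Subgroup.center E := by
          intro a ha
          apply mem_center_of_comm
          intro b
          by_contra hab
          rcases dichotomy h hab with h1 | ⟨h1, -⟩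
          · exact hI h1
          · exact h1 (by rwa [sq])
        have hs : sqOne E = 2 := by
          rw [← h.card_center]
          apply Nat.card_congr
          exact Equiv.subtypeEquivRight (fun a => ⟨hnc a, fun ha => by rw [← sq]; exact h.sq_eq_one ha⟩)
        have h1 := card_mulAut_le h hxy
        rw [card_mulAut_of_card_two hK, mul_one] at h1
        have h2 := card_pairs_le h x y
        rw [hc] at h2
        rw [hs]
        have h6 : AB (0 + 1) 2 = 24 := rfl
        rw [h6]
        norm_num at h2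
        omega
    | succ m =>
      obtain ⟨x, y, hxy, hx, hy⟩ := hasInvPair_of_card h hc
      have hK := card_centralizer h hc hxy
      have h1 := card_mulAut_le h hxy
      have h2 := card_pairs_invol h hx hy
      have h3 := sqOne_eq h hxy hx hy
      have h4 := ih (h.centralizer hxy) hK
      have e1 : 2 * (m + 1) + 1 = 2 * m + 3 := by ring
      rw [e1] at hK
      rw [hK] at h3
      have h5 : sqOne (Subgroup.centralizer ({x, y} : Set E)) = (sqOne E - 2 ^ (2 * m + 3)) / 2 := by
        omega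
      rw [h5] at h4
      have h6 : AB (m + 1 + 1) (sqOne E) = (sqOne E - 2) * 2 ^ (2 * m + 3) *
        AB (m + 1) ((sqOne E - 2 ^ (2 * m + 3)) / 2) := rfl
      rw [h6]
      have h7 : Nat.card (Pairs x y) ≤ (sqOne E - 2) * 2 ^ (2 * m + 3) := by
        rw [hc] at h2
        have : 2 ^ (2 * (m + 1 + 1) + 1) = 2 ^ (2 * m + 3) * 4 := by ring
        rw [this, ← mul_assoc] at h2
        exact Nat.le_of_mul_le_mul_right h2 (by norm_num)
      exact h1.trans (Nat.mul_le_mul h7 h4)

end Count

end Cfsg.Agent.LargeExtra.AutBound
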