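import Mathlib
import Cfsg.Prelude.Def_Transfer
import Cfsg.Agent.Transfer.ExtraspecialTwo

/-!
# Explicit central extensions of `F₂ⁿ` by `±1`

`XG n B` is the group of pairs `(v, s)`, `v < 2 ^ n` (bit vector), `s : Bool`, with
`(v, s) (w, t) = (v ⊕ w, s ⊕ t ⊕ β v w)`, `β v w = ⟨L v, w⟩`, `L` the linear map with rows `B i`.
For a lower triangular matrix `B` it is the group generated by `q₀, …, q_(n-1)` and a central `z` with
`qᵢ² = z ^ Bᵢᵢ`, `[qᵢ, qⱼ] = z ^ Bᵢⱼ` (`j < i`), and `(v, s) = z ^ s ∏ qᵢ ^ vᵢ`.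
-/

set_option autoImplicit false

namespace Cfsg.Agent.LargeExtra.Model

/-- xor of `f i` for `i < n`. -/
def xs (f : ℕ → Bool) : ℕ → Bool
  | 0 => false
  | n + 1 => xs f n ^^ f n

theorem xs_xor (f g : ℕ → Bool) (n : ℕ) :
    xs (fun i => f i ^^ g i) n = (xs f n ^^ xs g n) := by
  induction n with
  | zero => rfl
  | succ n ih =>
    show (xs (fun i => f i ^^ g i) n ^^ (f n ^^ g n)) = ((xs f n ^^ f n) ^^ (xs g n ^^ g n))
    rw [ih]
    cases xs f n <;> cases xs g n <;> cases f n <;> cases g n <;> rfl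

theorem xs_congr {f g : ℕ → Bool} {n : ℕ} (h : ∀ i < n, f i = g i) : xs f n = xs g n := by
  induction n with
  | zero => rfl
  | succ n ih =>
    show (xs f n ^^ f n) = (xs g n ^^ g n)
    rw [ih (fun i hi => h i (by omega)), h n (by omega)]

theorem xs_false (n : ℕ) : xs (fun _ => false) n = false := by
  induction n with
  | zero => rfl
  | succ n ih => show (xs (fun _ => false) n ^^ false) = false; rw [ih]; rfl

/-- xor (as natural numbers) of the rows `B i` over the bits `i < n` of `v`. -/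
def lin (B : ℕ → ℕ) : ℕ → ℕ → ℕ
  | 0, _ => 0
  | n + 1, v => lin B n v ^^^ (if v.testBit n then B n else 0)

theorem lin_xor (B : ℕ → ℕ) (n v w : ℕ) : lin B n (v ^^^ w) = lin B n v ^^^ lin B n w := by
  induction n with
  | zero => simp [lin]
  | succ n ih =>
    simp only [lin, ih, Nat.testBit_xor]
    cases v.testBit n <;> cases w.testBit n
    · simp
    · simp [Nat.xor_assoc]
    · simp only [Bool.xor_false, if_true, if_false, Nat.xor_zero, Bool.false_eq_true]
      rw [Nat.xor_assoc, Nat.xor_assoc, Nat.xor_comm (lin B n w)]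
    · simp only [Bool.xor_self, if_true, if_false, Nat.xor_zero, Bool.false_eq_true]
      rw [Nat.xor_assoc, ← Nat.xor_assoc (B n), Nat.xor_comm (B n), Nat.xor_assoc (lin B n w),
        Nat.xor_self, Nat.xor_zero]

/-- The bilinear form `⟨L v, w⟩`. -/
def bf (B : ℕ → ℕ) (n v w : ℕ) : Bool := xs (fun j => (lin B n v).testBit j && w.testBit j) n

theorem bf_xor_left (B : ℕ → ℕ) (n v v' w : ℕ) :
    bf B n (v ^^^ v') w = (bf B n v w ^^ bf B n v' w) := by
  unfold bf
  rw [← xs_xor]
  apply xs_congr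
  intro i _
  rw [lin_xor, Nat.testBit_xor]
  cases (lin B n v).testBit i <;> cases (lin B n v').testBit i <;> cases w.testBit i <;> rfl

theorem bf_xor_right (B : ℕ → ℕ) (n v w w' : ℕ) :
    bf B n v (w ^^^ w') = (bf B n v w ^^ bf B n v w') := by
  unfold bf
  rw [← xs_xor]
  apply xs_congr
  intro i _
  rw [Nat.testBit_xor]
  cases (lin B n v).testBit i <;> cases w.testBit i <;> cases w'.testBit i <;> rfl

theorem bf_zero_left (B : ℕ → ℕ) (n w : ℕ) : bf B n 0 w = false := by
  have h := bf_xor_left B n 0 0 w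
  simp only [Nat.xor_self] at h
  cases h1 : bf B n 0 w
  · rfl
  · rw [h1] at h; simp at h

theorem bf_zero_right (B : ℕ → ℕ) (n v : ℕ) : bf B n v 0 = false := by
  have h := bf_xor_right B n v 0 0
  simp only [Nat.xor_self] at h
  cases h1 : bf B n v 0
  · rfl
  · rw [h1] at h; simp at h

/-- The group with cocycle `β`. -/
structure XG (B : ℕ → ℕ) (n : ℕ) where
  v : Fin (2 ^ n)
  s : Bool
  deriving DecidableEq

variable {B : ℕ → ℕ} {n : ℕ}

theorem XG.ext' {x y : XG B n} (h : x.v.1 = y.v.1) (h' : x.s = y.s) : x = y := by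
  cases x; cases y
  simp only [XG.mk.injEq]
  exact ⟨Fin.ext h, h'⟩

/-- `XG` as a product. -/
def XG.equivProd : XG B n ≃ Fin (2 ^ n) × Bool where
  toFun x := (x.v, x.s)
  invFun x := ⟨x.1, x.2⟩
  left_inv _ := rfl
  right_inv _ := rfl

instance : Fintype (XG B n) := Fintype.ofEquiv _ XG.equivProd.symm

theorem card_XG : Nat.card (XG B n) = 2 ^ (n + 1) := by
  rw [Nat.card_congr (XG.equivProd (B := B) (n := n)), Nat.card_prod, Nat.card_eq_fintype_card,
    Nat.card_eq_fintype_card, Fintype.card_fin, Fintype.card_bool, pow_succ]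

instance : Mul (XG B n) :=
  ⟨fun x y => ⟨⟨x.v.1 ^^^ y.v.1, Nat.xor_lt_two_pow x.v.2 y.v.2⟩, x.s ^^ y.s ^^ bf B n x.v.1 y.v.1⟩⟩

instance : One (XG B n) := ⟨⟨⟨0, Nat.two_pow_pos n⟩, false⟩⟩

instance : Inv (XG B n) := ⟨fun x => ⟨x.v, x.s ^^ bf B n x.v.1 x.v.1⟩⟩

theorem mul_v (x y : XG B n) : (x * y).v.1 = x.v.1 ^^^ y.v.1 := rfl
theorem mul_s (x y : XG B n) : (x * y).s = (x.s ^^ y.s ^^ bf B n x.v.1 y.v.1) := rfl
theorem one_v : (1 : XG B n).v.1 = 0 := rfl
theorem one_s : (1 : XG B n).s = false := rfl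
theorem inv_v (x : XG B n) : x⁻¹.v = x.v := rfl
theorem inv_s (x : XG B n) : x⁻¹.s = (x.s ^^ bf B n x.v.1 x.v.1) := rfl

instance : Group (XG B n) where
  mul_assoc x y w := by
    apply XG.ext'
    · simp only [mul_v, Nat.xor_assoc]
    · simp only [mul_s, mul_v, bf_xor_left, bf_xor_right]
      cases x.s <;> cases y.s <;> cases w.s <;> cases bf B n x.v.1 y.v.1 <;>
        cases bf B n x.v.1 w.v.1 <;> cases bf B n y.v.1 w.v.1 <;> rfl
  one_mul x := by
    apply XG.ext'
    · simp only [mul_v, one_v, Nat.zero_xor]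
    · simp only [mul_s, one_s, one_v, bf_zero_left]; cases x.s <;> rfl
  mul_one x := by
    apply XG.ext'
    · simp only [mul_v, one_v, Nat.xor_zero]
    · simp only [mul_s, one_s, one_v, bf_zero_right]; cases x.s <;> rfl
  inv_mul_cancel x := by
    apply XG.ext'
    · simp only [mul_v, inv_v, Nat.xor_self, one_v]
    · simp only [mul_s, inv_s, inv_v, one_s]
      cases x.s <;> cases bf B n x.v.1 x.v.1 <;> rfl

/-- The central involution. -/
def zz : XG B n := ⟨⟨0, Nat.two_pow_pos n⟩, true⟩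

theorem zz_v : (zz : XG B n).v.1 = 0 := rfl
theorem zz_s : (zz : XG B n).s = true := rfl

theorem zz_comm (x : XG B n) : x * zz = zz * x := by
  apply XG.ext'
  · simp only [mul_v, zz_v, Nat.xor_zero, Nat.zero_xor]
  · simp only [mul_s, zz_v, zz_s, bf_zero_left, bf_zero_right]; cases x.s <;> rfl

theorem zz_ne : (zz : XG B n) ≠ 1 := by
  intro h
  have := congrArg XG.s h
  simp [zz_s, one_s] at this

theorem zz_mul_zz : (zz : XG B n) * zz = 1 := by
  apply XG.ext'
  · simp [mul_v, zz_v, one_v]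
  · simp [mul_s, zz_v, zz_s, bf_zero_left, one_s]

theorem eq_one_or_zz {x : XG B n} (h : x.v.1 = 0) : x = 1 ∨ x = zz := by
  cases hs : x.s
  · exact Or.inl (XG.ext' h hs)
  · exact Or.inr (XG.ext' h hs)

theorem mul_self_mem (x : XG B n) : x * x = 1 ∨ x * x = zz :=
  eq_one_or_zz (by simp [mul_v])

theorem comm_iff (x y : XG B n) : x * y = y * x ↔ bf B n x.v.1 y.v.1 = bf B n y.v.1 x.v.1 := by
  constructor
  · intro h
    have h1 := congrArg XG.s h
    simp only [mul_s] at h1
    revert h1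
    cases x.s <;> cases y.s <;> cases bf B n x.v.1 y.v.1 <;> cases bf B n y.v.1 x.v.1 <;> simp
  · intro h
    apply XG.ext'
    · simp only [mul_v, Nat.xor_comm]
    · simp only [mul_s, h]
      cases x.s <;> cases y.s <;> rfl

theorem comm_or (x y : XG B n) : x * y = y * x ∨ x * y = zz * (y * x) := by
  by_cases h : bf B n x.v.1 y.v.1 = bf B n y.v.1 x.v.1
  · exact Or.inl ((comm_iff x y).mpr h)
  · right
    apply XG.ext'
    · simp only [mul_v, zz_v, Nat.zero_xor]
      exact Nat.xor_comm _ _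
    · simp only [mul_s, zz_v, zz_s, bf_zero_left]
      revert h
      cases x.s <;> cases y.s <;> cases bf B n x.v.1 y.v.1 <;> cases bf B n y.v.1 x.v.1 <;> simp

/-- The form is non-degenerate. -/
def Nondeg (B : ℕ → ℕ) (n : ℕ) : Prop :=
  ∀ v : Fin (2 ^ n), v.1 ≠ 0 → ∃ i : Fin n, bf B n v.1 (2 ^ i.1) ≠ bf B n (2 ^ i.1) v.1

instance : Decidable (Nondeg B n) := by unfold Nondeg; infer_instance

theorem zz_mem_center : (zz : XG B n) ∈ Subgroup.center (XG B n) := by
  rw [Subgroup.mem_center_iff]; exact fun g => zz_comm g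

theorem mem_center_iff (h : Nondeg B n) (x : XG B n) :
    x ∈ Subgroup.center (XG B n) ↔ x = 1 ∨ x = zz := by
  constructor
  · intro hx
    by_cases hv : x.v.1 = 0
    · exact eq_one_or_zz hv
    · obtain ⟨i, hi⟩ := h x.v hv
      exfalso
      apply hi
      have h1 := (Subgroup.mem_center_iff.mp hx)
        (⟨⟨2 ^ i.1, Nat.pow_lt_pow_right (by norm_num) i.2⟩, false⟩ : XG B n)
      exact ((comm_iff _ _).mp h1).symm
  · rintro (rfl | rfl)
    · exact Subgroup.one_mem _
    · exact zz_mem_center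

theorem card_center (h : Nondeg B n) : Nat.card (Subgroup.center (XG B n)) = 2 := by
  have : (Subgroup.center (XG B n) : Set (XG B n)) = {1, zz} := by
    ext x; simp only [SetLike.mem_coe, mem_center_iff h, Set.mem_insert_iff, Set.mem_singleton_iff]
  have h1 : Nat.card (Subgroup.center (XG B n)) =
      Set.ncard (Subgroup.center (XG B n) : Set (XG B n)) := rfl
  rw [h1, this, Set.ncard_pair]
  exact fun h => zz_ne h.symm

open Cfsg.Agent.Transfer.ExtraspecialTwo

open scoped commutatorElement in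
theorem centralTwo (h : Nondeg B n) : CentralTwo (XG B n) where
  comm_mem a b := by
    rcases comm_or a b with h1 | h1
    · rw [commutatorElement_eq_one_iff_mul_comm.mpr h1]; exact Subgroup.one_mem _
    · have : ⁅a, b⁆ = zz := by
        rw [commutatorElement_def, h1, mul_assoc, mul_assoc, mul_assoc]
        simp
      rw [this]; exact zz_mem_center
  card_center := card_center h

end Cfsg.Agent.LargeExtra.Model
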