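import Mathlib
import Cfsg.Agent.LargeExtra.Model

/-!
# The universal property of the groups `XG B n`

For `B` lower triangular (`B i < 2 ^ (i + 1)`), `XG B n` is presented by generators `q i` (`i < n`) and a
central `z` with `z² = 1`, `q i ² = z ^ Bᵢᵢ`, `[q i, q j] = z ^ Bᵢⱼ` (`j < i`).
-/

set_option autoImplicit false

namespace Cfsg.Agent.LargeExtra.Pres

open Cfsg.Agent.LargeExtra.Model

variable {B : ℕ → ℕ} {n : ℕ}

/-- `bf` as a double sum. -/
theorem bf_eq (B : ℕ → ℕ) (n v w : ℕ) :
    bf B n v w = xs (fun i => v.testBit i && xs (fun j => (B i).testBit j && w.testBit j) n) n := by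
  unfold bf
  suffices h : ∀ k, xs (fun j => (lin B k v).testBit j && w.testBit j) n =
      xs (fun i => v.testBit i && xs (fun j => (B i).testBit j && w.testBit j) n) k from h n
  intro k
  induction k with
  | zero =>
    simp only [lin, Nat.zero_testBit, Bool.false_and]
    rw [xs_false]; rfl
  | succ k ih =>
    show _ = (xs _ k ^^ _)
    rw [← ih]
    have : (fun j => (lin B (k + 1) v).testBit j && w.testBit j) =
        fun j => ((lin B k v).testBit j && w.testBit j) ^^
          (v.testBit k && ((B k).testBit j && w.testBit j)) := by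
      funext j
      simp only [lin, Nat.testBit_xor]
      cases v.testBit k
      · simp
      · simp only [if_true, Bool.true_and]
        cases (lin B k v).testBit j <;> cases w.testBit j <;> cases (B k).testBit j <;> rfl
    rw [this, xs_xor]
    congr 1
    show xs (fun j => v.testBit k && ((B k).testBit j && w.testBit j)) n =
      (v.testBit k && xs (fun j => (B k).testBit j && w.testBit j) n)
    cases hv : v.testBit k
    · simp only [Bool.false_and]; exact xs_false n
    · simp only [Bool.true_and]

/-- Lower triangular matrices. -/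
def Tri (B : ℕ → ℕ) (n : ℕ) : Prop := ∀ i < n, B i < 2 ^ (i + 1)

instance : Decidable (Tri B n) := by unfold Tri; infer_instance

theorem xs_le {f : ℕ → Bool} {k n : ℕ} (hk : k ≤ n) (hf : ∀ i, k ≤ i → f i = false) :
    xs f n = xs f k := by
  induction n with
  | zero => rw [Nat.le_zero.mp hk]
  | succ n ih =>
    rcases Nat.lt_or_ge n k with h | h
    · have : k = n + 1 := by omega
      rw [this]
    · show (xs f n ^^ f n) = _
      rw [ih h, hf n h, Bool.xor_false]

section Lift

variable {E : Type*} [Group E]

/-- `z ^ b` for a boolean `b`. -/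
def zp (z : E) (b : Bool) : E := if b = true then z else 1

theorem zp_xor {z : E} (hz : z * z = 1) (a b : Bool) : zp z (a ^^ b) = zp z a * zp z b := by
  cases a <;> cases b <;> simp [zp, hz]

theorem zp_comm {z : E} {g : E} (h : g * z = z * g) (a : Bool) : g * zp z a = zp z a * g := by
  cases a <;> simp [zp, h]

/-- The ordered product of the `x i`, `i < k`, over the bits of `v`. -/
def prd (x : ℕ → E) : ℕ → ℕ → E
  | 0, _ => 1
  | k + 1, v => prd x k v * zp (x k) (v.testBit k)

theorem prd_zero (x : ℕ → E) (k : ℕ) : prd x k 0 = 1 := by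
  induction k with
  | zero => rfl
  | succ k ih => simp [prd, ih, zp]

/-- The relations. -/
structure Rels (B : ℕ → ℕ) (n : ℕ) (z : E) (x : ℕ → E) : Prop where
  zz : z * z = 1
  comm : ∀ i < n, x i * z = z * x i
  sq : ∀ i < n, x i * x i = zp z ((B i).testBit i)
  cm : ∀ i < n, ∀ j < i, x i * x j = zp z ((B i).testBit j) * (x j * x i)

variable {z : E} {x : ℕ → E}

theorem Rels.prd_comm (h : Rels B n z x) {k : ℕ} (hk : k ≤ n) (w : ℕ) :
    prd x k w * z = z * prd x k w := by
  induction k with
  | zero => simp [prd]
  | succ k ih =>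
    have h1 : zp (x k) (w.testBit k) * z = z * zp (x k) (w.testBit k) := by
      cases w.testBit k <;> simp [zp, h.comm k hk]
    rw [prd, mul_assoc, h1, ← mul_assoc, ih (by omega), mul_assoc]

theorem Rels.swap (h : Rels B n z x) {i : ℕ} (hi : i < n) {k : ℕ} (hk : k ≤ i) (w : ℕ) :
    x i * prd x k w = zp z (xs (fun j => (B i).testBit j && w.testBit j) k) * (prd x k w * x i) := by
  induction k with
  | zero => simp [prd, xs, zp]
  | succ k ih =>
    have ih' := ih (by omega)
    have hc : ∀ a, prd x k w * zp z a = zp z a * prd x k w := fun a =>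
      zp_comm (h.prd_comm (by omega) w) a
    have h1 : x i * zp (x k) (w.testBit k) =
        zp z ((B i).testBit k && w.testBit k) * (zp (x k) (w.testBit k) * x i) := by
      cases w.testBit k
      · simp [zp]
      · simp only [Bool.and_true]
        exact h.cm i hi k hk
    show x i * (prd x k w * zp (x k) (w.testBit k)) = zp z (xs _ k ^^ _) * _
    rw [zp_xor h.zz, ← mul_assoc, ih', mul_assoc, mul_assoc, h1, ← mul_assoc (prd x k w), hc, mul_assoc,
      mul_assoc]
    simp only [prd, mul_assoc]

theorem Rels.prd_mul (h : Rels B n z x) (hB : Tri B n) {k : ℕ} (hk : k ≤ n) (v w : ℕ) :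
    prd x k v * prd x k w =
      zp z (xs (fun i => v.testBit i && xs (fun j => (B i).testBit j && w.testBit j) n) k) *
        prd x k (v ^^^ w) := by
  induction k with
  | zero => simp [prd, xs, zp]
  | succ k ih =>
    have ih' := ih (by omega)
    have hkn : k < n := hk
    have hc : ∀ u a, prd x k u * zp z a = zp z a * prd x k u := fun u a =>
      zp_comm (h.prd_comm (by omega) u) a
    have hxk : ∀ a, x k * zp z a = zp z a * x k := fun a => zp_comm (h.comm k hkn) a
    -- the inner sum stops at `k`
    have hin : xs (fun j => (B k).testBit j && w.testBit j) n =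
        (xs (fun j => (B k).testBit j && w.testBit j) k ^^ ((B k).testBit k && w.testBit k)) := by
      rw [xs_le (k := k + 1) hk]
      · rfl
      · intro j hj
        have : (B k).testBit j = false :=
          Nat.testBit_lt_two_pow (lt_of_lt_of_le (hB k hkn) (Nat.pow_le_pow_right (by norm_num) hj))
        rw [this]; rfl
    show prd x k v * zp (x k) (v.testBit k) * (prd x k w * zp (x k) (w.testBit k)) =
      zp z (xs _ k ^^ (v.testBit k && _)) * (prd x k (v ^^^ w) * zp (x k) ((v ^^^ w).testBit k))
    rw [Nat.testBit_xor, hin, zp_xor h.zz]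
    cases hv : v.testBit k
    · simp only [zp, Bool.false_and, Bool.false_xor, if_false, Bool.false_eq_true, mul_one]
      rw [← mul_assoc, ih']
      simp only [zp, mul_assoc]
    · simp only [Bool.true_and, Bool.true_xor]
      have e1 : zp (x k) true = x k := rfl
      rw [e1, mul_assoc, ← mul_assoc (x k), h.swap hkn (le_refl k) w, mul_assoc, ← mul_assoc (prd x k v),
        hc, mul_assoc, mul_assoc, ← mul_assoc (prd x k v) (prd x k w), ih', zp_xor h.zz]
      have e2 : x k * zp (x k) (w.testBit k) =
          zp z ((B k).testBit k && w.testBit k) * zp (x k) (!w.testBit k) := by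
        cases w.testBit k
        · simp [zp]
        · simp only [Bool.and_true, Bool.not_true]
          have := h.sq k hkn
          simp only [zp] at this ⊢
          simpa using this
      rw [e2]
      have hz3 : ∀ a b : Bool, zp z a * zp z b = zp z b * zp z a := by
        intro a b; rw [← zp_xor h.zz, ← zp_xor h.zz, Bool.xor_comm]
      simp only [mul_assoc]
      rw [← mul_assoc (prd x k (v ^^^ w)), hc, ← mul_assoc (zp z (xs (fun i => _ && _) k)),
        mul_assoc (zp z ((B k).testBit k && w.testBit k))]
      simp only [← mul_assoc]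
      congr 3
      exact hz3 _ _

/-- The homomorphism given by elements satisfying the relations. -/
def lift (h : Rels B n z x) (hB : Tri B n) : XG B n →* E where
  toFun g := zp z g.s * prd x n g.v.1
  map_one' := by
    show zp z false * prd x n 0 = 1
    rw [prd_zero]; simp [zp]
  map_mul' g g' := by
    have hc : ∀ u a, prd x n u * zp z a = zp z a * prd x n u := fun u a =>
      zp_comm (h.prd_comm (le_refl n) u) a
    rw [mul_s, mul_v, bf_eq, zp_xor h.zz, zp_xor h.zz, mul_assoc, mul_assoc,
      ← h.prd_mul hB (le_refl n), mul_assoc, ← mul_assoc (prd x n g.v.1) (zp z g'.s), hc]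
    simp only [mul_assoc]

theorem lift_apply (h : Rels B n z x) (hB : Tri B n) (g : XG B n) :
    lift h hB g = zp z g.s * prd x n g.v.1 := rfl

/-- The generators. -/
def q (B : ℕ → ℕ) (n : ℕ) (i : Fin n) : XG B n :=
  ⟨⟨2 ^ i.1, Nat.pow_lt_pow_right (by norm_num) i.2⟩, false⟩

theorem prd_two_pow (x : ℕ → E) {i k : ℕ} : prd x k (2 ^ i) = if i < k then x i else 1 := by
  induction k with
  | zero => simp [prd]
  | succ k ih =>
    rw [prd, ih, Nat.testBit_two_pow]
    by_cases h1 : i < k
    · simp [h1, show i < k + 1 by omega, show i ≠ k by omega, zp]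
    · by_cases h2 : i = k
      · subst h2; simp [zp]
      · simp [h1, h2, show ¬ i < k + 1 by omega, zp]

theorem lift_q (h : Rels B n z x) (hB : Tri B n) (i : Fin n) : lift h hB (q B n i) = x i.1 := by
  rw [lift_apply]
  show zp z false * prd x n (2 ^ i.1) = x i.1
  rw [prd_two_pow, if_pos i.2]; simp [zp]

theorem lift_zz (h : Rels B n z x) (hB : Tri B n) : lift h hB zz = z := by
  rw [lift_apply]
  show zp z true * prd x n 0 = z
  rw [prd_zero]; simp [zp]

/-- The generators of `XG B n` satisfy the relations. -/
theorem xg_sq (i : Fin n) : q B n i * q B n i = zp zz ((B i).testBit i) := by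
  have hb : bf B n (2 ^ i.1) (2 ^ i.1) = (B i).testBit i := by
    rw [bf_eq]
    have h1 : ∀ f : ℕ → Bool, ∀ m, xs (fun k => (2 ^ i.1).testBit k && f k) m =
        if i.1 < m then f i.1 else false := by
      intro f m
      induction m with
      | zero => simp [xs]
      | succ m ih =>
        show (xs _ m ^^ ((2 ^ i.1).testBit m && f m)) = _
        rw [ih, Nat.testBit_two_pow]
        by_cases h1 : i.1 < m
        · simp [h1, show i.1 < m + 1 by omega, show i.1 ≠ m by omega]
        · by_cases h2 : i.1 = m
          · rw [h2]; simp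
          · simp [h1, h2, show ¬ i.1 < m + 1 by omega]
    rw [h1, if_pos i.2]
    have h2 := h1 (fun j => (B i).testBit j) n
    rw [if_pos i.2] at h2
    rw [← h2]
    exact xs_congr (fun k _ => Bool.and_comm _ _)
  apply XG.ext'
  · rw [mul_v, Nat.xor_self]
    cases (B i).testBit i <;> rfl
  · rw [mul_s]
    show (false ^^ false ^^ bf B n (2 ^ i.1) (2 ^ i.1)) = _
    rw [hb]
    cases (B i).testBit i <;> rfl

/-- Every element is a product of generators. -/
theorem closure_q (B : ℕ → ℕ) (n : ℕ) :
    Subgroup.closure (insert zz (Set.range (q B n))) = ⊤ := by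
  rw [eq_top_iff]
  suffices h : ∀ m, m ≤ n → ∀ g : XG B n, g.v.1 < 2 ^ m →
      g ∈ Subgroup.closure (insert zz (Set.range (q B n))) from
    fun g _ => h n (le_refl n) g g.v.2
  intro m
  induction m with
  | zero =>
    intro _ g hg
    have h0 : g.v.1 = 0 := by simpa using hg
    rcases eq_one_or_zz h0 with rfl | rfl
    · exact Subgroup.one_mem _
    · exact Subgroup.subset_closure (Or.inl rfl)
  | succ m ih =>
    intro hm g hg
    have hqm : q B n ⟨m, hm⟩ ∈ Subgroup.closure (insert zz (Set.range (q B n))) :=
      Subgroup.subset_closure (Or.inr ⟨_, rfl⟩)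
    by_cases hb : g.v.1.testBit m = true
    · have h1 : g * q B n ⟨m, hm⟩ ∈ Subgroup.closure (insert zz (Set.range (q B n))) := by
        apply ih (by omega)
        rw [mul_v]
        show g.v.1 ^^^ 2 ^ m < 2 ^ m
        apply Nat.lt_pow_two_of_testBit
        intro i hi
        rw [Nat.testBit_xor, Nat.testBit_two_pow]
        by_cases him : m = i
        · subst him; simp [hb]
        · have : g.v.1.testBit i = false :=
            Nat.testBit_lt_two_pow (lt_of_lt_of_le hg (Nat.pow_le_pow_right (by norm_num) (by omega)))
          simp [this, him]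
      have h2 := Subgroup.mul_mem _ h1 (Subgroup.inv_mem _ hqm)
      rwa [mul_inv_cancel_right] at h2
    · apply ih (by omega)
      apply Nat.lt_pow_two_of_testBit
      intro i hi
      by_cases him : i = m
      · subst him; simpa using hb
      · exact Nat.testBit_lt_two_pow
          (lt_of_lt_of_le hg (Nat.pow_le_pow_right (by norm_num) (by omega)))

/-- Two homomorphisms agreeing on the generators are equal. -/
theorem hom_ext {f g : XG B n →* E} (hz : f zz = g zz) (h : ∀ i, f (q B n i) = g (q B n i)) :
    f = g := by
  apply MonoidHom.eq_of_eqOn_dense (closure_q B n)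
  rintro _ (rfl | ⟨i, rfl⟩)
  · exact hz
  · exact h i

/-- The homomorphism `lift` is injective when the form is nondegenerate and `z ≠ 1`. -/
theorem lift_injective (h : Rels B n z x) (hB : Tri B n) (hN : Nondeg B n) (hz : z ≠ 1) :
    Function.Injective (lift h hB) := by
  rw [injective_iff_map_eq_one]
  intro g hg
  by_cases hv : g.v.1 = 0
  · rcases eq_one_or_zz hv with h1 | h1
    · exact h1
    · rw [h1, lift_zz] at hg; exact absurd hg hz
  · exfalso
    obtain ⟨i, hi⟩ := hN g.v hv
    have h1 : g * q B n i ≠ q B n i * g := by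
      rw [Ne, comm_iff]; exact hi
    rcases comm_or g (q B n i) with h2 | h2
    · exact h1 h2
    · have h3 := congrArg (lift h hB) h2
      rw [map_mul, map_mul, map_mul, hg, lift_zz, one_mul, mul_one] at h3
      exact hz (by simpa using h3.symm)

end Lift

/-! ### Automorphisms from images -/

/-- The images `I` of the generators satisfy the defining relations (decidable). -/
def Good (B : ℕ → ℕ) (n : ℕ) (I : ℕ → XG B n) : Prop :=
  (∀ i < n, I i * I i = zp zz ((B i).testBit i)) ∧
    ∀ i < n, ∀ j < i, I i * I j = zp zz ((B i).testBit j) * (I j * I i)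

instance (I : ℕ → XG B n) : Decidable (Good B n I) := by unfold Good; infer_instance

theorem Good.rels {I : ℕ → XG B n} (h : Good B n I) : Rels B n (zz : XG B n) I where
  zz := zz_mul_zz
  comm i _ := zz_comm (I i)
  sq := h.1
  cm := h.2

/-- The automorphism with images `I`. -/
noncomputable def autOf (hB : Tri B n) (hN : Nondeg B n) (I : ℕ → XG B n) (h : Good B n I) :
    MulAut (XG B n) :=
  MulEquiv.ofBijective (lift h.rels hB)
    (Finite.injective_iff_bijective.mp (lift_injective h.rels hB hN zz_ne))

theorem autOf_apply (hB : Tri B n) (hN : Nondeg B n) (I : ℕ → XG B n) (h : Good B n I)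
    (g : XG B n) : autOf hB hN I h g = zp zz g.s * prd I n g.v.1 := rfl

theorem autOf_q (hB : Tri B n) (hN : Nondeg B n) (I : ℕ → XG B n) (h : Good B n I) (i : Fin n) :
    autOf hB hN I h (q B n i) = I i.1 := lift_q h.rels hB i

theorem aut_zz (hN : Nondeg B n) (α : MulAut (XG B n)) : α zz = zz := by
  have h1 : α zz ∈ Subgroup.center (XG B n) := by
    rw [Subgroup.mem_center_iff]
    intro g
    have := zz_comm (α.symm g)
    have h2 := congrArg α this
    simpa using h2
  rcases (mem_center_iff hN _).mp h1 with h2 | h2
  · exact absurd (α.injective (h2.trans (map_one α).symm)) zz_ne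
  · exact h2

theorem aut_ext (hN : Nondeg B n) {α β : MulAut (XG B n)}
    (h : ∀ i, α (q B n i) = β (q B n i)) : α = β := by
  have h1 : (α.toMonoidHom : XG B n →* XG B n) = β.toMonoidHom := by
    apply hom_ext
    · show α zz = β zz
      rw [aut_zz hN, aut_zz hN]
    · exact h
  exact MulEquiv.ext fun g => DFunLike.congr_fun h1 g

end Cfsg.Agent.LargeExtra.Pres
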