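import Mathlib
import Cfsg.Agent.LargeExtra.Pres
import Cfsg.Agent.LargeExtra.AutBound

/-!
# The explicit models: `2₊^(1+6)`, `2₋^(1+6)` (E₆), `2₊^(1+8)` (E₈), `2₋^(1+8)`
-/

set_option autoImplicit false

namespace Cfsg.Agent.LargeExtra.Models

open Cfsg.Agent.LargeExtra.Model Cfsg.Agent.LargeExtra.Pres Cfsg.Agent.LargeExtra.AutBound
open Cfsg.Agent.Transfer.ExtraspecialTwo

/-- A row function from a list. -/
def rows (l : List ℕ) (i : ℕ) : ℕ := l.getD i 0

/-- `2₋^(1+6)`: the `E₆` model, nodes `0-1-2-3-4` and `5` joined to `2`. -/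
abbrev rE6 : ℕ → ℕ := rows [1, 3, 6, 12, 24, 36]
/-- `2₊^(1+6)`: commuting involutions `e₀ e₁ e₂`, dual `f₀ f₁ f₂`. -/
abbrev rP6 : ℕ → ℕ := rows [0, 0, 0, 1, 2, 4]
/-- `2₊^(1+8)`: the `E₈` model, nodes `0-1-2-3-4-5-6` and `7` joined to `2`. -/
abbrev rE8 : ℕ → ℕ := rows [1, 3, 6, 12, 24, 48, 96, 132]
/-- `2₋^(1+8)` in a basis permuted by an automorphism of order 17. -/
abbrev rM8 : ℕ → ℕ := rows [0, 1, 3, 6, 13, 26, 52, 104]

theorem nd_E6 : Nondeg rE6 6 := by decide +kernel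
theorem nd_P6 : Nondeg rP6 6 := by decide +kernel
theorem nd_E8 : Nondeg rE8 8 := by decide +kernel
theorem nd_M8 : Nondeg rM8 8 := by decide +kernel
theorem tri_E6 : Tri rE6 6 := by decide +kernel
theorem tri_P6 : Tri rP6 6 := by decide +kernel
theorem tri_E8 : Tri rE8 8 := by decide +kernel
theorem tri_M8 : Tri rM8 8 := by decide +kernel

theorem sqOne_eq_fintype (B : ℕ → ℕ) (n : ℕ) :
    sqOne (XG B n) = Fintype.card {x : XG B n // x * x = 1} := Nat.card_eq_fintype_card

theorem sq_E6 : sqOne (XG rE6 6) = 56 := by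
  rw [sqOne_eq_fintype]; decide +kernel
theorem sq_P6 : sqOne (XG rP6 6) = 72 := by
  rw [sqOne_eq_fintype]; decide +kernel
theorem sq_E8 : sqOne (XG rE8 8) = 272 := by
  rw [sqOne_eq_fintype]; decide +kernel
theorem sq_M8 : sqOne (XG rM8 8) = 240 := by
  rw [sqOne_eq_fintype]; decide +kernel

theorem ct_E6 : CentralTwo (XG rE6 6) := centralTwo nd_E6
theorem ct_P6 : CentralTwo (XG rP6 6) := centralTwo nd_P6
theorem ct_E8 : CentralTwo (XG rE8 8) := centralTwo nd_E8
theorem ct_M8 : CentralTwo (XG rM8 8) := centralTwo nd_M8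

/-- Images from a list of pairs `(v, s)`. -/
def imgs (B : ℕ → ℕ) (n : ℕ) (l : List (ℕ × Bool)) (i : ℕ) : XG B n :=
  ⟨Fin.ofNat (2 ^ n) (l.getD i (0, false)).1, (l.getD i (0, false)).2⟩

/-- The function underlying `autOf`. -/
def app {B : ℕ → ℕ} {n : ℕ} (I : ℕ → XG B n) (g : XG B n) : XG B n := zp zz g.s * prd I n g.v.1

theorem autOf_pow {B : ℕ → ℕ} {n : ℕ} (hB : Tri B n) (hN : Nondeg B n) (I : ℕ → XG B n)
    (h : Good B n I) (k : ℕ) (g : XG B n) : (autOf hB hN I h ^ k) g = (app I)^[k] g := by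
  induction k generalizing g with
  | zero => rfl
  | succ k ih =>
    rw [pow_succ, MulAut.mul_apply, Function.iterate_succ_apply, ih]
    rfl

/-- An automorphism of prime order `p` from a decidable check. -/
theorem dvd_card_mulAut {B : ℕ → ℕ} {n : ℕ} (hB : Tri B n) (hN : Nondeg B n) (I : ℕ → XG B n)
    (h : Good B n I) {p : ℕ} (hp : p.Prime) (h1 : ∀ i : Fin n, (app I)^[p] (q B n i) = q B n i)
    (h2 : ∃ i : Fin n, I i.1 ≠ q B n i) : p ∣ Nat.card (MulAut (XG B n)) := by
  have : Fact p.Prime := ⟨hp⟩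
  have h3 : autOf hB hN I h ^ p = 1 := by
    apply aut_ext hN
    intro i
    rw [autOf_pow, h1]; rfl
  have h4 : autOf hB hN I h ≠ 1 := by
    intro h5
    obtain ⟨i, hi⟩ := h2
    apply hi
    rw [← autOf_q hB hN I h i, h5]; rfl
  have h5 : orderOf (autOf hB hN I h) = p := orderOf_eq_prime h3 h4
  rw [← h5]
  exact orderOf_dvd_natCard _

theorem seven_dvd : 7 ∣ Nat.card (MulAut (XG rP6 6)) :=
  dvd_card_mulAut tri_P6 nd_P6
    (imgs rP6 6 [(2, false), (4, false), (3, false), (24, false), (32, false), (8, false)])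
    (by decide +kernel) (by norm_num) (by decide +kernel) (by decide +kernel)

theorem seventeen_dvd : 17 ∣ Nat.card (MulAut (XG rM8 8)) :=
  dvd_card_mulAut tri_M8 nd_M8
    (imgs rM8 8 [(2, false), (4, false), (8, false), (16, false), (32, false), (64, false),
      (128, false), (215, false)])
    (by decide +kernel) (by norm_num) (by decide +kernel) (by decide +kernel)

theorem AB_3_56 : AB 3 56 = 3317760 := by decide
theorem AB_3_72 : AB 3 72 = 2580480 := by decide
theorem AB_4_272 : AB 4 272 = 89181388800 := by decide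
theorem AB_4_240 : AB 4 240 = 101072240640 := by decide

end Cfsg.Agent.LargeExtra.Models
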