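import Cfsg.Agent.LargeExtra.Local

/-!
# Duality in `V = Q / ⟨z⟩` (helper73): dimension of the orthogonal space, double orthogonal, functionals
-/

set_option autoImplicit false

namespace Cfsg.Agent.LargeExtra.Perp

open Cfsg.Agent.Co2Type.Quad

/-! ### abstract: a nondegenerate alternating form over `F₂` -/

section abs

variable {V : Type*} [AddCommGroup V] [Module (ZMod 2) V] [Finite V]

theorem card_orthogonal {b : LinearMap.BilinForm (ZMod 2) V} (hn : b.Nondegenerate) (hr : b.IsRefl)
    (W : Submodule (ZMod 2) V) : Nat.card W * Nat.card (b.orthogonal W) = Nat.card V := by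
  have : Module.Finite (ZMod 2) V := Module.Finite.of_finite
  have h1 := LinearMap.BilinForm.finrank_orthogonal hn W
  have h2 : Module.finrank (ZMod 2) W ≤ Module.finrank (ZMod 2) V := Submodule.finrank_le W
  rw [Module.natCard_eq_pow_finrank (K := ZMod 2) (V := V),
    Module.natCard_eq_pow_finrank (K := ZMod 2) (V := W),
    Module.natCard_eq_pow_finrank (K := ZMod 2) (V := b.orthogonal W), ← pow_add, h1]
  congr 1
  omega

theorem orthogonal_orthogonal {b : LinearMap.BilinForm (ZMod 2) V} (hn : b.Nondegenerate)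
    (hr : b.IsRefl) (W : Submodule (ZMod 2) V) : b.orthogonal (b.orthogonal W) = W := by
  have : Module.Finite (ZMod 2) V := Module.Finite.of_finite
  exact LinearMap.BilinForm.orthogonal_orthogonal hn hr W

theorem mem_of_forall {b : LinearMap.BilinForm (ZMod 2) V} (hn : b.Nondegenerate)
    (hr : b.IsRefl) (W : Submodule (ZMod 2) V) {v : V} (h : ∀ w, (∀ x ∈ W, b x w = 0) → b w v = 0) :
    v ∈ W := by
  rw [← orthogonal_orthogonal hn hr W, LinearMap.BilinForm.mem_orthogonal_iff]
  intro w hw
  exact h w fun x hx => (LinearMap.BilinForm.mem_orthogonal_iff.1 hw) x hx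

end abs

section Large

variable {G : Type*} [Group G] {Q : Subgroup G} {z : G}

theorem isRefl (h : Large Q z) : h.b.IsRefl := fun v w hvw => by rw [h.b_comm]; exact hvw

theorem nondegenerate [Finite Q] (h : Large Q z) : h.b.Nondegenerate := by
  refine ⟨fun v hv => h.b_nondeg hv, fun v hv => h.b_nondeg fun w => ?_⟩
  rw [h.b_comm]; exact hv w

theorem card_perp [Finite Q] (h : Large Q z) (W : Submodule (ZMod 2) h.V) :
    Nat.card W * Nat.card (h.b.orthogonal W) = Nat.card h.V :=
  card_orthogonal (nondegenerate h) (isRefl h) W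

theorem perp_perp [Finite Q] (h : Large Q z) (W : Submodule (ZMod 2) h.V) :
    h.b.orthogonal (h.b.orthogonal W) = W :=
  orthogonal_orthogonal (nondegenerate h) (isRefl h) W

theorem mem_perp (h : Large Q z) (W : Submodule (ZMod 2) h.V) {v : h.V} :
    v ∈ h.b.orthogonal W ↔ ∀ w ∈ W, h.b w v = 0 := LinearMap.BilinForm.mem_orthogonal_iff

theorem mem_of_perp [Finite Q] (h : Large Q z) (W : Submodule (ZMod 2) h.V) {v : h.V}
    (hv : ∀ w, (∀ x ∈ W, h.b x w = 0) → h.b w v = 0) : v ∈ W :=
  mem_of_forall (nondegenerate h) (isRefl h) W hv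

/-- a totally isotropic subspace has order at most `√|V|` -/
theorem card_sq_le [Finite Q] (h : Large Q z) (W : Submodule (ZMod 2) h.V)
    (hW : ∀ v ∈ W, ∀ w ∈ W, h.b v w = 0) : Nat.card W * Nat.card W ≤ Nat.card h.V := by
  rw [← card_perp h W]
  apply Nat.mul_le_mul_left
  have hle : W ≤ h.b.orthogonal W := fun v hv => (mem_perp h W).2 fun w hw => hW w hw v hv
  exact Nat.card_le_card_of_injective _ (Submodule.inclusion_injective hle)

/-- `C_Q(B)` in terms of the orthogonal space: `Q ∩ C_G(B) / ⟨z⟩ = (B / ⟨z⟩)^⊥` for `z ∈ B ≤ Q`. -/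
theorem sub_centralizer (h : Large Q z) {B : Subgroup G} (hB : B ≤ Q) :
    Local.sub h (Subgroup.centralizer (B : Set G)) = h.b.orthogonal (Local.sub h B) := by
  ext v
  rw [mem_perp]
  constructor
  · rintro ⟨x, hx, rfl⟩ w ⟨y, hy, rfl⟩
    rw [h.b_pr]
    exact Subgroup.mem_centralizer_iff.1 hx y hy
  · intro hv
    obtain ⟨x, rfl⟩ := h.pr_surjective v
    refine ⟨x, ?_, rfl⟩
    rw [Subgroup.mem_centralizer_iff]
    intro y hy
    exact (h.b_pr ⟨y, hB hy⟩ x).1 (hv _ ⟨⟨y, hB hy⟩, hy, rfl⟩)

end Large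

end Cfsg.Agent.LargeExtra.Perp
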