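import Cfsg.Agent.LargeExtra.WCEndSol
import Cfsg.Agent.Held.AffineCaseZ
import Cfsg.Agent.StandardComponent.AltFinal
import Cfsg.Agent.S1614
import Cfsg.Agent.S0280
import Cfsg.Prelude.Def_SporadicB

/-!
# Endgame of the weakly closed case, part four (helper622): identification

* `psu_of_geo`: a finite non-abelian simple group with a geometry `Geo P Q` is `PSU 4 F 2` or `PSU 5 F 2`;
* `psu5_of_geom`: with `WCGeom P Q` (`|Q p| = 2 ^ 7`) it is `PSU 5 F 2`.
-/

set_option autoImplicit false

namespace Cfsg.Agent.LargeExtra.WCEnd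

open Cfsg.Agent.Co2Type.Quad Cfsg.Agent.LargeExtra.WC

universe u

theorem zStar : ZStar.{u} := by
  intro X _ _ t ht
  have : Fact (Nat.Prime 2) := ⟨Nat.prime_two⟩
  have hzp : IsPGroup 2 (Subgroup.zpowers t) := by
    apply IsPGroup.of_card (n := 1)
    rw [Nat.card_zpowers, ht.1, pow_one]
  obtain ⟨P, hP⟩ := hzp.exists_le_sylow
  have hzP : t ∈ P := hP (Subgroup.mem_zpowers t)
  exact Cfsg.Agent.S0215.result P t ht.1 hzP
    (fun g hg => Cfsg.Agent.S1180.eq_of_conj_mem_isPGroup t ht P P.isPGroup' hzP g hg)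

theorem not_isSimpleGroup_perm {n : ℕ} (hn : 3 ≤ n) : ¬ IsSimpleGroup (Equiv.Perm (Fin n)) := by
  intro h
  have h0 : (0 : ℕ) < n := by omega
  have h1 : (1 : ℕ) < n := by omega
  have h2 : (2 : ℕ) < n := by omega
  set a : Fin n := ⟨0, h0⟩
  set b : Fin n := ⟨1, h1⟩
  set c : Fin n := ⟨2, h2⟩
  have hab : a ≠ b := by intro e; exact absurd (congrArg Fin.val e) (by norm_num [a, b])
  have hbc : b ≠ c := by intro e; exact absurd (congrArg Fin.val e) (by norm_num [b, c])
  have hac : a ≠ c := by intro e; exact absurd (congrArg Fin.val e) (by norm_num [a, c])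
  rcases h.eq_bot_or_eq_top_of_normal (alternatingGroup (Fin n)) inferInstance with e | e
  · have hm : Equiv.swap a b * Equiv.swap b c ∈ alternatingGroup (Fin n) := by
      rw [Equiv.Perm.mem_alternatingGroup, Equiv.Perm.sign_mul, Equiv.Perm.sign_swap hab,
        Equiv.Perm.sign_swap hbc]
      rfl
    rw [e, Subgroup.mem_bot] at hm
    have h3 := congrArg (fun f : Equiv.Perm (Fin n) => f c) hm
    simp only [Equiv.Perm.mul_apply, Equiv.swap_apply_right, Equiv.Perm.one_apply] at h3
    exact hac h3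
  · have hm : Equiv.swap a b ∈ alternatingGroup (Fin n) := by rw [e]; trivial
    rw [Equiv.Perm.mem_alternatingGroup, Equiv.Perm.sign_swap hab] at hm
    exact absurd hm (by decide)

section

variable {G : Type u} [Group G] [Finite G] {P : Set G} {Q : G → Subgroup G}

theorem psu_of_geo [IsSimpleGroup G] (hG : ¬ IsMulCommutative G) (hg : Geo P Q) {z : G} (hz : z ∈ P) :
    ∃ (F : Type) (_ : Field F) (_ : Fintype F), Fintype.card F = 4 ∧
      (Nonempty (G ≃* Cfsg.PSU 4 F 2) ∨ Nonempty (G ≃* Cfsg.PSU 5 F 2)) := by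
  classical
  have hns : ¬ ∀ a b : G, a * b = b * a := by
    intro h
    exact hG ⟨⟨h⟩⟩
  have hnsol : ¬ Group.IsSolvable G := by
    intro h
    exact hns (IsSimpleGroup.comm_iff_isSolvable.2 h)
  have hz2 : orderOf z = 2 := orderOf_eq_prime (by rw [pow_two]; exact hg.sq hz) (hg.ne_one hz)
  -- a commuting pair
  obtain ⟨g, hg1, hg2⟩ := Cfsg.Agent.StandardComponent.AltFinal.exists_conj hG hz2
  have hex : ∃ p ∈ P, ∃ t ∈ P, p ≠ t ∧ Commute p t :=
    ⟨z, hz, g * z * g⁻¹, hg.conj_mem z hz g, hg1.symm, hg2.symm⟩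
  have hcl : Subgroup.closure P = ⊤ := by
    have hn : (Subgroup.closure P).Normal := by
      constructor
      intro n hn g
      induction hn using Subgroup.closure_induction with
      | mem x hx => exact Subgroup.subset_closure (hg.conj_mem x hx g)
      | one => rw [mul_one, mul_inv_cancel]; exact Subgroup.one_mem _
      | mul x y _ _ hx hy =>
        have e : g * (x * y) * g⁻¹ = (g * x * g⁻¹) * (g * y * g⁻¹) := by group
        rw [e]; exact Subgroup.mul_mem _ hx hy
      | inv x _ hx =>
        have e : g * x⁻¹ * g⁻¹ = (g * x * g⁻¹)⁻¹ := by group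
        rw [e]; exact Subgroup.inv_mem _ hx
    rcases hn.eq_bot_or_eq_top with h | h
    · exfalso
      have : z ∈ Subgroup.closure P := Subgroup.subset_closure hz
      rw [h, Subgroup.mem_bot] at this
      exact hg.ne_one hz this
    · exact h
  have hD : Cfsg.IsThreeTranspositionClass P := by
    refine ⟨⟨?_, ?_⟩, ⟨z, hz, ?_⟩, hcl⟩
    · intro d hd
      exact orderOf_eq_prime (by rw [pow_two]; exact hg.sq hd) (hg.ne_one hd)
    · intro d hd e he
      by_cases hc : Commute d e
      · left
        rw [hc.mul_pow, pow_two, pow_two, hg.sq hd, hg.sq he, one_mul]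
      · right
        exact hg.three zStar hex hd he hc
    · ext x
      constructor
      · intro hx
        exact isConj_iff.2 (hg.exists_conj z hz x hx)
      · intro hx
        obtain ⟨c, rfl⟩ := isConj_iff.1 (show IsConj z x from hx)
        exact hg.conj_mem z hz c
  have hsol : ∀ N : Subgroup G, N.Normal → Group.IsSolvable ↥N → N = ⊥ := by
    intro N hN hs
    rcases hN.eq_bot_or_eq_top with h | h
    · exact h
    · exfalso
      subst h
      apply hnsol
      exact Group.isSolvable_of_surjective (f := (Subgroup.topEquiv (G := G)).toMonoidHom)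
        (Subgroup.topEquiv (G := G)).surjective
  have hcom : commutator G = ⊤ := by
    rcases (inferInstance : (commutator G).Normal).eq_bot_or_eq_top with h | h
    · exfalso
      apply hns
      intro a b
      have h5 : a * b * a⁻¹ * b⁻¹ ∈ commutator G :=
        Subgroup.commutator_mem_commutator (Subgroup.mem_top a) (Subgroup.mem_top b)
      rw [h, Subgroup.mem_bot, mul_inv_eq_one, mul_inv_eq_iff_eq_mul] at h5
      exact h5
    · exact h
  have hperf : ⁅commutator G, commutator G⁆ = commutator G := by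
    rw [hcom]; exact hcom
  rcases Cfsg.Agent.S1614.result hsol hperf hD z hz (hg.solvable_closure hz) with h | h | h
  · exfalso
    obtain ⟨e⟩ := h
    have : IsSimpleGroup (Equiv.Perm (Fin 5)) := IsSimpleGroup.isSimpleGroup_of_surjective
      e.toMonoidHom e.surjective
    exact not_isSimpleGroup_perm (by norm_num) this
  · exfalso
    obtain ⟨e⟩ := h
    have : IsSimpleGroup (Equiv.Perm (Fin 6)) := IsSimpleGroup.isSimpleGroup_of_surjective
      e.toMonoidHom e.surjective
    exact not_isSimpleGroup_perm (by norm_num) this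
  · exact h

theorem card_psu_four {F : Type} [Field F] [Fintype F] (hF : Fintype.card F = 4) :
    Nat.card (Cfsg.PSU 4 F 2) = 25920 := by
  have h1 := Cfsg.Agent.S0280.result (F := F) (q := 2) (by rw [hF]; norm_num) 4 (by norm_num)
  have h2 : Nat.gcd 4 (2 + 1) = 1 := by norm_num
  have h3 : (∏ i ∈ Finset.range 4, (if Even i then 2 ^ (i + 1) + 1 else 2 ^ (i + 1) - 1)) = 1215 := by
    decide
  rw [h2, h3] at h1
  norm_num at h1
  omega

/-- the form used for S1762: `|Q p| = 2 ^ 7` -/
theorem psu5_of_geo [IsSimpleGroup G] (hG : ¬ IsMulCommutative G) (hg : Geo P Q) {z : G} (hz : z ∈ P)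
    (hcard : 2 ^ 7 ∣ Nat.card (Q z)) :
    ∃ (F : Type) (_ : Field F) (_ : Fintype F), Fintype.card F = 4 ∧ Nonempty (G ≃* Cfsg.PSU 5 F 2) := by
  obtain ⟨F, hF1, hF2, hF, h | h⟩ := psu_of_geo hG hg hz
  · exfalso
    obtain ⟨e⟩ := h
    have h1 : Nat.card G = 25920 := (Nat.card_congr e.toEquiv).trans (card_psu_four hF)
    have h2 : 2 ^ 7 ∣ Nat.card G := hcard.trans (Subgroup.card_subgroup_dvd_card (Q z))
    rw [h1] at h2
    exact absurd h2 (by norm_num)
  · exact ⟨F, hF1, hF2, hF, h⟩

theorem psu5_of_geom [IsSimpleGroup G] (hG : ¬ IsMulCommutative G) (hg : WCGeom P Q) {z : G} (hz : z ∈ P)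
    (hcard : Nat.card (Q z) = 2 ^ 7) :
    ∃ (F : Type) (_ : Field F) (_ : Fintype F), Fintype.card F = 4 ∧ Nonempty (G ≃* Cfsg.PSU 5 F 2) :=
  psu5_of_geo hG (geo_of_wc hg) hz (by rw [hcard])

end

end Cfsg.Agent.LargeExtra.WCEnd
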