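import Cfsg.Agent.LargeExtra.FlipOuter

/-!
# The kill of `H = L₄(2).2 = S₈` on `4 ⊕ 4*` (S1763, k6) (helper805)

`kill : Swap h U W → False`, `G` finite without subgroup of index 2, `h : Large Q z`, `|Q| = 2⁹`, `U`, `W`
complementary totally singular 4-spaces, `C_G(z)` permutes `{U, W}` nontrivially and induces `GL(U)` on `U`.
-/

set_option autoImplicit false
set_option linter.style.haveILetI false

namespace Cfsg.Agent.LargeExtra.FlipKill

open Cfsg.Agent.Co2Type.Quad Cfsg.Agent.LargeExtra.Base Cfsg.Agent.LargeExtra.TwoCentral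
open Cfsg.Agent.LargeExtra.Local Cfsg.Agent.LargeExtra.Dickson
open Cfsg.Agent.LargeExtra.CentCard (notMem_of_conj comm_inter comm_mem_inter card_map_conj)
open Cfsg.Agent.LargeExtra.SwapBasic (eq_of_add Keep Flip)
open Cfsg.Agent.LargeExtra.PGLKill (flip_mul flip_mul_keep keep_mul_flip keep_mul comm_graph)
open Cfsg.Agent.LargeExtra.FlipBasic Cfsg.Agent.LargeExtra.FlipPair Cfsg.Agent.LargeExtra.FlipCount
open Cfsg.Agent.LargeExtra.FlipOuter
open Module

variable {G : Type*} [Group G] {Q : Subgroup G} {z : G}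
variable {h : Large Q z} {U W : Submodule (ZMod 2) h.V}

/-- the subgroup of `C_G(z)` preserving `U` and `W` -/
def K (S : Swap h U W) : Subgroup (Subgroup.centralizer ({z} : Set G)) where
  carrier := {c | Keep h U W (h.act c)}
  one_mem' := by
    show Keep h U W (h.act 1)
    rw [map_one]
    exact ⟨fun v hv => hv, fun v hv => hv⟩
  mul_mem' := by
    intro a b ha hb
    show Keep h U W (h.act (a * b))
    rw [map_mul]
    exact keep_mul ha hb
  inv_mem' := by
    intro a ha
    show Keep h U W (h.act a⁻¹)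
    rcases S.pres a⁻¹ with h1 | h1
    · exact h1
    · exfalso
      have h2 : Flip h U W (h.act (a⁻¹ * a)) := by
        rw [map_mul]; exact flip_mul_keep h1 ha
      rw [inv_mul_cancel, map_one] at h2
      exact not_keep_flip S ⟨fun v hv => hv, fun v hv => hv⟩ h2

theorem mem_K (S : Swap h U W) {c : Subgroup.centralizer ({z} : Set G)} : c ∈ K S ↔ Keep h U W (h.act c) :=
  Iff.rfl

theorem not_mem_K (S : Swap h U W) {c : Subgroup.centralizer ({z} : Set G)} : c ∉ K S ↔ Flip h U W (h.act c) := by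
  rw [mem_K]
  constructor
  · intro h1; exact (S.pres c).resolve_left h1
  · intro h1 h2; exact not_keep_flip S h2 h1

theorem index_K (S : Swap h U W) : (K S).index = 2 := by
  obtain ⟨s, hs⟩ := S.swap
  rw [Subgroup.index_eq_two_iff]
  refine ⟨s, fun b => ?_⟩
  rcases S.pres b with h1 | h1
  · right
    refine ⟨h1, ?_⟩
    rw [not_mem_K, map_mul]
    exact keep_mul_flip h1 hs
  · left
    refine ⟨?_, (not_mem_K S).2 h1⟩
    rw [mem_K, map_mul]
    exact flip_mul h1 hs

/-- `K` as a subgroup of `G` -/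
def KG (S : Swap h U W) : Subgroup G := (K S).map (Subgroup.centralizer ({z} : Set G)).subtype

theorem mem_KG (S : Swap h U W) (c : Subgroup.centralizer ({z} : Set G)) : (c : G) ∈ KG S ↔ c ∈ K S := by
  constructor
  · rintro ⟨d, hd, hdc⟩
    have : d = c := Subtype.ext hdc
    rw [← this]; exact hd
  · intro hc
    exact ⟨c, hc, rfl⟩

theorem KG_le (S : Swap h U W) : KG S ≤ Subgroup.centralizer ({z} : Set G) := by
  rintro _ ⟨d, _, rfl⟩
  exact d.2

theorem Q_le_KG (S : Swap h U W) {x : G} (hx : x ∈ Q) : x ∈ KG S := by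
  have hxC : x ∈ Subgroup.centralizer ({z} : Set G) :=
    Subgroup.mem_centralizer_singleton_iff.2 (h.comm_z x hx)
  refine (mem_KG S ⟨x, hxC⟩).2 ?_
  rw [mem_K, h.act_mem ⟨x, hxC⟩ hx]
  exact ⟨fun v hv => hv, fun v hv => hv⟩

/-- involutions swapping `U` and `W` are not conjugate to `z` -/
theorem not_conj_outer [Finite G] (S : Swap h U W) {t : Subgroup.centralizer ({z} : Set G)}
    (hf : Flip h U W (h.act t)) (ht : (t : G) * t = 1) (g : G) : g * z * g⁻¹ ≠ t := by
  classical
  intro hg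
  have htQ : (t : G) ∉ Q := by
    intro h1
    exact not_keep_flip S ((mem_K S).1 ((mem_KG S t).1 (Q_le_KG S h1))) hf
  have hzA := notMem_of_conj h hg htQ
  have hcardA := card_map_conj Q g
  have la : Large (Q.map (MulAut.conj g).toMonoidHom) (t : G) := by rw [← hg]; exact h.conj g
  revert hzA la hcardA
  generalize Q.map (MulAut.conj g).toMonoidHom = A
  intro hzA hcardA la
  have O : Out S A t :=
    { tt := ht, I := inv_of_flip S hf (Or.inl ht), la := la, conj := ⟨g, hg⟩, zA := hzA, tQ := htQ }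
  have htz : z * (t : G) = t * z := (Subgroup.mem_centralizer_singleton_iff.1 t.2).symm
  -- lower bound
  have h1 := card_cent la h.z_sq htz
  have h2 := la.card_eq
  rw [hcardA, S.cardQ] at h2
  have h3 : Nat.card la.V = 256 := by omega
  rw [h3] at h1
  obtain ⟨X, hX⟩ : ∃ X, X = Subgroup.centralizer ({z} : Set G) ⊓ A := ⟨_, rfl⟩
  rw [← hX] at h1
  obtain ⟨X0, hX0⟩ : ∃ X0, X0 = KG S ⊓ A := ⟨_, rfl⟩
  -- `|X| ≤ 2 |X₀|`
  have hmemX : ∀ x, x ∈ X ↔ x ∈ Subgroup.centralizer ({z} : Set G) ∧ x ∈ A := by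
    intro x; rw [hX, Subgroup.mem_inf]
  have hmemX0 : ∀ x, x ∈ X0 ↔ x ∈ KG S ∧ x ∈ A := by
    intro x; rw [hX0, Subgroup.mem_inf]
  have hXX0 : Nat.card X ≤ 2 * Nat.card X0 := by
    let k : X → X0 × Bool := fun x =>
      if hk : (x : G) ∈ KG S then (⟨x, (hmemX0 _).2 ⟨hk, ((hmemX _).1 x.2).2⟩⟩, true)
      else (⟨x * t, (hmemX0 _).2 ⟨by
          obtain ⟨hxC, hxA⟩ := (hmemX _).1 x.2
          have h4 : (⟨x, hxC⟩ : Subgroup.centralizer ({z} : Set G)) ∉ K S := by
            rw [← mem_KG]; exact hk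
          rw [not_mem_K] at h4
          have h5 : (⟨x, hxC⟩ * t : Subgroup.centralizer ({z} : Set G)) ∈ K S := by
            rw [mem_K, map_mul]; exact flip_mul h4 hf
          exact (mem_KG S _).2 h5, A.mul_mem ((hmemX _).1 x.2).2 la.z_mem⟩⟩, false)
    have hk : Function.Injective k := by
      intro x y hxy
      by_cases hx : (x : G) ∈ KG S <;> by_cases hy : (y : G) ∈ KG S
      · simp only [k, dif_pos hx, dif_pos hy, Prod.mk.injEq, and_true] at hxy
        exact Subtype.ext (congrArg (fun t : X0 => (t : G)) hxy)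
      · simp only [k, dif_pos hx, dif_neg hy, Prod.mk.injEq, Bool.true_eq_false, and_false] at hxy
      · simp only [k, dif_neg hx, dif_pos hy, Prod.mk.injEq, Bool.false_eq_true, and_false] at hxy
      · simp only [k, dif_neg hx, dif_neg hy, Prod.mk.injEq, and_true] at hxy
        exact Subtype.ext (mul_right_cancel (congrArg (fun t : X0 => (t : G)) hxy))
    have h4 := Nat.card_le_card_of_injective k hk
    rw [Nat.card_prod, Nat.card_eq_fintype_card (α := Bool), Fintype.card_bool] at h4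
    omega
  -- `|X₀| = |img| |X₀ ∩ Q|`
  have hX0C : X0 ≤ Subgroup.centralizer ({z} : Set G) := by
    rw [hX0]; exact inf_le_left.trans (KG_le S)
  have himg := card_img h hX0C
  have hgood : ∀ y ∈ img h X0, Good S A t y := by
    rintro _ ⟨c, hc, rfl⟩
    obtain ⟨hcK, hcA⟩ := (hmemX0 _).1 hc
    have hcK' : c ∈ K S := (mem_KG S c).1 hcK
    exact O.good hcA hcK' ((K S).inv_mem hcK')
  -- `X₀ ∩ Q` embeds into `DU`
  have hDUfin : (DU S A t).Finite := by
    have := finV S
    exact Set.toFinite _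
  have hinj : Nat.card ↥(X0 ⊓ Q) ≤ (DU S A t).ncard := by
    have hex : ∀ x : ↥(X0 ⊓ Q), ∃ u : DU S A t, h.pr ⟨x, (Subgroup.mem_inf.1 x.2).2⟩ = u + h.act t u := by
      intro x
      obtain ⟨hx0, hxQ⟩ := Subgroup.mem_inf.1 x.2
      have hxA := ((hmemX0 _).1 hx0).2
      obtain ⟨u, hu, -, hxu⟩ := graph_of_comm O.I O.hs hxQ (la.comm_z x hxA)
      exact ⟨⟨u, hu, ⟨x, hxQ⟩, hxA, hxu⟩, hxu⟩
    choose F hF using hex
    have hFin : Function.Injective F := by
      intro x y hxy
      have h4 : h.pr ⟨x, (Subgroup.mem_inf.1 x.2).2⟩ = h.pr ⟨y, (Subgroup.mem_inf.1 y.2).2⟩ := by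
        rw [hF x, hF y, hxy]
      rcases h.pr_eq_pr.1 h4 with h5 | h5
      · exact Subtype.ext h5
      · exfalso
        apply hzA
        have hxA := ((hmemX0 _).1 (Subgroup.mem_inf.1 x.2).1).2
        have hyA := ((hmemX0 _).1 (Subgroup.mem_inf.1 y.2).1).2
        have h5' : (x : G) = y * z := h5
        have : z = (y : G)⁻¹ * x := by rw [h5']; group
        rw [this]
        exact A.mul_mem (A.inv_mem hyA) hxA
    have hfin : Finite (DU S A t) := hDUfin
    have h4 := Nat.card_le_card_of_injective F hFin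
    rw [Nat.card_coe_set_eq] at h4
    exact h4
  have hX0le : Nat.card X0 ≤ 4 := by
    rw [← himg]
    by_cases hcase : ∃ a ∈ DU S A t, ∃ c ∈ DU S A t, a ≠ 0 ∧ c ≠ 0 ∧ a ≠ c
    · obtain ⟨a, ha, c, hc, ha0, hc0, hac⟩ := hcase
      have hDU : ∀ u ∈ DU S A t, u = 0 ∨ u = a ∨ u = c ∨ u = a + c := by
        intro u hu
        by_contra hcon
        push Not at hcon
        obtain ⟨h4, h5, h6, h7⟩ := hcon
        have h8 := O.DU_pair ha hu ha0 h4 (Ne.symm h5)
        have h9 := O.DU_pair hc hu hc0 h4 (Ne.symm h6)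
        have h10 := O.DU_pair (Out.DU_add ha hc) hu (fun h0 => hac (eq_of_add h h0)) h4 (Ne.symm h7)
        rw [map_add, LinearMap.add_apply, h8, h9] at h10
        exact absurd h10 (by decide)
      have h4 : (DU S A t).ncard ≤ 4 := by
        calc (DU S A t).ncard ≤ ({0, a, c, a + c} : Set h.V).ncard := by
              apply Set.ncard_le_ncard
              · intro u hu
                rcases hDU u hu with h5 | h5 | h5 | h5 <;> simp [h5]
              · exact Set.toFinite _
          _ ≤ 4 := by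
              calc ({0, a, c, a + c} : Set h.V).ncard ≤ ({a, c, a + c} : Set h.V).ncard + 1 := Set.ncard_insert_le _ _
                _ ≤ (({c, a + c} : Set h.V).ncard + 1) + 1 := by gcongr; exact Set.ncard_insert_le _ _
                _ ≤ ((({a + c} : Set h.V).ncard + 1) + 1) + 1 := by gcongr; exact Set.ncard_insert_le _ _
                _ = 4 := by rw [Set.ncard_singleton]
      have h5 : Nat.card (img h X0) ≤ 1 := by
        have hsub : Subsingleton (img h X0) := by
          constructor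
          intro x y
          apply Subtype.ext
          rw [O.good_trivial ha hc (O.DU_pair ha hc ha0 hc0 hac) hDU (hgood x x.2),
            O.good_trivial ha hc (O.DU_pair ha hc ha0 hc0 hac) hDU (hgood y y.2)]
        exact Finite.card_le_one_iff_subsingleton.2 hsub
      calc Nat.card (img h X0) * Nat.card ↥(X0 ⊓ Q) ≤ 1 * 4 := Nat.mul_le_mul h5 (hinj.trans h4)
        _ = 4 := by norm_num
    · have h4 : ∃ a ∈ DU S A t, ∀ u ∈ DU S A t, u = 0 ∨ u = a := by
        by_cases h5 : ∃ a ∈ DU S A t, a ≠ 0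
        · obtain ⟨a, ha, ha0⟩ := h5
          refine ⟨a, ha, fun u hu => ?_⟩
          by_contra hcon
          push Not at hcon
          exact hcase ⟨a, ha, u, hu, ha0, hcon.1, Ne.symm hcon.2⟩
        · push Not at h5
          refine ⟨0, ⟨U.zero_mem, 1, A.one_mem, ?_⟩, fun u hu => Or.inl (h5 u hu)⟩
          rw [h.pr_one, map_zero, add_zero]
      obtain ⟨a, ha, hDU⟩ := h4
      have h4 : (DU S A t).ncard ≤ 2 := by
        calc (DU S A t).ncard ≤ ({0, a} : Set h.V).ncard := by
              apply Set.ncard_le_ncard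
              · intro u hu
                rcases hDU u hu with h5 | h5 <;> simp [h5]
              · exact Set.toFinite _
          _ ≤ ({a} : Set h.V).ncard + 1 := Set.ncard_insert_le _ _
          _ = 2 := by rw [Set.ncard_singleton]
      have h5 : Nat.card (img h X0) ≤ 2 := by
        have hinj' : Function.Injective (fun x : img h X0 => decide ((x : h.V ≃ₗ[ZMod 2] h.V) = 1)) := by
          intro x y hxy
          have hxy' : decide ((x : h.V ≃ₗ[ZMod 2] h.V) = 1) = decide ((y : h.V ≃ₗ[ZMod 2] h.V) = 1) := hxy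
          by_cases hx : (x : h.V ≃ₗ[ZMod 2] h.V) = 1
          · rw [decide_eq_true hx] at hxy'
            exact Subtype.ext (hx.trans (of_decide_eq_true hxy'.symm).symm)
          · rw [decide_eq_false hx] at hxy'
            exact Subtype.ext (O.good_unique ha hDU (hgood x x.2) (hgood y y.2) hx (of_decide_eq_false hxy'.symm))
        have := Nat.card_le_card_of_injective _ hinj'
        rwa [Nat.card_eq_fintype_card (α := Bool), Fintype.card_bool] at this
      calc Nat.card (img h X0) * Nat.card ↥(X0 ⊓ Q) ≤ 2 * 2 := Nat.mul_le_mul h5 (hinj.trans h4)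
        _ = 4 := by norm_num
  have h4 : Nat.card X ≤ 8 := by omega
  have h5 : Nat.card X * Nat.card X ≤ 8 * 8 := Nat.mul_le_mul h4 h4
  omega

theorem finrank_U (S : Swap h U W) : finrank (ZMod 2) U = 4 := by
  have := finV S
  have : Module.Finite (ZMod 2) h.V := Module.Finite.of_finite
  have h1 := Module.natCard_eq_pow_finrank (K := ZMod 2) (V := U)
  rw [Nat.card_zmod, S.cardU] at h1
  have h2 : (2 : ℕ) ^ 4 = 2 ^ finrank (ZMod 2) U := by rw [← h1]; norm_num
  exact (Nat.pow_right_injective (le_refl 2) h2).symm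

/-- an element swapping `U` and `W` whose square acts trivially, with `b(u, s u) = 0` on `U` -/
theorem exists_outer_inv (S : Swap h U W) :
    ∃ s : Subgroup.centralizer ({z} : Set G), Flip h U W (h.act s) ∧ h.act s * h.act s = 1 ∧
      ∀ u ∈ U, h.b u (h.act s u) = 0 := by
  classical
  have := finV S
  have : Module.Finite (ZMod 2) h.V := Module.Finite.of_finite
  obtain ⟨c₀, hc₀⟩ := S.swap
  have hinv : Flip h U W (h.act c₀⁻¹) := by
    rw [← not_mem_K S, inv_mem_iff, not_mem_K]; exact hc₀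
  let e := Module.finBasisOfFinrankEq (ZMod 2) U (finrank_U S)
  have hw : ∀ i, ∃ w ∈ W, ∀ u : U, h.b w u = e.coord i u := fun i => S.lag.exists_repr (e.coord i)
  choose w hwW hwu using hw
  let σ : Fin 4 → Fin 4 := ![1, 0, 3, 2]
  have hσσ : ∀ i, σ (σ i) = i := by decide
  let φ : U →ₗ[ZMod 2] h.V := ∑ i, (e.coord i).smulRight (w (σ i))
  have hφ : ∀ u, φ u = ∑ i, e.coord i u • w (σ i) := by
    intro u
    show (∑ i, (e.coord i).smulRight (w (σ i))) u = _
    rw [LinearMap.sum_apply]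
    rfl
  have hφW : ∀ u, φ u ∈ W := by
    intro u
    rw [hφ]
    exact W.sum_mem fun i _ => W.smul_mem _ (hwW _)
  have hφb : ∀ u v : U, h.b (φ u) v = ∑ i, e.coord i u * e.coord (σ i) v := by
    intro u v
    rw [hφ, map_sum, LinearMap.sum_apply]
    apply Finset.sum_congr rfl
    intro i _
    rw [map_smul, LinearMap.smul_apply, hwu, smul_eq_mul]
  have hφb' : ∀ u v : U, h.b (φ u) v = e.coord 0 u * e.coord 1 v + e.coord 1 u * e.coord 0 v +
      e.coord 2 u * e.coord 3 v + e.coord 3 u * e.coord 2 v := by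
    intro u v
    rw [hφb, Fin.sum_univ_four]
    rfl
  have hφsymm : ∀ u v : U, h.b (φ u) v = h.b (φ v) u := by
    intro u v
    rw [hφb', hφb']; ring
  have hφalt : ∀ u : U, h.b (φ u) u = 0 := by
    intro u
    rw [hφb']
    have : ∀ a b c d : ZMod 2, a * b + b * a + c * d + d * c = 0 := by decide
    exact this _ _ _ _
  have hφinj : ∀ u : U, φ u = 0 → u = 0 := by
    intro u hu
    apply e.ext_elem
    intro i
    have h1 : h.b (φ u) (e (σ i)) = 0 := by rw [hu]; simp
    rw [hφb] at h1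
    rw [map_zero, Finsupp.zero_apply]
    rw [Finset.sum_eq_single i] at h1
    · simpa [Basis.coord_apply] using h1
    · intro j _ hj
      rw [Basis.coord_apply, Basis.coord_apply, e.repr_self, Finsupp.single_apply, if_neg, mul_zero]
      intro h2
      apply hj
      rw [← hσσ j, ← h2, hσσ]
    · intro hi; exact absurd (Finset.mem_univ i) hi
  -- the automorphism of `U`
  let g : U →ₗ[ZMod 2] U :=
    { toFun := fun u => ⟨h.act c₀⁻¹ (φ u), hinv.2 _ (hφW u)⟩
      map_add' := fun u v => by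
        apply Subtype.ext
        show h.act c₀⁻¹ (φ (u + v)) = h.act c₀⁻¹ (φ u) + h.act c₀⁻¹ (φ v)
        rw [map_add, map_add]
      map_smul' := fun a u => by
        apply Subtype.ext
        show h.act c₀⁻¹ (φ (a • u)) = a • h.act c₀⁻¹ (φ u)
        rw [map_smul, map_smul] }
  have hginj : Function.Injective g := by
    rw [← LinearMap.ker_eq_bot, LinearMap.ker_eq_bot']
    intro u hu
    apply hφinj
    have h1 : h.act c₀⁻¹ (φ u) = 0 := congrArg Subtype.val hu
    exact (h.act c₀⁻¹).map_eq_zero_iff.1 h1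
  obtain ⟨c₁, hc₁⟩ := S.gl (LinearEquiv.ofInjectiveEndo g hginj)
  have hsU : ∀ u : U, h.act (c₀ * c₁) u = φ u := by
    intro u
    have h1 : h.act c₁ u = h.act c₀⁻¹ (φ u) := hc₁ u
    rw [map_mul]
    show h.act c₀ (h.act c₁ u) = φ u
    rw [h1]
    have h2 : (h.act c₀ * h.act c₀⁻¹) (φ u) = φ u := by
      rw [← map_mul, mul_inv_cancel, map_one]; rfl
    exact h2
  have hflip : Flip h U W (h.act (c₀ * c₁)) := by
    rcases S.pres (c₀ * c₁) with h1 | h1
    · exfalso
      obtain ⟨u, hu, hu0⟩ := exists_ne_zero S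
      apply hu0
      have h2 := h1.1 u hu
      rw [hsU ⟨u, hu⟩] at h2
      have h3 := S.lag.disj _ h2 (hφW _)
      exact congrArg Subtype.val (hφinj ⟨u, hu⟩ h3)
    · exact h1
  have hflip' : Flip h U W (h.act (c₀ * c₁)⁻¹) := by
    rw [← not_mem_K S, inv_mem_iff, not_mem_K]; exact hflip
  refine ⟨c₀ * c₁, hflip, ?_, ?_⟩
  · obtain ⟨f, hf⟩ : ∃ f, f = h.act (c₀ * c₁) := ⟨_, rfl⟩
    rw [← hf] at hflip hsU ⊢
    have hiso : ∀ v w, h.b (f v) (f w) = h.b v w := by rw [hf]; exact h.b_act _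
    have hsurj : ∀ w ∈ W, ∃ u ∈ U, f u = w := by
      intro w hw
      refine ⟨h.act (c₀ * c₁)⁻¹ w, hflip'.2 w hw, ?_⟩
      rw [hf]
      have h2 : (h.act (c₀ * c₁) * h.act (c₀ * c₁)⁻¹) w = w := by
        rw [← map_mul, mul_inv_cancel, map_one]; rfl
      exact h2
    have hUU : ∀ u ∈ U, f (f u) = u := by
      intro u hu
      apply eq_of_add h
      apply S.lag.eq_zero_U (U.add_mem (hflip.2 _ (hflip.1 u hu)) hu)
      intro w hw
      obtain ⟨u', hu', rfl⟩ := hsurj w hw
      rw [map_add, LinearMap.add_apply, hiso, hsU ⟨u, hu⟩, hsU ⟨u', hu'⟩, h.b_comm u]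
      have h1 : h.b (φ ⟨u, hu⟩) u' = h.b (φ ⟨u', hu'⟩) u := hφsymm ⟨u, hu⟩ ⟨u', hu'⟩
      rw [h1]
      rcases zmod_two (h.b (φ ⟨u', hu'⟩) u) with h2 | h2 <;> rw [h2] <;> decide
    ext v
    obtain ⟨u, hu, w, hw, rfl⟩ := S.lag.span v
    show f (f (u + w)) = u + w
    obtain ⟨u', hu', rfl⟩ := hsurj w hw
    rw [map_add, map_add, hUU u hu, hUU u' hu']
  · intro u hu
    rw [hsU ⟨u, hu⟩, h.b_comm]
    exact hφalt ⟨u, hu⟩

/-- an element swapping `U` and `W` with square in `⟨z⟩`, with `b(u, s u) = 0` on `U` -/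
theorem exists_outer (S : Swap h U W) :
    ∃ s : Subgroup.centralizer ({z} : Set G), Flip h U W (h.act s) ∧ ((s : G) * s = 1 ∨ (s : G) * s = z) ∧
      ∀ u ∈ U, h.b u (h.act s u) = 0 := by
  have := S.lag.finQ
  obtain ⟨s, hs, hss, halt⟩ := exists_outer_inv S
  have hkQ : (s : G) * s ∈ Q := h.mem_of_act (s * s) (by rw [map_mul]; exact hss)
  have I : Inv h U W (h.act s) :=
    { lag := S.lag
      iso := h.b_act s
      flip := hs
      inv := fun v => congrArg (fun t : h.V ≃ₗ[ZMod 2] h.V => t v) hss }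
  have h1 : h.act s (h.pr ⟨(s : G) * s, hkQ⟩) = h.pr ⟨(s : G) * s, hkQ⟩ := by
    apply Pair.act_pr_coe
    show (s : G) * (s * s) * (s : G)⁻¹ = s * s
    group
  obtain ⟨u, hu, hku⟩ := I.fixed_iff.1 h1
  obtain ⟨x, hx⟩ := h.pr_surjective u
  have hxC : (x : G) ∈ Subgroup.centralizer ({z} : Set G) :=
    Subgroup.mem_centralizer_singleton_iff.2 (h.comm_z x x.2)
  have hact : h.act (s * ⟨x, hxC⟩) = h.act s := by
    rw [map_mul, h.act_mem ⟨x, hxC⟩ x.2, mul_one]
  refine ⟨s * ⟨x, hxC⟩, ?_, ?_, ?_⟩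
  · rw [hact]; exact hs
  · have h2 : h.pr (h.conjQ s x * ⟨(s : G) * s, hkQ⟩ * x) = 0 := by
      rw [h.pr_mul, h.pr_mul, ← h.act_pr, hku, hx]
      calc h.act s u + (u + h.act s u) + u = (h.act s u + h.act s u) + (u + u) := by abel
        _ = 0 := by rw [h.add_self, h.add_self, add_zero]
    have h3 := h.pr_eq_zero.1 h2
    have e : ((h.conjQ s x * ⟨(s : G) * s, hkQ⟩ * x : Q) : G) = (s * x) * (s * x) := by
      rw [Subgroup.coe_mul, Subgroup.coe_mul, h.conjQ_coe]
      show (s : G) * x * (s : G)⁻¹ * (s * s) * x = s * x * (s * x)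
      group
    rw [e] at h3
    exact h3
  · rw [hact]; exact halt

/-- **The kill of `S₈ = L₄(2).2` on `4 ⊕ 4*`.** -/
theorem kill [Finite G] (hG : ∀ H : Subgroup G, H.index ≠ 2) (S : Swap h U W) : False := by
  obtain ⟨s, hsf, hss, halt⟩ := exists_outer S
  have I := inv_of_flip S hsf hss
  have hsz : (s : G) * z = z * s := Subgroup.mem_centralizer_singleton_iff.1 s.2
  have hle := KG_le S
  have h2 : (KG S).relIndex (Subgroup.centralizer ({z} : Set G)) = 2 := by
    have e : (KG S).subgroupOf (Subgroup.centralizer ({z} : Set G)) = K S := by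
      ext d
      rw [Subgroup.mem_subgroupOf, mem_KG]
    rw [Subgroup.relIndex, e, index_K]
  have hs0 : (s : G) ∉ KG S := by rw [mem_KG]; exact (not_mem_K S).2 hsf
  have hssQ : (s : G) * s ∈ Q := by
    rcases hss with h1 | h1 <;> rw [h1]
    · exact Q.one_mem
    · exact h.z_mem
  have hss_s : ((s : G) * s) * s = s * ((s : G) * s) := by group
  have hs4 : (s : G) ^ (2 ^ 2) = 1 := by
    have : (s : G) ^ (2 ^ 2) = (s * s) * (s * s) := by
      rw [show (2 ^ 2 : ℕ) = 4 from rfl]
      simp only [pow_succ, pow_zero, one_mul, mul_assoc]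
    rw [this]
    rcases hss with h1 | h1 <;> rw [h1]
    · rw [one_mul]
    · exact h.z_sq
  -- even powers
  have hev : ∀ (m : ℕ) (g : G), 2 ∣ m → (g⁻¹ * (s : G) ^ m * g) * z = z * (g⁻¹ * (s : G) ^ m * g) →
      g⁻¹ * (s : G) ^ m * g ∈ KG S := by
    rintro m g ⟨j, rfl⟩ hcomm
    have h3 : (s : G) ^ (2 * j) = 1 ∨ (s : G) ^ (2 * j) = z := by
      rw [pow_mul, pow_two]
      rcases hss with h1 | h1 <;> rw [h1]
      · left; exact one_pow j
      · rcases Nat.even_or_odd j with ⟨k, hk⟩ | ⟨k, hk⟩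
        · left
          rw [hk, ← two_mul, pow_mul, pow_two, h.z_sq, one_pow]
        · right
          rw [hk, pow_succ, pow_mul, pow_two, h.z_sq, one_pow, one_mul]
    by_contra hnot
    have htC : g⁻¹ * (s : G) ^ (2 * j) * g ∈ Subgroup.centralizer ({z} : Set G) :=
      Subgroup.mem_centralizer_singleton_iff.2 hcomm
    have hflip : Flip h U W (h.act ⟨_, htC⟩) := by
      rw [← not_mem_K S, ← mem_KG]; exact hnot
    rcases h3 with h4 | h4
    · apply hnot
      rw [h4]
      have : g⁻¹ * 1 * g = 1 := by group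
      rw [this]; exact (KG S).one_mem
    · refine not_conj_outer S hflip ?_ g⁻¹ ?_
      · show g⁻¹ * (s : G) ^ (2 * j) * g * (g⁻¹ * (s : G) ^ (2 * j) * g) = 1
        rw [h4]
        calc g⁻¹ * z * g * (g⁻¹ * z * g) = g⁻¹ * (z * z) * g := by group
          _ = 1 := by rw [h.z_sq]; group
      · show g⁻¹ * z * (g⁻¹)⁻¹ = g⁻¹ * (s : G) ^ (2 * j) * g
        rw [h4, inv_inv]
  -- the group `P = ⟨s⟩ C_Q(s)`
  let P : Subgroup G :=
    { carrier := {x | ∃ y ∈ Q, y * s = s * y ∧ (x = y ∨ x = y * s)}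
      one_mem' := ⟨1, Q.one_mem, by group, Or.inl rfl⟩
      mul_mem' := by
        rintro a b ⟨y, hy, hys, ha⟩ ⟨y', hy', hys', hb⟩
        have hyy' : y * y' * s = s * (y * y') := by
          calc y * y' * s = y * (y' * s) := by group
            _ = (y * s) * y' := by rw [hys']; group
            _ = s * (y * y') := by rw [hys]; group
        rcases ha with rfl | rfl <;> rcases hb with rfl | rfl
        · exact ⟨a * b, Q.mul_mem hy hy', hyy', Or.inl rfl⟩
        · exact ⟨a * y', Q.mul_mem hy hy', hyy', Or.inr (by group)⟩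
        · refine ⟨y * b, Q.mul_mem hy hy', hyy', Or.inr ?_⟩
          calc y * (s : G) * b = y * (s * b) := by group
            _ = y * b * s := by rw [← hys']; group
        · refine ⟨y * y' * (s * s), Q.mul_mem (Q.mul_mem hy hy') hssQ, ?_, Or.inl ?_⟩
          · calc y * y' * ((s : G) * s) * s = (y * y') * (((s : G) * s) * s) := by group
              _ = (y * y' * s) * (s * s) := by rw [hss_s]; group
              _ = s * (y * y' * (s * s)) := by rw [hyy']; group
          · calc y * (s : G) * (y' * s) = y * (s * y') * s := by group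
              _ = y * y' * (s * s) := by rw [← hys']; group
      inv_mem' := by
        rintro a ⟨y, hy, hys, ha⟩
        have h1 : y⁻¹ * s = s * y⁻¹ := by
          rw [inv_mul_eq_iff_eq_mul, ← mul_assoc, hys, mul_inv_cancel_right]
        rcases ha with rfl | rfl
        · exact ⟨a⁻¹, Q.inv_mem hy, h1, Or.inl rfl⟩
        · refine ⟨y⁻¹ * (s * s)⁻¹, Q.mul_mem (Q.inv_mem hy) (Q.inv_mem hssQ), ?_, Or.inr ?_⟩
          · calc y⁻¹ * ((s : G) * s)⁻¹ * s = (y⁻¹ * s) * (s : G)⁻¹ * (s : G)⁻¹ := by group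
              _ = s * (y⁻¹ * ((s : G) * s)⁻¹) := by rw [h1]; group
          · calc (y * (s : G))⁻¹ = (s : G)⁻¹ * y⁻¹ := by group
              _ = (s : G)⁻¹ * (y⁻¹ * s) * (s : G)⁻¹ := by group
              _ = y⁻¹ * (s : G)⁻¹ := by rw [h1]; group
              _ = y⁻¹ * ((s : G) * s)⁻¹ * s := by group }
  have hPs : ∀ p ∈ P, p * s = s * p := by
    rintro p ⟨y, hy, hys, rfl | rfl⟩
    · exact hys
    · calc y * (s : G) * s = (s * y) * s := by rw [hys]
        _ = s * (y * s) := mul_assoc _ _ _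
  have hPz : ∀ p ∈ P, p * z = z * p := by
    rintro p ⟨y, hy, hys, rfl | rfl⟩
    · exact h.comm_z p hy
    · calc y * (s : G) * z = y * (s * z) := by group
        _ = (y * z) * s := by rw [hsz]; group
        _ = z * (y * s) := by rw [h.comm_z y hy]; group
  have hPp : IsPGroup 2 P := by
    have hy4 : ∀ y ∈ Q, y ^ (2 ^ 2) = 1 := by
      intro y hy
      rw [show (2 ^ 2 : ℕ) = 4 from rfl]
      have : y ^ 4 = (y * y) * (y * y) := by simp only [pow_succ, pow_zero, one_mul, mul_assoc]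
      rw [this]
      rcases h.sq y hy with h1 | h1 <;> rw [h1]
      · rw [one_mul]
      · exact h.z_sq
    rintro ⟨p, y, hy, hys, hp⟩
    refine ⟨2, ?_⟩
    apply Subtype.ext
    show p ^ (2 ^ 2) = 1
    rcases hp with rfl | rfl
    · exact hy4 p hy
    · have hc' : Commute y (s : G) := hys
      rw [hc'.mul_pow, hy4 y hy, one_mul, hs4]
  obtain ⟨g, hg1, hg2, -, -⟩ := Cfsg.Agent.LargeExtra.TransferPow.exists_conj hG hle h2 (s : G) hs4 hev hsz hs0 P
    hPp hPs hPz
  obtain ⟨y, hy⟩ : ∃ y, y = g * z * g⁻¹ := ⟨_, rfl⟩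
  rw [← hy] at hg1 hg2
  have hys : y * s = s * y := (hg2 s ⟨1, Q.one_mem, by group, Or.inr (by group)⟩).symm
  have hyE : ∀ x ∈ Q, x * s = s * x → x * y = y * x := fun x hx hxs => hg2 x ⟨x, hx, hxs, Or.inl rfl⟩
  have hyz : y * z = z * y := (hyE z h.z_mem hsz.symm).symm
  have hyC : y ∈ Subgroup.centralizer ({z} : Set G) := Subgroup.mem_centralizer_singleton_iff.2 hyz
  have hy1 : y ≠ 1 := by
    intro h3
    apply h.z_ne
    have : z = g⁻¹ * y * g := by rw [hy]; group
    rw [this, h3]; group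
  rcases S.pres ⟨y, hyC⟩ with hk | hk
  · have h3 : h.act ⟨y, hyC⟩ = 1 := by
      apply S.lag.eq_one (h.b_act _) hk
      intro u hu
      obtain ⟨r, hr⟩ := h.pr_surjective (u + h.act s u)
      have h4 := hyE r r.2 (comm_of_graph hss (halt u hu) hr)
      have h5 : h.act ⟨y, hyC⟩ (h.pr r) = h.pr r := by
        apply Pair.act_pr_coe
        show y * (r : G) * y⁻¹ = r
        rw [← h4]; group
      rw [hr, map_add] at h5
      exact (S.lag.add_inj (hk.1 u hu) hu (hk.2 _ (hsf.1 u hu)) (hsf.1 u hu) h5).1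
    have hyQ : y ∈ Q := by
      have := S.lag.finQ
      exact h.mem_of_act _ h3
    obtain ⟨u, hu, hb, hyu⟩ := graph_of_comm I hss hyQ hys
    by_cases hu0 : u = 0
    · rw [hu0, map_zero, add_zero] at hyu
      rcases h.pr_eq_zero.1 hyu with h4 | h4
      · exact hy1 h4
      · exact hg1 h4
    · exact not_conj_graph S I (c := ⟨y, hyQ⟩) hu hu0 hb hyu g hy.symm
  · refine not_conj_outer S hk ?_ g hy.symm
    show y * y = 1
    rw [hy]
    calc g * z * g⁻¹ * (g * z * g⁻¹) = g * (z * z) * g⁻¹ := by group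
      _ = 1 := by rw [h.z_sq]; group

end Cfsg.Agent.LargeExtra.FlipKill
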