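import Mathlib
import Cfsg.Prelude.Def_Classical
import Cfsg.Agent.LieClassical.OmegaReindex
import Cfsg.Agent.LieClassical.PomegaCard
import Cfsg.Agent.S0287
import Cfsg.Agent.S0288
import Cfsg.Agent.S0789

/-! `|Ω⁻(6,2)| = 25920` and `|Ω⁺(8,2)| = 174182400`. -/

set_option autoImplicit false

namespace Cfsg.Agent.LargeExtra.Cards

open Cfsg.Agent.LieClassical.OmegaReindex

theorem aniso : ∀ z₁ z₂ : ZMod 2, z₁ ^ 2 + 1 * z₁ * z₂ + 1 * z₂ ^ 2 = 0 → z₁ = 0 ∧ z₂ = 0 := by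
  decide

theorem card_omega_minus_six :
    Nat.card (Cfsg.Omega (ZMod 2) (Cfsg.quadFormMinus 2 (ZMod 2) 1 1)) = 25920 := by
  have hcard := Cfsg.Agent.S0288.result (F := ZMod 2) (q := 2) (ZMod.card 2) 3 (by norm_num) 1 1 aniso
  have hQ : (QuadraticMap.polarBilin (quadMinus 2 (ZMod 2) 1 1)).Nondegenerate :=
    quadMinus_nondegenerate aniso
  have hn : Fintype.card ((Fin 2 ⊕ Fin 2) ⊕ Fin 2) = 6 := by
    simp only [Fintype.card_sum, Fintype.card_fin]
  have hi := index_omega_of_fin hn (fun Q' hQ' => Cfsg.Agent.S0789.result (by omega) Q' hQ'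
      (Or.inr (by omega))) (quadMinus 2 (ZMod 2) 1 1) hQ
  rw [coe_quadMinus] at hi
  have h1 := (Cfsg.Omega (ZMod 2) (Cfsg.quadFormMinus 2 (ZMod 2) 1 1)).card_mul_index
  rw [hi] at h1
  have h2 : Nat.card (Cfsg.isometryGroup (ZMod 2) (Cfsg.quadFormMinus (3 - 1) (ZMod 2) 1 1)) = 51840 := by
    rw [hcard]; decide
  have h3 : Nat.card (Cfsg.isometryGroup (ZMod 2) (Cfsg.quadFormMinus 2 (ZMod 2) 1 1)) = 51840 := h2
  rw [h3] at h1
  omega

theorem card_omega_plus_eight :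
    Nat.card (Cfsg.Omega (ZMod 2) (Cfsg.quadFormPlus 4 (ZMod 2))) = 174182400 := by
  have hcard := Cfsg.Agent.S0287.result (F := ZMod 2) (q := 2) (ZMod.card 2) 4 (by norm_num)
  have hQ : (QuadraticMap.polarBilin (quadPlus 4 (ZMod 2))).Nondegenerate :=
    quadPlus_nondegenerate
  have hn : Fintype.card (Fin 4 ⊕ Fin 4) = 8 := by
    simp only [Fintype.card_sum, Fintype.card_fin]
  have hi := index_omega_of_fin hn (fun Q' hQ' => Cfsg.Agent.S0789.result (by omega) Q' hQ'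
      (Or.inr (by omega))) (quadPlus 4 (ZMod 2)) hQ
  rw [coe_quadPlus] at hi
  have h1 := (Cfsg.Omega (ZMod 2) (Cfsg.quadFormPlus 4 (ZMod 2))).card_mul_index
  rw [hi] at h1
  have h2 : Nat.card (Cfsg.isometryGroup (ZMod 2) (Cfsg.quadFormPlus 4 (ZMod 2))) = 348364800 := by
    rw [hcard]; decide
  rw [h2] at h1
  omega

end Cfsg.Agent.LargeExtra.Cards
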