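import Mathlib
import Cfsg.Agent.LargeExtra.Models

/-!
# Lifting automorphisms of a large extraspecial subgroup

`C` a finite group, `Q` a normal extraspecial 2-subgroup with `C_C(Q) ≤ Q` and `|C|` at least the number
of automorphisms of `Q` (so that `C` induces a subgroup of index at most two of `Aut Q`).
-/

set_option autoImplicit false

namespace Cfsg.Agent.LargeExtra.Lift

open Cfsg.Agent.LargeExtra.Model Cfsg.Agent.LargeExtra.Pres Cfsg.Agent.LargeExtra.AutBound
open Cfsg.Agent.LargeExtra.Models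
open Cfsg.Agent.Transfer.ExtraspecialTwo

/-- `φ` are coordinates of the normal subgroup `Q` of `C`, and `ρ` is the conjugation action of `C` in these
coordinates; the kernel of `ρ` is `{1, z}` and its image has index at most two. -/
structure Pin {C : Type*} [Group C] (Q : Subgroup C) (z : C) {B : ℕ → ℕ} {n : ℕ}
    (φ : XG B n ≃* Q) (ρ : C →* MulAut (XG B n)) : Prop where
  zz : (φ zz : C) = z
  z_ne : z ≠ 1
  z_sq : z * z = 1
  central : ∀ c, c * z = z * c
  act : ∀ c x, (φ (ρ c x) : C) = c * φ x * c⁻¹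
  ker : ∀ c, ρ c = 1 ↔ c = 1 ∨ c = z
  index : ρ.range.index = 1 ∨ ρ.range.index = 2

section

variable {C : Type*} [Group C] {Q : Subgroup C} {z : C} {B : ℕ → ℕ} {n : ℕ} {φ : XG B n ≃* Q}
  {ρ : C →* MulAut (XG B n)}

theorem Pin.rho_z (P : Pin Q z φ ρ) : ρ z = 1 := (P.ker z).mpr (Or.inr rfl)

/-- Squares are in the image. -/
theorem Pin.sq_mem (P : Pin Q z φ ρ) (α : MulAut (XG B n)) : α * α ∈ ρ.range := by
  rcases P.index with h | h
  · rw [Subgroup.index_eq_one.mp h]; exact Subgroup.mem_top _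
  · exact Subgroup.mul_self_mem_of_index_two h α

/-- The product of two automorphisms outside the image is in the image. -/
theorem Pin.mul_mem (P : Pin Q z φ ρ) {α β : MulAut (XG B n)} (hα : α ∉ ρ.range)
    (hβ : β ∉ ρ.range) : α * β ∈ ρ.range := by
  rcases P.index with h | h
  · rw [Subgroup.index_eq_one.mp h]; exact Subgroup.mem_top _
  · exact (Subgroup.mul_mem_iff_of_index_two h).mpr (iff_of_false hα hβ)

theorem Pin.odd_mem (P : Pin Q z φ ρ) {α : MulAut (XG B n)} {k : ℕ} (hk : Odd k)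
    (hα : α ^ k = 1) : α ∈ ρ.range := by
  obtain ⟨m, rfl⟩ := hk
  have h1 : α = ((α * α) ^ m)⁻¹ := by
    rw [eq_inv_iff_mul_eq_one, ← sq, ← pow_mul, ← pow_succ']
    exact hα
  rw [h1]
  exact Subgroup.inv_mem _ (Subgroup.pow_mem _ (P.sq_mem α) m)

/-- An element is determined by its action up to `z`. -/
theorem Pin.eq_or (P : Pin Q z φ ρ) {a b : C} (h : ρ a = ρ b) : a = b ∨ a = z * b := by
  have h1 : ρ (a * b⁻¹) = 1 := by rw [map_mul, map_inv, h, mul_inv_cancel]
  rcases (P.ker _).mp h1 with h2 | h2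
  · left; exact mul_inv_eq_one.mp h2
  · right; exact mul_inv_eq_iff_eq_mul.mp h2

theorem Pin.z_mul_pow_odd (P : Pin Q z φ ρ) (b : C) {k : ℕ} (hk : Odd k) :
    (z * b) ^ k = z * b ^ k := by
  have hc : Commute z b := (P.central b).symm
  rw [hc.mul_pow]
  obtain ⟨m, rfl⟩ := hk
  rw [pow_succ, pow_mul, sq, P.z_sq, one_pow, one_mul]

/-- An automorphism of odd order is induced by a unique element of the same odd order. -/
theorem Pin.exists_odd (P : Pin Q z φ ρ) {α : MulAut (XG B n)} {k : ℕ} (hk : Odd k)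
    (hα : α ^ k = 1) : ∃ c : C, c ^ k = 1 ∧ ρ c = α := by
  obtain ⟨c, hc⟩ := P.odd_mem hk hα
  have h1 : ρ (c ^ k) = 1 := by rw [map_pow, hc, hα]
  rcases (P.ker _).mp h1 with h2 | h2
  · exact ⟨c, h2, hc⟩
  · refine ⟨z * c, ?_, ?_⟩
    · rw [P.z_mul_pow_odd c hk, h2, P.z_sq]
    · rw [map_mul, P.rho_z, one_mul, hc]

theorem Pin.eq_of_odd (P : Pin Q z φ ρ) {a b : C} {k : ℕ} (hk : Odd k) (ha : a ^ k = 1)
    (hb : b ^ k = 1) (h : ρ a = ρ b) : a = b := by
  rcases P.eq_or h with h1 | h1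
  · exact h1
  · exfalso
    rw [h1, P.z_mul_pow_odd b hk, hb, mul_one] at ha
    exact P.z_ne ha

/-- Two elements, one of them of odd order, commute when their actions commute. -/
theorem Pin.comm_of_odd (P : Pin Q z φ ρ) {a b : C} {k : ℕ} (hk : Odd k) (ha : a ^ k = 1)
    (h : ρ a * ρ b = ρ b * ρ a) : a * b = b * a := by
  have h1 : b * a * b⁻¹ = a := by
    apply P.eq_of_odd hk _ ha
    · rw [map_mul, map_mul, map_inv, ← h, mul_inv_cancel_right]
    · rw [conj_pow, ha, mul_one, mul_inv_cancel]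
  rw [mul_inv_eq_iff_eq_mul] at h1
  exact h1.symm

theorem Pin.mem_of_inner (P : Pin Q z φ ρ) {c : C} {x : XG B n} (h : ρ c = MulAut.conj x) :
    c = φ x ∨ c = φ (Model.zz * x) := by
  have h1 : ρ (φ x : C) = MulAut.conj x := by
    apply MulEquiv.ext
    intro g
    apply φ.injective
    apply Subtype.ext
    rw [P.act, MulAut.conj_apply, map_mul, map_mul, map_inv]
    rfl
  rcases P.eq_or (h.trans h1.symm) with h2 | h2
  · exact Or.inl h2
  · right
    rw [map_mul, h2, Subgroup.coe_mul, P.zz]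

theorem Pin.rho_phi (P : Pin Q z φ ρ) (x : XG B n) : ρ (φ x : C) = MulAut.conj x := by
  apply MulEquiv.ext
  intro g
  apply φ.injective
  apply Subtype.ext
  rw [P.act, MulAut.conj_apply, map_mul, map_mul, map_inv]
  rfl

theorem Pin.mem_Q_iff (P : Pin Q z φ ρ) (c : C) : c ∈ Q ↔ ∃ x, ρ c = MulAut.conj x := by
  constructor
  · intro hc
    refine ⟨φ.symm ⟨c, hc⟩, ?_⟩
    rw [← P.rho_phi, MulEquiv.apply_symm_apply]
  · rintro ⟨x, hx⟩
    rcases P.mem_of_inner hx with h | h <;> rw [h] <;> exact Subtype.property _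

end

/-! ### Construction -/

section

variable {C : Type*} [Group C]

/-- The conjugation action in coordinates. -/
noncomputable def rho (Q : Subgroup C) [Q.Normal] {B : ℕ → ℕ} {n : ℕ} (φ : XG B n ≃* Q) :
    C →* MulAut (XG B n) :=
  (MulAut.congr φ.symm).toMonoidHom.comp MulAut.conjNormal

theorem rho_apply (Q : Subgroup C) [Q.Normal] {B : ℕ → ℕ} {n : ℕ} (φ : XG B n ≃* Q) (c : C)
    (x : XG B n) : (φ (rho Q φ c x) : C) = c * φ x * c⁻¹ := by
  show ((φ (φ.symm (MulAut.conjNormal c (φ.symm.symm x))) : Q) : C) = _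
  rw [MulEquiv.apply_symm_apply, MulAut.conjNormal_apply]
  rfl

variable [Finite C]

omit [Finite C] in
theorem phi_zz (Q : Subgroup C) [Q.Normal] (z : C) (hz : ∀ c, c * z = z * c) (hz1 : z ≠ 1)
    (hzQ : z ∈ Q) {B : ℕ → ℕ} {n : ℕ} (hN : Nondeg B n) (φ : XG B n ≃* Q) :
    (φ Model.zz : C) = z := by
  have hcz : ∀ x : XG B n, (∀ g, x * g = g * x) → x = 1 ∨ x = Model.zz := fun x hx =>
    (Model.mem_center_iff hN x).mp (Subgroup.mem_center_iff.mpr fun g => (hx g).symm)
  have h1 : φ.symm ⟨z, hzQ⟩ = 1 ∨ φ.symm ⟨z, hzQ⟩ = Model.zz := by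
    apply hcz
    intro g
    apply φ.injective
    apply Subtype.ext
    rw [map_mul, map_mul, MulEquiv.apply_symm_apply]
    exact (hz _).symm
  rcases h1 with h1 | h1
  · exfalso
    rw [MulEquiv.symm_apply_eq, map_one] at h1
    exact hz1 (congrArg Subtype.val h1)
  · rw [← h1, MulEquiv.apply_symm_apply]

omit [Finite C] in
theorem rho_eq_one_iff (Q : Subgroup C) [Q.Normal] (z : C) (hz : ∀ c, c * z = z * c) (hz1 : z ≠ 1)
    (hzQ : z ∈ Q) (hself : Subgroup.centralizer (Q : Set C) ≤ Q) {B : ℕ → ℕ} {n : ℕ}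
    (hN : Nondeg B n) (φ : XG B n ≃* Q) (c : C) : rho Q φ c = 1 ↔ c = 1 ∨ c = z := by
  have hcz : ∀ x : XG B n, (∀ g, x * g = g * x) → x = 1 ∨ x = Model.zz := fun x hx =>
    (Model.mem_center_iff hN x).mp (Subgroup.mem_center_iff.mpr fun g => (hx g).symm)
  have hzz := phi_zz Q z hz hz1 hzQ hN φ
  constructor
  · intro h
    have hc : c ∈ Subgroup.centralizer (Q : Set C) := by
      rw [Subgroup.mem_centralizer_iff]
      intro g hg
      have h1 := rho_apply Q φ c (φ.symm ⟨g, hg⟩)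
      rw [h] at h1
      simp only [MulAut.one_apply, MulEquiv.apply_symm_apply] at h1
      rw [eq_mul_inv_iff_mul_eq] at h1
      exact h1
    have hcQ := hself hc
    have h1 : φ.symm ⟨c, hcQ⟩ = 1 ∨ φ.symm ⟨c, hcQ⟩ = Model.zz := by
      apply hcz
      intro g
      apply φ.injective
      apply Subtype.ext
      rw [map_mul, map_mul, MulEquiv.apply_symm_apply]
      exact (Subgroup.mem_centralizer_iff.mp hc _ (φ g).2).symm
    rcases h1 with h1 | h1
    · left
      rw [MulEquiv.symm_apply_eq, map_one] at h1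
      exact congrArg Subtype.val h1
    · right
      rw [← hzz, ← h1, MulEquiv.apply_symm_apply]
  · rintro (rfl | rfl)
    · exact map_one _
    · apply MulEquiv.ext
      intro g
      apply φ.injective
      apply Subtype.ext
      rw [rho_apply, ← hz, mul_inv_cancel_right]
      rfl

omit [Finite C] in
theorem card_range_mul_two (Q : Subgroup C) [Q.Normal] (z : C) (hz : ∀ c, c * z = z * c)
    (hz1 : z ≠ 1) (hzQ : z ∈ Q) (hself : Subgroup.centralizer (Q : Set C) ≤ Q) {B : ℕ → ℕ} {n : ℕ}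
    (hN : Nondeg B n) (φ : XG B n ≃* Q) : Nat.card (rho Q φ).range * 2 = Nat.card C := by
  have h1 : Nat.card (rho Q φ).ker = 2 := by
    have : ((rho Q φ).ker : Set C) = {1, z} := by
      ext c
      simp only [SetLike.mem_coe, MonoidHom.mem_ker, rho_eq_one_iff Q z hz hz1 hzQ hself hN φ,
        Set.mem_insert_iff, Set.mem_singleton_iff]
    have h2 : Nat.card (rho Q φ).ker = Set.ncard ((rho Q φ).ker : Set C) := rfl
    rw [h2, this, Set.ncard_pair (Ne.symm hz1)]
  have h3 := (rho Q φ).ker.card_mul_index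
  rw [h1, Subgroup.index_ker] at h3
  rw [mul_comm]; exact h3

theorem exists_pin (Q : Subgroup C) [Q.Normal] (z : C) (hz : ∀ c, c * z = z * c) (hz1 : z ≠ 1)
    (hzQ : z ∈ Q) (hself : Subgroup.centralizer (Q : Set C) ≤ Q) {B : ℕ → ℕ} {n : ℕ}
    (hN : Nondeg B n) (φ : XG B n ≃* Q) (hcard : Nat.card (MulAut Q) ≤ Nat.card C) :
    Pin Q z φ (rho Q φ) := by
  have hzz := phi_zz Q z hz hz1 hzQ hN φ
  have hzsq : z * z = 1 := by
    rw [← hzz, ← Subgroup.coe_mul, ← map_mul, Model.zz_mul_zz, map_one]; rfl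
  refine ⟨hzz, hz1, hzsq, hz, rho_apply Q φ, rho_eq_one_iff Q z hz hz1 hzQ hself hN φ, ?_⟩
  -- the index
  have hfin : Finite (MulAut (XG B n)) := finite_mulAut
  have h2 := card_range_mul_two Q z hz hz1 hzQ hself hN φ
  have h3 : Nat.card (MulAut (XG B n)) = Nat.card (MulAut Q) := card_mulAut_congr φ
  have h4 := (rho Q φ).range.card_mul_index
  rw [h3] at h4
  have h5 : 0 < Nat.card (rho Q φ).range := Nat.card_pos
  have h6 : (rho Q φ).range.index ≠ 0 := Subgroup.index_ne_zero_of_finite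
  have h7 : (rho Q φ).range.index ≤ 2 := by
    have h8 : Nat.card (rho Q φ).range * (rho Q φ).range.index ≤ Nat.card (rho Q φ).range * 2 := by
      rw [h4, h2]; exact hcard
    exact Nat.le_of_mul_le_mul_left h8 h5
  omega

/-- Exclusion of a type by a prime. -/
theorem exclude (Q : Subgroup C) [Q.Normal] (z : C) (hz : ∀ c, c * z = z * c) (hz1 : z ≠ 1)
    (hzQ : z ∈ Q) (hself : Subgroup.centralizer (Q : Set C) ≤ Q) {B : ℕ → ℕ} {n : ℕ}
    (hN : Nondeg B n) (φ : XG B n ≃* Q) {m : ℕ} (hm : Nat.card C = m * 2)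
    (hle : Nat.card (MulAut (XG B n)) < m * 3) {p : ℕ} (hp : p ∣ Nat.card (MulAut (XG B n)))
    (h1 : ¬ p ∣ m * 1) (h2 : ¬ p ∣ m * 2) : False := by
  have hfin : Finite (MulAut (XG B n)) := finite_mulAut
  have h3 := card_range_mul_two Q z hz hz1 hzQ hself hN φ
  rw [hm] at h3
  have h4 : Nat.card (rho Q φ).range = m := Nat.eq_of_mul_eq_mul_right (by norm_num) h3
  have h5 := (rho Q φ).range.card_mul_index
  rw [h4] at h5
  have h6 : (rho Q φ).range.index ≠ 0 := Subgroup.index_ne_zero_of_finite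
  rw [← h5] at hle hp
  have h7 : (rho Q φ).range.index < 3 := lt_of_mul_lt_mul_left hle (Nat.zero_le m)
  have h8 : (rho Q φ).range.index = 1 ∨ (rho Q φ).range.index = 2 := by omega
  rcases h8 with h9 | h9 <;> rw [h9] at hp
  · exact h1 hp
  · exact h2 hp

end

/-! ### The two types -/

section

variable {C : Type*} [Group C] [Finite C]

/-- `2₋^(1+6).Ω⁻(6,2)`: any minus type coordinates are available. -/
theorem exists_pin_minus_six (Q : Subgroup C) [Q.Normal] (z : C) (hz : ∀ c, c * z = z * c)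
    (hz1 : z ≠ 1) (hzQ : z ∈ Q) (hself : Subgroup.centralizer (Q : Set C) ≤ Q)
    (hQ : CentralTwo Q) (hcQ : Nat.card Q = 2 ^ 7) (hcC : Nat.card C = 3317760)
    {B : ℕ → ℕ} (hN : Nondeg B 6) (hs : sqOne (XG B 6) = 56) :
    sqOne Q = 56 ∧ ∃ φ : XG B 6 ≃* Q, Pin Q z φ (rho Q φ) := by
  have hcE : Nat.card (XG B 6) = 2 ^ (2 * 3 + 1) := card_XG
  have hcP : Nat.card (XG rP6 6) = 2 ^ (2 * 3 + 1) := card_XG
  have hcQ' : Nat.card Q = 2 ^ (2 * 3 + 1) := hcQ
  rcases iso_or hQ (centralTwo hN) ct_P6 hcQ' hcE hcP (by rw [hs, sq_P6]; decide) with ⟨⟨e⟩⟩ | ⟨⟨e⟩⟩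
  · have hsQ : sqOne Q = 56 := (sqOne_congr e).trans hs
    refine ⟨hsQ, e.symm, exists_pin Q z hz hz1 hzQ hself hN e.symm ?_⟩
    have := card_mulAut_le_AB 3 hQ hcQ'
    rw [hsQ, AB_3_56] at this
    rw [hcC]; exact this
  · exfalso
    have hsQ : sqOne Q = 72 := (sqOne_congr e).trans sq_P6
    have hle := card_mulAut_le_AB 3 hQ hcQ'
    rw [hsQ, AB_3_72, card_mulAut_congr e] at hle
    exact exclude Q z hz hz1 hzQ hself nd_P6 e.symm (m := 1658880) hcC (lt_of_le_of_lt hle (by norm_num))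
      seven_dvd (by norm_num) (by norm_num)

/-- `2₊^(1+8).Ω⁺(8,2)`: any plus type coordinates are available. -/
theorem exists_pin_plus_eight (Q : Subgroup C) [Q.Normal] (z : C) (hz : ∀ c, c * z = z * c)
    (hz1 : z ≠ 1) (hzQ : z ∈ Q) (hself : Subgroup.centralizer (Q : Set C) ≤ Q)
    (hQ : CentralTwo Q) (hcQ : Nat.card Q = 2 ^ 9) (hcC : Nat.card C = 89181388800)
    {B : ℕ → ℕ} (hN : Nondeg B 8) (hs : sqOne (XG B 8) = 272) :
    sqOne Q = 272 ∧ ∃ φ : XG B 8 ≃* Q, Pin Q z φ (rho Q φ) := by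
  have hcE : Nat.card (XG B 8) = 2 ^ (2 * 4 + 1) := card_XG
  have hcM : Nat.card (XG rM8 8) = 2 ^ (2 * 4 + 1) := card_XG
  have hcQ' : Nat.card Q = 2 ^ (2 * 4 + 1) := hcQ
  rcases iso_or hQ (centralTwo hN) ct_M8 hcQ' hcE hcM (by rw [hs, sq_M8]; decide) with ⟨⟨e⟩⟩ | ⟨⟨e⟩⟩
  · have hsQ : sqOne Q = 272 := (sqOne_congr e).trans hs
    refine ⟨hsQ, e.symm, exists_pin Q z hz hz1 hzQ hself hN e.symm ?_⟩
    have := card_mulAut_le_AB 4 hQ hcQ'
    rw [hsQ, AB_4_272] at this
    rw [hcC]; exact this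
  · exfalso
    have hsQ : sqOne Q = 240 := (sqOne_congr e).trans sq_M8
    have hle := card_mulAut_le_AB 4 hQ hcQ'
    rw [hsQ, AB_4_240] at hle
    rw [card_mulAut_congr e] at hle
    exact exclude Q z hz hz1 hzQ hself nd_M8 e.symm (m := 44590694400) hcC
      (lt_of_le_of_lt hle (by norm_num)) seventeen_dvd (by norm_num) (by norm_num)

end

end Cfsg.Agent.LargeExtra.Lift
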