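import Mathlib
import Cfsg.Agent.LargeExtra.Lift
import Cfsg.Agent.ClassificationK.LargeSymplectic

/-!
# Coordinates of a large extraspecial subgroup, at the level of the ambient group

`GPin Q z φ`: `φ : XG B n ≃* Q` are coordinates of the subgroup `Q` of `G`, `C(z)` acts on `Q` with kernel
`⟨z⟩` and induces a group of index at most two of automorphisms.
-/

set_option autoImplicit false

namespace Cfsg.Agent.LargeExtra.GPin

open Cfsg.Agent.LargeExtra.Model Cfsg.Agent.LargeExtra.Pres Cfsg.Agent.LargeExtra.Models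
open Cfsg.Agent.LargeExtra.Lift
open Cfsg.Agent.ClassificationK.LargeSymplectic

variable {G : Type*} [Group G] {Q : Subgroup G} {z : G} {B : ℕ → ℕ} {n : ℕ}

/-- `c` induces the automorphism `α` in the coordinates `φ`. -/
def Ind (φ : XG B n ≃* Q) (c : G) (α : MulAut (XG B n)) : Prop :=
  ∀ x, c * φ x * c⁻¹ = φ (α x)

variable {φ : XG B n ≃* Q}

theorem Ind.mul {c d : G} {α β : MulAut (XG B n)} (h : Ind φ c α) (h' : Ind φ d β) :
    Ind φ (c * d) (α * β) := by
  intro x
  calc c * d * φ x * (c * d)⁻¹ = c * (d * φ x * d⁻¹) * c⁻¹ := by group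
    _ = φ ((α * β) x) := by rw [h', h]; rfl

theorem Ind.one : Ind φ (1 : G) (1 : MulAut (XG B n)) := by
  intro x; simp

theorem Ind.inv {c : G} {α : MulAut (XG B n)} (h : Ind φ c α) : Ind φ c⁻¹ α⁻¹ := by
  intro x
  have h1 := h (α⁻¹ x)
  rw [MulAut.apply_inv_self] at h1
  rw [← h1]; group

theorem Ind.unique {c : G} {α β : MulAut (XG B n)} (h : Ind φ c α) (h' : Ind φ c β) : α = β := by
  apply MulEquiv.ext
  intro x
  apply φ.injective
  apply Subtype.ext
  rw [← h, ← h']

theorem Ind.pow {c : G} {α : MulAut (XG B n)} (h : Ind φ c α) (k : ℕ) : Ind φ (c ^ k) (α ^ k) := by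
  induction k with
  | zero => simpa using (Ind.one (φ := φ))
  | succ k ih => rw [pow_succ, pow_succ]; exact ih.mul h

/-- Coordinates and action. -/
structure _root_.Cfsg.Agent.LargeExtra.GPin (Q : Subgroup G) (z : G) (φ : XG B n ≃* Q) : Prop where
  zz : (φ Model.zz : G) = z
  z_ne : z ≠ 1
  ind : ∀ c, c * z = z * c → ∃ α, Ind φ c α
  ker : ∀ c, c * z = z * c → Ind φ c 1 → c = 1 ∨ c = z
  prod : ∀ α β, (∀ c, c * z = z * c → ¬ Ind φ c α) → (∀ c, c * z = z * c → ¬ Ind φ c β) →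
    ∃ c, c * z = z * c ∧ Ind φ c (α * β)

theorem z_sq (P : GPin Q z φ) : z * z = 1 := by
  rw [← P.zz, ← Subgroup.coe_mul, ← map_mul, Model.zz_mul_zz, map_one]; rfl

theorem z_inv (P : GPin Q z φ) : z⁻¹ = z := inv_eq_of_mul_eq_one_left (z_sq P)

theorem mem_z (P : GPin Q z φ) : z ∈ Q := by rw [← P.zz]; exact Subtype.property _

theorem comm_z (P : GPin Q z φ) {x : G} (hx : x ∈ Q) : x * z = z * x := by
  have h1 := Model.zz_comm (φ.symm ⟨x, hx⟩)
  have h2 := congrArg (fun t => (φ t : G)) h1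
  simpa [map_mul, P.zz] using h2

theorem phi_comm_z (P : GPin Q z φ) (x : XG B n) : (φ x : G) * z = z * φ x :=
  comm_z P (Subtype.property _)

theorem exists_phi (φ : XG B n ≃* Q) {x : G} (hx : x ∈ Q) : ∃ a, (φ a : G) = x :=
  ⟨φ.symm ⟨x, hx⟩, by rw [MulEquiv.apply_symm_apply]⟩

theorem phi_inj {a b : XG B n} : (φ a : G) = φ b ↔ a = b :=
  ⟨fun h => φ.injective (Subtype.ext h), fun h => by rw [h]⟩

theorem phi_mul (a b : XG B n) : ((φ (a * b) : Q) : G) = φ a * φ b := by rw [map_mul]; rfl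

theorem phi_inv (a : XG B n) : ((φ a⁻¹ : Q) : G) = (φ a : G)⁻¹ := by rw [map_inv]; rfl

theorem phi_one : ((φ (1 : XG B n) : Q) : G) = 1 := by rw [map_one]; rfl

theorem norm (P : GPin Q z φ) {c : G} (hc : c * z = z * c) {x : G} (hx : x ∈ Q) :
    c * x * c⁻¹ ∈ Q := by
  obtain ⟨α, hα⟩ := P.ind c hc
  obtain ⟨a, rfl⟩ := exists_phi φ hx
  rw [hα]; exact Subtype.property _

theorem ind_inner (x : XG B n) : Ind φ (φ x : G) (MulAut.conj x) := by
  intro g
  rw [MulAut.conj_apply, phi_mul, phi_mul, phi_inv]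

/-- The group of induced automorphisms. -/
def Rg (_ : GPin Q z φ) : Subgroup (MulAut (XG B n)) where
  carrier := {α | ∃ c, c * z = z * c ∧ Ind φ c α}
  one_mem' := ⟨1, by simp, Ind.one⟩
  mul_mem' := by
    rintro α β ⟨c, hc, h⟩ ⟨d, hd, h'⟩
    exact ⟨c * d, by rw [mul_assoc, hd, ← mul_assoc, hc, mul_assoc], h.mul h'⟩
  inv_mem' := by
    rintro α ⟨c, hc, h⟩
    exact ⟨c⁻¹, by rw [inv_mul_eq_iff_eq_mul, ← mul_assoc, hc, mul_assoc, mul_inv_cancel, mul_one], h.inv⟩

theorem mem_Rg (P : GPin Q z φ) {α : MulAut (XG B n)} :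
    α ∈ Rg P ↔ ∃ c, c * z = z * c ∧ Ind φ c α := Iff.rfl

theorem Rg_mul (P : GPin Q z φ) {α β : MulAut (XG B n)} (hα : α ∉ Rg P) (hβ : β ∉ Rg P) :
    α * β ∈ Rg P :=
  P.prod α β (fun c hc h => hα ⟨c, hc, h⟩) (fun c hc h => hβ ⟨c, hc, h⟩)

theorem sq_mem (P : GPin Q z φ) (α : MulAut (XG B n)) : α * α ∈ Rg P := by
  by_cases h : α ∈ Rg P
  · exact mul_mem h h
  · exact Rg_mul P h h

theorem odd_mem (P : GPin Q z φ) {α : MulAut (XG B n)} {k : ℕ} (hk : Odd k) (hα : α ^ k = 1) :
    α ∈ Rg P := by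
  obtain ⟨m, rfl⟩ := hk
  have h1 : α = ((α * α) ^ m)⁻¹ := by
    rw [eq_inv_iff_mul_eq_one, ← sq, ← pow_mul, ← pow_succ']
    exact hα
  rw [h1]
  exact Subgroup.inv_mem _ (Subgroup.pow_mem _ (sq_mem P α) m)

/-- Conjugates of elements of `Rg` are in `Rg`. -/
theorem conj_mem (P : GPin Q z φ) {α : MulAut (XG B n)} (hα : α ∈ Rg P) (β : MulAut (XG B n)) :
    β * α * β⁻¹ ∈ Rg P := by
  by_cases hβ : β ∈ Rg P
  · exact mul_mem (mul_mem hβ hα) (inv_mem hβ)
  · have h1 : β * α ∉ Rg P := fun h => hβ (by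
      have := mul_mem h (inv_mem hα); rwa [mul_inv_cancel_right] at this)
    exact Rg_mul P h1 (fun h => hβ (by simpa using inv_mem h))

/-- Conjugate automorphisms have product in `Rg`. -/
theorem mul_conj_mem (P : GPin Q z φ) (α β : MulAut (XG B n)) :
    α * (β * α * β⁻¹) ∈ Rg P := by
  by_cases hα : α ∈ Rg P
  · exact mul_mem hα (conj_mem P hα β)
  · refine Rg_mul P hα (fun h => hα ?_)
    have h1 := conj_mem P h β⁻¹
    have h2 : β⁻¹ * (β * α * β⁻¹) * β⁻¹⁻¹ = α := by group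
    rwa [h2] at h1

/-- An element is determined by its action up to `z`. -/
theorem eq_or (P : GPin Q z φ) {a b : G} (ha : a * z = z * a) (hb : b * z = z * b)
    {α : MulAut (XG B n)} (h : Ind φ a α) (h' : Ind φ b α) : a = b ∨ a = z * b := by
  have hb' : b⁻¹ * z = z * b⁻¹ := by
    rw [inv_mul_eq_iff_eq_mul, ← mul_assoc, hb, mul_assoc, mul_inv_cancel, mul_one]
  have h1 : Ind φ (a * b⁻¹) 1 := by
    have := h.mul h'.inv
    rwa [mul_inv_cancel] at this
  rcases P.ker _ (by rw [mul_assoc, hb', ← mul_assoc, ha, mul_assoc]) h1 with h2 | h2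
  · left; exact mul_inv_eq_one.mp h2
  · right; exact mul_inv_eq_iff_eq_mul.mp h2

theorem z_mul_pow_odd (P : GPin Q z φ) {b : G} (hb : b * z = z * b) {k : ℕ} (hk : Odd k) :
    (z * b) ^ k = z * b ^ k := by
  have hc : Commute z b := hb.symm
  rw [hc.mul_pow]
  obtain ⟨m, rfl⟩ := hk
  rw [pow_succ, pow_mul, sq, z_sq P, one_pow, one_mul]

/-- An automorphism of odd order is induced by an element of the same odd order. -/
theorem exists_odd (P : GPin Q z φ) {α : MulAut (XG B n)} {k : ℕ} (hk : Odd k)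
    (hα : α ^ k = 1) : ∃ c : G, c * z = z * c ∧ c ^ k = 1 ∧ Ind φ c α := by
  obtain ⟨c, hcz, hc⟩ := odd_mem P hk hα
  have hzc : (c ^ k) * z = z * c ^ k := (Commute.pow_left (show Commute c z from hcz) k)
  have h1 : Ind φ (c ^ k) 1 := by rw [← hα]; exact hc.pow k
  rcases P.ker _ hzc h1 with h2 | h2
  · exact ⟨c, hcz, h2, hc⟩
  · refine ⟨z * c, ?_, ?_, ?_⟩
    · rw [mul_assoc, hcz]
    · rw [z_mul_pow_odd P hcz hk, h2, z_sq P]
    · intro x
      rw [← hc x]
      have hx := comm_z P (norm P hcz (Subtype.property (φ x)))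
      calc z * c * (φ x : G) * (z * c)⁻¹ = z * (c * φ x * c⁻¹) * z⁻¹ := by group
        _ = (c * φ x * c⁻¹) * z * z⁻¹ := by rw [hx]
        _ = c * φ x * c⁻¹ := by rw [mul_inv_cancel_right]

theorem eq_of_odd (P : GPin Q z φ) {a b : G} (haz : a * z = z * a) (hbz : b * z = z * b) {k : ℕ}
    (hk : Odd k) (ha : a ^ k = 1) (hb : b ^ k = 1) {α : MulAut (XG B n)} (h : Ind φ a α)
    (h' : Ind φ b α) : a = b := by
  rcases eq_or P haz hbz h h' with h1 | h1
  · exact h1
  · exfalso
    rw [h1, z_mul_pow_odd P hbz hk, hb, mul_one] at ha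
    exact P.z_ne ha

/-- Change of coordinates. -/
theorem trans (P : GPin Q z φ) (hN : Nondeg B n) (β : MulAut (XG B n)) :
    GPin Q z (MulEquiv.trans β φ) := by
  have hI : ∀ c α, Ind (MulEquiv.trans β φ) c α ↔ Ind φ c (β * α * β⁻¹) := by
    intro c α
    constructor
    · intro h x
      have h1 := h (β⁻¹ x)
      simp only [MulEquiv.coe_trans, Function.comp_apply, MulAut.apply_inv_self] at h1
      rw [h1]; rfl
    · intro h x
      have h1 := h (β x)
      simp only [MulAut.mul_apply, MulAut.inv_apply_self] at h1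
      exact h1
  refine ⟨?_, P.z_ne, ?_, ?_, ?_⟩
  · show (φ (β Model.zz) : G) = z
    rw [aut_zz hN, P.zz]
  · intro c hc
    obtain ⟨α, hα⟩ := P.ind c hc
    refine ⟨β⁻¹ * α * β, (hI _ _).mpr ?_⟩
    have : β * (β⁻¹ * α * β) * β⁻¹ = α := by group
    rwa [this]
  · intro c hc h
    apply P.ker c hc
    have := (hI _ _).mp h
    rwa [mul_one, mul_inv_cancel] at this
  · intro α γ h1 h2
    obtain ⟨c, hc, h3⟩ := P.prod (β * α * β⁻¹) (β * γ * β⁻¹)
      (fun c hc h => h1 c hc ((hI _ _).mpr h)) (fun c hc h => h2 c hc ((hI _ _).mpr h))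
    refine ⟨c, hc, (hI _ _).mpr ?_⟩
    have : β * (α * γ) * β⁻¹ = β * α * β⁻¹ * (β * γ * β⁻¹) := by group
    rwa [this]

/-- From the centralizer to the ambient group. -/
theorem of_pin {Q' : Subgroup (Subgroup.centralizer ({z} : Set G))} [Q'.Normal]
    (hzC : z ∈ Subgroup.centralizer ({z} : Set G))
    {φ' : XG B n ≃* Q'} (P : Pin Q' ⟨z, hzC⟩ φ' (rho Q' φ')) :
    GPin (Q'.map (Subgroup.centralizer ({z} : Set G)).subtype) z
      (φ'.trans (Q'.equivMapOfInjective _ (Subgroup.subtype_injective _))) := by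
  have hval : ∀ x, ((φ'.trans (Q'.equivMapOfInjective
      (Subgroup.centralizer ({z} : Set G)).subtype (Subgroup.subtype_injective _)) x :
      Q'.map (Subgroup.centralizer ({z} : Set G)).subtype) : G) = ((φ' x : Q') : _) := fun x => rfl
  have hI : ∀ (c : G) (hc : c ∈ Subgroup.centralizer ({z} : Set G)) α,
      Ind (φ'.trans (Q'.equivMapOfInjective _ (Subgroup.subtype_injective _))) c α ↔
        rho Q' φ' ⟨c, hc⟩ = α := by
    intro c hc α
    constructor
    · intro h
      apply MulEquiv.ext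
      intro x
      apply φ'.injective
      apply Subtype.ext
      rw [P.act]
      apply Subtype.ext
      have h1 := h x
      rw [hval, hval] at h1
      exact h1
    · rintro rfl x
      rw [hval, hval, P.act]
      rfl
  have hmem : ∀ c : G, c * z = z * c → c ∈ Subgroup.centralizer ({z} : Set G) := fun c hc =>
    Subgroup.mem_centralizer_singleton_iff.mpr hc
  refine ⟨?_, ?_, ?_, ?_, ?_⟩
  · rw [hval, P.zz]
  · intro h
    exact P.z_ne (Subtype.ext h)
  · intro c hc
    exact ⟨_, (hI c (hmem c hc) _).mpr rfl⟩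
  · intro c hc h
    rcases (P.ker _).mp ((hI c (hmem c hc) _).mp h) with h1 | h1
    · left; exact congrArg Subtype.val h1
    · right; exact congrArg Subtype.val h1
  · intro α β h1 h2
    have h3 : α ∉ (rho Q' φ').range := by
      rintro ⟨c, hc⟩
      exact h1 c (Subgroup.mem_centralizer_singleton_iff.mp c.2) ((hI c c.2 _).mpr hc)
    have h4 : β ∉ (rho Q' φ').range := by
      rintro ⟨c, hc⟩
      exact h2 c (Subgroup.mem_centralizer_singleton_iff.mp c.2) ((hI c c.2 _).mpr hc)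
    obtain ⟨c, hc⟩ := P.mul_mem h3 h4
    exact ⟨c, Subgroup.mem_centralizer_singleton_iff.mp c.2, (hI c c.2 _).mpr hc⟩

/-- `Data Q z` in the sense of `LargeSymplectic`. -/
theorem data (P : GPin Q z φ) (hN : Nondeg B n) : Data Q z where
  sqz := z_sq P
  norm c hc x hx := norm P hc hx
  cent c hc := by
    have hcz : c * z = z * c := by
      have := hc z (mem_z P)
      rw [mul_inv_eq_iff_eq_mul] at this
      exact this.symm
    have h1 : Ind φ c 1 := by
      intro x
      have := hc _ (Subtype.property (φ x))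
      rw [mul_inv_eq_iff_eq_mul] at this
      rw [← this, mul_inv_cancel_right]; rfl
    rcases P.ker c hcz h1 with rfl | rfl
    · exact one_mem _
    · exact mem_z P
  mem := mem_z P
  com x hx := comm_z P hx
  comm x hx y hy := by
    obtain ⟨a, rfl⟩ := exists_phi φ hx
    obtain ⟨b, rfl⟩ := exists_phi φ hy
    rcases comm_or a b with h | h
    · left
      rw [mul_inv_eq_iff_eq_mul, ← phi_mul, ← phi_mul, h]
    · right
      rw [mul_inv_eq_iff_eq_mul, mul_assoc, ← phi_mul, ← phi_mul, ← P.zz, ← phi_mul, h]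
  sq x hx := by
    obtain ⟨a, rfl⟩ := exists_phi φ hx
    rcases mul_self_mem a with h | h
    · left; rw [← phi_mul, h, phi_one]
    · right; rw [← phi_mul, h, P.zz]
  cen x hx h _ := by
    obtain ⟨a, rfl⟩ := exists_phi φ hx
    have : a ∈ Subgroup.center (XG B n) := by
      rw [Subgroup.mem_center_iff]
      intro g
      have h1 := h _ (Subtype.property (φ g))
      rw [mul_inv_eq_iff_eq_mul, ← phi_mul, ← phi_mul, phi_inj] at h1
      exact h1
    rcases (mem_center_iff hN a).mp this with rfl | rfl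
    · left; exact phi_one
    · right; exact P.zz

/-- The centre of `Q`. -/
theorem center (P : GPin Q z φ) (hN : Nondeg B n) {x : G} (hx : x ∈ Q)
    (h : ∀ y ∈ Q, y * x * y⁻¹ = x) : x = 1 ∨ x = z := by
  obtain ⟨a, rfl⟩ := exists_phi φ hx
  have : a ∈ Subgroup.center (XG B n) := by
    rw [Subgroup.mem_center_iff]
    intro g
    have h1 := h _ (Subtype.property (φ g))
    rw [mul_inv_eq_iff_eq_mul, ← phi_mul, ← phi_mul, phi_inj] at h1
    exact h1
  rcases (mem_center_iff hN a).mp this with rfl | rfl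
  · left; exact phi_one
  · right; exact P.zz

/-! ### Words in explicit automorphisms -/

/-- Apply the automorphisms with images `gens`, along a word. -/
def run (B : ℕ → ℕ) (n : ℕ) (gens : List (List (ℕ × Bool))) : List ℕ → XG B n → XG B n
  | [], x => x
  | k :: w, x => run B n gens w (match gens[k]? with
    | some l => app (imgs B n l) x
    | none => x)

theorem run_spec {gens : List (List (ℕ × Bool))} (H : Subgroup (MulAut (XG B n)))
    (hg : ∀ l ∈ gens, ∃ α ∈ H, ∀ x, α x = app (imgs B n l) x) (w : List ℕ) :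
    ∃ α ∈ H, ∀ x, α x = run B n gens w x := by
  induction w with
  | nil => exact ⟨1, one_mem _, fun x => rfl⟩
  | cons k w ih =>
    obtain ⟨α, hα, hα'⟩ := ih
    unfold run
    cases hk : gens[k]? with
    | none => exact ⟨α, hα, fun x => hα' x⟩
    | some l =>
      obtain ⟨β, hβ, hβ'⟩ := hg l (List.mem_of_getElem? hk)
      refine ⟨α * β, mul_mem hα hβ, fun x => ?_⟩
      rw [MulAut.mul_apply, hβ', hα']

/-- A decidable description of automorphisms of odd order `k`. -/
def OddIm (B : ℕ → ℕ) (n : ℕ) (k : ℕ) (l : List (ℕ × Bool)) : Prop :=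
  k % 2 = 1 ∧ Good B n (imgs B n l) ∧ ∀ i : Fin n, (app (imgs B n l))^[k] (q B n i) = q B n i

instance (k : ℕ) (l : List (ℕ × Bool)) : Decidable (OddIm B n k l) := by
  unfold OddIm; infer_instance

theorem OddIm.exists (hB : Tri B n) (hN : Nondeg B n) {k : ℕ} {l : List (ℕ × Bool)}
    (h : OddIm B n k l) : ∃ α : MulAut (XG B n), α ^ k = 1 ∧ ∀ x, α x = app (imgs B n l) x := by
  obtain ⟨-, h1, h2⟩ := h
  refine ⟨autOf hB hN _ h1, ?_, fun x => rfl⟩
  apply aut_ext hN
  intro i
  rw [autOf_pow, h2]; rfl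

theorem OddIm.mem (P : GPin Q z φ) (hB : Tri B n) (hN : Nondeg B n) {k : ℕ} {l : List (ℕ × Bool)}
    (h : OddIm B n k l) : ∃ α ∈ Rg P, ∀ x, α x = app (imgs B n l) x := by
  obtain ⟨α, h1, h2⟩ := h.exists hB hN
  exact ⟨α, odd_mem P (Nat.odd_iff.mpr h.1) h1, h2⟩

end Cfsg.Agent.LargeExtra.GPin
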