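import Mathlib
import Cfsg.Agent.ClassificationK.LargeSymplectic

/-!
# Large extraspecial subgroups: the normalizer of a four-group `V = ⟨z, y⟩`

`Q` is a large extraspecial (or symplectic type, exponent four) subgroup with centre `⟨z⟩`, `y = z ^ g` is another
conjugate of `z` in `Q`, `P = Q ^ g`.  `CV = C(z) ∩ C(y)`, `A = Q ∩ CV`, `B = P ∩ CV`, `R = A B`.
-/

set_option autoImplicit false

namespace Cfsg.Agent.LargeExtra.FourGroup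

open Subgroup
open Cfsg.Agent.ClassificationK.LargeSymplectic

variable {G : Type*} [Group G]

/-- Two large subgroups `Q`, `P` with centres generated by the conjugate involutions `z`, `y`. -/
structure Ctx (Q P : Subgroup G) (z y : G) : Prop where
  D : Data Q z
  E : Data P y
  z1 : z ≠ 1
  y1 : y ≠ 1
  ne : y ≠ z
  yQ : y ∈ Q
  zP : z ∈ P
  cj : ∀ x : G, x * z * x⁻¹ = y → ∀ w, w ∈ Q ↔ x * w * x⁻¹ ∈ P
  tr : ∃ w ∈ Q ⊔ P, w * z * w⁻¹ = y ∧ w * y * w⁻¹ = z * y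

/-- The context from `Data`. -/
theorem ctx_of_data {Q P : Subgroup G} {z g y : G} (D : Data Q z) (hy : g * z * g⁻¹ = y)
    (hne : y ≠ z) (hin : y ∈ Q) (hz1 : z ≠ 1) (hP : P = Q.map (MulAut.conj g).toMonoidHom) :
    Ctx Q P z y := by
  have hmain := main D (by rw [hy]; exact hne) (by rw [hy]; exact hin)
  rw [hy, ← hP] at hmain
  have hy1 : y ≠ 1 := by
    rintro rfl
    apply hz1
    have := mul_inv_eq_one.mp hy
    simpa using this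
  have hmem : ∀ x, x ∈ P ↔ g⁻¹ * x * g ∈ Q := by
    intro x
    rw [hP]
    constructor
    · rintro ⟨y, hy, rfl⟩
      have : g⁻¹ * ((MulAut.conj g).toMonoidHom y) * g = y := by
        simp [mul_assoc]
      rw [this]; exact hy
    · intro h
      exact ⟨_, h, by simp [mul_assoc]⟩
  have hzz : z * z = 1 := D.sqz
  have hyy : y * y = 1 := by
    rw [← hy]
    calc g * z * g⁻¹ * (g * z * g⁻¹) = g * (z * z) * g⁻¹ := by group
      _ = 1 := by rw [hzz]; group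
  have hcl : ∀ w ∈ ({z, y} : Set G), w ∈ Subgroup.closure ({z, y} : Set G) :=
    fun w hw => Subgroup.subset_closure hw
  refine ⟨D, ?_, hz1, hy1, hne, hin, hmain.1, ?_, ?_⟩
  · have := D.map (MulAut.conj g)
    rw [MulAut.conj_apply, hy] at this
    rw [hP]
    exact this
  · intro x hx w
    rw [hmem]
    have hc : (g⁻¹ * x) * z = z * (g⁻¹ * x) := by
      rw [← mul_inv_eq_iff_eq_mul]
      calc g⁻¹ * x * z * (g⁻¹ * x)⁻¹ = g⁻¹ * (x * z * x⁻¹) * g := by group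
        _ = z := by rw [hx, ← hy]; group
    have hc' : (g⁻¹ * x)⁻¹ * z = z * (g⁻¹ * x)⁻¹ := by
      rw [inv_mul_eq_iff_eq_mul, ← mul_assoc, hc]; group
    constructor
    · intro hw
      have h1 := D.norm _ hc w hw
      have h2 : g⁻¹ * (x * w * x⁻¹) * g = (g⁻¹ * x) * w * (g⁻¹ * x)⁻¹ := by group
      rw [h2]; exact h1
    · intro hw
      have h1 := D.norm _ hc' _ hw
      have h2 : (g⁻¹ * x)⁻¹ * (g⁻¹ * (x * w * x⁻¹) * g) * (g⁻¹ * x)⁻¹⁻¹ = w := by group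
      rw [h2] at h1; exact h1
  · have hzy : z * y ≠ 1 := by
      intro h
      apply hne
      have h1 : z = y⁻¹ := eq_inv_of_mul_eq_one_left h
      rw [h1]
      exact (inv_eq_of_mul_eq_one_left hyy).symm
    have hyzy : y ≠ z * y := by
      intro h
      exact hz1 (mul_eq_right.mp h.symm)
    exact hmain.2 y (hcl y (by simp)) (z * y)
      (mul_mem (hcl z (by simp)) (hcl y (by simp))) hy1 hzy hyzy

/-- The centralizer of the four-group. -/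
def CV (z y : G) : Subgroup G := centralizer ({z} : Set G) ⊓ centralizer ({y} : Set G)

theorem mem_CV {z y x : G} : x ∈ CV z y ↔ x * z = z * x ∧ x * y = y * x := by
  rw [CV, mem_inf, mem_centralizer_singleton_iff, mem_centralizer_singleton_iff]

namespace Ctx

variable {Q P : Subgroup G} {z y : G}

theorem zz (h : Ctx Q P z y) : z * z = 1 := h.D.sqz

theorem yy (h : Ctx Q P z y) : y * y = 1 := h.E.sqz

theorem yz (h : Ctx Q P z y) : y * z = z * y := h.D.com y h.yQ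

theorem inv_z (h : Ctx Q P z y) : z⁻¹ = z := h.D.inv

theorem inv_y (h : Ctx Q P z y) : y⁻¹ = y := h.E.inv

theorem symm (h : Ctx Q P z y) : Ctx P Q y z := by
  refine ⟨h.E, h.D, h.y1, h.z1, h.ne.symm, h.zP, h.yQ, ?_, ?_⟩
  · intro x hx w
    have h1 : x⁻¹ * z * x⁻¹⁻¹ = y := by rw [← hx]; group
    have h2 := h.cj x⁻¹ h1 (x * w * x⁻¹)
    have h3 : x⁻¹ * (x * w * x⁻¹) * x⁻¹⁻¹ = w := by group
    rw [h3] at h2
    exact h2.symm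
  · obtain ⟨w, hw, hw1, hw2⟩ := h.tr
    refine ⟨w⁻¹, ?_, ?_, ?_⟩
    · rw [sup_comm]; exact inv_mem hw
    · rw [← hw1]; group
    · have h1 : w * (z * y) * w⁻¹ = z := by
        calc w * (z * y) * w⁻¹ = (w * z * w⁻¹) * (w * y * w⁻¹) := by group
          _ = y * z * y := by rw [hw1, hw2]; group
          _ = z := by rw [h.yz, mul_assoc, h.yy, mul_one]
      calc w⁻¹ * z * w⁻¹⁻¹ = w⁻¹ * (w * (z * y) * w⁻¹) * w⁻¹⁻¹ := by rw [h1]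
        _ = z * y := by group
        _ = y * z := h.yz.symm

theorem zQ (h : Ctx Q P z y) : z ∈ Q := h.D.mem

theorem yP (h : Ctx Q P z y) : y ∈ P := h.E.mem

/-- The four-group. -/
def V (h : Ctx Q P z y) : Subgroup G where
  carrier := {x | x = 1 ∨ x = z ∨ x = y ∨ x = z * y}
  one_mem' := Or.inl rfl
  mul_mem' := by
    rintro a b ha hb
    have e1 : z * (z * y) = y := by rw [← mul_assoc, h.zz, one_mul]
    have e2 : y * z = z * y := h.yz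
    have e3 : y * (z * y) = z := by rw [← mul_assoc, h.yz, mul_assoc, h.yy, mul_one]
    have e4 : z * y * z = y := by rw [mul_assoc, h.yz, e1]
    have e5 : z * y * y = z := by rw [mul_assoc, h.yy, mul_one]
    have e6 : z * y * (z * y) = 1 := by rw [mul_assoc, e3, h.zz]
    rcases ha with rfl | rfl | rfl | rfl <;> rcases hb with rfl | rfl | rfl | rfl <;>
      simp [e1, e2, e3, e4, e5, e6, h.zz, h.yy]
  inv_mem' := by
    rintro a ha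
    have e6 : (z * y)⁻¹ = z * y := by rw [mul_inv_rev, h.inv_z, h.inv_y, h.yz]
    rcases ha with rfl | rfl | rfl | rfl <;> simp [h.inv_z, h.inv_y, h.yz]

theorem mem_V (h : Ctx Q P z y) {x : G} : x ∈ h.V ↔ x = 1 ∨ x = z ∨ x = y ∨ x = z * y := Iff.rfl

theorem z_mem_V (h : Ctx Q P z y) : z ∈ h.V := Or.inr (Or.inl rfl)

theorem y_mem_V (h : Ctx Q P z y) : y ∈ h.V := Or.inr (Or.inr (Or.inl rfl))

theorem V_symm (h : Ctx Q P z y) {x : G} : x ∈ h.symm.V ↔ x ∈ h.V := by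
  rw [mem_V, mem_V, h.yz]
  tauto

theorem V_comm_CV (h : Ctx Q P z y) {v c : G} (hv : v ∈ h.V) (hc : c ∈ CV z y) : c * v = v * c := by
  obtain ⟨h1, h2⟩ := mem_CV.mp hc
  rcases hv with rfl | rfl | rfl | rfl
  · simp
  · exact h1
  · exact h2
  · rw [← mul_assoc, h1, mul_assoc, h2, mul_assoc]

theorem V_le_CV (h : Ctx Q P z y) : h.V ≤ CV z y := by
  intro v hv
  rw [mem_CV]
  have e1 : z ∈ CV z y := mem_CV.mpr ⟨rfl, h.yz.symm⟩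
  have e2 : y ∈ CV z y := mem_CV.mpr ⟨h.yz, rfl⟩
  exact ⟨(h.V_comm_CV hv e1).symm, (h.V_comm_CV hv e2).symm⟩

/-- `A = C_Q(y)`. -/
def A (_ : Ctx Q P z y) : Subgroup G := Q ⊓ CV z y

/-- `B = C_P(z)`. -/
def B (_ : Ctx Q P z y) : Subgroup G := P ⊓ CV z y

theorem mem_A (h : Ctx Q P z y) {x : G} : x ∈ h.A ↔ x ∈ Q ∧ x ∈ CV z y := mem_inf

theorem mem_B (h : Ctx Q P z y) {x : G} : x ∈ h.B ↔ x ∈ P ∧ x ∈ CV z y := mem_inf

theorem mem_A_iff (h : Ctx Q P z y) {x : G} : x ∈ h.A ↔ x ∈ Q ∧ x * y = y * x := by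
  rw [mem_A, mem_CV]
  exact ⟨fun h1 => ⟨h1.1, h1.2.2⟩, fun h1 => ⟨h1.1, h.D.com x h1.1, h1.2⟩⟩

theorem mem_B_iff (h : Ctx Q P z y) {x : G} : x ∈ h.B ↔ x ∈ P ∧ x * z = z * x := by
  rw [mem_B, mem_CV]
  exact ⟨fun h1 => ⟨h1.1, h1.2.1⟩, fun h1 => ⟨h1.1, h1.2, h.E.com x h1.1⟩⟩

theorem V_le_Q (h : Ctx Q P z y) : h.V ≤ Q := by
  rintro v (rfl | rfl | rfl | rfl)
  · exact one_mem _
  · exact h.zQ
  · exact h.yQ
  · exact mul_mem h.zQ h.yQ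

theorem V_le_A (h : Ctx Q P z y) : h.V ≤ h.A := le_inf h.V_le_Q h.V_le_CV

theorem V_le_B (h : Ctx Q P z y) : h.V ≤ h.B := by
  intro v hv
  exact h.mem_B.mpr ⟨h.symm.V_le_Q (h.V_symm.mpr hv), h.V_le_CV hv⟩

theorem CV_symm : CV z y = CV y z := inf_comm _ _

theorem A_symm (h : Ctx Q P z y) : h.symm.A = h.B := by
  show P ⊓ CV y z = P ⊓ CV z y
  rw [CV_symm]

theorem B_symm (h : Ctx Q P z y) : h.symm.B = h.A := by
  show Q ⊓ CV y z = Q ⊓ CV z y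
  rw [CV_symm]

theorem conj_A (h : Ctx Q P z y) {c a : G} (hc : c ∈ CV z y) (ha : a ∈ h.A) :
    c * a * c⁻¹ ∈ h.A := by
  rw [mem_A] at ha ⊢
  exact ⟨h.D.norm c (mem_CV.mp hc).1 a ha.1, mul_mem (mul_mem hc ha.2) (inv_mem hc)⟩

theorem conj_B (h : Ctx Q P z y) {c b : G} (hc : c ∈ CV z y) (hb : b ∈ h.B) :
    c * b * c⁻¹ ∈ h.B := by
  rw [← h.A_symm] at hb ⊢
  exact h.symm.conj_A (by rw [CV_symm]; exact hc) hb

/-- `R = A B`. -/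
def R (h : Ctx Q P z y) : Subgroup G where
  carrier := {x | ∃ a ∈ h.A, ∃ b ∈ h.B, x = a * b}
  one_mem' := ⟨1, one_mem _, 1, one_mem _, by simp⟩
  mul_mem' := by
    rintro _ _ ⟨a, ha, b, hb, rfl⟩ ⟨a', ha', b', hb', rfl⟩
    refine ⟨a * (b * a' * b⁻¹), mul_mem ha (h.conj_A (h.mem_B.mp hb).2 ha'), b * b',
      mul_mem hb hb', by group⟩
  inv_mem' := by
    rintro _ ⟨a, ha, b, hb, rfl⟩
    refine ⟨b⁻¹ * a⁻¹ * b⁻¹⁻¹, h.conj_A (inv_mem (h.mem_B.mp hb).2) (inv_mem ha), b⁻¹,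
      inv_mem hb, by group⟩

theorem mem_R (h : Ctx Q P z y) {x : G} : x ∈ h.R ↔ ∃ a ∈ h.A, ∃ b ∈ h.B, x = a * b := Iff.rfl

theorem A_le_R (h : Ctx Q P z y) : h.A ≤ h.R := fun a ha => ⟨a, ha, 1, one_mem _, by simp⟩

theorem B_le_R (h : Ctx Q P z y) : h.B ≤ h.R := fun b hb => ⟨1, one_mem _, b, hb, by simp⟩

theorem V_le_R (h : Ctx Q P z y) : h.V ≤ h.R := h.V_le_A.trans h.A_le_R

theorem R_le_CV (h : Ctx Q P z y) : h.R ≤ CV z y := by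
  rintro _ ⟨a, ha, b, hb, rfl⟩
  exact mul_mem (h.mem_A.mp ha).2 (h.mem_B.mp hb).2

theorem mem_R_symm (h : Ctx Q P z y) {x : G} : x ∈ h.symm.R ↔ x ∈ h.R := by
  have key : ∀ {Q P : Subgroup G} {z y : G} (h : Ctx Q P z y) {x : G}, x ∈ h.symm.R → x ∈ h.R := by
    rintro Q P z y h x ⟨a, ha, b, hb, rfl⟩
    rw [h.A_symm] at ha
    rw [h.B_symm] at hb
    exact mul_mem (h.B_le_R ha) (h.A_le_R hb)
  exact ⟨key h, fun hx => key h.symm hx⟩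

theorem conj_R_CV (h : Ctx Q P z y) {c x : G} (hc : c ∈ CV z y) (hx : x ∈ h.R) :
    c * x * c⁻¹ ∈ h.R := by
  obtain ⟨a, ha, b, hb, rfl⟩ := hx
  exact ⟨c * a * c⁻¹, h.conj_A hc ha, c * b * c⁻¹, h.conj_B hc hb, by group⟩

/-- `[Q, C_V] ≤ A`. -/
theorem comm_Q (h : Ctx Q P z y) {q c : G} (hq : q ∈ Q) (hc : c ∈ CV z y) :
    q * c * q⁻¹ * c⁻¹ ∈ h.A := by
  obtain ⟨hc1, hc2⟩ := mem_CV.mp hc
  have hqz := h.D.com q hq
  have h1 : q * c * q⁻¹ * c⁻¹ ∈ Q := by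
    have h2 := h.D.norm c hc1 q⁻¹ (inv_mem hq)
    have h3 := mul_mem hq h2
    simpa [mul_assoc] using h3
  -- `q c q⁻¹` centralizes `y`
  have h2 : (q * c * q⁻¹) * y = y * (q * c * q⁻¹) := by
    have hcz : ∀ w, c * w = w * c → (q * c * q⁻¹) * (q * w * q⁻¹) = (q * w * q⁻¹) * (q * c * q⁻¹) := by
      intro w hw
      calc (q * c * q⁻¹) * (q * w * q⁻¹) = q * (c * w) * q⁻¹ := by group
        _ = (q * w * q⁻¹) * (q * c * q⁻¹) := by rw [hw]; group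
    have hz' : q * z * q⁻¹ = z := by rw [hqz]; group
    have e1 := hcz y hc2
    have e2 := hcz z hc1
    rw [hz'] at e2
    rcases h.D.comm q hq y h.yQ with h4 | h4
    · rw [h4] at e1; exact e1
    · rw [h4] at e1
      have e3 : (q * c * q⁻¹) * (z * (z * y)) = (z * (z * y)) * (q * c * q⁻¹) := by
        rw [← mul_assoc, e2, mul_assoc, e1]; group
      have e4 : z * (z * y) = y := by rw [← mul_assoc, h.zz, one_mul]
      rw [e4] at e3; exact e3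
  rw [mem_A_iff]
  refine ⟨h1, ?_⟩
  have h5 : c⁻¹ * y = y * c⁻¹ := by rw [inv_mul_eq_iff_eq_mul, ← mul_assoc, hc2]; group
  calc q * c * q⁻¹ * c⁻¹ * y = q * c * q⁻¹ * (c⁻¹ * y) := by group
    _ = (q * c * q⁻¹ * y) * c⁻¹ := by rw [h5]; group
    _ = y * (q * c * q⁻¹ * c⁻¹) := by rw [h2]; group

theorem conj_R_Q (h : Ctx Q P z y) {q x : G} (hq : q ∈ Q) (hx : x ∈ h.R) : q * x * q⁻¹ ∈ h.R := by
  have h1 := h.A_le_R (h.comm_Q hq (h.R_le_CV hx))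
  have h2 := mul_mem h1 hx
  simpa [mul_assoc] using h2

theorem comm_P (h : Ctx Q P z y) {q c : G} (hq : q ∈ P) (hc : c ∈ CV z y) :
    q * c * q⁻¹ * c⁻¹ ∈ h.B := by
  rw [← h.A_symm]
  exact h.symm.comm_Q hq (by rw [CV_symm]; exact hc)

theorem conj_R_P (h : Ctx Q P z y) {q x : G} (hq : q ∈ P) (hx : x ∈ h.R) : q * x * q⁻¹ ∈ h.R := by
  have h1 := h.B_le_R (h.comm_P hq (h.R_le_CV hx))
  have h2 := mul_mem h1 hx
  simpa [mul_assoc] using h2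

/-- `⟨Q, P⟩` normalizes `R` -/
theorem conj_R_W (h : Ctx Q P z y) {w x : G} (hw : w ∈ Q ⊔ P) (hx : x ∈ h.R) :
    w * x * w⁻¹ ∈ h.R := by
  rw [sup_eq_closure] at hw
  induction hw using Subgroup.closure_induction_left generalizing x with
  | one => simpa using hx
  | mul_left a ha b hb ih =>
    have e : a * b * x * (a * b)⁻¹ = a * (b * x * b⁻¹) * a⁻¹ := by group
    rw [e]
    rcases ha with ha | ha
    · exact h.conj_R_Q ha (ih hx)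
    · exact h.conj_R_P ha (ih hx)
  | inv_mul_cancel a ha b hb ih =>
    have e : a⁻¹ * b * x * (a⁻¹ * b)⁻¹ = a⁻¹ * (b * x * b⁻¹) * a⁻¹⁻¹ := by group
    rw [e]
    rcases ha with ha | ha
    · exact h.conj_R_Q (inv_mem ha) (ih hx)
    · exact h.conj_R_P (inv_mem ha) (ih hx)

/-- `[⟨Q, P⟩, C_V] ≤ R` -/
theorem comm_W (h : Ctx Q P z y) {w c : G} (hw : w ∈ Q ⊔ P) (hc : c ∈ CV z y) :
    w * c * w⁻¹ * c⁻¹ ∈ h.R := by
  have key : ∀ a, (a ∈ Q ∨ a ∈ P) → ∀ b ∈ Q ⊔ P, b * c * b⁻¹ * c⁻¹ ∈ h.R →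
      (a * b) * c * (a * b)⁻¹ * c⁻¹ ∈ h.R := by
    intro a ha b hb ih
    have e : (a * b) * c * (a * b)⁻¹ * c⁻¹ =
        (a * (b * c * b⁻¹ * c⁻¹) * a⁻¹) * (a * c * a⁻¹ * c⁻¹) := by group
    rw [e]
    rcases ha with ha | ha
    · exact mul_mem (h.conj_R_Q ha ih) (h.A_le_R (h.comm_Q ha hc))
    · exact mul_mem (h.conj_R_P ha ih) (h.B_le_R (h.comm_P ha hc))
  have hw' := hw
  rw [sup_eq_closure] at hw
  induction hw using Subgroup.closure_induction_left with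
  | one => simp
  | mul_left a ha b hb ih =>
    rw [← sup_eq_closure] at hb
    exact key a ha b hb (ih hb)
  | inv_mul_cancel a ha b hb ih =>
    rw [← sup_eq_closure] at hb
    refine key a⁻¹ ?_ b hb (ih hb)
    rcases ha with ha | ha
    · exact Or.inl (inv_mem ha)
    · exact Or.inr (inv_mem ha)

/-! ### Squares and commutators in `R` when `Q ∩ P = V` -/

theorem inter_le (h : Ctx Q P z y) {x : G} (hQ : x ∈ Q) (hP : x ∈ P) : x ∈ h.A ∧ x ∈ h.B :=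
  ⟨h.mem_A_iff.mpr ⟨hQ, h.E.com x hP⟩, h.mem_B_iff.mpr ⟨hP, h.D.com x hQ⟩⟩

theorem sq_V (h : Ctx Q P z y) {v : G} (hv : v ∈ h.V) : v * v = 1 := by
  rcases hv with rfl | rfl | rfl | rfl
  · simp
  · exact h.zz
  · exact h.yy
  · rw [mul_assoc, ← mul_assoc y z y, h.yz, mul_assoc z y y, h.yy, mul_one, h.zz]

/-- `[R, R] ≤ V` -/
theorem comm_R (h : Ctx Q P z y) (hV : ∀ x ∈ Q, x ∈ P → x ∈ h.V) {r x : G} (hr : r ∈ h.R)
    (hx : x ∈ h.R) : r * x * r⁻¹ * x⁻¹ ∈ h.V := by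
  have hAB : ∀ a ∈ h.A, ∀ b ∈ h.B, a * b * a⁻¹ * b⁻¹ ∈ h.V := by
    intro a ha b hb
    refine hV _ ?_ ?_
    · have h1 := h.conj_A (h.mem_B.mp hb).2 (inv_mem ha)
      have h2 := mul_mem (h.mem_A.mp ha).1 (h.mem_A.mp h1).1
      simpa [mul_assoc] using h2
    · have h1 := h.conj_B (h.mem_A.mp ha).2 hb
      have h2 := mul_mem (h.mem_B.mp h1).1 (inv_mem (h.mem_B.mp hb).1)
      exact h2
  have hAA : ∀ a ∈ h.A, ∀ b ∈ h.A, a * b * a⁻¹ * b⁻¹ ∈ h.V := by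
    intro a ha b hb
    rcases h.D.comm a (h.mem_A.mp ha).1 b (h.mem_A.mp hb).1 with h1 | h1
    · rw [h1, mul_inv_cancel]; exact one_mem _
    · rw [h1, mul_inv_cancel_right]; exact h.z_mem_V
  have hBB : ∀ a ∈ h.B, ∀ b ∈ h.B, a * b * a⁻¹ * b⁻¹ ∈ h.V := by
    intro a ha b hb
    rcases h.E.comm a (h.mem_B.mp ha).1 b (h.mem_B.mp hb).1 with h1 | h1
    · rw [h1, mul_inv_cancel]; exact one_mem _
    · rw [h1, mul_inv_cancel_right]; exact h.y_mem_V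
  have hBA : ∀ b ∈ h.B, ∀ a ∈ h.A, b * a * b⁻¹ * a⁻¹ ∈ h.V := by
    intro b hb a ha
    have h1 := inv_mem (hAB a ha b hb)
    have h2 : (a * b * a⁻¹ * b⁻¹)⁻¹ = b * a * b⁻¹ * a⁻¹ := by group
    rwa [h2] at h1
  have hmul : ∀ r ∈ h.R, ∀ x x' : G, r * x * r⁻¹ * x⁻¹ ∈ h.V → r * x' * r⁻¹ * x'⁻¹ ∈ h.V →
      x ∈ h.R → r * (x * x') * r⁻¹ * (x * x')⁻¹ ∈ h.V := by
    intro r _ x x' h1 h2 hx
    have e : r * (x * x') * r⁻¹ * (x * x')⁻¹ =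
        (r * x * r⁻¹ * x⁻¹) * (x * (r * x' * r⁻¹ * x'⁻¹) * x⁻¹) := by group
    rw [e]
    have h3 : x * (r * x' * r⁻¹ * x'⁻¹) * x⁻¹ = r * x' * r⁻¹ * x'⁻¹ := by
      rw [h.V_comm_CV h2 (h.R_le_CV hx), mul_inv_cancel_right]
    rw [h3]
    exact mul_mem h1 h2
  have hA : ∀ r ∈ h.R, ∀ a ∈ h.A, r * a * r⁻¹ * a⁻¹ ∈ h.V := by
    rintro _ ⟨a', ha', b', hb', rfl⟩ a ha
    have h1 := hmul a (h.A_le_R ha) a' b' (hAA a ha a' ha') (hAB a ha b' hb') (h.A_le_R ha')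
    have h2 : (a * (a' * b') * a⁻¹ * (a' * b')⁻¹)⁻¹ = (a' * b') * a * (a' * b')⁻¹ * a⁻¹ := by group
    rw [← h2]
    exact inv_mem h1
  have hB : ∀ r ∈ h.R, ∀ b ∈ h.B, r * b * r⁻¹ * b⁻¹ ∈ h.V := by
    rintro _ ⟨a', ha', b', hb', rfl⟩ b hb
    have h1 := hmul b (h.B_le_R hb) a' b' (hBA b hb a' ha') (hBB b hb b' hb') (h.A_le_R ha')
    have h2 : (b * (a' * b') * b⁻¹ * (a' * b')⁻¹)⁻¹ = (a' * b') * b * (a' * b')⁻¹ * b⁻¹ := by group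
    rw [← h2]
    exact inv_mem h1
  obtain ⟨a, ha, b, hb, rfl⟩ := hx
  exact hmul r hr a b (hA r hr a ha) (hB r hr b hb) (h.A_le_R ha)

theorem sq_R (h : Ctx Q P z y) (hV : ∀ x ∈ Q, x ∈ P → x ∈ h.V) {r : G} (hr : r ∈ h.R) :
    r * r ∈ h.V := by
  obtain ⟨a, ha, b, hb, rfl⟩ := hr
  have h1 : a * b * (a * b) = (a * a) * (a⁻¹ * b * a * b⁻¹) * (b * b) := by group
  rw [h1]
  have h2 := h.comm_R hV (inv_mem (h.A_le_R ha)) (h.B_le_R hb)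
  rw [inv_inv] at h2
  refine mul_mem (mul_mem ?_ h2) ?_
  · rcases h.D.sq a (h.mem_A.mp ha).1 with h3 | h3
    · rw [h3]; exact one_mem _
    · rw [h3]; exact h.z_mem_V
  · rcases h.E.sq b (h.mem_B.mp hb).1 with h3 | h3
    · rw [h3]; exact one_mem _
    · rw [h3]; exact h.y_mem_V

theorem pow_four_R (h : Ctx Q P z y) (hV : ∀ x ∈ Q, x ∈ P → x ∈ h.V) {r : G} (hr : r ∈ h.R) :
    r ^ 4 = 1 := by
  rw [show (4 : ℕ) = 2 * 2 by norm_num, pow_mul, pow_two, pow_two]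
  exact h.sq_V (h.sq_R hV hr)

/-- The element of order three. -/
structure IsF (h : Ctx Q P z y) (f : G) : Prop where
  W : f ∈ Q ⊔ P
  fz : f * z * f⁻¹ = y
  fy : f * y * f⁻¹ = z * y
  f3 : f ^ 3 = 1

theorem exists_f (h : Ctx Q P z y) (hV : ∀ x ∈ Q, x ∈ P → x ∈ h.V)
    (h3 : ∀ c ∈ CV z y, (∀ d ∈ CV z y, c * d * c⁻¹ * d⁻¹ ∈ h.R) → c ∈ h.R) :
    ∃ f, h.IsF f := by
  obtain ⟨w, hw, hwz, hwy⟩ := h.tr
  have hwzy : w * (z * y) * w⁻¹ = z := by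
    calc w * (z * y) * w⁻¹ = (w * z * w⁻¹) * (w * y * w⁻¹) := by group
      _ = y * z * y := by rw [hwz, hwy]; group
      _ = z := by rw [h.yz, mul_assoc, h.yy, mul_one]
  have hw3 : w ^ 3 = w * w * w := by rw [pow_succ, pow_two]
  have hw3z : w ^ 3 * z * (w ^ 3)⁻¹ = z := by
    rw [hw3]
    calc w * w * w * z * (w * w * w)⁻¹ = w * (w * (w * z * w⁻¹) * w⁻¹) * w⁻¹ := by
          simp only [mul_inv_rev, mul_assoc]
      _ = z := by rw [hwz, hwy, hwzy]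
  have hw3y : w ^ 3 * y * (w ^ 3)⁻¹ = y := by
    rw [hw3]
    calc w * w * w * y * (w * w * w)⁻¹ = w * (w * (w * y * w⁻¹) * w⁻¹) * w⁻¹ := by
          simp only [mul_inv_rev, mul_assoc]
      _ = y := by rw [hwy, hwzy, hwz]
  have hw3C : w ^ 3 ∈ CV z y := by
    rw [mem_CV]
    exact ⟨mul_inv_eq_iff_eq_mul.mp hw3z, mul_inv_eq_iff_eq_mul.mp hw3y⟩
  have hw3R : w ^ 3 ∈ h.R := h3 _ hw3C (fun d hd => h.comm_W (pow_mem hw 3) hd)
  have hw12 := h.pow_four_R hV hw3R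
  refine ⟨w ^ 4, pow_mem hw 4, ?_, ?_, ?_⟩
  · calc w ^ 4 * z * (w ^ 4)⁻¹ = w * (w ^ 3 * z * (w ^ 3)⁻¹) * w⁻¹ := by group
      _ = y := by rw [hw3z, hwz]
  · calc w ^ 4 * y * (w ^ 4)⁻¹ = w * (w ^ 3 * y * (w ^ 3)⁻¹) * w⁻¹ := by group
      _ = z * y := by rw [hw3y, hwy]
  · rw [← pow_mul] at hw12 ⊢
    exact hw12

section F

variable {f : G}

theorem IsF.fff {h : Ctx Q P z y} (F : h.IsF f) : f * f * f = 1 := by
  have := F.f3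
  rwa [pow_succ, pow_two] at this

theorem IsF.inv {h : Ctx Q P z y} (F : h.IsF f) : f⁻¹ = f * f := by
  rw [inv_eq_iff_mul_eq_one, ← mul_assoc]
  exact F.fff

theorem IsF.fzy {h : Ctx Q P z y} (F : h.IsF f) : f * (z * y) * f⁻¹ = z := by
  calc f * (z * y) * f⁻¹ = (f * z * f⁻¹) * (f * y * f⁻¹) := by group
    _ = y * z * y := by rw [F.fz, F.fy]; group
    _ = z := by rw [h.yz, mul_assoc, h.yy, mul_one]

theorem IsF.conj_V {h : Ctx Q P z y} (F : h.IsF f) {v : G} (hv : v ∈ h.V) : f * v * f⁻¹ ∈ h.V := by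
  rcases hv with rfl | rfl | rfl | rfl
  · simp
  · rw [F.fz]; exact h.y_mem_V
  · rw [F.fy]; exact mul_mem h.z_mem_V h.y_mem_V
  · rw [F.fzy]; exact h.z_mem_V

theorem IsF.conj_V_inv {h : Ctx Q P z y} (F : h.IsF f) {v : G} (hv : v ∈ h.V) :
    f⁻¹ * v * f ∈ h.V := by
  have h1 := F.conj_V (F.conj_V hv)
  have h2 : f * (f * v * f⁻¹) * f⁻¹ = (f * f) * v * (f * f)⁻¹ := by group
  rw [h2, ← F.inv, inv_inv] at h1
  exact h1

theorem IsF.conj_V_iff {h : Ctx Q P z y} (F : h.IsF f) {v : G} : f * v * f⁻¹ ∈ h.V ↔ v ∈ h.V := by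
  refine ⟨fun h1 => ?_, F.conj_V⟩
  have h2 := F.conj_V_inv h1
  have h3 : f⁻¹ * (f * v * f⁻¹) * f = v := by group
  rwa [h3] at h2

theorem IsF.eq_one_of_V {h : Ctx Q P z y} (F : h.IsF f) {v : G} (hv : v ∈ h.V)
    (hvf : f * v * f⁻¹ = v) : v = 1 := by
  rcases hv with rfl | rfl | rfl | rfl
  · rfl
  · rw [F.fz] at hvf
    exact absurd hvf h.ne
  · rw [F.fy] at hvf
    exact absurd (mul_eq_right.mp hvf) h.z1
  · rw [F.fzy] at hvf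
    exact absurd (left_eq_mul.mp hvf) h.y1

theorem IsF.conj_CV {h : Ctx Q P z y} (F : h.IsF f) {c : G} (hc : c ∈ CV z y) :
    f * c * f⁻¹ ∈ CV z y := by
  have h1 := h.R_le_CV (h.comm_W F.W hc)
  have h2 := mul_mem h1 hc
  simpa [mul_assoc] using h2

theorem IsF.conj_CV_inv {h : Ctx Q P z y} (F : h.IsF f) {c : G} (hc : c ∈ CV z y) :
    f⁻¹ * c * f ∈ CV z y := by
  have h1 := h.R_le_CV (h.comm_W (inv_mem F.W) hc)
  have h2 := mul_mem h1 hc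
  simpa [mul_assoc] using h2

theorem IsF.conj_R {h : Ctx Q P z y} (F : h.IsF f) {x : G} (hx : x ∈ h.R) : f * x * f⁻¹ ∈ h.R :=
  h.conj_R_W F.W hx

theorem IsF.conj_R_inv {h : Ctx Q P z y} (F : h.IsF f) {x : G} (hx : x ∈ h.R) :
    f⁻¹ * x * f ∈ h.R := by
  have := h.conj_R_W (inv_mem F.W) hx
  rwa [inv_inv] at this

theorem IsF.mem_A_iff {h : Ctx Q P z y} (F : h.IsF f) {x : G} : x ∈ h.A ↔ f * x * f⁻¹ ∈ h.B := by
  rw [h.mem_A, h.mem_B, h.cj f F.fz]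
  refine and_congr_right (fun _ => ⟨F.conj_CV, fun h1 => ?_⟩)
  have h2 := F.conj_CV_inv h1
  have h3 : f⁻¹ * (f * x * f⁻¹) * f = x := by group
  rwa [h3] at h2

/-- The product `x x^f x^(f^2)`. -/
def T (f x : G) : G := x * (f * x * f⁻¹) * (f⁻¹ * x * f)

/-- `B'`, the third subgroup -/
def B' (h : Ctx Q P z y) (f : G) : Subgroup G := h.B.map (MulAut.conj f).toMonoidHom

theorem mem_B' (h : Ctx Q P z y) {f x : G} : x ∈ h.B' f ↔ f⁻¹ * x * f ∈ h.B := by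
  rw [B']
  constructor
  · rintro ⟨y, hy, rfl⟩
    have : f⁻¹ * ((MulAut.conj f).toMonoidHom y) * f = y := by
      simp [mul_assoc]
    rw [this]; exact hy
  · intro h
    exact ⟨_, h, by simp [mul_assoc]⟩

/-- conjugation by `f` maps `B'` to `A` -/
theorem IsF.conj_B' {h : Ctx Q P z y} (F : h.IsF f) {x : G} : x ∈ h.B' f ↔ f * x * f⁻¹ ∈ h.A := by
  rw [h.mem_B', F.mem_A_iff]
  have h1 : f * (f * x * f⁻¹) * f⁻¹ = (f * f) * x * (f * f)⁻¹ := by group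
  rw [h1, ← F.inv, inv_inv]

theorem IsF.B'_le {h : Ctx Q P z y} (F : h.IsF f) {x : G} (hx : x ∈ h.B' f) : x ∈ h.R := by
  rw [h.mem_B'] at hx
  have h1 := F.conj_R (h.B_le_R hx)
  have h2 : f * (f⁻¹ * x * f) * f⁻¹ = x := by group
  rwa [h2] at h1

theorem IsF.V_le_B' {h : Ctx Q P z y} (F : h.IsF f) {x : G} (hx : x ∈ h.V) : x ∈ h.B' f := by
  rw [h.mem_B']
  exact h.V_le_B (F.conj_V_inv hx)

/-- `A ∩ B' = V`. -/
theorem IsF.A_inf_B' {h : Ctx Q P z y} (F : h.IsF f) (hV : ∀ x ∈ Q, x ∈ P → x ∈ h.V) {x : G}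
    (hA : x ∈ h.A) (hB : x ∈ h.B' f) : x ∈ h.V := by
  rw [← F.conj_V_iff]
  refine hV _ ?_ ?_
  · exact (h.mem_A.mp (F.conj_B'.mp hB)).1
  · exact (h.mem_B.mp (F.mem_A_iff.mp hA)).1

/-- `B ∩ B' = V`. -/
theorem IsF.B_inf_B' {h : Ctx Q P z y} (F : h.IsF f) (hV : ∀ x ∈ Q, x ∈ P → x ∈ h.V) {x : G}
    (hA : x ∈ h.B) (hB : x ∈ h.B' f) : x ∈ h.V := by
  have h1 : f⁻¹ * x * f ∈ h.V := by
    refine hV _ ?_ ?_
    · have h2 : x = f * (f⁻¹ * x * f) * f⁻¹ := by group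
      rw [h2] at hA
      exact (h.mem_A.mp (F.mem_A_iff.mpr hA)).1
    · exact (h.mem_B.mp (h.mem_B'.mp hB)).1
  have h2 := F.conj_V h1
  have h3 : f * (f⁻¹ * x * f) * f⁻¹ = x := by group
  rwa [h3] at h2

theorem IsF.conj_B'_CV {h : Ctx Q P z y} (F : h.IsF f) {c x : G} (hc : c ∈ CV z y)
    (hx : x ∈ h.B' f) : c * x * c⁻¹ ∈ h.B' f := by
  rw [h.mem_B'] at hx ⊢
  have h1 := h.conj_B (F.conj_CV_inv hc) hx
  have h2 : f⁻¹ * c * f * (f⁻¹ * x * f) * (f⁻¹ * c * f)⁻¹ = f⁻¹ * (c * x * c⁻¹) * f := by group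
  rwa [h2] at h1

/-- `R = B' B`. -/
theorem IsF.exists_B'_B {h : Ctx Q P z y} (F : h.IsF f) {x : G} (hx : x ∈ h.R) :
    ∃ d ∈ h.B' f, ∃ b ∈ h.B, x = d * b := by
  obtain ⟨a, ha, b, hb, hab⟩ := h.mem_R.mp (F.conj_R_inv hx)
  have hx' : x = (f * a * f⁻¹) * (f * b * f⁻¹) := by
    calc x = f * (f⁻¹ * x * f) * f⁻¹ := by group
      _ = (f * a * f⁻¹) * (f * b * f⁻¹) := by rw [hab]; group
  have h1 : f * b * f⁻¹ ∈ h.B' f := by
    rw [h.mem_B']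
    have h2 : f⁻¹ * (f * b * f⁻¹) * f = b := by group
    rw [h2]; exact hb
  have h2 : f * a * f⁻¹ ∈ h.B := F.mem_A_iff.mp ha
  refine ⟨_, F.conj_B'_CV (h.mem_B.mp h2).2 h1, _, h2, ?_⟩
  rw [hx']; group

end F

/-! ### Elements fixed modulo `V` -/

theorem conj_V_CV (h : Ctx Q P z y) {c v : G} (hc : c ∈ CV z y) (hv : v ∈ h.V) :
    c * v * c⁻¹ ∈ h.V := by
  rw [h.V_comm_CV hv hc, mul_inv_cancel_right]; exact hv

theorem conj_V_Q (h : Ctx Q P z y) {q v : G} (hq : q ∈ Q) (hv : v ∈ h.V) : q * v * q⁻¹ ∈ h.V := by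
  rcases h.D.comm q hq v (h.V_le_Q hv) with h1 | h1
  · rw [h1]; exact hv
  · rw [h1]; exact mul_mem h.z_mem_V hv

theorem conj_V_P (h : Ctx Q P z y) {q v : G} (hq : q ∈ P) (hv : v ∈ h.V) : q * v * q⁻¹ ∈ h.V := by
  rw [← h.V_symm] at hv ⊢
  exact h.symm.conj_V_Q hq hv

theorem conj_V_W (h : Ctx Q P z y) {w v : G} (hw : w ∈ Q ⊔ P) (hv : v ∈ h.V) :
    w * v * w⁻¹ ∈ h.V := by
  rw [sup_eq_closure] at hw
  induction hw using Subgroup.closure_induction_left generalizing v with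
  | one => simpa using hv
  | mul_left a ha b hb ih =>
    have e : a * b * v * (a * b)⁻¹ = a * (b * v * b⁻¹) * a⁻¹ := by group
    rw [e]
    rcases ha with ha | ha
    · exact h.conj_V_Q ha (ih hv)
    · exact h.conj_V_P ha (ih hv)
  | inv_mul_cancel a ha b hb ih =>
    have e : a⁻¹ * b * v * (a⁻¹ * b)⁻¹ = a⁻¹ * (b * v * b⁻¹) * a⁻¹⁻¹ := by group
    rw [e]
    rcases ha with ha | ha
    · exact h.conj_V_Q (inv_mem ha) (ih hv)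
    · exact h.conj_V_P (inv_mem ha) (ih hv)

/-- `c` fixes `x` modulo `V` -/
def Fx (h : Ctx Q P z y) (c x : G) : Prop := c * x * c⁻¹ * x⁻¹ ∈ h.V

theorem Fx_V (h : Ctx Q P z y) {c v : G} (hc : c ∈ CV z y) (hv : v ∈ h.V) : h.Fx c v := by
  show c * v * c⁻¹ * v⁻¹ ∈ h.V
  rw [h.V_comm_CV hv hc, mul_inv_cancel_right, mul_inv_cancel]; exact one_mem _

theorem Fx_mul (h : Ctx Q P z y) {c x x' : G} (hx : x ∈ CV z y) (h1 : h.Fx c x)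
    (h2 : h.Fx c x') : h.Fx c (x * x') := by
  show c * (x * x') * c⁻¹ * (x * x')⁻¹ ∈ h.V
  have e : c * (x * x') * c⁻¹ * (x * x')⁻¹ =
      (c * x * c⁻¹ * x⁻¹) * (x * (c * x' * c⁻¹ * x'⁻¹) * x⁻¹) := by group
  rw [e]
  exact mul_mem h1 (h.conj_V_CV hx h2)

theorem Fx_inv (h : Ctx Q P z y) {c x : G} (hx : x ∈ CV z y) (h1 : h.Fx c x) :
    h.Fx c x⁻¹ := by
  show c * x⁻¹ * c⁻¹ * x⁻¹⁻¹ ∈ h.V
  have e : c * x⁻¹ * c⁻¹ * x⁻¹⁻¹ = x⁻¹ * (c * x * c⁻¹ * x⁻¹)⁻¹ * x⁻¹⁻¹ := by group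
  rw [e]
  exact h.conj_V_CV (inv_mem hx) (inv_mem h1)

theorem Fx_R (h : Ctx Q P z y) (hV : ∀ x ∈ Q, x ∈ P → x ∈ h.V) {c x : G} (hc : c ∈ h.R)
    (hx : x ∈ h.R) : h.Fx c x := h.comm_R hV hc hx

theorem Fx_W (h : Ctx Q P z y) (hV : ∀ x ∈ Q, x ∈ P → x ∈ h.V) {c x w : G} (hc : c ∈ CV z y)
    (hw : w ∈ Q ⊔ P) (hx : x ∈ h.R) (h1 : h.Fx c x) : h.Fx c (w * x * w⁻¹) := by
  show c * (w * x * w⁻¹) * c⁻¹ * (w * x * w⁻¹)⁻¹ ∈ h.V
  have hρ := h.comm_W hw hc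
  obtain ⟨ρ, hρe⟩ : ∃ ρ, ρ = w * c * w⁻¹ * c⁻¹ := ⟨_, rfl⟩
  rw [← hρe] at hρ
  have e : c * (w * x * w⁻¹) * c⁻¹ * (w * x * w⁻¹)⁻¹ =
      (ρ⁻¹ * (w * (c * x * c⁻¹ * x⁻¹) * w⁻¹) * ρ⁻¹⁻¹) *
        (ρ⁻¹ * (w * x * w⁻¹) * ρ⁻¹⁻¹ * (w * x * w⁻¹)⁻¹) := by
    rw [hρe]; group
  rw [e]
  refine mul_mem ?_ ?_
  · exact h.conj_V_CV (inv_mem (h.R_le_CV hρ)) (h.conj_V_W hw h1)
  · exact h.comm_R hV (inv_mem hρ) (h.conj_R_W hw hx)

/-- The hypothesis on the vector `a₀`: up to `V` it is the only fixed vector of its stabilizer in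
`A / V`, and its conjugates generate `A` modulo `V`. -/
structure Vec (h : Ctx Q P z y) (a0 : G) : Prop where
  mem : a0 ∈ h.A
  nV : a0 ∉ h.V
  fix : ∀ a ∈ h.A, (∀ c ∈ CV z y, h.Fx c a0 → h.Fx c a) → a ∈ h.V ∨ a * a0 ∈ h.V
  gen : ∀ X : Subgroup G, (∀ v ∈ h.V, v ∈ X) → (∀ c ∈ CV z y, c * a0 * c⁻¹ ∈ X) →
    ∀ a ∈ h.A, a ∈ X

section T

variable {f a0 : G}

theorem IsF.stepA {h : Ctx Q P z y} (F : h.IsF f) (hV : ∀ x ∈ Q, x ∈ P → x ∈ h.V) {a b c : G}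
    (ha : a ∈ h.A) (hb : b ∈ h.B) (hab : a * b ∈ h.B' f) (hc : c ∈ CV z y) (h1 : h.Fx c a) :
    h.Fx c b := by
  show c * b * c⁻¹ * b⁻¹ ∈ h.V
  refine F.B_inf_B' hV (mul_mem (h.conj_B hc hb) (inv_mem hb)) ?_
  have h2 : c * (a * b) * c⁻¹ * (a * b)⁻¹ ∈ h.B' f :=
    mul_mem (F.conj_B'_CV hc hab) (inv_mem hab)
  have e : c * b * c⁻¹ * b⁻¹ = (c * a⁻¹ * c⁻¹ * a⁻¹⁻¹) *
      ((a⁻¹ * (c * (a * b) * c⁻¹ * (a * b)⁻¹) * a⁻¹⁻¹ * (c * (a * b) * c⁻¹ * (a * b)⁻¹)⁻¹) *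
        (c * (a * b) * c⁻¹ * (a * b)⁻¹)) := by group
  rw [e]
  refine mul_mem (F.V_le_B' (h.Fx_inv (h.mem_A.mp ha).2 h1)) (mul_mem (F.V_le_B' ?_) h2)
  exact h.comm_R hV (inv_mem (h.A_le_R ha)) (F.B'_le h2)

/-- The fundamental relation for `a₀`. -/
theorem IsF.T_a0 {h : Ctx Q P z y} (F : h.IsF f) (hV : ∀ x ∈ Q, x ∈ P → x ∈ h.V)
    (h0 : h.Vec a0) : T f a0 ∈ h.V := by
  have ha0R := h.A_le_R h0.mem
  obtain ⟨d, hd, b1, hb1, hx⟩ := F.exists_B'_B ha0R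
  have hb : b1⁻¹ ∈ h.B := inv_mem hb1
  have hd' : a0 * b1⁻¹ ∈ h.B' f := by rw [hx, mul_inv_cancel_right]; exact hd
  have hWi : f⁻¹ ∈ Q ⊔ P := inv_mem F.W
  -- `b` and `a1`
  have h1 : ∀ c ∈ CV z y, h.Fx c a0 → h.Fx c (f⁻¹ * b1⁻¹ * f) := by
    intro c hc hc0
    have h2 := F.stepA hV h0.mem hb hd' hc hc0
    have h3 := h.Fx_W hV hc hWi (h.B_le_R hb) h2
    rwa [inv_inv] at h3
  have ha1 : f⁻¹ * b1⁻¹ * f ∈ h.A := by
    rw [F.mem_A_iff]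
    have : f * (f⁻¹ * b1⁻¹ * f) * f⁻¹ = b1⁻¹ := by group
    rw [this]; exact hb
  have h4 : f⁻¹ * b1⁻¹ * f * a0 ∈ h.V := by
    rcases h0.fix _ ha1 h1 with h5 | h5
    · exfalso
      apply h0.nV
      have h6 := F.conj_V h5
      have e6 : f * (f⁻¹ * b1⁻¹ * f) * f⁻¹ = b1⁻¹ := by group
      rw [e6] at h6
      have h7 := mul_mem hd' (F.V_le_B' (inv_mem h6))
      rw [mul_inv_cancel_right] at h7
      exact F.A_inf_B' hV h0.mem h7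
    · exact h5
  -- `d' = a₀ a₀^f ∈ B'`
  have h5 : a0 * (f * a0 * f⁻¹) ∈ h.B' f := by
    have h6 := F.conj_V h4
    have h7 : (b1⁻¹ * b1⁻¹)⁻¹ ∈ h.V := inv_mem (h.sq_R hV (h.B_le_R hb))
    have e : a0 * (f * a0 * f⁻¹) =
        (a0 * b1⁻¹) * (b1⁻¹ * b1⁻¹)⁻¹ * (f * (f⁻¹ * b1⁻¹ * f * a0) * f⁻¹) := by group
    rw [e]
    exact mul_mem (mul_mem hd' (F.V_le_B' h7)) (F.V_le_B' h6)
  have hCa0 := (h.mem_A.mp h0.mem).2
  have h6 : ∀ c ∈ CV z y, h.Fx c a0 → h.Fx c (f * (a0 * (f * a0 * f⁻¹)) * f⁻¹) := by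
    intro c hc hc0
    refine h.Fx_W hV hc F.W (F.B'_le h5) (h.Fx_mul hCa0 hc0 ?_)
    exact h.Fx_W hV hc F.W ha0R hc0
  rcases h0.fix _ (F.conj_B'.mp h5) h6 with h7 | h7
  · exfalso
    apply h0.nV
    have h8 := F.conj_V_iff.mp h7
    have h9 : f * a0 * f⁻¹ ∈ h.B := F.mem_A_iff.mp h0.mem
    have h10 := mul_mem (h.V_le_B h8) (inv_mem h9)
    rw [mul_inv_cancel_right] at h10
    exact hV _ (h.mem_A.mp h0.mem).1 (h.mem_B.mp h10).1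
  · have h8 := F.conj_V_inv h7
    have e : f⁻¹ * (f * (a0 * (f * a0 * f⁻¹)) * f⁻¹ * a0) * f = T f a0 := by
      rw [T]; group
    rwa [e] at h8

theorem T_mul_mem (h : Ctx Q P z y) (hV : ∀ x ∈ Q, x ∈ P → x ∈ h.V) {a b c a' b' c' : G}
    (ha : a ∈ h.R) (hb : b ∈ h.R) (hc : c ∈ h.R) (ha' : a' ∈ h.R) (hb' : b' ∈ h.R)
    (h1 : a * b * c ∈ h.V) (h2 : a' * b' * c' ∈ h.V) :
    (a * a') * (b * b') * (c * c') ∈ h.V := by
  have e : (a * a') * (b * b') * (c * c') =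
      (a * (((a' * b) * ((b' * c * b'⁻¹ * c⁻¹) * (c * a'⁻¹ * c⁻¹ * a'⁻¹⁻¹)) * (a' * b)⁻¹) *
        (a' * b * a'⁻¹ * b⁻¹)) * a⁻¹) * ((a * b * c) * (a' * b' * c')) := by group
  rw [e]
  refine mul_mem (h.conj_V_CV (h.R_le_CV ha) (mul_mem (h.conj_V_CV (h.R_le_CV (mul_mem ha' hb))
    (mul_mem ?_ ?_)) ?_)) (mul_mem h1 h2)
  · exact h.comm_R hV hb' hc
  · exact h.comm_R hV hc (inv_mem ha')
  · exact h.comm_R hV ha' hb

/-- The subgroup of the elements `x` of `R` with `T x ∈ V`. -/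
def TX (h : Ctx Q P z y) (hV : ∀ x ∈ Q, x ∈ P → x ∈ h.V) (F : h.IsF f) : Subgroup G where
  carrier := {x | x ∈ h.R ∧ T f x ∈ h.V}
  one_mem' := ⟨one_mem _, by simp [T]⟩
  mul_mem' := by
    rintro x x' ⟨hx, hxT⟩ ⟨hx', hxT'⟩
    refine ⟨mul_mem hx hx', ?_⟩
    have e : T f (x * x') =
        (x * x') * ((f * x * f⁻¹) * (f * x' * f⁻¹)) * ((f⁻¹ * x * f) * (f⁻¹ * x' * f)) := by
      rw [T]; group
    rw [e]
    exact h.T_mul_mem hV hx (F.conj_R hx) (F.conj_R_inv hx) hx' (F.conj_R hx') hxT hxT'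
  inv_mem' := by
    rintro x ⟨hx, hxT⟩
    have hmul : ∀ x x', (x ∈ h.R ∧ T f x ∈ h.V) → (x' ∈ h.R ∧ T f x' ∈ h.V) →
        (x * x' ∈ h.R ∧ T f (x * x') ∈ h.V) := by
      rintro x x' ⟨hx, hxT⟩ ⟨hx', hxT'⟩
      refine ⟨mul_mem hx hx', ?_⟩
      have e : T f (x * x') =
          (x * x') * ((f * x * f⁻¹) * (f * x' * f⁻¹)) * ((f⁻¹ * x * f) * (f⁻¹ * x' * f)) := by
        rw [T]; group
      rw [e]
      exact h.T_mul_mem hV hx (F.conj_R hx) (F.conj_R_inv hx) hx' (F.conj_R hx') hxT hxT'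
    have h4 := h.pow_four_R hV hx
    have e : x⁻¹ = x * x * x := by
      rw [inv_eq_iff_mul_eq_one, ← h4]
      simp only [pow_succ, pow_zero, one_mul, mul_assoc]
    show x⁻¹ ∈ h.R ∧ T f x⁻¹ ∈ h.V
    rw [e]
    exact hmul _ _ (hmul _ _ ⟨hx, hxT⟩ ⟨hx, hxT⟩) ⟨hx, hxT⟩

theorem IsF.T_conj {h : Ctx Q P z y} (F : h.IsF f) (hV : ∀ x ∈ Q, x ∈ P → x ∈ h.V) {c x : G}
    (hc : c ∈ CV z y) (hx : x ∈ h.R) (hT : T f x ∈ h.V) : T f (c * x * c⁻¹) ∈ h.V := by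
  have hρ := h.comm_W F.W hc
  have hρ' := h.comm_W (inv_mem F.W) hc
  rw [inv_inv] at hρ'
  have hu2 := h.conj_R_CV hc (F.conj_R hx)
  have hu3 := h.conj_R_CV hc (F.conj_R_inv hx)
  have hu1 := h.conj_R_CV hc hx
  have e : T f (c * x * c⁻¹) =
      ((c * x * c⁻¹) * ((f * c * f⁻¹ * c⁻¹) * (c * (f * x * f⁻¹) * c⁻¹) *
        (f * c * f⁻¹ * c⁻¹)⁻¹ * (c * (f * x * f⁻¹) * c⁻¹)⁻¹) * (c * x * c⁻¹)⁻¹) *
      (((c * x * c⁻¹) * (c * (f * x * f⁻¹) * c⁻¹)) *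
        ((f⁻¹ * c * f * c⁻¹) * (c * (f⁻¹ * x * f) * c⁻¹) * (f⁻¹ * c * f * c⁻¹)⁻¹ *
          (c * (f⁻¹ * x * f) * c⁻¹)⁻¹) * ((c * x * c⁻¹) * (c * (f * x * f⁻¹) * c⁻¹))⁻¹) *
      (c * T f x * c⁻¹) := by
    simp only [T]; group
  rw [e]
  refine mul_mem (mul_mem (h.conj_V_CV (h.R_le_CV hu1) (h.comm_R hV hρ hu2)) ?_)
    (h.conj_V_CV hc hT)
  exact h.conj_V_CV (h.R_le_CV (mul_mem hu1 hu2)) (h.comm_R hV hρ' hu3)

theorem IsF.T_f {h : Ctx Q P z y} (F : h.IsF f) {x : G} :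
    T f (f * x * f⁻¹) = f * T f x * f⁻¹ := by
  have e : f * (f * x * f⁻¹) * f⁻¹ = f * f * x * (f * f)⁻¹ := by group
  simp only [T]
  rw [e, ← F.inv]
  have e2 : f * (x * (f * x * f⁻¹) * (f⁻¹ * x * f)) * f⁻¹ =
      (f * x * f⁻¹) * (f * f * x * (f * f)⁻¹) * x := by group
  rw [e2, ← F.inv]
  group

/-- The relation modulo `V`. -/
theorem IsF.T_mem {h : Ctx Q P z y} (F : h.IsF f) (hV : ∀ x ∈ Q, x ∈ P → x ∈ h.V)
    (h0 : h.Vec a0) {x : G} (hx : x ∈ h.R) : T f x ∈ h.V := by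
  have hA : ∀ a ∈ h.A, a ∈ h.TX hV F := by
    refine h0.gen _ (fun v hv => ⟨h.V_le_R hv, ?_⟩) (fun c hc => ⟨?_, ?_⟩)
    · exact mul_mem (mul_mem hv (F.conj_V hv)) (F.conj_V_inv hv)
    · exact h.conj_R_CV hc (h.A_le_R h0.mem)
    · exact F.T_conj hV hc (h.A_le_R h0.mem) (F.T_a0 hV h0)
  have hB : ∀ b ∈ h.B, b ∈ h.TX hV F := by
    intro b hb
    refine ⟨h.B_le_R hb, ?_⟩
    have e : b = f * (f⁻¹ * b * f) * f⁻¹ := by group
    have h1 : f⁻¹ * b * f ∈ h.A := by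
      rw [F.mem_A_iff, ← e]; exact hb
    rw [e, F.T_f]
    exact F.conj_V (hA _ h1).2
  obtain ⟨a, ha, b, hb, rfl⟩ := hx
  exact (mul_mem (hA a ha) (hB b hb)).2

/-- The fundamental relation `x x^f x^(f^2) = 1` for `x ∈ R`. -/
theorem IsF.T_eq_one {h : Ctx Q P z y} (F : h.IsF f) (hV : ∀ x ∈ Q, x ∈ P → x ∈ h.V)
    (h0 : h.Vec a0) {x : G} (hx : x ∈ h.R) : T f x = 1 := by
  have h1 := F.T_mem hV h0 hx
  apply F.eq_one_of_V h1
  have e2 : f * T f x * f⁻¹ = (f * x * f⁻¹) * (f * f * x * (f * f)⁻¹) * x := by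
    rw [T]; group
  rw [e2, ← F.inv]
  have e3 : f * x * f⁻¹ * (f⁻¹ * x * f⁻¹⁻¹) * x = x⁻¹ * T f x * x := by
    rw [T]; group
  rw [e3, mul_assoc, ← h.V_comm_CV h1 (h.R_le_CV hx), ← mul_assoc, inv_mul_cancel, one_mul]

/-- `f` is fixed point free on `R`. -/
theorem IsF.fpf {h : Ctx Q P z y} (F : h.IsF f) (hV : ∀ x ∈ Q, x ∈ P → x ∈ h.V)
    (h0 : h.Vec a0) {x : G} (hx : x ∈ h.R) (hfx : f * x * f⁻¹ = x) : x = 1 := by
  have h1 := F.T_eq_one hV h0 hx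
  have h2 : f⁻¹ * x * f = x := by
    calc f⁻¹ * x * f = f⁻¹ * (f * x * f⁻¹) * f := by rw [hfx]
      _ = x := by group
  rw [T, hfx, h2] at h1
  have h3 := h.pow_four_R hV hx
  have h4 : x ^ 4 = x * x * x * x := by simp only [pow_succ, pow_zero, one_mul]
  rw [h4, h1, one_mul] at h3
  exact h3

end T

/-! ### The complement -/

section L

variable {f a0 : G}

/-- the complement `L` to `R` in `C(V)` -/
def L (_ : Ctx Q P z y) (f : G) : Subgroup G := CV z y ⊓ centralizer ({f} : Set G)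

theorem mem_L (h : Ctx Q P z y) {x : G} : x ∈ h.L f ↔ x ∈ CV z y ∧ x * f = f * x := by
  rw [L, mem_inf, mem_centralizer_singleton_iff]

theorem IsF.L_inf_R {h : Ctx Q P z y} (F : h.IsF f) (hV : ∀ x ∈ Q, x ∈ P → x ∈ h.V)
    (h0 : h.Vec a0) {x : G} (hx : x ∈ h.L f) (hxR : x ∈ h.R) : x = 1 := by
  refine F.fpf hV h0 hxR ?_
  rw [← (h.mem_L.mp hx).2, mul_inv_cancel_right]

theorem surj_aux [Finite G] {R : Subgroup G} {f : G} (hR : ∀ x ∈ R, f * x * f⁻¹ ∈ R)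
    (hf : ∀ x ∈ R, f * x * f⁻¹ = x → x = 1) {ρ : G} (hρ : ρ ∈ R) :
    ∃ x ∈ R, x⁻¹ * (f * x * f⁻¹) = ρ := by
  let φ : R → R := fun x => ⟨(x : G)⁻¹ * (f * x * f⁻¹), mul_mem (inv_mem x.2) (hR _ x.2)⟩
  have hinj : Function.Injective φ := by
    intro x x' hxx
    have h1 : (x : G)⁻¹ * (f * x * f⁻¹) = (x' : G)⁻¹ * (f * x' * f⁻¹) := congrArg Subtype.val hxx
    have h2 : f * ((x' : G) * (x : G)⁻¹) * f⁻¹ = (x' : G) * (x : G)⁻¹ := by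
      calc f * ((x' : G) * (x : G)⁻¹) * f⁻¹
          = (x' : G) * ((x' : G)⁻¹ * (f * x' * f⁻¹)) * (f * x * f⁻¹)⁻¹ := by group
        _ = (x' : G) * ((x : G)⁻¹ * (f * x * f⁻¹)) * (f * x * f⁻¹)⁻¹ := by rw [h1]
        _ = (x' : G) * (x : G)⁻¹ := by group
    have h3 := hf _ (mul_mem x'.2 (inv_mem x.2)) h2
    exact (Subtype.ext (mul_inv_eq_one.mp h3)).symm
  obtain ⟨x, hx⟩ := Finite.injective_iff_surjective.mp hinj ⟨ρ, hρ⟩
  exact ⟨x, x.2, congrArg Subtype.val hx⟩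

/-- `C(V) = R L` -/
theorem IsF.exists_R_L [Finite G] {h : Ctx Q P z y} (F : h.IsF f)
    (hV : ∀ x ∈ Q, x ∈ P → x ∈ h.V) (h0 : h.Vec a0) {c : G} (hc : c ∈ CV z y) :
    ∃ x ∈ h.R, ∃ l ∈ h.L f, c = x * l := by
  have hρ := h.comm_W F.W hc
  obtain ⟨x, hx, hxe⟩ := surj_aux (fun x hx => F.conj_R hx) (fun x hx => F.fpf hV h0 hx)
    (inv_mem hρ)
  refine ⟨x⁻¹, inv_mem hx, x * c, ?_, by group⟩
  rw [h.mem_L]
  refine ⟨mul_mem (h.R_le_CV hx) hc, ?_⟩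
  have h1 : f * x * f⁻¹ = x * (f * c * f⁻¹ * c⁻¹)⁻¹ := by rw [← hxe]; group
  calc x * c * f = (x * (f * c * f⁻¹ * c⁻¹)⁻¹) * (f * c * f⁻¹ * c⁻¹) * c * f := by group
    _ = (f * x * f⁻¹) * (f * c * f⁻¹ * c⁻¹) * c * f := by rw [h1]
    _ = f * (x * c) := by group

/-- The elements of `Q` not centralizing `y`. -/
theorem exists_q (h : Ctx Q P z y) : ∃ q ∈ Q, q * y * q⁻¹ = z * y :=
  h.D.exists_conj h.yQ h.yy h.y1 h.ne

theorem conj_z_of_Q (h : Ctx Q P z y) {q : G} (hq : q ∈ Q) : q * z * q⁻¹ = z := by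
  rw [h.D.com q hq, mul_inv_cancel_right]

/-- An element of `A` fixed modulo `V` by `L` is in `V`. -/
theorem IsF.fix_L [Finite G] {h : Ctx Q P z y} (F : h.IsF f) (hV : ∀ x ∈ Q, x ∈ P → x ∈ h.V)
    (h0 : h.Vec a0) (h4 : ∃ a ∈ h.A, a ∉ h.V ∧ a * a0 ∉ h.V) {a : G} (ha : a ∈ h.A)
    (hfix : ∀ l ∈ h.L f, h.Fx l a) : a ∈ h.V := by
  have hCa := (h.mem_A.mp ha).2
  have hall : ∀ b ∈ h.A, (∀ l ∈ h.L f, h.Fx l b) → ∀ c ∈ CV z y, h.Fx c b := by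
    intro b hb hbl c hc
    obtain ⟨x, hx, l, hl, rfl⟩ := F.exists_R_L hV h0 hc
    have h1 := hbl l hl
    have h2 := h.comm_R hV hx (h.A_le_R hb)
    show x * l * b * (x * l)⁻¹ * b⁻¹ ∈ h.V
    have e : x * l * b * (x * l)⁻¹ * b⁻¹ =
        (x * (l * b * l⁻¹ * b⁻¹) * x⁻¹) * (x * b * x⁻¹ * b⁻¹) := by group
    rw [e]
    exact mul_mem (h.conj_V_CV (h.R_le_CV hx) h1) h2
  rcases h0.fix a ha (fun c hc _ => hall a ha hfix c hc) with h1 | h1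
  · exact h1
  · exfalso
    -- `a₀` is fixed by everything
    have h2 : ∀ c ∈ CV z y, h.Fx c a0 := by
      intro c hc
      have h3 : a0 = a⁻¹ * (a * a0) := by group
      rw [h3]
      exact h.Fx_mul (inv_mem hCa) (h.Fx_inv hCa (hall a ha hfix c hc)) (h.Fx_V hc h1)
    -- the subgroup `V ∪ V a₀`
    have hCa0 := (h.mem_A.mp h0.mem).2
    have hsq0 : a0 * a0 ∈ h.V := h.sq_R hV (h.A_le_R h0.mem)
    let X : Subgroup G :=
      { carrier := {x | x ∈ h.V ∨ x * a0 ∈ h.V}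
        one_mem' := Or.inl (one_mem _)
        mul_mem' := by
          rintro x x' (hx | hx) (hx' | hx')
          · exact Or.inl (mul_mem hx hx')
          · right
            rw [mul_assoc]
            exact mul_mem hx hx'
          · right
            have e : x * x' * a0 = (x * a0) * (a0⁻¹ * x' * a0) := by group
            rw [e]
            have h5 := h.conj_V_CV (inv_mem hCa0) hx'
            rw [inv_inv] at h5
            exact mul_mem hx h5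
          · left
            have e : x * x' = (x * a0) * (a0⁻¹ * (x' * a0) * a0) * (a0 * a0)⁻¹ := by group
            rw [e]
            have h5 := h.conj_V_CV (inv_mem hCa0) hx'
            rw [inv_inv] at h5
            exact mul_mem (mul_mem hx h5) (inv_mem hsq0)
        inv_mem' := by
          rintro x (hx | hx)
          · exact Or.inl (inv_mem hx)
          · right
            show x⁻¹ * a0 ∈ h.V
            have e : x⁻¹ * a0 = a0 * (x * a0)⁻¹ * a0⁻¹ * (a0 * a0) := by group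
            rw [e]
            exact mul_mem (h.conj_V_CV hCa0 (inv_mem hx)) hsq0 }
    obtain ⟨b, hb, hb1, hb2⟩ := h4
    have h3 : b ∈ X := by
      refine h0.gen X (fun v hv => Or.inl hv) (fun c hc => Or.inr ?_) b hb
      have h4 := h2 c hc
      have e : c * a0 * c⁻¹ * a0 = (c * a0 * c⁻¹ * a0⁻¹) * (a0 * a0) := by group
      rw [e]
      exact mul_mem h4 hsq0
    rcases h3 with h3 | h3
    · exact hb1 h3
    · exact hb2 h3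

/-- The involution `τ ∈ Q` inverting `f` and centralizing `L`. -/
theorem IsF.exists_tau [Finite G] {h : Ctx Q P z y} (F : h.IsF f)
    (hV : ∀ x ∈ Q, x ∈ P → x ∈ h.V) (h0 : h.Vec a0)
    (h3 : ∀ c ∈ CV z y, (∀ d ∈ CV z y, c * d * c⁻¹ * d⁻¹ ∈ h.R) → c ∈ h.R)
    (h4 : ∃ a ∈ h.A, a ∉ h.V ∧ a * a0 ∉ h.V) :
    ∃ τ ∈ Q, τ * τ = 1 ∧ τ * f * τ⁻¹ = f⁻¹ ∧ τ * y * τ⁻¹ = z * y ∧
      ∀ l ∈ h.L f, τ * l = l * τ := by
  obtain ⟨q, hq, hqy⟩ := h.exists_q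
  have hqz := h.conj_z_of_Q hq
  have hqW : q ∈ Q ⊔ P := (le_sup_left : Q ≤ Q ⊔ P) hq
  -- the action of `f⁻¹`
  have hfi : ∀ v w : G, f * v * f⁻¹ = w → f⁻¹ * w * f = v := by
    rintro v w rfl; group
  have fiz : f⁻¹ * z * f = z * y := hfi _ _ F.fzy
  have fiy : f⁻¹ * y * f = z := hfi _ _ F.fz
  have fizy : f⁻¹ * (z * y) * f = y := hfi _ _ F.fy
  -- an element of `W` acting on `V` like `q` which inverts `f`
  have hq' : ∀ v w : G, q * v * q⁻¹ = w → q⁻¹ * w * q = v := by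
    rintro v w rfl; group
  have hqiz : q⁻¹ * z * q = z := hq' _ _ hqz
  have hqzy : q * (z * y) * q⁻¹ = y := by
    calc q * (z * y) * q⁻¹ = (q * z * q⁻¹) * (q * y * q⁻¹) := by group
      _ = y := by rw [hqz, hqy, ← mul_assoc, h.zz, one_mul]
  have hqiy : q⁻¹ * y * q = z * y := hq' _ _ hqzy
  have hρC : q * f * q⁻¹ * f ∈ CV z y := by
    rw [mem_CV]
    constructor
    · rw [← mul_inv_eq_iff_eq_mul]
      calc q * f * q⁻¹ * f * z * (q * f * q⁻¹ * f)⁻¹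
          = q * (f * (q⁻¹ * (f * z * f⁻¹) * q) * f⁻¹) * q⁻¹ := by group
        _ = z := by rw [F.fz, hqiy, F.fzy, hqz]
    · rw [← mul_inv_eq_iff_eq_mul]
      have hqizy : q⁻¹ * (z * y) * q = y := hq' _ _ hqy
      calc q * f * q⁻¹ * f * y * (q * f * q⁻¹ * f)⁻¹
          = q * (f * (q⁻¹ * (f * y * f⁻¹) * q) * f⁻¹) * q⁻¹ := by group
        _ = y := by rw [F.fy, hqizy, F.fy, hqzy]
  have hρW : q * f * q⁻¹ * f ∈ Q ⊔ P :=
    mul_mem (mul_mem (mul_mem hqW F.W) (inv_mem hqW)) F.W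
  have hρR : q * f * q⁻¹ * f ∈ h.R := h3 _ hρC (fun d hd => h.comm_W hρW hd)
  -- correct by an element of `R`
  have hfpf' : ∀ x ∈ h.R, f⁻¹ * x * f⁻¹⁻¹ = x → x = 1 := by
    intro x hx hx'
    rw [inv_inv] at hx'
    refine F.fpf hV h0 hx ?_
    calc f * x * f⁻¹ = f * (f⁻¹ * x * f) * f⁻¹ := by rw [hx']
      _ = x := by group
  obtain ⟨x, hx, hxe⟩ := surj_aux (f := f⁻¹)
    (fun x hx => by rw [inv_inv]; exact F.conj_R_inv hx) hfpf' hρR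
  rw [inv_inv] at hxe
  obtain ⟨σ, hσ⟩ : ∃ σ, σ = x * q := ⟨_, rfl⟩
  have hxC := mem_CV.mp (h.R_le_CV hx)
  have hxW : x ∈ Q ⊔ P := by
    obtain ⟨a, ha, b, hb, rfl⟩ := hx
    exact mul_mem ((le_sup_left : Q ≤ Q ⊔ P) (h.mem_A.mp ha).1)
      ((le_sup_right : P ≤ Q ⊔ P) (h.mem_B.mp hb).1)
  have hσW : σ ∈ Q ⊔ P := by rw [hσ]; exact mul_mem hxW hqW
  have hσf : σ * f * σ⁻¹ = f⁻¹ := by
    have h5 : q * f * q⁻¹ = x⁻¹ * (f⁻¹ * x * f) * f⁻¹ := by rw [hxe]; group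
    calc σ * f * σ⁻¹ = x * (q * f * q⁻¹) * x⁻¹ := by rw [hσ]; group
      _ = f⁻¹ := by rw [h5]; group
  have hσz : σ * z * σ⁻¹ = z := by
    calc σ * z * σ⁻¹ = x * (q * z * q⁻¹) * x⁻¹ := by rw [hσ]; group
      _ = z := by rw [hqz, hxC.1, mul_inv_cancel_right]
  have hσy : σ * y * σ⁻¹ = z * y := by
    calc σ * y * σ⁻¹ = x * (q * y * q⁻¹) * x⁻¹ := by rw [hσ]; group
      _ = (x * z * x⁻¹) * (x * y * x⁻¹) := by rw [hqy]; group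
      _ = z * y := by rw [hxC.1, hxC.2, mul_inv_cancel_right, mul_inv_cancel_right]
  have hσzy : σ * (z * y) * σ⁻¹ = y := by
    calc σ * (z * y) * σ⁻¹ = (σ * z * σ⁻¹) * (σ * y * σ⁻¹) := by group
      _ = y := by rw [hσz, hσy, ← mul_assoc, h.zz, one_mul]
  have hσ2C : σ * σ ∈ CV z y := by
    rw [mem_CV]
    constructor
    · rw [← mul_inv_eq_iff_eq_mul]
      calc σ * σ * z * (σ * σ)⁻¹ = σ * (σ * z * σ⁻¹) * σ⁻¹ := by group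
        _ = z := by rw [hσz, hσz]
    · rw [← mul_inv_eq_iff_eq_mul]
      calc σ * σ * y * (σ * σ)⁻¹ = σ * (σ * y * σ⁻¹) * σ⁻¹ := by group
        _ = y := by rw [hσy, hσzy]
  have hσ2R : σ * σ ∈ h.R := h3 _ hσ2C (fun d hd => h.comm_W (mul_mem hσW hσW) hd)
  have hσfi : σ * f⁻¹ * σ⁻¹ = f := by
    calc σ * f⁻¹ * σ⁻¹ = (σ * f * σ⁻¹)⁻¹ := by group
      _ = f := by rw [hσf, inv_inv]
  have hσσ : σ * σ = 1 := by
    refine F.fpf hV h0 hσ2R ?_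
    have h5 : (σ * σ) * f * (σ * σ)⁻¹ = f := by
      calc (σ * σ) * f * (σ * σ)⁻¹ = σ * (σ * f * σ⁻¹) * σ⁻¹ := by group
        _ = f := by rw [hσf, hσfi]
    have h6 : (σ * σ) * f = f * (σ * σ) := mul_inv_eq_iff_eq_mul.mp h5
    rw [← h6, mul_inv_cancel_right]
  have hσi : σ⁻¹ = σ := inv_eq_of_mul_eq_one_left hσσ
  have hσL : ∀ l ∈ h.L f, σ * l = l * σ := by
    intro l hl
    obtain ⟨hlC, hlf⟩ := h.mem_L.mp hl
    have h5 := h.comm_W hσW hlC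
    have h6 : σ * l * σ⁻¹ * l⁻¹ = 1 := by
      refine F.fpf hV h0 h5 ?_
      have h7 : (σ * l * σ⁻¹) * f = f * (σ * l * σ⁻¹) := by
        have hlf' : l * f⁻¹ = f⁻¹ * l := by
          rw [eq_inv_mul_iff_mul_eq, ← mul_assoc, ← hlf, mul_inv_cancel_right]
        calc (σ * l * σ⁻¹) * f = (σ * l * σ⁻¹) * (σ * f⁻¹ * σ⁻¹) := by rw [hσfi]
          _ = σ * (l * f⁻¹) * σ⁻¹ := by group
          _ = (σ * f⁻¹ * σ⁻¹) * (σ * l * σ⁻¹) := by rw [hlf']; group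
          _ = f * (σ * l * σ⁻¹) := by rw [hσfi]
      have h8 : l⁻¹ * f = f * l⁻¹ := by
        rw [inv_mul_eq_iff_eq_mul, ← mul_assoc, hlf, mul_inv_cancel_right]
      rw [mul_inv_eq_iff_eq_mul]
      calc f * (σ * l * σ⁻¹ * l⁻¹) = (f * (σ * l * σ⁻¹)) * l⁻¹ := by group
        _ = (σ * l * σ⁻¹) * (f * l⁻¹) := by rw [← h7]; group
        _ = (σ * l * σ⁻¹ * l⁻¹) * f := by rw [← h8]; group
    have h7 : σ * l * σ⁻¹ = l := mul_inv_eq_one.mp h6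
    exact mul_inv_eq_iff_eq_mul.mp h7
  refine ⟨σ, ?_, hσσ, hσf, hσy, hσL⟩
  -- `σ ∈ Q`
  obtain ⟨b, hb, a, ha, hba⟩ := h.mem_R_symm.mpr hx
  rw [h.A_symm] at hb
  rw [h.B_symm] at ha
  have haq : a * q ∈ Q := mul_mem (h.mem_A.mp ha).1 hq
  have hσe : σ = b * (a * q) := by rw [hσ, hba]; group
  have hbfix : ∀ l ∈ h.L f, h.Fx l b := by
    intro l hl
    obtain ⟨hlC, hlf⟩ := h.mem_L.mp hl
    have h5 : l * σ * l⁻¹ = σ := by rw [← hσL l hl, mul_inv_cancel_right]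
    rw [hσe] at h5
    have h6 : b⁻¹ * (l * b * l⁻¹) = (a * q) * (l * (a * q) * l⁻¹)⁻¹ := by
      have h7 : l * (b * (a * q)) * l⁻¹ = (l * b * l⁻¹) * (l * (a * q) * l⁻¹) := by group
      rw [h7] at h5
      rw [eq_mul_inv_iff_mul_eq, mul_assoc, h5]
      group
    have h7 : b⁻¹ * (l * b * l⁻¹) ∈ h.V := by
      refine hV _ ?_ ?_
      · rw [h6]
        exact mul_mem haq (inv_mem (h.D.norm l (mem_CV.mp hlC).1 _ haq))
      · exact (h.mem_B.mp (mul_mem (inv_mem hb) (h.conj_B hlC hb))).1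
    have h8 := h.conj_V_CV (h.mem_B.mp hb).2 h7
    show l * b * l⁻¹ * b⁻¹ ∈ h.V
    have h9 : b * (b⁻¹ * (l * b * l⁻¹)) * b⁻¹ = l * b * l⁻¹ * b⁻¹ := by group
    rwa [h9] at h8
  have hbV : b ∈ h.V := by
    have h5 : f⁻¹ * b * f ∈ h.A := by
      rw [F.mem_A_iff]
      have : f * (f⁻¹ * b * f) * f⁻¹ = b := by group
      rw [this]; exact hb
    have h6 := F.fix_L hV h0 h4 h5 (fun l hl => by
      have h7 := h.Fx_W hV (h.mem_L.mp hl).1 (inv_mem F.W) (h.B_le_R hb) (hbfix l hl)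
      rwa [inv_inv] at h7)
    have h7 := F.conj_V h6
    have h8 : f * (f⁻¹ * b * f) * f⁻¹ = b := by group
    rwa [h8] at h7
  rw [hσe]
  exact mul_mem (h.V_le_Q hbV) haq

/-- `C_Q(L) = V ∪ V τ`. -/
theorem IsF.mem_of_comm_L [Finite G] {h : Ctx Q P z y} (F : h.IsF f)
    (hV : ∀ x ∈ Q, x ∈ P → x ∈ h.V) (h0 : h.Vec a0)
    (h4 : ∃ a ∈ h.A, a ∉ h.V ∧ a * a0 ∉ h.V) {τ x : G} (hτ : τ ∈ Q)
    (hτy : τ * y * τ⁻¹ = z * y) (hτL : ∀ l ∈ h.L f, τ * l = l * τ) (hx : x ∈ Q)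
    (hxL : ∀ l ∈ h.L f, x * l = l * x) : x ∈ h.V ∨ x * τ ∈ h.V := by
  have key : ∀ w ∈ Q, w * y * w⁻¹ = y → (∀ l ∈ h.L f, w * l = l * w) → w ∈ h.V := by
    intro w hw hwy hwL
    refine F.fix_L hV h0 h4 (h.mem_A_iff.mpr ⟨hw, mul_inv_eq_iff_eq_mul.mp hwy⟩) (fun l hl => ?_)
    show l * w * l⁻¹ * w⁻¹ ∈ h.V
    rw [← hwL l hl, mul_inv_cancel_right, mul_inv_cancel]
    exact one_mem _
  rcases h.D.comm x hx y h.yQ with h1 | h1
  · exact Or.inl (key x hx h1 hxL)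
  · right
    refine key _ (mul_mem hx hτ) ?_ (fun l hl => ?_)
    · calc x * τ * y * (x * τ)⁻¹ = x * (τ * y * τ⁻¹) * x⁻¹ := by group
        _ = (x * z * x⁻¹) * (x * y * x⁻¹) := by rw [hτy]; group
        _ = y := by rw [h.conj_z_of_Q hx, h1, ← mul_assoc, h.zz, one_mul]
    · rw [mul_assoc, hτL l hl, ← mul_assoc, hxL l hl, mul_assoc]

end L

/-- `Q ∩ P = V` follows from the irreducibility of `A / V`. -/
theorem inter_eq_V (h : Ctx Q P z y) {a0 : G}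
    (hirr : ∀ X : Subgroup G, (∀ v ∈ h.V, v ∈ X) → (∀ c ∈ CV z y, ∀ x ∈ X, c * x * c⁻¹ ∈ X) →
      (∀ x ∈ X, x ∈ h.A) → (∀ x ∈ X, x ∈ h.V) ∨ (∀ x ∈ h.A, x ∈ X))
    (hna : a0 ∈ h.A ∧ ∃ a ∈ h.A, a * a0 ≠ a0 * a) : ∀ x ∈ Q, x ∈ P → x ∈ h.V := by
  rcases hirr (h.A ⊓ h.B) (fun v hv => ⟨h.V_le_A hv, h.V_le_B hv⟩)
    (fun c hc x hx => ⟨h.conj_A hc hx.1, h.conj_B hc hx.2⟩) (fun x hx => hx.1) with h1 | h1
  · intro x hQ hP
    exact h1 x (h.inter_le hQ hP)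
  · exfalso
    obtain ⟨h2, a, ha, hne⟩ := hna
    have hB := (h.mem_B.mp (h1 a ha).2).1
    have hB0 := (h.mem_B.mp (h1 a0 h2).2).1
    have hA := (h.mem_A.mp ha).1
    have hA0 := (h.mem_A.mp h2).1
    rcases h.D.comm a hA a0 hA0 with h3 | h3
    · exact hne (mul_inv_eq_iff_eq_mul.mp h3)
    rcases h.E.comm a hB a0 hB0 with h4 | h4
    · exact hne (mul_inv_eq_iff_eq_mul.mp h4)
    rw [h3] at h4
    exact h.ne (mul_right_cancel h4).symm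

/-- **The normalizer of the four-group**: summary. -/
theorem main_four [Finite G] (h : Ctx Q P z y) {a0 : G} (hV : ∀ x ∈ Q, x ∈ P → x ∈ h.V)
    (h0 : h.Vec a0)
    (h3 : ∀ c ∈ CV z y, (∀ d ∈ CV z y, c * d * c⁻¹ * d⁻¹ ∈ h.R) → c ∈ h.R)
    (h4 : ∃ a ∈ h.A, a ∉ h.V ∧ a * a0 ∉ h.V) :
    ∃ f τ : G, h.IsF f ∧ τ ∈ Q ∧ τ * τ = 1 ∧ τ * f * τ⁻¹ = f⁻¹ ∧ τ * y * τ⁻¹ = z * y ∧
      (∀ l ∈ h.L f, τ * l = l * τ) ∧ (∀ l ∈ h.L f, l * f = f * l) ∧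
      (∀ x ∈ h.L f, x ∈ h.R → x = 1) ∧
      (∀ c ∈ CV z y, ∃ x ∈ h.R, ∃ l ∈ h.L f, c = x * l) ∧
      (∀ x ∈ h.R, x * (f * x * f⁻¹) * (f⁻¹ * x * f) = 1) ∧
      (∀ x ∈ Q, (∀ l ∈ h.L f, x * l = l * x) → x ∈ h.V ∨ x * τ ∈ h.V) := by
  obtain ⟨f, F⟩ := h.exists_f hV h3
  obtain ⟨τ, h5, h6, h7, h8, h9⟩ := F.exists_tau hV h0 h3 h4
  exact ⟨f, τ, F, h5, h6, h7, h8, h9, fun l hl => (h.mem_L.mp hl).2,
    fun x hx hxR => F.L_inf_R hV h0 hx hxR, fun c hc => F.exists_R_L hV h0 hc,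
    fun x hx => F.T_eq_one hV h0 hx, fun x hx hxL => F.mem_of_comm_L hV h0 h4 h5 h8 h9 hx hxL⟩

end Ctx

end Cfsg.Agent.LargeExtra.FourGroup
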