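import Mathlib
import Cfsg.Agent.LargeExtra.FourGroup

/-!
# The kernel of `C_G(V)` on `A / V` is `R`

Counting: `K = {c ∈ C_G(V) | [c, A] ≤ V}` satisfies `|K| ≤ 4 ^ (m + 1) ≤ |R|`, where `|Q| = 2 ^ (m + 3)` and `A` is
generated by `V` and `m` elements.
-/

set_option autoImplicit false

namespace Cfsg.Agent.LargeExtra.FourGroup.Ctx

open Subgroup
open Cfsg.Agent.ClassificationK.LargeSymplectic

variable {G : Type*} [Group G] {Q P : Subgroup G} {z y : G}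

/-- The elements of `C_G(V)` acting trivially on `A / V`. -/
def K (h : Ctx Q P z y) : Subgroup G where
  carrier := {c | c ∈ CV z y ∧ ∀ x ∈ h.A, h.Fx c x}
  one_mem' := ⟨one_mem _, fun x _ => by
    show 1 * x * 1⁻¹ * x⁻¹ ∈ h.V
    simp⟩
  mul_mem' := by
    rintro a b ⟨ha, ha'⟩ ⟨hb, hb'⟩
    refine ⟨mul_mem ha hb, fun x hx => ?_⟩
    show a * b * x * (a * b)⁻¹ * x⁻¹ ∈ h.V
    have e : a * b * x * (a * b)⁻¹ * x⁻¹ = (a * (b * x * b⁻¹) * a⁻¹ * (b * x * b⁻¹)⁻¹) *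
      (b * x * b⁻¹ * x⁻¹) := by group
    rw [e]
    exact mul_mem (ha' _ (h.conj_A hb hx)) (hb' x hx)
  inv_mem' := by
    rintro a ⟨ha, ha'⟩
    refine ⟨inv_mem ha, fun x hx => ?_⟩
    show a⁻¹ * x * a⁻¹⁻¹ * x⁻¹ ∈ h.V
    have e : a⁻¹ * x * a⁻¹⁻¹ * x⁻¹ = a⁻¹ * (a * x * a⁻¹ * x⁻¹)⁻¹ * a⁻¹⁻¹ := by group
    rw [e]
    exact h.conj_V_CV (inv_mem ha) (inv_mem (ha' x hx))

theorem mem_K (h : Ctx Q P z y) {c : G} : c ∈ h.K ↔ c ∈ CV z y ∧ ∀ x ∈ h.A, h.Fx c x := Iff.rfl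

theorem R_le_K (h : Ctx Q P z y) (hV : ∀ x ∈ Q, x ∈ P → x ∈ h.V) : h.R ≤ h.K := fun _ hc =>
  ⟨h.R_le_CV hc, fun _ hx => h.Fx_R hV hc (h.A_le_R hx)⟩

theorem exists_tr (h : Ctx Q P z y) : ∃ w : G, w * z * w⁻¹ = y ∧ w * y * w⁻¹ = z * y ∧
    ∀ x, x ∈ Q ↔ w * x * w⁻¹ ∈ P := by
  obtain ⟨w, -, h1, h2⟩ := h.tr
  exact ⟨w, h1, h2, h.cj w h1⟩

/-- `|A| = |B|`. -/
theorem card_B (h : Ctx Q P z y) : Nat.card h.B = Nat.card h.A := by
  obtain ⟨w, h1, h2, h3⟩ := h.exists_tr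
  have e : h.B = h.A.map (MulAut.conj w).toMonoidHom := by
    ext x
    rw [mem_map]
    constructor
    · intro hx
      rw [mem_B_iff] at hx
      refine ⟨w⁻¹ * x * w, h.mem_A_iff.mpr ⟨?_, ?_⟩, ?_⟩
      · rw [h3]
        have : w * (w⁻¹ * x * w) * w⁻¹ = x := by group
        rw [this]; exact hx.1
      · -- `x` commutes with `z * y = w y w⁻¹`
        have hzy : x * (z * y) = z * y * x := by
          rw [← mul_assoc, hx.2, mul_assoc, h.E.com x hx.1, ← mul_assoc]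
        rw [← h2] at hzy
        calc w⁻¹ * x * w * y = w⁻¹ * (x * (w * y * w⁻¹)) * w := by group
          _ = w⁻¹ * (w * y * w⁻¹ * x) * w := by rw [hzy]
          _ = y * (w⁻¹ * x * w) := by group
      · show w * (w⁻¹ * x * w) * w⁻¹ = x
        group
    · rintro ⟨a, ha, rfl⟩
      rw [mem_A_iff] at ha
      show w * a * w⁻¹ ∈ h.B
      rw [mem_B_iff]
      refine ⟨(h3 a).mp ha.1, ?_⟩
      have hP : w * a * w⁻¹ ∈ P := (h3 a).mp ha.1
      have hzy : w * a * w⁻¹ * (z * y) = z * y * (w * a * w⁻¹) := by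
        rw [← h2]
        calc w * a * w⁻¹ * (w * y * w⁻¹) = w * (a * y) * w⁻¹ := by group
          _ = w * (y * a) * w⁻¹ := by rw [ha.2]
          _ = _ := by group
      have hy := h.E.com _ hP
      calc w * a * w⁻¹ * z = w * a * w⁻¹ * (z * y) * y := by
            rw [mul_assoc (w * a * w⁻¹) (z * y), mul_assoc z, h.yy, mul_one]
        _ = z * y * (w * a * w⁻¹) * y := by rw [hzy]
        _ = z * (w * a * w⁻¹) := by
          rw [mul_assoc (z * y), hy, ← mul_assoc (z * y), mul_assoc z, h.yy, mul_one]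
  rw [e]
  exact Nat.card_congr (h.A.equivMapOfInjective _ (MulAut.conj w).injective).symm.toEquiv

/-- `|Q| ≤ 2 |A|`. -/
theorem card_Q_le [Finite G] (h : Ctx Q P z y) : Nat.card Q ≤ Nat.card h.A * 2 := by
  classical
  obtain ⟨τ, hτ, hτy⟩ := h.exists_q
  have hmem : ∀ x ∈ Q, x ∈ h.A ∨ x * τ ∈ h.A := by
    intro x hx
    rcases h.D.comm x hx y h.yQ with h1 | h1
    · left; exact h.mem_A_iff.mpr ⟨hx, mul_inv_eq_iff_eq_mul.mp h1⟩
    · right
      refine h.mem_A_iff.mpr ⟨mul_mem hx hτ, mul_inv_eq_iff_eq_mul.mp ?_⟩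
      calc x * τ * y * (x * τ)⁻¹ = x * (τ * y * τ⁻¹) * x⁻¹ := by group
        _ = (x * z * x⁻¹) * (x * y * x⁻¹) := by rw [hτy]; group
        _ = y := by rw [h.conj_z_of_Q hx, h1, ← mul_assoc, h.zz, one_mul]
  let F : Q → h.A × Bool := fun x =>
    if hx : (x : G) ∈ h.A then (⟨x, hx⟩, true)
    else (⟨x * τ, (hmem x x.2).resolve_left hx⟩, false)
  have hF : Function.Injective F := by
    intro a b hab
    simp only [F] at hab
    split_ifs at hab with h1 h2 h2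
    · exact Subtype.ext (congrArg (fun t : h.A × Bool => (t.1 : G)) hab)
    · simp at hab
    · simp at hab
    · have := congrArg (fun t : h.A × Bool => (t.1 : G)) hab
      exact Subtype.ext (mul_right_cancel this)
  have := Nat.card_le_card_of_injective F hF
  rw [Nat.card_prod] at this
  simpa using this

/-- `|A| |B| ≤ |R| |V|`. -/
theorem card_AB_le [Finite G] (h : Ctx Q P z y) (hV : ∀ x ∈ Q, x ∈ P → x ∈ h.V) :
    Nat.card h.A * Nat.card h.B ≤ Nat.card h.R * Nat.card h.V := by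
  classical
  rw [← Nat.card_prod, ← Nat.card_prod]
  have hch : ∀ r : h.R, ∃ a : G, a ∈ h.A ∧ ∃ b : G, b ∈ h.B ∧ (r : G) = a * b := fun r =>
    (by obtain ⟨a, ha, b, hb, e⟩ := r.2; exact ⟨a, ha, b, hb, e⟩)
  choose f hf g hg hfg using hch
  have hmul : ∀ p : h.A × h.B, (p.1 : G) * p.2 ∈ h.R := fun p => ⟨_, p.1.2, _, p.2.2, rfl⟩
  have hdiff : ∀ p : h.A × h.B, (f ⟨_, hmul p⟩)⁻¹ * (p.1 : G) ∈ h.V := by
    intro p
    have h1 := hfg ⟨_, hmul p⟩
    simp only at h1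
    have h2 : (f ⟨_, hmul p⟩)⁻¹ * (p.1 : G) = g ⟨_, hmul p⟩ * (p.2 : G)⁻¹ := by
      rw [inv_mul_eq_iff_eq_mul, ← mul_assoc, ← h1, mul_inv_cancel_right]
    apply hV
    · exact (h.mem_A.mp (mul_mem (inv_mem (hf _)) p.1.2)).1
    · rw [h2]
      exact (h.mem_B.mp (mul_mem (hg _) (inv_mem p.2.2))).1
  let F : h.A × h.B → h.R × h.V := fun p => (⟨_, hmul p⟩, ⟨_, hdiff p⟩)
  refine Nat.card_le_card_of_injective F ?_
  rintro ⟨a, b⟩ ⟨a', b'⟩ hab
  simp only [F, Prod.mk.injEq, Subtype.mk.injEq] at hab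
  obtain ⟨h1, h2⟩ := hab
  have h3 : (a : G) = a' := by
    have h4 : (⟨(a : G) * b, hmul (a, b)⟩ : h.R) = ⟨(a' : G) * b', hmul (a', b')⟩ := Subtype.ext h1
    rw [h4] at h2
    exact mul_left_cancel h2
  have h5 : (b : G) = b' := by
    rw [h3] at h1
    exact mul_left_cancel h1
  rw [Prod.mk.injEq]
  exact ⟨Subtype.ext h3, Subtype.ext h5⟩

theorem card_V (h : Ctx Q P z y) : Nat.card h.V = 4 := by
  classical
  have h1 : (h.V : Set G) = {1, z, y, z * y} := by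
    ext x; rfl
  have hzy : z * y ≠ 1 := fun h2 => h.ne (by rw [← h.inv_y]; exact (eq_inv_of_mul_eq_one_left h2).symm)
  have h2 : ({1, z, y, z * y} : Set G) = (({1, z, y, z * y} : Finset G) : Set G) := by simp
  have h3 : Nat.card h.V = Set.ncard (h.V : Set G) := rfl
  rw [h3, h1, h2, Set.ncard_coe_finset]
  have e1 : (1 : G) ≠ z := fun e => h.z1 e.symm
  have e2 : (1 : G) ≠ y := fun e => h.y1 e.symm
  have e3 : (1 : G) ≠ z * y := fun e => hzy e.symm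
  have e4 : z ≠ y := fun e => h.ne e.symm
  have e5 : z ≠ z * y := fun e => h.y1 (mul_eq_left.mp e.symm)
  have e6 : y ≠ z * y := fun e => h.z1 (mul_eq_right.mp e.symm)
  rw [Finset.card_insert_of_notMem (by simp [e1, e2, e3]), Finset.card_insert_of_notMem (by simp [e4, e5]),
    Finset.card_insert_of_notMem (by simp [e6]), Finset.card_singleton]

/-- An element of `C_G(V)` centralizing `A` is in `V`. -/
theorem mem_V_of_cent (h : Ctx Q P z y)
    (hcen : ∀ x ∈ Q, (∀ q ∈ Q, q * x * q⁻¹ = x) → x = 1 ∨ x = z) {c : G} (hc : c ∈ CV z y)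
    (hA : ∀ a ∈ h.A, c * a = a * c) : c ∈ h.V := by
  have hcQ : ∀ d ∈ Q, (∀ u ∈ Q, u * y * u⁻¹ = y → u * d * u⁻¹ = d) → d ∈ h.V := by
    intro d hd hu
    rcases h.D.central_or h.yQ hd hu with h1 | h1
    · rcases hcen d hd h1 with rfl | rfl
      · exact one_mem _
      · exact h.z_mem_V
    · rcases hcen _ (mul_mem hd h.yQ) h1 with h2 | h2
      · have : d = y := by rw [← h.inv_y]; exact eq_inv_of_mul_eq_one_left h2
        rw [this]; exact h.y_mem_V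
      · have : d = z * y := by
          rw [← h2, mul_assoc, h.yy, mul_one]
        rw [this]; exact mul_mem h.z_mem_V h.y_mem_V
  have hcz := (mem_CV.mp hc).1
  have hcy := (mem_CV.mp hc).2
  obtain ⟨τ, hτ, hτy⟩ := h.exists_q
  -- `c τ c⁻¹ = τ x`
  have hcτ : c * τ * c⁻¹ ∈ Q := h.D.norm c hcz τ hτ
  have hmemA : ∀ u ∈ Q, u * y * u⁻¹ = y → u ∈ h.A := fun u hu huy =>
    h.mem_A_iff.mpr ⟨hu, mul_inv_eq_iff_eq_mul.mp huy⟩
  have hx : τ⁻¹ * (c * τ * c⁻¹) ∈ h.V := by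
    apply hcQ _ (mul_mem (inv_mem hτ) hcτ)
    intro u hu huy
    have huA := hmemA u hu huy
    have hcu := hA u huA
    have hcu' : c⁻¹ * u = u * c⁻¹ := by
      rw [inv_mul_eq_iff_eq_mul, ← mul_assoc, hcu, mul_inv_cancel_right]
    -- `u τ u⁻¹ = τ z^e`
    rcases h.D.comm u hu τ hτ with h1 | h1
    · have h2 : u * (c * τ * c⁻¹) * u⁻¹ = c * τ * c⁻¹ := by
        calc u * (c * τ * c⁻¹) * u⁻¹ = (u * c) * τ * (u * c)⁻¹ := by group
          _ = (c * u) * τ * (c * u)⁻¹ := by rw [hcu]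
          _ = c * (u * τ * u⁻¹) * c⁻¹ := by group
          _ = _ := by rw [h1]
      calc u * (τ⁻¹ * (c * τ * c⁻¹)) * u⁻¹ = (u * τ * u⁻¹)⁻¹ * (u * (c * τ * c⁻¹) * u⁻¹) := by group
        _ = τ⁻¹ * (c * τ * c⁻¹) := by rw [h1, h2]
    · have h2 : u * (c * τ * c⁻¹) * u⁻¹ = z * (c * τ * c⁻¹) := by
        calc u * (c * τ * c⁻¹) * u⁻¹ = (u * c) * τ * (u * c)⁻¹ := by group
          _ = (c * u) * τ * (c * u)⁻¹ := by rw [hcu]
          _ = c * (u * τ * u⁻¹) * c⁻¹ := by group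
          _ = c * z * τ * c⁻¹ := by rw [h1]; group
          _ = z * (c * τ * c⁻¹) := by rw [hcz]; group
      calc u * (τ⁻¹ * (c * τ * c⁻¹)) * u⁻¹ = (u * τ * u⁻¹)⁻¹ * (u * (c * τ * c⁻¹) * u⁻¹) := by group
        _ = τ⁻¹ * (z⁻¹ * z) * (c * τ * c⁻¹) := by rw [h1, h2]; group
        _ = τ⁻¹ * (c * τ * c⁻¹) := by group
  obtain ⟨v, hv⟩ : ∃ v, v = τ⁻¹ * (c * τ * c⁻¹) := ⟨_, rfl⟩
  rw [← hv] at hx
  have hcτ' : c * τ * c⁻¹ = τ * v := by rw [hv]; group
  -- squares: `(τ v)^2 = c τ^2 c⁻¹ = τ^2`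
  have hsq : (τ * v) * (τ * v) = τ * τ := by
    rw [← hcτ']
    have hττ : c * (τ * τ) * c⁻¹ = τ * τ := by
      rcases h.D.sq τ hτ with h1 | h1
      · rw [h1]; group
      · rw [h1, hcz, mul_inv_cancel_right]
    calc c * τ * c⁻¹ * (c * τ * c⁻¹) = c * (τ * τ) * c⁻¹ := by group
      _ = _ := hττ
  have hvz : v = 1 ∨ v = z := by
    rcases hx with h1 | h1 | h1 | h1
    · exact Or.inl h1
    · exact Or.inr h1
    · exfalso
      rw [h1] at hsq
      have h2 : τ * y = z * y * τ := mul_inv_eq_iff_eq_mul.mp hτy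
      have h3 : τ * y * (τ * y) = z * (τ * τ) := by
        calc τ * y * (τ * y) = (z * y * τ) * (τ * y) := by rw [h2]
          _ = z * y * ((τ * τ) * y) := by group
          _ = z * y * (y * (τ * τ)) := by
            rcases h.D.sq τ hτ with h4 | h4
            · rw [h4]; group
            · rw [h4, h.yz]
          _ = z * (y * y) * (τ * τ) := by group
          _ = z * (τ * τ) := by rw [h.yy, mul_one]
      rw [hsq] at h3
      exact h.z1 (mul_eq_right.mp h3.symm)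
    · exfalso
      rw [h1] at hsq
      have h2 : τ * y = z * y * τ := mul_inv_eq_iff_eq_mul.mp hτy
      have hzτ : τ * z = z * τ := h.D.com τ hτ
      have h3 : τ * (z * y) * (τ * (z * y)) = z * (τ * τ) := by
        calc τ * (z * y) * (τ * (z * y)) = (τ * z) * y * ((τ * z) * y) := by group
          _ = z * (τ * y) * (z * (τ * y)) := by rw [hzτ]; group
          _ = z * (z * y * τ) * (z * (τ * y)) := by rw [h2]
          _ = (z * z) * y * ((τ * z) * τ * y) := by group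
          _ = y * (z * (τ * τ) * y) := by rw [h.zz, hzτ, one_mul]; group
          _ = y * (z * (y * (τ * τ))) := by
            rcases h.D.sq τ hτ with h4 | h4
            · rw [h4]; group
            · rw [h4, mul_assoc, h.yz]
          _ = (y * z) * y * (τ * τ) := by group
          _ = z * (y * y) * (τ * τ) := by rw [h.yz]; group
          _ = z * (τ * τ) := by rw [h.yy, mul_one]
      rw [hsq] at h3
      exact h.z1 (mul_eq_right.mp h3.symm)
  -- reduce to an element centralizing `Q`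
  have key : ∀ d : G, d * z = z * d → (∀ a ∈ h.A, d * a = a * d) → d * τ = τ * d → d ∈ h.V := by
    intro d hdz hdA hdτ
    have hdQ : ∀ x ∈ Q, d * x = x * d := by
      intro x hx
      rcases h.D.comm x hx y h.yQ with h1 | h1
      · exact hdA x (hmemA x hx h1)
      · have h2 : x * τ⁻¹ ∈ h.A := by
          apply hmemA _ (mul_mem hx (inv_mem hτ))
          have h3 : τ⁻¹ * y * τ = z * y := by
            have h4 : τ⁻¹ * (z * y) * τ = y := by rw [← hτy]; group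
            calc τ⁻¹ * y * τ = (τ⁻¹ * z * τ) * (τ⁻¹ * (z * y) * τ) := by
                  rw [mul_assoc τ⁻¹ z τ, ← h.D.com τ hτ]
                  calc τ⁻¹ * y * τ = τ⁻¹ * ((z * z) * y) * τ := by rw [h.zz, one_mul]
                    _ = τ⁻¹ * (z * (z * y)) * τ := by group
                    _ = τ⁻¹ * ((τ * z * τ⁻¹) * (z * y)) * τ := by
                      rw [h.conj_z_of_Q hτ]
                    _ = τ⁻¹ * (τ * z) * (τ⁻¹ * (z * y) * τ) := by group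
              _ = z * y := by rw [h4, mul_assoc τ⁻¹, ← h.D.com τ hτ]; group
          calc x * τ⁻¹ * y * (x * τ⁻¹)⁻¹ = x * (τ⁻¹ * y * τ) * x⁻¹ := by group
            _ = (x * z * x⁻¹) * (x * y * x⁻¹) := by rw [h3]; group
            _ = y := by rw [h.conj_z_of_Q hx, h1, ← mul_assoc, h.zz, one_mul]
        calc d * x = d * (x * τ⁻¹) * τ := by group
          _ = (x * τ⁻¹) * (d * τ) := by rw [hdA _ h2]; group
          _ = x * d := by rw [hdτ]; group
    have hd : d ∈ Q := h.D.cent d (fun x hx => by rw [← hdQ x hx, mul_inv_cancel_right])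
    rcases hcen d hd (fun q hq => by rw [← hdQ q hq, mul_inv_cancel_right]) with rfl | rfl
    · exact one_mem _
    · exact h.z_mem_V
  rcases hvz with rfl | rfl
  · apply key c hcz hA
    rw [mul_one, mul_inv_eq_iff_eq_mul] at hcτ'
    exact hcτ'
  · have h1 : c * y ∈ h.V := by
      apply key
      · rw [mul_assoc, h.yz, ← mul_assoc, hcz, mul_assoc]
      · intro a ha
        have h2 := (h.mem_A_iff.mp ha).2
        rw [mul_assoc, ← h2, ← mul_assoc, hA a ha, mul_assoc]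
      · have h2 : τ * y = v * y * τ := mul_inv_eq_iff_eq_mul.mp hτy
        have h3 : y * τ = v * (τ * y) := by
          rw [h2, ← mul_assoc, ← mul_assoc, h.zz, one_mul]
        have h4 : c * τ = τ * v * c := mul_inv_eq_iff_eq_mul.mp hcτ'
        calc c * y * τ = c * (y * τ) := by group
          _ = (c * v) * (τ * y) := by rw [h3]; group
          _ = v * (c * τ) * y := by rw [hcz]; group
          _ = (v * τ) * v * c * y := by rw [h4]; group
          _ = (τ * v) * v * c * y := by rw [h.D.com τ hτ]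
          _ = τ * (v * v) * c * y := by group
          _ = τ * (c * y) := by rw [h.zz, mul_one]; group
    have h2 : c = c * y * y := by rw [mul_assoc, h.yy, mul_one]
    rw [h2]
    exact mul_mem h1 h.y_mem_V

/-- `|K| ≤ 4 ^ (m + 1)`. -/
theorem card_K_le [Finite G] (h : Ctx Q P z y)
    (hcen : ∀ x ∈ Q, (∀ q ∈ Q, q * x * q⁻¹ = x) → x = 1 ∨ x = z) {m : ℕ} (a : Fin m → G)
    (ha : ∀ i, a i ∈ h.A)
    (hgen : ∀ X : Subgroup G, (∀ v ∈ h.V, v ∈ X) → (∀ i, a i ∈ X) → ∀ x ∈ h.A, x ∈ X) :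
    Nat.card h.K ≤ 4 ^ (m + 1) := by
  classical
  let f : h.K → Fin m → h.V := fun c i => ⟨c * a i * (c : G)⁻¹ * (a i)⁻¹, c.2.2 _ (ha i)⟩
  have hfib : ∀ c d : h.K, f c = f d → (c : G)⁻¹ * d ∈ h.V := by
    intro c d hcd
    have hcm : (c : G)⁻¹ * d ∈ CV z y := mul_mem (inv_mem c.2.1) d.2.1
    apply h.mem_V_of_cent hcen hcm
    have h1 : ∀ i, (c : G)⁻¹ * d * a i = a i * ((c : G)⁻¹ * d) := by
      intro i
      have h2 := congrArg (fun t => ((t i : h.V) : G)) hcd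
      have h3 : (c : G) * a i * (c : G)⁻¹ = d * a i * (d : G)⁻¹ := mul_right_cancel h2
      calc (c : G)⁻¹ * d * a i = (c : G)⁻¹ * (d * a i * (d : G)⁻¹) * d := by group
        _ = (c : G)⁻¹ * (c * a i * (c : G)⁻¹) * d := by rw [h3]
        _ = _ := by group
    intro x hx
    have h2 := hgen (centralizer ({(c : G)⁻¹ * d} : Set G))
      (fun v hv => mem_centralizer_singleton_iff.mpr (h.V_comm_CV hv hcm).symm)
      (fun i => mem_centralizer_singleton_iff.mpr (h1 i).symm) x hx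
    exact (mem_centralizer_singleton_iff.mp h2).symm
  -- choose representatives of the fibres
  have hsec : ∃ s : (Fin m → h.V) → h.K, ∀ c, f (s (f c)) = f c := by
    refine ⟨fun t => if ht : ∃ c, f c = t then ht.choose else 1, fun c => ?_⟩
    have ht : ∃ c', f c' = f c := ⟨c, rfl⟩
    simp only [dif_pos ht]
    exact ht.choose_spec
  obtain ⟨s, hs⟩ := hsec
  let F : h.K → (Fin m → h.V) × h.V := fun c => (f c, ⟨_, hfib (s (f c)) c (hs c)⟩)
  have hF : Function.Injective F := by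
    intro c d hcd
    simp only [F, Prod.mk.injEq, Subtype.mk.injEq] at hcd
    obtain ⟨h1, h2⟩ := hcd
    rw [h1] at h2
    exact Subtype.ext (mul_left_cancel h2)
  have h1 := Nat.card_le_card_of_injective F hF
  rw [Nat.card_prod, Nat.card_fun, h.card_V, Nat.card_fin] at h1
  rw [pow_succ]
  exact h1

/-- **`K = R`**. -/
theorem K_le_R [Finite G] (h : Ctx Q P z y) (hV : ∀ x ∈ Q, x ∈ P → x ∈ h.V)
    (hcen : ∀ x ∈ Q, (∀ q ∈ Q, q * x * q⁻¹ = x) → x = 1 ∨ x = z) {m : ℕ} (a : Fin m → G)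
    (ha : ∀ i, a i ∈ h.A)
    (hgen : ∀ X : Subgroup G, (∀ v ∈ h.V, v ∈ X) → (∀ i, a i ∈ X) → ∀ x ∈ h.A, x ∈ X)
    (hcard : Nat.card Q = 2 ^ (m + 3)) : h.K ≤ h.R ∧ Nat.card h.R = 4 ^ (m + 1) := by
  have h1 := h.card_K_le hcen a ha hgen
  have h2 := h.card_Q_le
  have h3 := h.card_AB_le hV
  rw [h.card_B, h.card_V] at h3
  rw [hcard] at h2
  have h4 : 2 ^ (m + 2) ≤ Nat.card h.A := by
    have : 2 ^ (m + 3) = 2 ^ (m + 2) * 2 := by ring
    omega
  have h5 : 4 ^ (m + 1) ≤ Nat.card h.R := by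
    have h6 : 2 ^ (m + 2) * 2 ^ (m + 2) ≤ Nat.card h.R * 4 :=
      le_trans (Nat.mul_le_mul h4 h4) h3
    have h7 : 2 ^ (m + 2) * 2 ^ (m + 2) = 4 ^ (m + 1) * 4 := by
      rw [← pow_succ, ← mul_pow]
      norm_num
    omega
  have h6 : Nat.card h.R ≤ Nat.card h.K := by
    exact Subgroup.card_le_of_le (h.R_le_K hV)
  have h8 : h.R = h.K := by
    apply Subgroup.eq_of_le_of_card_ge (h.R_le_K hV)
    exact h1.trans h5
  exact ⟨h8.ge, le_antisymm (h6.trans h1) h5⟩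

/-- `|A|`. -/
theorem card_A_ge [Finite G] (h : Ctx Q P z y) {k : ℕ} (hcard : Nat.card Q = 2 ^ (k + 1)) :
    2 ^ k ≤ Nat.card h.A := by
  have h2 := h.card_Q_le
  rw [hcard, pow_succ] at h2
  exact Nat.le_of_mul_le_mul_right h2 (by norm_num)

/-- The hypothesis `h3` of `main_four`: an element of `C_G(V)` central modulo `R` is in `R`. -/
theorem h3_of_vec (h : Ctx Q P z y) (hV : ∀ x ∈ Q, x ∈ P → x ∈ h.V) {a0 : G} (h0 : h.Vec a0)
    (hK : h.K ≤ h.R) :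
    ∀ c ∈ CV z y, (∀ d ∈ CV z y, c * d * c⁻¹ * d⁻¹ ∈ h.R) → c ∈ h.R := by
  intro c hc hcd
  apply hK
  refine ⟨hc, ?_⟩
  -- `Fx` is insensitive to `R`
  have hR : ∀ ρ ∈ h.R, ∀ x ∈ h.A, ρ * x * ρ⁻¹ * x⁻¹ ∈ h.V := fun ρ hρ x hx =>
    h.comm_R hV hρ (h.A_le_R hx)
  have ha0 : h.Fx c a0 := by
    have h1 : c * a0 * c⁻¹ ∈ h.A := h.conj_A hc h0.mem
    have hfix : ∀ d ∈ CV z y, h.Fx d a0 → h.Fx d (c * a0 * c⁻¹) := by
      intro d hd hda
      show d * (c * a0 * c⁻¹) * d⁻¹ * (c * a0 * c⁻¹)⁻¹ ∈ h.V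
      obtain ⟨ρ, hρe⟩ : ∃ ρ, ρ = d * c * d⁻¹ * c⁻¹ := ⟨_, rfl⟩
      have hρ : ρ ∈ h.R := by
        have := inv_mem (hcd d hd)
        have e : (c * d * c⁻¹ * d⁻¹)⁻¹ = d * c * d⁻¹ * c⁻¹ := by group
        rw [e] at this
        rw [hρe]; exact this
      have e : d * (c * a0 * c⁻¹) * d⁻¹ * (c * a0 * c⁻¹)⁻¹ =
          (ρ * (c * (d * a0 * d⁻¹) * c⁻¹) * ρ⁻¹ * (c * (d * a0 * d⁻¹) * c⁻¹)⁻¹) *
            (c * (d * a0 * d⁻¹ * a0⁻¹) * c⁻¹) := by
        rw [hρe]; group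
      rw [e]
      exact mul_mem (hR ρ hρ _ (h.conj_A hc (h.conj_A hd h0.mem))) (h.conj_V_CV hc hda)
    rcases h0.fix _ h1 hfix with h2 | h2
    · exfalso
      apply h0.nV
      have := h.conj_V_CV (inv_mem hc) h2
      have e : c⁻¹ * (c * a0 * c⁻¹) * c⁻¹⁻¹ = a0 := by group
      rwa [e] at this
    · -- `(c a0 c⁻¹) a0 ∈ V`, `a0² ∈ V`
      show c * a0 * c⁻¹ * a0⁻¹ ∈ h.V
      have h3 : a0 * a0 ∈ h.V := by
        rcases h.D.sq a0 (h.mem_A.mp h0.mem).1 with h4 | h4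
        · rw [h4]; exact one_mem _
        · rw [h4]; exact h.z_mem_V
      have e : c * a0 * c⁻¹ * a0⁻¹ = c * a0 * c⁻¹ * a0 * (a0 * a0)⁻¹ := by group
      rw [e]
      exact mul_mem h2 (inv_mem h3)
  -- the subgroup of `A` fixed modulo `V`
  let X : Subgroup G :=
    { carrier := {x | x ∈ CV z y ∧ h.Fx c x}
      one_mem' := ⟨one_mem _, by show c * 1 * c⁻¹ * 1⁻¹ ∈ h.V; simp⟩
      mul_mem' := fun {a b} ha hb => ⟨mul_mem ha.1 hb.1, h.Fx_mul ha.1 ha.2 hb.2⟩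
      inv_mem' := fun {a} ha => ⟨inv_mem ha.1, h.Fx_inv ha.1 ha.2⟩ }
  intro x hx
  refine (h0.gen X (fun v hv => ⟨h.V_le_CV hv, h.Fx_V hc hv⟩) (fun d hd => ?_) x hx).2
  refine ⟨mul_mem (mul_mem hd (h.mem_A.mp h0.mem).2) (inv_mem hd), ?_⟩
  show c * (d * a0 * d⁻¹) * c⁻¹ * (d * a0 * d⁻¹)⁻¹ ∈ h.V
  have hρ := hcd d hd
  obtain ⟨ρ, hρe⟩ : ∃ ρ, ρ = c * d * c⁻¹ * d⁻¹ := ⟨_, rfl⟩
  rw [← hρe] at hρ
  have e : c * (d * a0 * d⁻¹) * c⁻¹ * (d * a0 * d⁻¹)⁻¹ =
      (ρ * (d * (c * a0 * c⁻¹) * d⁻¹) * ρ⁻¹ * (d * (c * a0 * c⁻¹) * d⁻¹)⁻¹) *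
        (d * (c * a0 * c⁻¹ * a0⁻¹) * d⁻¹) := by
    rw [hρe]; group
  rw [e]
  exact mul_mem (hR ρ hρ _ (h.conj_A hd (h.conj_A hc h0.mem))) (h.conj_V_CV hd ha0)

/-- The hypothesis `hV`: every element of `A` outside `V` does not commute with some conjugate. -/
theorem hV_of_moved (h : Ctx Q P z y)
    (hm : ∀ a ∈ h.A, a ∉ h.V → ∃ c ∈ CV z y, a * (c * a * c⁻¹) ≠ c * a * c⁻¹ * a) :
    ∀ x ∈ Q, x ∈ P → x ∈ h.V := by
  intro x hQ hP
  obtain ⟨hA, hB⟩ := h.inter_le hQ hP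
  by_contra hx
  obtain ⟨c, hc, hne⟩ := hm x hA hx
  have h1 := (h.mem_A.mp (h.conj_A hc hA)).1
  have h2 := (h.mem_B.mp (h.conj_B hc hB)).1
  rcases h.D.comm x hQ _ h1 with h3 | h3
  · exact hne (mul_inv_eq_iff_eq_mul.mp h3)
  rcases h.E.comm x hP _ h2 with h4 | h4
  · exact hne (mul_inv_eq_iff_eq_mul.mp h4)
  rw [h3] at h4
  exact h.ne (mul_right_cancel h4).symm

end Cfsg.Agent.LargeExtra.FourGroup.Ctx
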