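import Mathlib
import Cfsg.Agent.LargeExtra.GPin
import Cfsg.Agent.LargeExtra.KBound

/-!
# Verification of the hypotheses of `FourGroup.main_four` in explicit coordinates

`Chk` collects finite checks on the explicit extraspecial group `XG B n`, with `q 0` the vector of `y` and `q 1` a
vector not orthogonal to it.
-/

set_option autoImplicit false

namespace Cfsg.Agent.LargeExtra.Check

open Cfsg.Agent.LargeExtra.Model Cfsg.Agent.LargeExtra.Pres Cfsg.Agent.LargeExtra.Models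
open Cfsg.Agent.LargeExtra.GPin Cfsg.Agent.LargeExtra.FourGroup
open Cfsg.Agent.ClassificationK.LargeSymplectic

/-- The generators, as a function on `ℕ`. -/
def idim (B : ℕ → ℕ) (n i : ℕ) : XG B n := ⟨Fin.ofNat (2 ^ n) (2 ^ i), false⟩

/-- Membership in `⟨z, q 0⟩`. -/
def InV {B : ℕ → ℕ} {n : ℕ} (x : XG B n) : Prop := x.v.1 = 0 ∨ x.v.1 = 1

instance {B : ℕ → ℕ} {n : ℕ} (x : XG B n) : Decidable (InV x) := by unfold InV; infer_instance

/-- Commutation, as a decidable condition. -/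
def Cm {B : ℕ → ℕ} {n : ℕ} (x y : XG B n) : Prop := bf B n x.v.1 y.v.1 = bf B n y.v.1 x.v.1

instance {B : ℕ → ℕ} {n : ℕ} (x y : XG B n) : Decidable (Cm x y) := by unfold Cm; infer_instance

/-- The checks. -/
structure Chk (B : ℕ → ℕ) (n : ℕ) (F : List (ℕ × List (ℕ × Bool))) (a0 : XG B n) (S : List ℕ)
    (W U : List (List ℕ)) : Prop where
  tri : Tri B n
  nd : Nondeg B n
  two : 2 ≤ n
  odd : ∀ l ∈ F, OddIm B n l.1 l.2 ∧ imgs B n l.2 0 = idim B n 0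
  id : Good B n (idim B n)
  a0c : Cm a0 (idim B n 0)
  a0V : ¬ InV a0
  moved : ∀ (v : Fin (2 ^ n)) (s : Bool), Cm (⟨v, s⟩ : XG B n) (idim B n 0) →
    ¬ InV (⟨v, s⟩ : XG B n) → ∃ w ∈ W, ¬ Cm (⟨v, s⟩ : XG B n) (run B n (F.map Prod.snd) w ⟨v, s⟩)
  fixw : ∀ k ∈ S, InV (run B n (F.map Prod.snd) [k] a0 * a0⁻¹)
  fix : ∀ (v : Fin (2 ^ n)) (s : Bool), Cm (⟨v, s⟩ : XG B n) (idim B n 0) →
    (∀ k ∈ S, InV (run B n (F.map Prod.snd) [k] ⟨v, s⟩ * (⟨v, s⟩ : XG B n)⁻¹)) →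
    InV (⟨v, s⟩ : XG B n) ∨ InV ((⟨v, s⟩ : XG B n) * a0)
  gen : ∀ i < n, i ≠ 0 → i ≠ 1 → ∃ w ∈ U, run B n (F.map Prod.snd) w a0 = idim B n i
  bit : ∀ (v : Fin (2 ^ n)), Cm (⟨v, false⟩ : XG B n) (idim B n 0) → v.1.testBit 1 = false
  ex : ∃ v : Fin (2 ^ n), Cm (⟨v, false⟩ : XG B n) (idim B n 0) ∧ ¬ InV (⟨v, false⟩ : XG B n) ∧
    ¬ InV ((⟨v, false⟩ : XG B n) * a0)

section

variable {B : ℕ → ℕ} {n : ℕ}

theorem cm_iff {x y : XG B n} : Cm x y ↔ x * y = y * x := (comm_iff x y).symm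

theorem idim_zero (hn : 2 ≤ n) : idim B n 0 = q B n ⟨0, by omega⟩ := by
  apply XG.ext'
  · show (2 ^ 0) % 2 ^ n = 2 ^ 0
    rw [pow_zero, Nat.mod_eq_of_lt (Nat.one_lt_two_pow (by omega))]
  · rfl

theorem idim_eq {i : ℕ} (hi : i < n) : idim B n i = q B n ⟨i, hi⟩ := by
  apply XG.ext'
  · show (2 ^ i) % 2 ^ n = 2 ^ i
    rw [Nat.mod_eq_of_lt (Nat.pow_lt_pow_right (by norm_num) hi)]
  · rfl

theorem eq_prd (hB : Tri B n) (hN : Nondeg B n) (hid : Good B n (idim B n)) (x : XG B n) :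
    x = zp zz x.s * prd (idim B n) n x.v.1 := by
  have h1 : autOf hB hN _ hid = 1 := by
    apply aut_ext hN
    intro i
    rw [autOf_q, idim_eq i.2]; rfl
  have h2 := autOf_apply hB hN _ hid x
  rw [h1] at h2
  exact h2

theorem prd_mem {E : Type*} [Group E] (X : Subgroup E) (x : ℕ → E) (v k : ℕ)
    (h : ∀ i < k, v.testBit i = true → x i ∈ X) : prd x k v ∈ X := by
  induction k with
  | zero => exact one_mem _
  | succ k ih =>
    refine mul_mem (ih fun i hi => h i (by omega)) ?_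
    unfold zp
    split_ifs with hv
    · exact h k (by omega) hv
    · exact one_mem _

variable {G : Type*} [Group G] {Q P' : Subgroup G} {z y : G} {φ : XG B n ≃* Q}
  {F : List (ℕ × List (ℕ × Bool))} {a0 : XG B n} {S : List ℕ} {W U : List (List ℕ)}

/-- The elements of `C(z) ∩ C(y)` given by words. -/
theorem exists_word (C : Chk B n F a0 S W U) (P : GPin Q z φ) (hy : (φ (idim B n 0) : G) = y)
    (w : List ℕ) : ∃ c ∈ CV z y, ∀ x, c * φ x * c⁻¹ = φ (run B n (F.map Prod.snd) w x) := by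
  have hg : ∀ l ∈ F.map Prod.snd, ∃ α ∈ Rg P ⊓ MulAction.stabilizer (MulAut (XG B n)) (idim B n 0),
      ∀ x, α x = app (imgs B n l) x := by
    intro l hl
    obtain ⟨p, hp, rfl⟩ := List.mem_map.mp hl
    obtain ⟨h1, h2⟩ := C.odd p hp
    obtain ⟨α, h3, h4⟩ := h1.mem P C.tri C.nd
    refine ⟨α, ⟨h3, ?_⟩, h4⟩
    show α (idim B n 0) = idim B n 0
    rw [h4, idim_zero C.two]
    show zp Model.zz false * prd (imgs B n p.2) n (2 ^ 0) = _
    rw [prd_two_pow, if_pos (by have := C.two; omega), h2, idim_zero C.two]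
    simp [zp]
  obtain ⟨α, ⟨⟨c, hc, hI⟩, hst⟩, hα⟩ := run_spec _ hg w
  refine ⟨c, mem_CV.mpr ⟨hc, ?_⟩, fun x => ?_⟩
  · have h1 := hI (idim B n 0)
    have h2 : α (idim B n 0) = idim B n 0 := hst
    rw [h2, hy, mul_inv_eq_iff_eq_mul] at h1
    exact h1
  · rw [hI x, hα x]

theorem phi_mem_V (C : Chk B n F a0 S W U) (P : GPin Q z φ) (hy : (φ (idim B n 0) : G) = y)
    (h : Ctx Q P' z y) (x : XG B n) : (φ x : G) ∈ h.V ↔ InV x := by
  have e : ∀ b : Bool, zp (zz : XG B n) b = ⟨⟨0, Nat.two_pow_pos n⟩, b⟩ := by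
    intro b; cases b <;> rfl
  have hq : ∀ b : Bool, (zp (zz : XG B n) b * idim B n 0).v.1 = 1 ∧
      (zp (zz : XG B n) b * idim B n 0).s = b := by
    intro b
    rw [e]
    constructor
    · rw [mul_v, idim_zero C.two]; exact Nat.zero_xor _
    · rw [mul_s, idim_zero C.two]
      show (b ^^ false ^^ bf B n 0 _) = b
      rw [bf_zero_left]; cases b <;> rfl
  have hyz : ((φ (zz * idim B n 0) : Q) : G) = z * y := by rw [phi_mul, P.zz, hy]
  constructor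
  · intro hx
    rcases hx with h1 | h1 | h1 | h1
    · left
      rw [← phi_one (φ := φ), phi_inj] at h1
      rw [h1]; rfl
    · left
      rw [← P.zz, phi_inj] at h1
      rw [h1]; rfl
    · right
      rw [← hy, phi_inj] at h1
      rw [h1, ← (hq false).1]
      show (idim B n 0).v.1 = (1 * idim B n 0).v.1
      rw [one_mul]
    · right
      rw [← hyz, phi_inj] at h1
      rw [h1]; exact (hq true).1
  · rintro (h1 | h1)
    · rcases eq_one_or_zz h1 with rfl | rfl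
      · rw [phi_one]; exact one_mem _
      · rw [P.zz]; exact h.z_mem_V
    · have h2 : x = zp zz x.s * idim B n 0 := XG.ext' (by rw [h1, (hq x.s).1]) (hq x.s).2.symm
      rw [h2]
      cases x.s
      · show (φ (1 * idim B n 0) : G) ∈ h.V
        rw [one_mul, hy]; exact h.y_mem_V
      · show (φ (zz * idim B n 0) : G) ∈ h.V
        rw [hyz]; exact mul_mem h.z_mem_V h.y_mem_V

theorem mem_A_iff (_ : GPin Q z φ) (hy : (φ (idim B n 0) : G) = y)
    (h : Ctx Q P' z y) (x : XG B n) : (φ x : G) ∈ h.A ↔ Cm x (idim B n 0) := by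
  rw [h.mem_A_iff, ← hy, cm_iff, ← phi_mul, ← phi_mul, phi_inj]
  exact ⟨fun h1 => h1.2, fun h1 => ⟨Subtype.property _, h1⟩⟩

theorem chk_hV (C : Chk B n F a0 S W U) (P : GPin Q z φ) (hy : (φ (idim B n 0) : G) = y)
    (h : Ctx Q P' z y) : ∀ x ∈ Q, x ∈ P' → x ∈ h.V := by
  apply h.hV_of_moved
  intro a ha haV
  obtain ⟨x, rfl⟩ := exists_phi φ (h.mem_A.mp ha).1
  rw [mem_A_iff P hy h] at ha
  rw [phi_mem_V C P hy h] at haV
  obtain ⟨v, s⟩ := x
  obtain ⟨w, -, hw⟩ := C.moved v s ha haV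
  obtain ⟨c, hc, hc'⟩ := exists_word C P hy w
  refine ⟨c, hc, ?_⟩
  rw [hc', ← phi_mul, ← phi_mul, Ne, phi_inj]
  rwa [cm_iff] at hw

theorem chk_vec (C : Chk B n F a0 S W U) (P : GPin Q z φ) (hy : (φ (idim B n 0) : G) = y)
    (h : Ctx Q P' z y) : h.Vec (φ a0 : G) where
  mem := (mem_A_iff P hy h _).mpr C.a0c
  nV := fun h1 => C.a0V ((phi_mem_V C P hy h _).mp h1)
  fix := by
    intro a ha hfix
    obtain ⟨x, rfl⟩ := exists_phi φ (h.mem_A.mp ha).1
    rw [mem_A_iff P hy h] at ha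
    obtain ⟨v, s⟩ := x
    rw [phi_mem_V C P hy h, ← phi_mul, phi_mem_V C P hy h]
    apply C.fix v s ha
    intro k hk
    obtain ⟨c, hc, hc'⟩ := exists_word C P hy [k]
    have h1 := hfix c hc (by
      show c * φ a0 * c⁻¹ * (φ a0 : G)⁻¹ ∈ h.V
      rw [hc', ← phi_inv, ← phi_mul, phi_mem_V C P hy h]
      exact C.fixw k hk)
    have h2 : c * φ (⟨v, s⟩ : XG B n) * c⁻¹ * (φ (⟨v, s⟩ : XG B n) : G)⁻¹ ∈ h.V := h1
    rw [hc', ← phi_inv, ← phi_mul, phi_mem_V C P hy h] at h2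
    exact h2
  gen := by
    intro X hX hX' a ha
    obtain ⟨x, rfl⟩ := exists_phi φ (h.mem_A.mp ha).1
    rw [mem_A_iff P hy h] at ha
    have hb : x.v.1.testBit 1 = false := C.bit x.v ha
    have h1 : x ∈ X.comap (Q.subtype.comp φ.toMonoidHom) := by
      rw [eq_prd C.tri C.nd C.id x]
      refine mul_mem ?_ (prd_mem _ _ _ _ fun i hi hi' => ?_)
      · unfold zp
        split_ifs
        · show ((φ zz : Q) : G) ∈ X
          rw [P.zz]; exact hX _ h.z_mem_V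
        · exact one_mem _
      · show ((φ (idim B n i) : Q) : G) ∈ X
        by_cases h0 : i = 0
        · rw [h0, hy]; exact hX _ h.y_mem_V
        by_cases h1 : i = 1
        · rw [h1, hb] at hi'; exact absurd hi' (by decide)
        obtain ⟨w, -, hw⟩ := C.gen i hi h0 h1
        obtain ⟨c, hc, hc'⟩ := exists_word C P hy w
        rw [← hw, ← hc']
        exact hX' c hc
    exact h1

theorem chk_h4 (C : Chk B n F a0 S W U) (P : GPin Q z φ) (hy : (φ (idim B n 0) : G) = y)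
    (h : Ctx Q P' z y) : ∃ a ∈ h.A, a ∉ h.V ∧ a * (φ a0 : G) ∉ h.V := by
  obtain ⟨v, h1, h2, h3⟩ := C.ex
  refine ⟨φ ⟨v, false⟩, (mem_A_iff P hy h _).mpr h1, fun h4 => h2 ((phi_mem_V C P hy h _).mp h4),
    fun h4 => h3 ?_⟩
  rwa [← phi_mul, phi_mem_V C P hy h] at h4

theorem chk_K [Finite G] (C : Chk B n F a0 S W U) (P : GPin Q z φ)
    (hy : (φ (idim B n 0) : G) = y) (h : Ctx Q P' z y) :
    h.K ≤ h.R ∧ Nat.card h.R = 4 ^ (n - 1) := by
  obtain ⟨m, rfl⟩ : ∃ m, n = m + 2 := ⟨n - 2, by have := C.two; omega⟩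
  have hcard : Nat.card Q = 2 ^ (m + 3) := by
    rw [← Nat.card_congr φ.toEquiv, card_XG]
  have hcm : ∀ i, 2 ≤ i → i < m + 2 → Cm (idim B (m + 2) i) (idim B (m + 2) 0) := by
    intro i hi hi'
    obtain ⟨w, -, hw⟩ := C.gen i hi' (by omega) (by omega)
    obtain ⟨c, hc, hc'⟩ := exists_word C P hy w
    rw [← mem_A_iff P hy h, ← hw, ← hc']
    exact h.conj_A hc ((mem_A_iff P hy h _).mpr C.a0c)
  refine h.K_le_R (chk_hV C P hy h) (fun x hx hx' => GPin.center P C.nd hx hx')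
    (fun i : Fin m => (φ (idim B (m + 2) (i.1 + 2)) : G)) ?_ ?_ hcard
  · intro i
    exact (mem_A_iff P hy h _).mpr (hcm _ (by omega) (by omega))
  · intro X hX hX' a ha
    obtain ⟨x, rfl⟩ := exists_phi φ (h.mem_A.mp ha).1
    rw [mem_A_iff P hy h] at ha
    have hb : x.v.1.testBit 1 = false := C.bit x.v ha
    have h1 : x ∈ X.comap (Q.subtype.comp φ.toMonoidHom) := by
      rw [eq_prd C.tri C.nd C.id x]
      refine mul_mem ?_ (prd_mem _ _ _ _ fun i hi hi' => ?_)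
      · unfold zp
        split_ifs
        · show ((φ zz : Q) : G) ∈ X
          rw [P.zz]; exact hX _ h.z_mem_V
        · exact one_mem _
      · show ((φ (idim B (m + 2) i) : Q) : G) ∈ X
        by_cases h0 : i = 0
        · rw [h0, hy]; exact hX _ h.y_mem_V
        by_cases h1 : i = 1
        · rw [h1, hb] at hi'; exact absurd hi' (by decide)
        have := hX' ⟨i - 2, by omega⟩
        have e : i - 2 + 2 = i := by omega
        simp only [e] at this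
        exact this
    exact h1

/-- All the hypotheses of `Ctx.main_four`. -/
theorem chk_all [Finite G] (C : Chk B n F a0 S W U) (P : GPin Q z φ)
    (hy : (φ (idim B n 0) : G) = y) (h : Ctx Q P' z y) :
    (∀ x ∈ Q, x ∈ P' → x ∈ h.V) ∧ h.Vec (φ a0 : G) ∧
    (∀ c ∈ CV z y, (∀ d ∈ CV z y, c * d * c⁻¹ * d⁻¹ ∈ h.R) → c ∈ h.R) ∧
    (∃ a ∈ h.A, a ∉ h.V ∧ a * (φ a0 : G) ∉ h.V) ∧ Nat.card h.R = 4 ^ (n - 1) :=
  ⟨chk_hV C P hy h, chk_vec C P hy h,
    h.h3_of_vec (chk_hV C P hy h) (chk_vec C P hy h) (chk_K C P hy h).1, chk_h4 C P hy h,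
    (chk_K C P hy h).2⟩

end

/-! ### Transitivity -/

section

variable {B : ℕ → ℕ} {n : ℕ} {G : Type*} [Group G] {Q : Subgroup G} {z : G} {φ : XG B n ≃* Q}

/-- The words `T` reach every noncentral involution from `q 0`; `F` are automorphisms of odd order. -/
structure Tr (B : ℕ → ℕ) (n : ℕ) (F : List (ℕ × List (ℕ × Bool))) (T : List ((ℕ × Bool) × List ℕ)) :
    Prop where
  tri : Tri B n
  nd : Nondeg B n
  odd : ∀ l ∈ F, OddIm B n l.1 l.2
  run : ∀ t ∈ T, run B n (F.map Prod.snd) t.2 (idim B n 0) = ⟨Fin.ofNat _ t.1.1, t.1.2⟩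
  all : ∀ (v : Fin (2 ^ n)) (s : Bool), bf B n v.1 v.1 = false → v.1 ≠ 0 →
    (v.1, s) ∈ T.map Prod.fst

theorem Tr.exists_aut {F : List (ℕ × List (ℕ × Bool))} {T : List ((ℕ × Bool) × List ℕ)}
    (t : Tr B n F T) (H : Subgroup (MulAut (XG B n)))
    (hH : ∀ α : MulAut (XG B n), ∀ k, Odd k → α ^ k = 1 → α ∈ H)
    {x : XG B n} (hx : x * x = 1) (h1 : x ≠ 1) (hz : x ≠ zz) :
    ∃ α ∈ H, α (idim B n 0) = x := by
  obtain ⟨v, s⟩ := x
  have hv : v.1 ≠ 0 := by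
    intro h2
    rcases eq_one_or_zz (x := (⟨v, s⟩ : XG B n)) h2 with h3 | h3
    · exact h1 h3
    · exact hz h3
  have hb : bf B n v.1 v.1 = false := by
    have h2 := congrArg XG.s hx
    rw [mul_s] at h2
    have h3 : (s ^^ s ^^ bf B n v.1 v.1) = false := h2
    cases s <;> simpa using h3
  obtain ⟨p, hp, hpv⟩ := List.mem_map.mp (t.all v s hb hv)
  have h2 := t.run p hp
  rw [hpv] at h2
  have h3 : (⟨Fin.ofNat (2 ^ n) v.1, s⟩ : XG B n) = ⟨v, s⟩ := by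
    apply XG.ext'
    · show v.1 % 2 ^ n = v.1
      exact Nat.mod_eq_of_lt v.2
    · rfl
  simp only at h2
  rw [h3] at h2
  have hg : ∀ l ∈ F.map Prod.snd, ∃ α ∈ H, ∀ x, α x = app (imgs B n l) x := by
    intro l hl
    obtain ⟨p, hp, rfl⟩ := List.mem_map.mp hl
    obtain ⟨α, h3, h4⟩ := (t.odd p hp).exists t.tri t.nd
    exact ⟨α, hH α p.1 (Nat.odd_iff.mpr (t.odd p hp).1) h3, h4⟩
  obtain ⟨α, hα, hα'⟩ := run_spec H hg p.2
  exact ⟨α, hα, by rw [hα', h2]⟩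

theorem Tr.exists_conj {F : List (ℕ × List (ℕ × Bool))} {T : List ((ℕ × Bool) × List ℕ)}
    (t : Tr B n F T) (P : GPin Q z φ)
    {x : XG B n} (hx : x * x = 1) (h1 : x ≠ 1) (hz : x ≠ zz) :
    ∃ c, c * z = z * c ∧ c * φ (idim B n 0) * c⁻¹ = φ x := by
  obtain ⟨α, ⟨c, hc, hI⟩, hα⟩ := t.exists_aut (Rg P) (fun α k hk h => odd_mem P hk h) hx h1 hz
  exact ⟨c, hc, by rw [hI, hα]⟩

/-- The words `T` reach every involution not commuting with `q 0` from `q 1`, fixing `q 0`. -/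
structure Tr2 (B : ℕ → ℕ) (n : ℕ) (F : List (ℕ × List (ℕ × Bool))) (T : List ((ℕ × Bool) × List ℕ)) :
    Prop where
  tri : Tri B n
  nd : Nondeg B n
  two : 2 ≤ n
  odd : ∀ l ∈ F, OddIm B n l.1 l.2 ∧ imgs B n l.2 0 = idim B n 0
  run : ∀ t ∈ T, run B n (F.map Prod.snd) t.2 (idim B n 1) = ⟨Fin.ofNat _ t.1.1, t.1.2⟩
  all : ∀ (v : Fin (2 ^ n)) (s : Bool), bf B n v.1 v.1 = false →
    ¬ Cm (⟨v, s⟩ : XG B n) (idim B n 0) → (v.1, s) ∈ T.map Prod.fst

theorem Tr2.exists_aut {F : List (ℕ × List (ℕ × Bool))} {T : List ((ℕ × Bool) × List ℕ)}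
    (t : Tr2 B n F T) (H : Subgroup (MulAut (XG B n)))
    (hH : ∀ α : MulAut (XG B n), ∀ k, Odd k → α ^ k = 1 → α ∈ H)
    {x : XG B n} (hx : x * x = 1) (h1 : x * idim B n 0 ≠ idim B n 0 * x) :
    ∃ α ∈ H, α (idim B n 0) = idim B n 0 ∧ α (idim B n 1) = x := by
  obtain ⟨v, s⟩ := x
  have hb : bf B n v.1 v.1 = false := by
    have h2 := congrArg XG.s hx
    rw [mul_s] at h2
    have h3 : (s ^^ s ^^ bf B n v.1 v.1) = false := h2
    cases s <;> simpa using h3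
  obtain ⟨p, hp, hpv⟩ := List.mem_map.mp (t.all v s hb (fun h2 => h1 (cm_iff.mp h2)))
  have h2 := t.run p hp
  rw [hpv] at h2
  have h3 : (⟨Fin.ofNat (2 ^ n) v.1, s⟩ : XG B n) = ⟨v, s⟩ := by
    apply XG.ext'
    · show v.1 % 2 ^ n = v.1
      exact Nat.mod_eq_of_lt v.2
    · rfl
  simp only at h2
  rw [h3] at h2
  have hg : ∀ l ∈ F.map Prod.snd, ∃ α ∈ H ⊓ MulAction.stabilizer (MulAut (XG B n)) (idim B n 0),
      ∀ x, α x = app (imgs B n l) x := by
    intro l hl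
    obtain ⟨p, hp, rfl⟩ := List.mem_map.mp hl
    obtain ⟨α, h3, h4⟩ := (t.odd p hp).1.exists t.tri t.nd
    refine ⟨α, ⟨hH α p.1 (Nat.odd_iff.mpr (t.odd p hp).1.1) h3, ?_⟩, h4⟩
    show α (idim B n 0) = idim B n 0
    rw [h4, idim_zero t.two]
    show zp Model.zz false * prd (imgs B n p.2) n (2 ^ 0) = _
    rw [prd_two_pow, if_pos (by have := t.two; omega), (t.odd p hp).2, idim_zero t.two]
    simp [zp]
  obtain ⟨α, ⟨hα, hst⟩, hα'⟩ := run_spec _ hg p.2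
  exact ⟨α, hα, hst, by rw [hα', h2]⟩

end

end Cfsg.Agent.LargeExtra.Check
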