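import Mathlib
import Cfsg.Agent.LargeExtra.Check

/-!
# The model of `2₊^(1+8)` adapted to a pair of non-commuting involutions

`q 0`, `q 1` are involutions generating a dihedral group of order eight, `q 2, …, q 7` are pairwise anticommuting
elements of order four commuting with them, `b₇ = q 2 q 3 q 4 q 5 q 6 q 7` is a seventh one.
-/

set_option autoImplicit false

namespace Cfsg.Agent.LargeExtra.CoModel

open Cfsg.Agent.LargeExtra.Model Cfsg.Agent.LargeExtra.Pres Cfsg.Agent.LargeExtra.Models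
open Cfsg.Agent.LargeExtra.GPin Cfsg.Agent.LargeExtra.Check

/-- The adapted model of `2₊^(1+8)`. -/
abbrev rK : ℕ → ℕ := rows [0, 1, 4, 12, 28, 60, 124, 252]

/-- Automorphisms of odd order fixing `q 0`. -/
abbrev F0 : List (ℕ × List (ℕ × Bool)) :=
  [(7, [(1, false), (2, false), (8, false), (16, false), (32, false), (64, false), (128, false), (252, false)]),
   (3, [(1, false), (39, true), (128, false), (8, false), (16, false), (5, false), (64, false), (33, false)]),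
   (3, [(1, false), (2, false), (4, false), (16, false), (32, false), (8, false), (64, false), (128, false)]),
   (3, [(1, false), (2, false), (4, false), (8, false), (16, false), (64, false), (128, false), (32, false)]),
   (3, [(1, false), (2, false), (4, false), (8, false), (16, false), (32, false), (128, false), (252, false)])]
/-- Automorphisms of odd order. -/
abbrev F1 : List (ℕ × List (ℕ × Bool)) :=
  [(7, [(1, false), (2, false), (8, false), (16, false), (32, false), (64, false), (128, false), (252, false)]),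
   (3, [(1, false), (39, true), (128, false), (8, false), (16, false), (5, false), (64, false), (33, false)]),
   (3, [(1, false), (2, false), (4, false), (16, false), (32, false), (8, false), (64, false), (128, false)]),
   (3, [(1, false), (2, false), (4, false), (8, false), (16, false), (64, false), (128, false), (32, false)]),
   (3, [(1, false), (2, false), (4, false), (8, false), (16, false), (32, false), (128, false), (252, false)]),
   (3, [(23, false), (1, false), (17, true), (8, false), (5, false), (32, false), (64, false), (128, false)])]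
/-- Words reaching the noncentral involutions from `q 0`. -/
def T1 : List ((ℕ × Bool) × List ℕ) :=
  [((1, false), []),
   ((2, false), [5, 5]),
   ((7, false), [5, 0, 3, 5, 1, 0]),
   ((11, false), [5, 1, 4, 3, 1]),
   ((15, false), [5, 2, 2]),
   ((19, false), [5, 1, 0, 3, 1, 1]),
   ((23, false), [5]),
   ((27, false), [5, 2, 2, 0]),
   ((28, false), [5, 2, 3, 1, 5, 0]),
   ((29, false), [5, 1, 3, 1, 0, 5]),
   ((30, false), [5, 1, 3, 1, 0]),
   ((35, false), [5, 1, 0, 2, 1, 3]),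
   ((39, false), [5, 2]),
   ((43, false), [5, 0]),
   ((44, false), [5, 1, 2, 5, 0, 3]),
   ((45, false), [5, 1, 0, 4, 5, 0]),
   ((46, false), [5, 1, 0, 4, 0]),
   ((51, false), [5, 1, 1, 3]),
   ((52, false), [5, 1, 0, 2, 5, 1]),
   ((53, false), [5, 1, 0, 3, 5]),
   ((54, false), [5, 1, 0, 3]),
   ((56, false), [5, 1, 0, 4, 0, 5]),
   ((57, false), [5, 1, 0, 2, 2, 5, 1]),
   ((58, false), [5, 1, 3, 1, 0, 0]),
   ((60, false), [5, 1, 2, 5, 1]),
   ((61, false), [5, 0, 5, 5]),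
   ((62, false), [5, 0, 5]),
   ((67, false), [5, 0, 3, 5, 1, 4]),
   ((71, false), [5, 2, 3]),
   ((75, false), [5, 0, 3]),
   ((76, false), [5, 2, 3, 1, 4, 5]),
   ((77, false), [5, 0, 3, 5, 5, 1, 0]),
   ((78, false), [5, 1, 4, 1]),
   ((83, false), [5, 0, 0]),
   ((84, false), [5, 1, 3, 5, 1, 0]),
   ((85, false), [5, 1, 0, 0, 0, 5]),
   ((86, false), [5, 1, 0, 0, 0]),
   ((88, false), [5, 1, 4, 1, 5]),
   ((89, false), [5, 1, 0, 4, 5, 0, 0]),
   ((90, false), [5, 1, 0, 4, 0, 0]),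
   ((92, false), [5, 0, 5, 0, 5, 2]),
   ((93, false), [5, 0, 3, 5, 5]),
   ((94, false), [5, 0, 3, 5]),
   ((99, false), [5, 0, 0, 2]),
   ((100, false), [5, 0, 3, 1, 0, 5, 0]),
   ((101, false), [5, 0, 3, 5, 5, 1, 4]),
   ((102, false), [5, 1, 0, 0, 0, 2]),
   ((104, false), [5, 1, 4, 5, 1]),
   ((105, false), [5, 1, 0, 0, 4, 5]),
   ((106, false), [5, 1, 0, 0, 4]),
   ((108, false), [5, 0, 3, 5, 0, 3, 5]),
   ((109, false), [5, 1, 4, 5, 0]),
   ((110, false), [5, 0, 3, 1]),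
   ((112, false), [5, 1, 0, 2, 3, 5]),
   ((113, false), [5, 0, 5, 0, 5, 1, 4]),
   ((114, false), [5, 1, 2, 3, 3, 4]),
   ((116, false), [5, 0, 3, 1, 5, 0, 1]),
   ((117, false), [5, 1, 3, 5]),
   ((118, false), [5, 1, 3]),
   ((120, false), [5, 0, 3, 1, 5]),
   ((121, false), [5, 0, 5, 5, 0]),
   ((122, false), [5, 0, 5, 0]),
   ((127, false), [5, 0, 0, 0, 0, 3]),
   ((131, false), [5, 1, 0, 2, 1]),
   ((135, false), [5, 2, 3, 3]),
   ((139, false), [5, 0, 3, 3]),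
   ((140, false), [5, 1, 2, 5, 0]),
   ((141, false), [5, 1, 0, 5, 2, 2]),
   ((142, false), [5, 1, 0, 2, 2]),
   ((147, false), [5, 1, 1]),
   ((148, false), [5, 1, 2, 5, 0, 2]),
   ((149, false), [5, 1, 0, 5]),
   ((150, false), [5, 1, 0]),
   ((152, false), [5, 1, 0, 2, 2, 5]),
   ((153, false), [5, 1, 2, 5, 0, 5]),
   ((154, false), [5, 1, 4, 1, 0]),
   ((156, false), [5, 1, 0, 2, 5, 0]),
   ((157, false), [5, 0, 3, 3, 5, 5]),
   ((158, false), [5, 0, 3, 3, 5]),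
   ((163, false), [5, 0, 0, 0]),
   ((164, false), [5, 0, 5, 1, 5, 0]),
   ((165, false), [5, 1, 0, 5, 2]),
   ((166, false), [5, 1, 0, 2]),
   ((168, false), [5, 1, 0, 2, 5, 2]),
   ((169, false), [5, 1, 4, 3, 5]),
   ((170, false), [5, 1, 4, 3]),
   ((172, false), [5, 0, 5, 1, 5]),
   ((173, false), [5, 1, 5, 2]),
   ((174, false), [5, 1, 2]),
   ((176, false), [5, 1, 0, 5, 1]),
   ((177, false), [5, 1, 4, 5, 2, 3]),
   ((178, false), [5, 1, 0, 3, 1]),
   ((180, false), [5, 1, 0, 2, 5, 0, 2]),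
   ((181, false), [5, 1, 3, 4, 5]),
   ((182, false), [5, 1, 3, 4]),
   ((184, false), [5, 1, 2, 5]),
   ((185, false), [5, 0, 3, 5, 5, 0]),
   ((186, false), [5, 0, 3, 5, 0]),
   ((191, false), [5, 2, 1, 0]),
   ((195, false), [5, 0, 0, 2, 0]),
   ((196, false), [5, 0, 5, 5, 1, 0]),
   ((197, false), [5, 1, 2, 2, 5, 0]),
   ((198, false), [5, 0, 5, 1, 4]),
   ((200, false), [5, 1, 4, 5, 1, 3]),
   ((201, false), [5, 1, 1, 4, 1, 5]),
   ((202, false), [5, 1, 1, 4, 1]),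
   ((204, false), [5, 1, 0, 2, 4, 5]),
   ((205, false), [5, 1, 4, 5, 0, 3]),
   ((206, false), [5, 0, 3, 1, 3]),
   ((208, false), [5, 1, 4, 5, 1, 0]),
   ((209, false), [5, 1, 2, 4, 5, 5]),
   ((210, false), [5, 2, 2, 1, 4]),
   ((212, false), [5, 1, 3, 5, 1]),
   ((213, false), [5, 1, 0, 0, 5]),
   ((214, false), [5, 1, 0, 0]),
   ((216, false), [5, 0, 3, 1, 3, 5]),
   ((217, false), [5, 0, 5, 5, 0, 3]),
   ((218, false), [5, 0, 3, 1, 0]),
   ((223, false), [5, 1, 1, 0]),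
   ((224, false), [5, 1, 0, 2, 3, 5, 0]),
   ((225, false), [5, 1, 2, 4, 5, 1]),
   ((226, false), [5, 0, 3, 3, 4, 5]),
   ((228, false), [5, 0, 5, 0, 0, 5]),
   ((229, false), [5, 1, 0, 0, 5, 2]),
   ((230, false), [5, 2, 3, 1]),
   ((232, false), [5, 2, 3, 1, 5, 2]),
   ((233, false), [5, 1, 0, 4, 5]),
   ((234, false), [5, 1, 0, 4]),
   ((239, false), [5, 1, 2, 1, 0]),
   ((240, false), [5, 0, 3, 1, 5, 0]),
   ((241, false), [5, 0, 5, 5, 0, 0]),
   ((242, false), [5, 0, 5, 0, 0]),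
   ((247, false), [5, 0, 3, 3, 4]),
   ((251, false), [5, 5, 1, 3, 3, 4]),
   ((255, false), [5, 0, 3, 5, 1]),
   ((1, true), [5, 2, 1, 1, 5]),
   ((2, true), [5, 2, 1, 1]),
   ((7, true), [5, 1, 0, 2, 1, 1]),
   ((11, true), [5, 2, 1, 0, 5, 1]),
   ((15, true), [5, 5, 1, 2]),
   ((19, true), [5, 1, 4, 3, 2, 2, 1]),
   ((23, true), [5, 5, 1, 2, 2]),
   ((27, true), [5, 0, 2]),
   ((28, true), [5, 0, 3, 1, 5, 0, 0]),
   ((29, true), [5, 0, 5, 0, 0, 0, 5]),
   ((30, true), [5, 0, 5, 0, 0, 0]),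
   ((35, true), [5, 1, 0, 3, 5, 5]),
   ((39, true), [5, 5, 1]),
   ((43, true), [5, 1, 1, 3, 2]),
   ((44, true), [5, 1, 0, 2, 5, 1, 2]),
   ((45, true), [5, 1, 0, 3, 5, 2]),
   ((46, true), [5, 1, 0, 3, 2]),
   ((51, true), [5, 0, 2, 0]),
   ((52, true), [5, 1, 0, 5, 1, 1]),
   ((53, true), [5, 2, 3, 1, 0, 5]),
   ((54, true), [5, 2, 3, 1, 0]),
   ((56, true), [5, 1, 0, 3, 2, 5]),
   ((57, true), [5, 0, 5, 1, 0, 5, 1]),
   ((58, true), [5, 1, 4, 3, 2, 3]),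
   ((60, true), [5, 0, 5, 5, 1, 3]),
   ((61, true), [5, 1, 2, 2, 3, 5]),
   ((62, true), [5, 1, 2, 2, 3]),
   ((67, true), [5, 0, 3, 1, 2, 1, 4]),
   ((71, true), [5, 5, 1, 3]),
   ((75, true), [5, 5, 1, 0]),
   ((76, true), [5, 0, 3, 1, 3, 5, 0]),
   ((77, true), [5, 1, 4, 1, 5, 5]),
   ((78, true), [5, 0, 3, 1, 0, 0]),
   ((83, true), [5, 0, 2, 0, 3]),
   ((84, true), [5, 1, 0, 5, 1, 1, 3]),
   ((85, true), [5, 0, 3, 1, 1, 4, 5]),
   ((86, true), [5, 0, 3, 1, 1, 4]),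
   ((88, true), [5, 1, 4, 5, 1, 2]),
   ((89, true), [5, 1, 0, 0, 4, 5, 2]),
   ((90, true), [5, 2, 3, 1, 4]),
   ((92, true), [5, 0, 5, 0, 5, 5, 1]),
   ((93, true), [5, 0, 3, 1, 2, 5]),
   ((94, true), [5, 0, 3, 1, 2]),
   ((99, true), [5, 0, 0, 0, 3]),
   ((100, true), [5, 0, 3, 1, 3, 4, 5]),
   ((101, true), [5, 1, 0, 5, 2, 3]),
   ((102, true), [5, 1, 0, 2, 3]),
   ((104, true), [5, 1, 0, 2, 3, 5, 2]),
   ((105, true), [5, 1, 4, 3, 3, 5]),
   ((106, true), [5, 1, 4, 3, 3]),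
   ((108, true), [5, 0, 5, 0, 5]),
   ((109, true), [5, 1, 3, 5, 2]),
   ((110, true), [5, 1, 2, 3]),
   ((112, true), [5, 1, 0, 5, 1, 3]),
   ((113, true), [5, 1, 4, 5, 0, 3, 4]),
   ((114, true), [5, 0, 3, 1, 3, 4]),
   ((116, true), [5, 1, 2, 4, 5, 0]),
   ((117, true), [5, 1, 4, 4, 5]),
   ((118, true), [5, 1, 4, 4]),
   ((120, true), [5, 1, 2, 3, 5]),
   ((121, true), [5, 0, 5, 0, 5, 5]),
   ((122, true), [5, 0, 3, 5, 0, 3]),
   ((127, true), [5, 2, 1, 0, 3]),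
   ((131, true), [5, 1, 0, 5, 5]),
   ((135, true), [5, 5, 1, 3, 3]),
   ((139, true), [5, 1, 2, 1]),
   ((140, true), [5, 1, 4, 1, 0, 5]),
   ((141, true), [5, 1, 0, 2, 2, 5, 5]),
   ((142, true), [5, 0, 5, 1, 0]),
   ((147, true), [5, 1, 2, 1, 2]),
   ((148, true), [5, 1, 0, 3, 5, 1]),
   ((149, true), [5, 1, 3, 4, 0, 5]),
   ((150, true), [5, 1, 3, 4, 0]),
   ((152, true), [5, 0, 5, 1, 0, 5]),
   ((153, true), [5, 1, 4, 3, 5, 2]),
   ((154, true), [5, 1, 4, 3, 2]),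
   ((156, true), [5, 0, 5, 5, 1]),
   ((157, true), [5, 1, 2, 2, 5]),
   ((158, true), [5, 1, 2, 2]),
   ((163, true), [5, 2, 1]),
   ((164, true), [5, 0, 3, 5, 0, 5, 0]),
   ((165, true), [5, 1, 0, 2, 5, 5]),
   ((166, true), [5, 2, 2, 1, 0]),
   ((168, true), [5, 1, 0, 5, 1, 2]),
   ((169, true), [5, 2, 1, 0, 5, 5]),
   ((170, true), [5, 2, 1, 0, 5]),
   ((172, true), [5, 0, 3, 5, 0, 5]),
   ((173, true), [5, 1, 2, 5, 5]),
   ((174, true), [5, 2, 2, 1]),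
   ((176, true), [5, 1, 0, 2, 5]),
   ((177, true), [5, 0, 5, 1, 5, 0, 5]),
   ((178, true), [5, 1, 4, 3, 2, 2]),
   ((180, true), [5, 0, 5, 5, 1, 2]),
   ((181, true), [5, 1, 5]),
   ((182, true), [5, 1]),
   ((184, true), [5, 2, 2, 1, 5]),
   ((185, true), [5, 0, 3, 1, 2, 5, 0]),
   ((186, true), [5, 0, 5, 1]),
   ((191, true), [5, 0, 0, 0, 0]),
   ((195, true), [5, 0, 0, 0, 0, 4]),
   ((196, true), [5, 1, 2, 4, 5]),
   ((197, true), [5, 0, 3, 3, 5, 5, 0]),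
   ((198, true), [5, 0, 3, 3, 5, 0]),
   ((200, true), [5, 0, 5, 5, 1, 2, 4]),
   ((201, true), [5, 1, 4, 5]),
   ((202, true), [5, 1, 4]),
   ((204, true), [5, 0, 3, 1, 0, 5]),
   ((205, true), [5, 0, 5, 0, 5, 1]),
   ((206, true), [5, 1, 2, 3, 3]),
   ((208, true), [5, 0, 5, 1, 4, 5]),
   ((209, true), [5, 1, 4, 5, 2]),
   ((210, true), [5, 1, 2, 4]),
   ((212, true), [5, 1, 4, 4, 5, 1]),
   ((213, true), [5, 1, 4, 4, 3, 5]),
   ((214, true), [5, 1, 4, 4, 3]),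
   ((216, true), [5, 0, 5, 0, 5, 0]),
   ((217, true), [5, 0, 3, 5, 5, 1]),
   ((218, true), [5, 1, 0, 2, 4]),
   ((223, true), [5, 2, 1, 4]),
   ((224, true), [5, 0, 5, 5, 1, 4]),
   ((225, true), [5, 1, 2, 2, 4, 5]),
   ((226, true), [5, 1, 2, 2, 4]),
   ((228, true), [5, 1, 3, 1, 5]),
   ((229, true), [5, 2, 3, 1, 5, 5]),
   ((230, true), [5, 5, 1, 3, 1]),
   ((232, true), [5, 0, 3, 1, 5, 0, 2]),
   ((233, true), [5, 0, 3, 1, 1, 5]),
   ((234, true), [5, 0, 3, 1, 1]),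
   ((239, true), [5, 1, 1, 4]),
   ((240, true), [5, 2, 3, 1, 5]),
   ((241, true), [5, 0, 3, 5, 5, 1, 2]),
   ((242, true), [5, 1, 3, 1]),
   ((247, true), [5, 1, 2, 1, 4]),
   ((251, true), [5, 2, 3, 3, 4]),
   ((255, true), [5, 0, 3, 1, 2, 1])]
/-- Words reaching the involutions not commuting with `q 0` from `q 1`. -/
def T2 : List ((ℕ × Bool) × List ℕ) :=
  [((2, false), []),
   ((7, false), [1, 0, 1, 2, 1, 0]),
   ((11, false), [1, 0, 0, 4, 1, 3, 1]),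
   ((15, false), [1, 1, 2, 1]),
   ((19, false), [1, 2, 1, 4, 3, 1]),
   ((23, false), [1, 0, 3, 4, 0]),
   ((27, false), [1, 0, 3, 3, 2]),
   ((30, false), [1, 1, 0, 1, 1]),
   ((35, false), [1, 2, 1, 0, 1, 3]),
   ((39, false), [1, 0, 0, 4, 0]),
   ((43, false), [1, 1, 2, 3]),
   ((46, false), [1, 0, 1, 1, 0]),
   ((51, false), [1, 1, 2, 2, 3]),
   ((54, false), [1, 3, 1, 0]),
   ((58, false), [1, 1, 0, 1, 1, 0]),
   ((62, false), [1, 2, 0, 1]),
   ((67, false), [1, 0, 1, 2, 1, 4]),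
   ((71, false), [1, 0, 0, 0, 0]),
   ((75, false), [1, 1, 2, 3, 3]),
   ((78, false), [1, 0, 1, 0, 0]),
   ((83, false), [1, 1, 2, 0, 4]),
   ((86, false), [1, 0, 1, 1, 4]),
   ((90, false), [1, 3, 1, 4]),
   ((94, false), [1, 0, 1, 2]),
   ((99, false), [1, 1, 4, 4]),
   ((102, false), [1, 0, 1, 0, 4]),
   ((106, false), [1, 3, 1, 0, 0]),
   ((110, false), [1, 0, 1, 4, 3]),
   ((114, false), [1, 0, 1, 3, 4]),
   ((118, false), [1, 0, 1, 2, 2]),
   ((122, false), [1, 2, 0, 1, 0]),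
   ((127, false), [1, 1, 0, 3]),
   ((131, false), [1, 2, 1, 0, 1]),
   ((135, false), [1, 0, 0, 0, 0, 3]),
   ((139, false), [1, 1, 2]),
   ((142, false), [1, 2, 1, 0, 2]),
   ((147, false), [1, 1, 2, 2]),
   ((150, false), [1, 0, 1, 1, 4, 3]),
   ((154, false), [1, 3, 1, 4, 3]),
   ((158, false), [1, 0, 1, 2, 3]),
   ((163, false), [1, 1]),
   ((166, false), [1, 2, 1, 0]),
   ((170, false), [1, 0, 0, 4, 1, 3]),
   ((174, false), [1, 2, 1]),
   ((178, false), [1, 2, 1, 4, 3]),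
   ((182, false), [1, 2, 2, 1]),
   ((186, false), [1, 0, 1, 0, 3]),
   ((191, false), [1, 0, 0, 0, 3]),
   ((195, false), [1, 1, 4, 4, 0]),
   ((198, false), [1, 2, 1, 2, 0]),
   ((202, false), [1, 1, 2, 0, 1]),
   ((206, false), [1, 1, 0, 1, 0]),
   ((210, false), [1, 0, 1, 4, 4]),
   ((214, false), [1, 0, 1, 2, 2, 3]),
   ((218, false), [1, 0, 1, 2, 1, 1]),
   ((223, false), [1, 1, 4]),
   ((226, false), [1, 0, 1, 0, 4, 1]),
   ((230, false), [1, 1, 0, 1, 4]),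
   ((234, false), [1, 0, 1, 1]),
   ((239, false), [1, 0, 0, 4]),
   ((242, false), [1, 0, 2, 1, 1]),
   ((247, false), [1, 1, 2, 4]),
   ((251, false), [1, 3, 3, 4]),
   ((255, false), [1, 0, 1, 2, 1]),
   ((2, true), [1, 0, 0, 2, 1]),
   ((7, true), [1, 2, 1, 0, 1, 1]),
   ((11, true), [1, 1, 2, 0, 1, 3, 1]),
   ((15, true), [1, 2]),
   ((19, true), [1, 1, 0, 1, 2, 1]),
   ((23, true), [1, 2, 2]),
   ((27, true), [1, 2, 0]),
   ((30, true), [1, 0, 1, 1, 0, 2]),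
   ((35, true), [1, 0, 1, 4, 0, 1, 3]),
   ((39, true), [1]),
   ((43, true), [1, 0, 3, 3]),
   ((46, true), [1, 3, 1, 0, 2]),
   ((51, true), [1, 0, 0, 3]),
   ((54, true), [1, 1, 0, 1, 4, 0]),
   ((58, true), [1, 1, 0, 1, 3]),
   ((62, true), [1, 2, 1, 2, 3]),
   ((67, true), [1, 0, 1, 0, 1, 1, 4]),
   ((71, true), [1, 3]),
   ((75, true), [1, 0]),
   ((78, true), [1, 0, 2, 1, 1, 4]),
   ((83, true), [1, 0, 2]),
   ((86, true), [1, 0, 1, 3, 2, 0]),
   ((90, true), [1, 3, 3, 4, 1]),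
   ((94, true), [1, 0, 1, 0, 1]),
   ((99, true), [1, 1, 3]),
   ((102, true), [1, 2, 1, 0, 3]),
   ((106, true), [1, 0, 1, 3, 2, 4]),
   ((110, true), [1, 0, 1]),
   ((114, true), [1, 1, 0, 1, 0, 4]),
   ((118, true), [1, 0, 2, 1]),
   ((122, true), [1, 0, 1, 0, 3, 3]),
   ((127, true), [1, 1, 0, 4, 0]),
   ((131, true), [1, 0, 1, 4, 0, 1]),
   ((135, true), [1, 3, 3]),
   ((139, true), [1, 0, 3]),
   ((142, true), [1, 0, 1, 4, 0, 2]),
   ((147, true), [1, 0, 0]),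
   ((150, true), [1, 2, 2, 1, 0]),
   ((154, true), [1, 1, 0, 1]),
   ((158, true), [1, 2, 1, 2]),
   ((163, true), [1, 0, 0, 2]),
   ((166, true), [1, 0, 1, 4, 0]),
   ((170, true), [1, 1, 2, 0, 1, 3]),
   ((174, true), [1, 0, 1, 4]),
   ((178, true), [1, 1, 0, 1, 2]),
   ((182, true), [1, 0, 2, 1, 4]),
   ((186, true), [1, 2, 0, 1, 1]),
   ((191, true), [1, 1, 0]),
   ((195, true), [1, 1, 0, 4]),
   ((198, true), [1, 0, 1, 0, 3, 4]),
   ((202, true), [1, 0, 0, 4, 1]),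
   ((206, true), [1, 0, 1, 3]),
   ((210, true), [1, 2, 1, 4]),
   ((214, true), [1, 0, 1, 3, 2]),
   ((218, true), [1, 0, 1, 0]),
   ((223, true), [1, 0, 0, 0]),
   ((226, true), [1, 2, 1, 2, 4]),
   ((230, true), [1, 3, 1]),
   ((234, true), [1, 0, 2, 1, 0]),
   ((239, true), [1, 1, 2, 0]),
   ((242, true), [1, 0, 1, 0, 2]),
   ((247, true), [1, 0, 3, 4]),
   ((251, true), [1, 1, 0, 4, 0, 0]),
   ((255, true), [1, 0, 1, 0, 1, 1])]

theorem tri_K : Tri rK 8 := by decide +kernel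
theorem nd_K : Nondeg rK 8 := by decide +kernel
theorem sq_K : AutBound.sqOne (XG rK 8) = 272 := by
  rw [sqOne_eq_fintype]; decide +kernel

theorem chkK : Chk rK 8 F0 ⟨4, false⟩ [2, 3, 4] [[0], [1], [4]]
    [[], [0], [0, 0], [0, 0, 0], [0, 0, 0, 0], [0, 0, 0, 0, 0]] where
  tri := tri_K
  nd := nd_K
  two := by decide
  odd := by decide +kernel
  id := by decide +kernel
  a0c := by decide +kernel
  a0V := by decide +kernel
  moved := by decide +kernel
  fixw := by decide +kernel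
  fix := by decide +kernel
  gen := by decide +kernel
  bit := by decide +kernel
  ex := by decide +kernel

theorem trK : Tr rK 8 F1 T1 where
  tri := tri_K
  nd := nd_K
  odd := by decide +kernel
  run := by decide +kernel
  all := by decide +kernel

theorem tr2K : Tr2 rK 8 F0 T2 where
  tri := tri_K
  nd := nd_K
  two := by decide
  odd := by decide +kernel
  run := by decide +kernel
  all := by decide +kernel

end Cfsg.Agent.LargeExtra.CoModel
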