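import Mathlib
import Cfsg.Agent.LargeExtra.Check

/-!
# More on `GPin`: the homomorphism to the automorphism group, coordinates from relations
-/

set_option autoImplicit false

namespace Cfsg.Agent.LargeExtra.GPin

open Cfsg.Agent.LargeExtra.Model Cfsg.Agent.LargeExtra.Pres Cfsg.Agent.LargeExtra.Models
open Cfsg.Agent.LargeExtra.Check
open Subgroup

variable {G : Type*} [Group G] {Q : Subgroup G} {z : G} {B : ℕ → ℕ} {n : ℕ} {φ : XG B n ≃* Q}

/-- The action of `C(z)` in coordinates. -/
noncomputable def toAut (P : GPin Q z φ) : centralizer ({z} : Set G) →* MulAut (XG B n) where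
  toFun c := Classical.choose (P.ind c (mem_centralizer_singleton_iff.mp c.2))
  map_one' := Ind.unique (Classical.choose_spec (P.ind _ (mem_centralizer_singleton_iff.mp
    (1 : centralizer ({z} : Set G)).2))) Ind.one
  map_mul' c d := Ind.unique (Classical.choose_spec (P.ind _ (mem_centralizer_singleton_iff.mp
    (c * d).2))) ((Classical.choose_spec (P.ind c (mem_centralizer_singleton_iff.mp c.2))).mul
      (Classical.choose_spec (P.ind d (mem_centralizer_singleton_iff.mp d.2))))

theorem ind_toAut (P : GPin Q z φ) (c : centralizer ({z} : Set G)) : Ind φ (c : G) (toAut P c) :=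
  Classical.choose_spec (P.ind c (mem_centralizer_singleton_iff.mp c.2))

/-- Coordinates from another isomorphism. -/
theorem of_equiv (P : GPin Q z φ) (hN : Nondeg B n) (φ' : XG B n ≃* Q) : GPin Q z φ' := by
  have h := P.trans hN (φ'.trans φ.symm)
  have e : MulEquiv.trans (φ'.trans φ.symm) φ = φ' := by
    ext x
    simp
  rwa [e] at h

/-- Coordinates from elements satisfying the relations. -/
theorem of_rels (P : GPin Q z φ) (hB : Tri B n) (hN : Nondeg B n) {x : ℕ → G}
    (hx : ∀ i < n, x i ∈ Q) (h : Rels B n z x) :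
    ∃ φ' : XG B n ≃* Q, GPin Q z φ' ∧ ∀ (i : ℕ) (hi : i < n), (φ' (q B n ⟨i, hi⟩) : G) = x i := by
  have hinj : Function.Injective (lift h hB) := lift_injective h hB hN P.z_ne
  have hrange : ∀ g, lift h hB g ∈ Q := by
    intro g
    rw [lift_apply]
    refine mul_mem ?_ (prd_mem _ _ _ _ fun i hi _ => hx i hi)
    unfold zp
    split_ifs
    · exact mem_z P
    · exact one_mem _
  let f : XG B n →* Q := (lift h hB).codRestrict Q hrange
  have hf : Function.Injective f := fun a b hab => hinj (congrArg Subtype.val hab)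
  have hfin : Finite Q := Finite.of_equiv _ φ.toEquiv
  have hcard : Nat.card (XG B n) = Nat.card Q := Nat.card_congr φ.toEquiv
  have hbij : Function.Bijective f := (Nat.bijective_iff_injective_and_card f).mpr ⟨hf, hcard⟩
  refine ⟨MulEquiv.ofBijective f hbij, P.of_equiv hN _, fun i hi => ?_⟩
  show lift h hB (q B n ⟨i, hi⟩) = x i
  exact lift_q h hB ⟨i, hi⟩

/-- The vectors of conjugates under inner automorphisms. -/
theorem v_conj (x y : XG B n) : (MulAut.conj x y).v.1 = y.v.1 := by
  rw [MulAut.conj_apply, mul_v, mul_v, inv_v, Nat.xor_comm x.v.1, Nat.xor_assoc, Nat.xor_self,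
    Nat.xor_zero]

/-- Equality of vectors. -/
theorem v_eq_iff {x y : XG B n} : x.v.1 = y.v.1 ↔ x = y ∨ x = Model.zz * y := by
  constructor
  · intro h
    by_cases hs : x.s = y.s
    · left; exact XG.ext' h hs
    · right
      apply XG.ext'
      · rw [mul_v, zz_v, Nat.zero_xor, h]
      · rw [mul_s, zz_s, zz_v, bf_zero_left]
        revert hs
        cases x.s <;> cases y.s <;> simp
  · rintro (rfl | rfl)
    · rfl
    · rw [mul_v, zz_v, Nat.zero_xor]

/-- Elements inducing the identity on vectors are in `Q`: the automorphisms trivial on vectors are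
inner. -/
theorem aut_v_mul (hN : Nondeg B n) (α : MulAut (XG B n)) {x y : XG B n} (h : x.v.1 = y.v.1) :
    (α x).v.1 = (α y).v.1 := by
  rcases v_eq_iff.mp h with rfl | rfl
  · rfl
  · rw [map_mul, aut_zz hN]; exact v_eq_iff.mpr (Or.inr rfl)

end Cfsg.Agent.LargeExtra.GPin
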