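import Mathlib
import Cfsg.Agent.LargeExtra.Check

/-!
# The model of `2₋^(1+6)` adapted to a pair of non-commuting involutions

`q 0`, `q 1` are involutions generating a dihedral group of order eight, `q 2, …, q 5` are pairwise anticommuting
involutions commuting with them, `c₄ = q 2 q 3 q 4 q 5` is a fifth one.
-/

set_option autoImplicit false

namespace Cfsg.Agent.LargeExtra.SuzModel

open Cfsg.Agent.LargeExtra.Model Cfsg.Agent.LargeExtra.Pres Cfsg.Agent.LargeExtra.Models
open Cfsg.Agent.LargeExtra.GPin Cfsg.Agent.LargeExtra.Check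

/-- The adapted model of `2₋^(1+6)`. -/
abbrev rS : ℕ → ℕ := rows [0, 1, 0, 4, 12, 28]

/-- Automorphisms of odd order fixing `q 0`. -/
abbrev F0 : List (ℕ × List (ℕ × Bool)) :=
  [(5, [(1, false), (2, false), (8, false), (16, false), (32, false), (60, false)]),
   (5, [(1, false), (15, false), (9, true), (16, false), (32, false), (60, false)]),
   (3, [(1, false), (2, false), (4, false), (16, false), (32, false), (8, false)]),
   (3, [(1, false), (2, false), (4, false), (8, false), (32, false), (60, false)])]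
/-- Automorphisms of odd order. -/
abbrev F1 : List (ℕ × List (ℕ × Bool)) :=
  [(5, [(1, false), (2, false), (8, false), (16, false), (32, false), (60, false)]),
   (5, [(1, false), (15, false), (9, true), (16, false), (32, false), (60, false)]),
   (3, [(1, false), (2, false), (4, false), (16, false), (32, false), (8, false)]),
   (3, [(1, false), (2, false), (4, false), (8, false), (32, false), (60, false)]),
   (3, [(51, false), (2, false), (4, false), (8, false), (60, true), (18, true)])]
/-- Words reaching the noncentral involutions from `q 0`. -/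
abbrev T1 : List ((ℕ × Bool) × List ℕ) :=
  [((1, false), []),
   ((2, false), [4, 0, 3, 0, 1, 1]),
   ((4, false), [4, 1, 0, 4, 4, 0]),
   ((5, false), [4, 2, 3, 1, 4]),
   ((6, false), [4, 1, 0, 0, 0]),
   ((8, false), [4, 2, 2, 4, 1]),
   ((9, false), [4, 2, 3, 0, 4]),
   ((10, false), [4, 1, 0, 2]),
   ((15, false), [4, 0, 0, 0]),
   ((16, false), [4, 1, 0, 4, 4, 3]),
   ((17, false), [4, 0, 0, 0, 4, 3]),
   ((18, false), [4, 1]),
   ((23, false), [4, 2, 3, 0]),
   ((27, false), [4, 2, 2]),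
   ((31, false), [4, 0, 3, 2]),
   ((32, false), [4, 1, 0, 0, 4]),
   ((33, false), [4, 0, 0, 0, 4, 3, 0]),
   ((34, false), [4, 1, 0]),
   ((39, false), [4, 0, 3, 0]),
   ((43, false), [4, 1, 1, 1]),
   ((47, false), [4, 1, 1]),
   ((51, false), [4]),
   ((55, false), [4, 2, 3]),
   ((59, false), [4, 0, 3, 0, 1]),
   ((60, false), [4, 1, 0, 4, 4]),
   ((61, false), [4, 0, 0, 0, 4]),
   ((62, false), [4, 1, 0, 0]),
   ((1, true), [4, 0, 3, 2, 4]),
   ((2, true), [4, 0, 0, 1]),
   ((4, true), [4, 0, 0, 0, 4, 1]),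
   ((5, true), [4, 2, 2, 4]),
   ((6, true), [4, 1, 4, 0]),
   ((8, true), [4, 1, 4, 4, 2]),
   ((9, true), [4, 0, 0, 3, 4]),
   ((10, true), [4, 1, 0, 0, 1]),
   ((15, true), [4, 0, 0, 1, 1]),
   ((16, true), [4, 1, 0, 4]),
   ((17, true), [4, 0, 0, 3, 4, 0]),
   ((18, true), [4, 1, 4, 3]),
   ((23, true), [4, 0, 0, 3]),
   ((27, true), [4, 2, 3, 1]),
   ((31, true), [4, 0]),
   ((32, true), [4, 1, 4, 4]),
   ((33, true), [4, 0, 0, 3, 4, 0, 0]),
   ((34, true), [4, 1, 1, 1, 1]),
   ((39, true), [4, 1, 1, 0]),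
   ((43, true), [4, 2]),
   ((47, true), [4, 0, 3]),
   ((51, true), [4, 1, 0, 1]),
   ((55, true), [4, 0, 1]),
   ((59, true), [4, 0, 0]),
   ((60, true), [4, 1, 4, 4, 0]),
   ((61, true), [4, 0, 0, 1, 1, 4]),
   ((62, true), [4, 1, 4])]
/-- Words reaching the involutions not commuting with `q 0` from `q 1`. -/
abbrev T2 : List ((ℕ × Bool) × List ℕ) :=
  [((2, false), []),
   ((6, false), [1, 0, 1, 0]),
   ((10, false), [1, 0, 1, 0, 0]),
   ((15, false), [1]),
   ((18, false), [1, 0, 0, 1]),
   ((23, false), [1, 1]),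
   ((27, false), [1, 0]),
   ((31, false), [1, 0, 0, 0, 3, 2]),
   ((34, false), [1, 0, 0, 1, 0]),
   ((39, false), [1, 1, 1]),
   ((43, false), [1, 0, 3]),
   ((47, false), [1, 0, 3, 0]),
   ((51, false), [1, 0, 0]),
   ((55, false), [1, 0, 0, 2, 3]),
   ((59, false), [1, 1, 1, 1]),
   ((62, false), [1, 0, 1]),
   ((2, true), [1, 0, 0, 0, 0, 1]),
   ((6, true), [1, 0, 3, 1, 0, 0]),
   ((10, true), [1, 0, 1, 1]),
   ((15, true), [1, 1, 1, 1, 0]),
   ((18, true), [1, 0, 1, 1, 0]),
   ((23, true), [1, 0, 3, 3, 0]),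
   ((27, true), [1, 0, 3, 2]),
   ((31, true), [1, 0, 0, 0]),
   ((34, true), [1, 0, 3, 1]),
   ((39, true), [1, 0, 3, 0, 0]),
   ((43, true), [1, 0, 0, 2]),
   ((47, true), [1, 0, 0, 0, 3]),
   ((51, true), [1, 0, 3, 0, 3]),
   ((55, true), [1, 0, 3, 3]),
   ((59, true), [1, 0, 0, 0, 0]),
   ((62, true), [1, 0, 3, 1, 0])]

theorem tri_S : Tri rS 6 := by decide +kernel
theorem nd_S : Nondeg rS 6 := by decide +kernel
theorem sq_S : AutBound.sqOne (XG rS 6) = 56 := by
  rw [sqOne_eq_fintype]; decide +kernel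

theorem chkS : Chk rS 6 F0 ⟨4, false⟩ [2, 3] [[0], [0, 0], [2]] [[], [0], [0, 0], [0, 0, 0]] where
  tri := tri_S
  nd := nd_S
  two := by decide
  odd := by decide +kernel
  id := by decide +kernel
  a0c := by decide +kernel
  a0V := by decide +kernel
  moved := by decide +kernel
  fixw := by decide +kernel
  fix := by decide +kernel
  gen := by decide +kernel
  bit := by decide +kernel
  ex := by decide +kernel

theorem trS : Tr rS 6 F1 T1 where
  tri := tri_S
  nd := nd_S
  odd := by decide +kernel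
  run := by decide +kernel
  all := by decide +kernel

theorem tr2S : Tr2 rS 6 F0 T2 where
  tri := tri_S
  nd := nd_S
  two := by decide
  odd := by decide +kernel
  run := by decide +kernel
  all := by decide +kernel

end Cfsg.Agent.LargeExtra.SuzModel
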