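import Mathlib
import Cfsg.Prelude.Def_Local
import Cfsg.Prelude.Def_Transfer
import Cfsg.Prelude.Def_Classical
import Cfsg.Agent.S1265
import Cfsg.Agent.LargeExtra.Cards
import Cfsg.Agent.LargeExtra.Check
import Cfsg.Agent.LargeExtra.SuzModel

/-!
# The Suzuki type: `C/Q = Ω⁻(6,2)`, `Q = 2₋^(1+6)`

From the hypotheses of S1719 to the coordinates `GPin`, transitivity, and the theorem on the four-group.
-/

set_option autoImplicit false

namespace Cfsg.Agent.LargeExtra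

open Cfsg.Agent.LargeExtra.Model Cfsg.Agent.LargeExtra.Pres Cfsg.Agent.LargeExtra.Models
open Cfsg.Agent.LargeExtra.AutBound Cfsg.Agent.LargeExtra.Lift
open Cfsg.Agent.LargeExtra.FourGroup Cfsg.Agent.LargeExtra.Check
open Cfsg.Agent.ClassificationK.LargeSymplectic
open Cfsg.Agent.Transfer.ExtraspecialTwo

section Orbit

variable {G : Type*} [Group G]

/-- Orbit and stabilizer for the conjugation action of a subgroup. -/
theorem card_inf_centralizer_mul (H : Subgroup G) (y : G) :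
    Nat.card ↥(H ⊓ Subgroup.centralizer ({y} : Set G)) * Nat.card {x : G // ∃ c ∈ H, c * y * c⁻¹ = x} =
      Nat.card H := by
  let _ : MulAction H G := MulAction.compHom G ((MulAut.conj : G →* MulAut G).comp H.subtype)
  have hs : ∀ (c : H) (x : G), c • x = c * x * (c : G)⁻¹ := fun c x => rfl
  have h1 : Nat.card (MulAction.orbit H y) = Nat.card {x : G // ∃ c ∈ H, c * y * c⁻¹ = x} := by
    apply Nat.card_congr
    refine Equiv.subtypeEquivRight (fun x => ?_)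
    rw [MulAction.mem_orbit_iff]
    constructor
    · rintro ⟨c, hc⟩
      exact ⟨c, c.2, hc⟩
    · rintro ⟨c, hc, h⟩
      exact ⟨⟨c, hc⟩, h⟩
  have h2 : Nat.card (MulAction.stabilizer H y) =
      Nat.card ↥(H ⊓ Subgroup.centralizer ({y} : Set G)) := by
    apply Nat.card_congr
    refine ⟨fun c => ⟨c.1.1, c.1.2, ?_⟩, fun c => ⟨⟨c.1, c.2.1⟩, ?_⟩, fun c => rfl, fun c => rfl⟩
    · exact Subgroup.mem_centralizer_singleton_iff.mpr (mul_inv_eq_iff_eq_mul.mp c.2)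
    · have := Subgroup.mem_centralizer_singleton_iff.mp c.2.2
      exact mul_inv_eq_iff_eq_mul.mpr this
  rw [← h1, ← h2, mul_comm, ← Nat.card_prod]
  exact Nat.card_congr (MulAction.orbitProdStabilizerEquivGroup H y)

end Orbit

section General

variable {G : Type*} [Group G] [Finite G] {z : G}

/-- `Q` contains its centralizer, and the central involution. -/
theorem self_centralizing {C : Type*} [Group C] [Finite C] {Q : Subgroup C}
    (hF : Cfsg.generalizedFittingSubgroup C = Q) : Subgroup.centralizer (Q : Set C) ≤ Q := by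
  have := Cfsg.Agent.S1265.result (G := C)
  rwa [hF] at this

/-- The Suzuki type: coordinates in any model of minus type. -/
theorem exists_gpin_suz (hz : orderOf z = 2) (Q : Subgroup (Subgroup.centralizer ({z} : Set G)))
    [Q.Normal] (hF : Cfsg.generalizedFittingSubgroup (Subgroup.centralizer ({z} : Set G)) = Q)
    (hQ : Cfsg.IsExtraspecial 2 Q) (hcard : Nat.card Q = 2 ^ 7)
    (e : (Subgroup.centralizer ({z} : Set G)) ⧸ Q ≃*
      Cfsg.Omega (ZMod 2) (Cfsg.quadFormMinus 2 (ZMod 2) 1 1))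
    {B : ℕ → ℕ} (hN : Nondeg B 6) (hs : sqOne (XG B 6) = 56) :
    ∃ φ : XG B 6 ≃* (Q.map (Subgroup.centralizer ({z} : Set G)).subtype),
      GPin (Q.map (Subgroup.centralizer ({z} : Set G)).subtype) z φ := by
  have hzC : z ∈ Subgroup.centralizer ({z} : Set G) :=
    Subgroup.mem_centralizer_singleton_iff.mpr rfl
  have hz1 : z ≠ 1 := by
    rintro rfl
    simp at hz
  have hcen : ∀ c : Subgroup.centralizer ({z} : Set G), c * ⟨z, hzC⟩ = ⟨z, hzC⟩ * c := fun c =>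
    Subtype.ext (Subgroup.mem_centralizer_singleton_iff.mp c.2)
  have hself := self_centralizing hF
  have hzQ : (⟨z, hzC⟩ : Subgroup.centralizer ({z} : Set G)) ∈ Q := by
    apply hself
    rw [Subgroup.mem_centralizer_iff]
    intro g _
    exact hcen g
  have hcC : Nat.card (Subgroup.centralizer ({z} : Set G)) = 3317760 := by
    have h1 := Q.card_mul_index
    rw [hcard, Subgroup.index_eq_card, Nat.card_congr e.toEquiv, Cards.card_omega_minus_six] at h1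
    rw [← h1]; norm_num
  obtain ⟨-, φ', P⟩ := exists_pin_minus_six Q ⟨z, hzC⟩ hcen (fun h => hz1 (congrArg Subtype.val h)) hzQ
    hself (centralTwo_of_isExtraspecial hQ) hcard hcC hN hs
  exact ⟨_, GPin.of_pin hzC P⟩

omit [Finite G] in
theorem card_centralizer_suz (Q : Subgroup (Subgroup.centralizer ({z} : Set G)))
    [Q.Normal] (hcard : Nat.card Q = 2 ^ 7)
    (e : (Subgroup.centralizer ({z} : Set G)) ⧸ Q ≃*
      Cfsg.Omega (ZMod 2) (Cfsg.quadFormMinus 2 (ZMod 2) 1 1)) :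
    Nat.card (Subgroup.centralizer ({z} : Set G)) = 3317760 := by
  have h1 := Q.card_mul_index
  rw [hcard, Subgroup.index_eq_card, Nat.card_congr e.toEquiv, Cards.card_omega_minus_six] at h1
  rw [← h1]; norm_num

/-- The Conway type: coordinates in any model of plus type. -/
theorem exists_gpin_co (hz : orderOf z = 2) (Q : Subgroup (Subgroup.centralizer ({z} : Set G)))
    [Q.Normal] (hself : Subgroup.centralizer (Q : Set (Subgroup.centralizer ({z} : Set G))) ≤ Q)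
    (hQ : Cfsg.IsExtraspecial 2 Q) (hcard : Nat.card Q = 2 ^ 9)
    (e : (Subgroup.centralizer ({z} : Set G)) ⧸ Q ≃*
      Cfsg.Omega (ZMod 2) (Cfsg.quadFormPlus 4 (ZMod 2)))
    {B : ℕ → ℕ} (hN : Nondeg B 8) (hs : sqOne (XG B 8) = 272) :
    ∃ φ : XG B 8 ≃* (Q.map (Subgroup.centralizer ({z} : Set G)).subtype),
      GPin (Q.map (Subgroup.centralizer ({z} : Set G)).subtype) z φ := by
  have hzC : z ∈ Subgroup.centralizer ({z} : Set G) :=
    Subgroup.mem_centralizer_singleton_iff.mpr rfl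
  have hz1 : z ≠ 1 := by
    rintro rfl
    simp at hz
  have hcen : ∀ c : Subgroup.centralizer ({z} : Set G), c * ⟨z, hzC⟩ = ⟨z, hzC⟩ * c := fun c =>
    Subtype.ext (Subgroup.mem_centralizer_singleton_iff.mp c.2)
  have hzQ : (⟨z, hzC⟩ : Subgroup.centralizer ({z} : Set G)) ∈ Q := by
    apply hself
    rw [Subgroup.mem_centralizer_iff]
    intro g _
    exact hcen g
  have hcC : Nat.card (Subgroup.centralizer ({z} : Set G)) = 89181388800 := by
    have h1 := Q.card_mul_index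
    rw [hcard, Subgroup.index_eq_card, Nat.card_congr e.toEquiv, Cards.card_omega_plus_eight] at h1
    rw [← h1]; norm_num
  obtain ⟨-, φ', P⟩ := exists_pin_plus_eight Q ⟨z, hzC⟩ hcen (fun h => hz1 (congrArg Subtype.val h)) hzQ
    hself (centralTwo_of_isExtraspecial hQ) hcard hcC hN hs
  exact ⟨_, GPin.of_pin hzC P⟩

omit [Finite G] in
theorem card_centralizer_co (Q : Subgroup (Subgroup.centralizer ({z} : Set G)))
    [Q.Normal] (hcard : Nat.card Q = 2 ^ 9)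
    (e : (Subgroup.centralizer ({z} : Set G)) ⧸ Q ≃*
      Cfsg.Omega (ZMod 2) (Cfsg.quadFormPlus 4 (ZMod 2))) :
    Nat.card (Subgroup.centralizer ({z} : Set G)) = 89181388800 := by
  have h1 := Q.card_mul_index
  rw [hcard, Subgroup.index_eq_card, Nat.card_congr e.toEquiv, Cards.card_omega_plus_eight] at h1
  rw [← h1]; norm_num

end General

/-! ### Consequences of `GPin`, for both types -/

section Trans

variable {G : Type*} [Group G] {z : G} {Q : Subgroup G} {B : ℕ → ℕ} {n : ℕ}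

theorem GPin.noncentral {φ : XG B n ≃* Q} (P : GPin Q z φ) {x : G} (hx : x ∈ Q) (hx2 : x * x = 1)
    (h1 : x ≠ 1) (hz : x ≠ z) :
    ∃ a : XG B n, (φ a : G) = x ∧ a * a = 1 ∧ a ≠ 1 ∧ a ≠ Model.zz := by
  obtain ⟨a, ha⟩ := GPin.exists_phi φ hx
  refine ⟨a, ha, ?_, ?_, ?_⟩
  · rw [← GPin.phi_inj (φ := φ), GPin.phi_mul, ha, hx2, GPin.phi_one]
  · rintro rfl; rw [GPin.phi_one] at ha; exact h1 ha.symm
  · rintro rfl; rw [P.zz] at ha; exact hz ha.symm

/-- Coordinates with a prescribed `q 0`. -/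
theorem GPin.adapt {φ : XG B n ≃* Q} (P : GPin Q z φ) {F : List (ℕ × List (ℕ × Bool))}
    {T : List ((ℕ × Bool) × List ℕ)} (t : Tr B n F T) {y : G} (hy : y ∈ Q) (hy2 : y * y = 1)
    (h1 : y ≠ 1) (hz : y ≠ z) : ∃ φ' : XG B n ≃* Q, GPin Q z φ' ∧ (φ' (idim B n 0) : G) = y := by
  obtain ⟨a, ha, ha2, ha1, haz⟩ := P.noncentral hy hy2 h1 hz
  obtain ⟨α, -, hα⟩ := t.exists_aut ⊤ (fun _ _ _ _ => Subgroup.mem_top _) ha2 ha1 haz
  refine ⟨_, P.trans t.nd α, ?_⟩
  show (φ (α (idim B n 0)) : G) = y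
  rw [hα, ha]

/-- Coordinates with prescribed `q 0`, `q 1`. -/
theorem GPin.adapt₂ {φ : XG B n ≃* Q} (P : GPin Q z φ) {F F' : List (ℕ × List (ℕ × Bool))}
    {T T' : List ((ℕ × Bool) × List ℕ)} (t : Tr B n F T) (t' : Tr2 B n F' T') {y w : G}
    (hy : y ∈ Q) (hy2 : y * y = 1) (hw : w ∈ Q) (hw2 : w * w = 1) (hyw : w * y ≠ y * w) :
    ∃ φ' : XG B n ≃* Q, GPin Q z φ' ∧ (φ' (idim B n 0) : G) = y ∧ (φ' (idim B n 1) : G) = w := by
  have h1 : y ≠ 1 := by rintro rfl; simp at hyw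
  have hz : y ≠ z := by rintro rfl; exact hyw (GPin.comm_z P hw)
  obtain ⟨φ, P, h2⟩ := P.adapt t hy hy2 h1 hz
  obtain ⟨a, ha⟩ := GPin.exists_phi φ hw
  have ha2 : a * a = 1 := by
    rw [← GPin.phi_inj (φ := φ), GPin.phi_mul, ha, hw2, GPin.phi_one]
  obtain ⟨α, -, hα, hα'⟩ := t'.exists_aut ⊤ (fun _ _ _ _ => Subgroup.mem_top _) ha2 (by
    rw [Ne, ← GPin.phi_inj (φ := φ), GPin.phi_mul, GPin.phi_mul, ha, h2]; exact hyw)
  refine ⟨_, P.trans t.nd α, ?_, ?_⟩
  · show (φ (α (idim B n 0)) : G) = y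
    rw [hα, h2]
  · show (φ (α (idim B n 1)) : G) = w
    rw [hα', ha]

/-- `C(z)` is transitive on the noncentral involutions. -/
theorem GPin.conj_inv {φ : XG B n ≃* Q} (P : GPin Q z φ) {F : List (ℕ × List (ℕ × Bool))}
    {T : List ((ℕ × Bool) × List ℕ)} (t : Tr B n F T) {x y : G} (hx : x ∈ Q) (hx2 : x * x = 1)
    (hx1 : x ≠ 1) (hxz : x ≠ z) (hy : y ∈ Q) (hy2 : y * y = 1)
    (h1 : y ≠ 1) (hz : y ≠ z) : ∃ c, c * z = z * c ∧ c * x * c⁻¹ = y := by
  obtain ⟨a, ha, ha2, ha1, haz⟩ := P.noncentral hx hx2 hx1 hxz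
  obtain ⟨b, hb, hb2, hb1, hbz⟩ := P.noncentral hy hy2 h1 hz
  obtain ⟨c, hc, hc'⟩ := t.exists_conj P ha2 ha1 haz
  obtain ⟨d, hd, hd'⟩ := t.exists_conj P hb2 hb1 hbz
  rw [ha] at hc'
  rw [hb] at hd'
  refine ⟨d * c⁻¹, ?_, ?_⟩
  · have hc2 : c⁻¹ * z = z * c⁻¹ := by
      rw [inv_mul_eq_iff_eq_mul, ← mul_assoc, hc, mul_assoc, mul_inv_cancel, mul_one]
    rw [mul_assoc, hc2, ← mul_assoc, hd, mul_assoc]
  · rw [← hc', ← hd']; group

/-- `C(z)` is transitive on the pairs of noncommuting involutions. -/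
theorem GPin.conj_pair {φ : XG B n ≃* Q} (P : GPin Q z φ) {F F' : List (ℕ × List (ℕ × Bool))}
    {T T' : List ((ℕ × Bool) × List ℕ)} (t : Tr B n F T) (t' : Tr2 B n F' T') {x v y w : G}
    (hx : x ∈ Q) (hx2 : x * x = 1) (hv : v ∈ Q) (hv2 : v * v = 1) (hxv : v * x ≠ x * v)
    (hy : y ∈ Q) (hy2 : y * y = 1) (hw : w ∈ Q) (hw2 : w * w = 1) (hyw : w * y ≠ y * w) :
    ∃ c, c * z = z * c ∧ c * x * c⁻¹ = y ∧ c * v * c⁻¹ = w := by
  obtain ⟨φ, P, h1, h2⟩ := P.adapt₂ t t' hy hy2 hw hw2 hyw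
  have hx1 : x ≠ 1 := by rintro rfl; simp at hxv
  have hxz : x ≠ z := by rintro rfl; exact hxv (GPin.comm_z P hv)
  have hy1 : y ≠ 1 := by rintro rfl; simp at hyw
  have hyz : y ≠ z := by rintro rfl; exact hyw (GPin.comm_z P hw)
  obtain ⟨c, hc, hcx⟩ := P.conj_inv t hx hx2 hx1 hxz hy hy2 hy1 hyz
  -- `v' = c v c⁻¹`
  have hv' : c * v * c⁻¹ ∈ Q := GPin.norm P hc hv
  obtain ⟨a, ha⟩ := GPin.exists_phi φ hv'
  have ha2 : a * a = 1 := by
    rw [← GPin.phi_inj (φ := φ), GPin.phi_mul, ha, GPin.phi_one]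
    calc c * v * c⁻¹ * (c * v * c⁻¹) = c * (v * v) * c⁻¹ := by group
      _ = 1 := by rw [hv2]; group
  have hay : a * idim B n 0 ≠ idim B n 0 * a := by
    rw [Ne, ← GPin.phi_inj (φ := φ), GPin.phi_mul, GPin.phi_mul, ha, h1, ← hcx]
    intro h3
    apply hxv
    have h4 : c * (v * x) * c⁻¹ = c * (x * v) * c⁻¹ := by
      calc c * (v * x) * c⁻¹ = c * v * c⁻¹ * (c * x * c⁻¹) := by group
        _ = c * x * c⁻¹ * (c * v * c⁻¹) := h3
        _ = _ := by group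
    exact mul_left_cancel (mul_right_cancel h4)
  obtain ⟨α, ⟨d, hd, hI⟩, hα, hα'⟩ := t'.exists_aut (GPin.Rg P)
    (fun α k hk h => GPin.odd_mem P hk h) ha2 hay
  -- `d` fixes `y`, and moves `w` to `v'`
  have hdy : d * y * d⁻¹ = y := by rw [← h1, hI, hα]
  have hdw : d * w * d⁻¹ = c * v * c⁻¹ := by rw [← h2, hI, hα', ha]
  have hd2 : d⁻¹ * z = z * d⁻¹ := by
    rw [inv_mul_eq_iff_eq_mul, ← mul_assoc, hd, mul_assoc, mul_inv_cancel, mul_one]
  refine ⟨d⁻¹ * c, ?_, ?_, ?_⟩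
  · rw [mul_assoc, hc, ← mul_assoc, hd2, mul_assoc]
  · calc d⁻¹ * c * x * (d⁻¹ * c)⁻¹ = d⁻¹ * (c * x * c⁻¹) * d := by group
      _ = d⁻¹ * (d * y * d⁻¹) * d := by rw [hcx, hdy]
      _ = y := by group
  · calc d⁻¹ * c * v * (d⁻¹ * c)⁻¹ = d⁻¹ * (c * v * c⁻¹) * d := by group
      _ = w := by rw [← hdw]; group

/-- The number of conjugates of a noncentral involution. -/
theorem GPin.card_orbit {φ : XG B n ≃* Q} (P : GPin Q z φ) {F : List (ℕ × List (ℕ × Bool))}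
    {T : List ((ℕ × Bool) × List ℕ)} (t : Tr B n F T) {y : G} (hy : y ∈ Q) (hy2 : y * y = 1)
    (h1 : y ≠ 1) (hz : y ≠ z) :
    Nat.card {x : G // ∃ c ∈ Subgroup.centralizer ({z} : Set G), c * y * c⁻¹ = x} =
      Nat.card {x : XG B n // x * x = 1 ∧ x ≠ 1 ∧ x ≠ Model.zz} := by
  symm
  refine Nat.card_congr ⟨fun x => ⟨φ x.1, ?_⟩, fun x => ⟨φ.symm ⟨x.1, ?_⟩, ?_⟩, ?_, ?_⟩
  · obtain ⟨c, hc, hc'⟩ := P.conj_inv t hy hy2 h1 hz (Subtype.property (φ x.1))
      (by rw [← GPin.phi_mul, x.2.1, GPin.phi_one])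
      (by rw [← GPin.phi_one (φ := φ), Ne, GPin.phi_inj]; exact x.2.2.1)
      (by rw [← P.zz, Ne, GPin.phi_inj]; exact x.2.2.2)
    exact ⟨c, Subgroup.mem_centralizer_singleton_iff.mpr hc, hc'⟩
  · obtain ⟨c, hc, hc'⟩ := x.2
    rw [← hc']
    exact GPin.norm P (Subgroup.mem_centralizer_singleton_iff.mp hc) hy
  · obtain ⟨c, hc, hc'⟩ := x.2
    have hcz := Subgroup.mem_centralizer_singleton_iff.mp hc
    have hxQ : x.1 ∈ Q := by rw [← hc']; exact GPin.norm P hcz hy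
    obtain ⟨a, ha, ha2, ha1, haz⟩ := P.noncentral hxQ
      (by rw [← hc']; calc c * y * c⁻¹ * (c * y * c⁻¹) = c * (y * y) * c⁻¹ := by group
            _ = 1 := by rw [hy2]; group)
      (by rw [← hc']; intro h2; apply h1
          have h3 : c * y * c⁻¹ = c * 1 * c⁻¹ := by rw [h2]; group
          exact mul_left_cancel (mul_right_cancel h3))
      (by rw [← hc']; intro h2; apply hz
          rw [mul_inv_eq_iff_eq_mul, ← hcz] at h2
          exact mul_left_cancel h2)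
    have : φ.symm ⟨x.1, hxQ⟩ = a := by
      rw [MulEquiv.symm_apply_eq]; exact Subtype.ext ha.symm
    rw [this]; exact ⟨ha2, ha1, haz⟩
  · intro x
    apply Subtype.ext
    show φ.symm ⟨((φ x.1 : Q) : G), _⟩ = x.1
    rw [MulEquiv.symm_apply_eq]
  · intro x
    apply Subtype.ext
    show ((φ (φ.symm ⟨x.1, _⟩) : Q) : G) = x.1
    rw [MulEquiv.apply_symm_apply]

/-- The number of conjugates under `C(z) ∩ C(y)` of an involution `w` not commuting with `y`. -/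
theorem GPin.card_orbit₂ {φ : XG B n ≃* Q} (P : GPin Q z φ) {F F' : List (ℕ × List (ℕ × Bool))}
    {T T' : List ((ℕ × Bool) × List ℕ)} (t : Tr B n F T) (t' : Tr2 B n F' T') {y w : G}
    (hy : y ∈ Q) (hy2 : y * y = 1) (hw : w ∈ Q) (hw2 : w * w = 1) (hyw : w * y ≠ y * w) :
    Nat.card {x : G // ∃ c ∈ CV z y, c * w * c⁻¹ = x} =
      Nat.card {x : XG B n // x * x = 1 ∧ x * idim B n 0 ≠ idim B n 0 * x} := by
  obtain ⟨φ, P, h1, h2⟩ := P.adapt₂ t t' hy hy2 hw hw2 hyw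
  symm
  refine Nat.card_congr ⟨fun x => ⟨φ x.1, ?_⟩, fun x => ⟨φ.symm ⟨x.1, ?_⟩, ?_⟩, ?_, ?_⟩
  · obtain ⟨c, hc, hc', hc''⟩ := P.conj_pair t t' hy hy2 hw hw2 hyw hy hy2 (Subtype.property (φ x.1))
      (by rw [← GPin.phi_mul, x.2.1, GPin.phi_one])
      (by rw [← h1, ← GPin.phi_mul, ← GPin.phi_mul, Ne, GPin.phi_inj]; exact x.2.2)
    exact ⟨c, mem_CV.mpr ⟨hc, mul_inv_eq_iff_eq_mul.mp hc'⟩, hc''⟩
  · obtain ⟨c, hc, hc'⟩ := x.2
    rw [← hc']
    exact GPin.norm P (mem_CV.mp hc).1 hw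
  · obtain ⟨c, hc, hc'⟩ := x.2
    obtain ⟨hcz, hcy⟩ := mem_CV.mp hc
    have hxQ : x.1 ∈ Q := by rw [← hc']; exact GPin.norm P hcz hw
    obtain ⟨a, ha⟩ := GPin.exists_phi φ hxQ
    have : φ.symm ⟨x.1, hxQ⟩ = a := by
      rw [MulEquiv.symm_apply_eq]; exact Subtype.ext ha.symm
    rw [this]
    constructor
    · rw [← GPin.phi_inj (φ := φ), GPin.phi_mul, ha, GPin.phi_one, ← hc']
      calc c * w * c⁻¹ * (c * w * c⁻¹) = c * (w * w) * c⁻¹ := by group
        _ = 1 := by rw [hw2]; group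
    · rw [Ne, ← GPin.phi_inj (φ := φ), GPin.phi_mul, GPin.phi_mul, ha, h1, ← hc']
      intro h3
      apply hyw
      have hy' : y = c * y * c⁻¹ := by rw [hcy, mul_inv_cancel_right]
      have h4 : c * (w * y) * c⁻¹ = c * (y * w) * c⁻¹ := by
        calc c * (w * y) * c⁻¹ = c * w * c⁻¹ * (c * y * c⁻¹) := by group
          _ = c * w * c⁻¹ * y := by rw [← hy']
          _ = y * (c * w * c⁻¹) := h3
          _ = c * y * c⁻¹ * (c * w * c⁻¹) := by rw [← hy']
          _ = _ := by group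
      exact mul_left_cancel (mul_right_cancel h4)
  · intro x
    apply Subtype.ext
    show φ.symm ⟨((φ x.1 : Q) : G), _⟩ = x.1
    rw [MulEquiv.symm_apply_eq]
  · intro x
    apply Subtype.ext
    show ((φ (φ.symm ⟨x.1, _⟩) : Q) : G) = x.1
    rw [MulEquiv.apply_symm_apply]

end Trans

end Cfsg.Agent.LargeExtra
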