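import Mathlib
import Cfsg.Agent.LargeExtra.SuzData

/-!
# The Suzuki type: summary of the local information inside `C(z)`

`SuzHyp Q z` is all that is used of the hypotheses of S1719 (S1725) apart from the conjugate of `z` in `Q`.
-/

set_option autoImplicit false

namespace Cfsg.Agent.LargeExtra

open Cfsg.Agent.LargeExtra.Model Cfsg.Agent.LargeExtra.Pres Cfsg.Agent.LargeExtra.Models
open Cfsg.Agent.LargeExtra.AutBound Cfsg.Agent.LargeExtra.Lift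
open Cfsg.Agent.LargeExtra.FourGroup Cfsg.Agent.LargeExtra.Check Cfsg.Agent.LargeExtra.SuzModel
open Cfsg.Agent.ClassificationK.LargeSymplectic

/-- `Q = 2₋^(1+6)`, `C(z)/Q = Ω⁻(6,2)`, in coordinates. -/
structure SuzHyp {G : Type*} [Group G] (Q : Subgroup G) (z : G) : Prop where
  pin : ∃ φ : XG rS 6 ≃* Q, GPin Q z φ
  card : Nat.card (Subgroup.centralizer ({z} : Set G)) = 3317760

/-- The hypotheses of S1719. -/
theorem SuzHyp.of_statement {G : Type*} [Group G] [Finite G] (z : G) (hz : orderOf z = 2)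
    (Q : Subgroup (Subgroup.centralizer ({z} : Set G))) [Q.Normal]
    (hF : Cfsg.generalizedFittingSubgroup (Subgroup.centralizer ({z} : Set G)) = Q)
    (hQ : Cfsg.IsExtraspecial 2 Q) (hcard : Nat.card Q = 2 ^ 7)
    (e : (Subgroup.centralizer ({z} : Set G)) ⧸ Q ≃*
      Cfsg.Omega (ZMod 2) (Cfsg.quadFormMinus 2 (ZMod 2) 1 1)) :
    SuzHyp (Q.map (Subgroup.centralizer ({z} : Set G)).subtype) z where
  pin := exists_gpin_suz hz Q hF hQ hcard e nd_S sq_S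
  card := card_centralizer_suz Q hcard e

section

variable {G : Type*} [Group G]

/-- The order of a product `R L` with `R ∩ L = 1`. -/
theorem card_mul_of_compl {C R L : Subgroup G} (hR : R ≤ C) (hL : L ≤ C)
    (h1 : ∀ x ∈ L, x ∈ R → x = 1) (h2 : ∀ c ∈ C, ∃ x ∈ R, ∃ l ∈ L, c = x * l) :
    Nat.card C = Nat.card R * Nat.card L := by
  rw [← Nat.card_prod]
  symm
  refine Nat.card_congr (Equiv.ofBijective
    (fun p : R × L => (⟨p.1 * p.2, mul_mem (hR p.1.2) (hL p.2.2)⟩ : C)) ⟨?_, ?_⟩)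
  · rintro ⟨a, b⟩ ⟨a', b'⟩ h
    have h3 : (a : G) * b = a' * b' := congrArg Subtype.val h
    have h4 : (b' : G) * (b : G)⁻¹ = (a' : G)⁻¹ * a := by
      rw [eq_inv_mul_iff_mul_eq, ← mul_assoc, ← h3, mul_inv_cancel_right]
    have h5 : (b' : G) * (b : G)⁻¹ = 1 := by
      apply h1 _ (mul_mem b'.2 (inv_mem b.2))
      rw [h4]; exact mul_mem (inv_mem a'.2) a.2
    have h6 : (b' : G) = b := mul_inv_eq_one.mp h5
    have h7 : (a : G) = a' := by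
      rw [h6] at h3; exact mul_right_cancel h3
    rw [Prod.mk.injEq]
    exact ⟨Subtype.ext h7, Subtype.ext h6.symm⟩
  · rintro ⟨c, hc⟩
    obtain ⟨x, hx, l, hl, rfl⟩ := h2 c hc
    exact ⟨(⟨x, hx⟩, ⟨l, hl⟩), rfl⟩

variable {Q P : Subgroup G} {z y w : G}

theorem card_noncentral_S :
    Nat.card {x : XG rS 6 // x * x = 1 ∧ x ≠ 1 ∧ x ≠ Model.zz} = 54 := by
  rw [Nat.card_eq_fintype_card]; decide +kernel

theorem card_noncomm_S :
    Nat.card {x : XG rS 6 // x * x = 1 ∧ x * idim rS 6 0 ≠ idim rS 6 0 * x} = 32 := by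
  rw [Nat.card_eq_fintype_card]; decide +kernel

namespace SuzHyp

theorem data (H : SuzHyp Q z) : Data Q z := by
  obtain ⟨φ, P⟩ := H.pin
  exact GPin.data P nd_S

theorem z_ne (H : SuzHyp Q z) : z ≠ 1 := by
  obtain ⟨φ, P⟩ := H.pin
  exact P.z_ne

theorem card_Q (H : SuzHyp Q z) : Nat.card Q = 128 := by
  obtain ⟨φ, P⟩ := H.pin
  rw [← Nat.card_congr φ.toEquiv, card_XG]
  norm_num

/-- `Z(Q) = ⟨z⟩`. -/
theorem center (H : SuzHyp Q z) {x : G} (hx : x ∈ Q) (h : ∀ q ∈ Q, q * x * q⁻¹ = x) :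
    x = 1 ∨ x = z := by
  obtain ⟨φ, P⟩ := H.pin
  exact GPin.center P nd_S hx h

/-- `C(z)` is transitive on the 54 noncentral involutions of `Q`. -/
theorem conj_inv (H : SuzHyp Q z) {x y : G} (hx : x ∈ Q) (hx2 : x * x = 1)
    (hx1 : x ≠ 1) (hxz : x ≠ z) (hy : y ∈ Q) (hy2 : y * y = 1)
    (h1 : y ≠ 1) (hz : y ≠ z) : ∃ c, c * z = z * c ∧ c * x * c⁻¹ = y := by
  obtain ⟨φ, P⟩ := H.pin
  exact P.conj_inv trS hx hx2 hx1 hxz hy hy2 h1 hz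

/-- `C(z)` is transitive on the 1728 ordered pairs of noncommuting involutions of `Q`. -/
theorem conj_pair (H : SuzHyp Q z) {x v y w : G}
    (hx : x ∈ Q) (hx2 : x * x = 1) (hv : v ∈ Q) (hv2 : v * v = 1) (hxv : v * x ≠ x * v)
    (hy : y ∈ Q) (hy2 : y * y = 1) (hw : w ∈ Q) (hw2 : w * w = 1) (hyw : w * y ≠ y * w) :
    ∃ c, c * z = z * c ∧ c * x * c⁻¹ = y ∧ c * v * c⁻¹ = w := by
  obtain ⟨φ, P⟩ := H.pin
  exact P.conj_pair trS tr2S hx hx2 hv hv2 hxv hy hy2 hw hw2 hyw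

/-- Coordinates adapted to a noncentral involution. -/
theorem adapt (H : SuzHyp Q z) (hy : y ∈ Q) (hy2 : y * y = 1) (h1 : y ≠ 1) (hz : y ≠ z) :
    ∃ φ : XG rS 6 ≃* Q, GPin Q z φ ∧ (φ (idim rS 6 0) : G) = y := by
  obtain ⟨φ, P⟩ := H.pin
  exact P.adapt trS hy hy2 h1 hz

/-- Coordinates adapted to a pair of noncommuting involutions `y`, `w`: the images of `q 2, …, q 5` are
pairwise anticommuting involutions generating `C_Q(⟨y, w⟩)` together with `z`. -/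
theorem adapt₂ (H : SuzHyp Q z) (hy : y ∈ Q) (hy2 : y * y = 1) (hw : w ∈ Q) (hw2 : w * w = 1)
    (hyw : w * y ≠ y * w) :
    ∃ φ : XG rS 6 ≃* Q, GPin Q z φ ∧ (φ (idim rS 6 0) : G) = y ∧ (φ (idim rS 6 1) : G) = w := by
  obtain ⟨φ, P⟩ := H.pin
  exact P.adapt₂ trS tr2S hy hy2 hw hw2 hyw

/-- `|C(z) ∩ C(y)| = 61440 = 2¹⁰ · 60`. -/
theorem card_CV (H : SuzHyp Q z) (hy : y ∈ Q) (hy2 : y * y = 1) (h1 : y ≠ 1) (hz : y ≠ z) :
    Nat.card (CV z y) = 61440 := by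
  obtain ⟨φ, P⟩ := H.pin
  have h2 := card_inf_centralizer_mul (Subgroup.centralizer ({z} : Set G)) y
  rw [P.card_orbit trS hy hy2 h1 hz, card_noncentral_S, H.card] at h2
  have h3 : Nat.card (CV z y) * 54 = 3317760 := h2
  omega

/-- `|C(z) ∩ C(y) ∩ C(w)| = 1920 = 2⁵ · 60`. -/
theorem card_CVw (H : SuzHyp Q z) (hy : y ∈ Q) (hy2 : y * y = 1) (hw : w ∈ Q) (hw2 : w * w = 1)
    (hyw : w * y ≠ y * w) : Nat.card ↥(CV z y ⊓ Subgroup.centralizer ({w} : Set G)) = 1920 := by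
  obtain ⟨φ, P⟩ := H.pin
  have h1 : y ≠ 1 := by rintro rfl; simp at hyw
  have hz : y ≠ z := by rintro rfl; exact hyw (GPin.comm_z P hw)
  have h2 := card_inf_centralizer_mul (CV z y) w
  rw [P.card_orbit₂ trS tr2S hy hy2 hw hw2 hyw, card_noncomm_S, H.card_CV hy hy2 h1 hz] at h2
  omega

/-- All the hypotheses of `Ctx.main_four` hold; `|R| = 2¹⁰`. -/
theorem chk [Finite G] (H : SuzHyp Q z) (h : Ctx Q P z y) : ∃ a0 : G,
    (∀ x ∈ Q, x ∈ P → x ∈ h.V) ∧ h.Vec a0 ∧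
    (∀ c ∈ CV z y, (∀ d ∈ CV z y, c * d * c⁻¹ * d⁻¹ ∈ h.R) → c ∈ h.R) ∧
    (∃ a ∈ h.A, a ∉ h.V ∧ a * a0 ∉ h.V) ∧ Nat.card h.R = 1024 := by
  obtain ⟨φ, P', hφ⟩ := H.adapt h.yQ h.yy h.y1 h.ne
  obtain ⟨h1, h2, h3, h4, h5⟩ := chk_all chkS P' hφ h
  exact ⟨_, h1, h2, h3, h4, by rw [h5]; norm_num⟩

/-- **The four-group for the Suzuki type**: `N_G(V)` contains `R : (L × ⟨f, τ⟩)`, `|L| = 60`. -/
theorem four [Finite G] (H : SuzHyp Q z) (h : Ctx Q P z y) :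
    ∃ f τ : G, h.IsF f ∧ τ ∈ Q ∧ τ * τ = 1 ∧ τ * f * τ⁻¹ = f⁻¹ ∧ τ * y * τ⁻¹ = z * y ∧
      (∀ l ∈ h.L f, τ * l = l * τ) ∧ (∀ l ∈ h.L f, l * f = f * l) ∧
      (∀ x ∈ h.L f, x ∈ h.R → x = 1) ∧
      (∀ c ∈ CV z y, ∃ x ∈ h.R, ∃ l ∈ h.L f, c = x * l) ∧
      (∀ x ∈ h.R, x * (f * x * f⁻¹) * (f⁻¹ * x * f) = 1) ∧
      (∀ x ∈ Q, (∀ l ∈ h.L f, x * l = l * x) → x ∈ h.V ∨ x * τ ∈ h.V) ∧
      (∀ x ∈ Q, x ∈ P → x ∈ h.V) ∧ Nat.card h.R = 1024 ∧ Nat.card (h.L f) = 60 ∧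
      Nat.card (CV z y) = 61440 := by
  obtain ⟨a0, h1, h2, h3, h4, h5⟩ := H.chk h
  obtain ⟨f, τ, k1, k2, k3, k4, k5, k6, k7, k8, k9, k10, k11⟩ := h.main_four h1 h2 h3 h4
  have h6 := H.card_CV h.yQ h.yy h.y1 h.ne
  have h7 := card_mul_of_compl h.R_le_CV (fun x hx => (h.mem_L.mp hx).1) k8 k9
  refine ⟨f, τ, k1, k2, k3, k4, k5, k6, k7, k8, k9, k10, k11, h1, h5, ?_, h6⟩
  rw [h6, h5] at h7
  omega

end SuzHyp

end

end Cfsg.Agent.LargeExtra
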