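import Mathlib
import Cfsg.Agent.LargeExtra.SuzFour
import Cfsg.Agent.LargeExtra.CoModel

/-!
# The Conway type: summary of the local information inside `C(z)`

`CoHyp Q z` is all that is used of the hypotheses of S1718 apart from the conjugate of `z` in `Q`.
-/

set_option autoImplicit false

namespace Cfsg.Agent.LargeExtra

open Cfsg.Agent.LargeExtra.Model Cfsg.Agent.LargeExtra.Pres Cfsg.Agent.LargeExtra.Models
open Cfsg.Agent.LargeExtra.AutBound Cfsg.Agent.LargeExtra.Lift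
open Cfsg.Agent.LargeExtra.FourGroup Cfsg.Agent.LargeExtra.Check Cfsg.Agent.LargeExtra.CoModel
open Cfsg.Agent.ClassificationK.LargeSymplectic

/-- `Q = 2₊^(1+8)`, `C(z)/Q = Ω⁺(8,2)`, in coordinates. -/
structure CoHyp {G : Type*} [Group G] (Q : Subgroup G) (z : G) : Prop where
  pin : ∃ φ : XG rK 8 ≃* Q, GPin Q z φ
  card : Nat.card (Subgroup.centralizer ({z} : Set G)) = 89181388800

/-- The hypotheses of S1718, with `C_C(Q) ≤ Q` instead of `F*(C) = Q`. -/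
theorem CoHyp.of_self_centralizing {G : Type*} [Group G] [Finite G] (z : G) (hz : orderOf z = 2)
    (Q : Subgroup (Subgroup.centralizer ({z} : Set G))) [Q.Normal]
    (hself : Subgroup.centralizer (Q : Set (Subgroup.centralizer ({z} : Set G))) ≤ Q)
    (hQ : Cfsg.IsExtraspecial 2 Q) (hcard : Nat.card Q = 2 ^ 9)
    (e : (Subgroup.centralizer ({z} : Set G)) ⧸ Q ≃*
      Cfsg.Omega (ZMod 2) (Cfsg.quadFormPlus 4 (ZMod 2))) :
    CoHyp (Q.map (Subgroup.centralizer ({z} : Set G)).subtype) z where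
  pin := exists_gpin_co hz Q hself hQ hcard e nd_K sq_K
  card := card_centralizer_co Q hcard e

/-- The hypotheses of S1718. -/
theorem CoHyp.of_statement {G : Type*} [Group G] [Finite G] (z : G) (hz : orderOf z = 2)
    (Q : Subgroup (Subgroup.centralizer ({z} : Set G))) [Q.Normal]
    (hF : Cfsg.generalizedFittingSubgroup (Subgroup.centralizer ({z} : Set G)) = Q)
    (hQ : Cfsg.IsExtraspecial 2 Q) (hcard : Nat.card Q = 2 ^ 9)
    (e : (Subgroup.centralizer ({z} : Set G)) ⧸ Q ≃*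
      Cfsg.Omega (ZMod 2) (Cfsg.quadFormPlus 4 (ZMod 2))) :
    CoHyp (Q.map (Subgroup.centralizer ({z} : Set G)).subtype) z :=
  CoHyp.of_self_centralizing z hz Q (self_centralizing hF) hQ hcard e

section

variable {G : Type*} [Group G]

variable {Q P : Subgroup G} {z y w : G}

theorem card_noncentral_K :
    Nat.card {x : XG rK 8 // x * x = 1 ∧ x ≠ 1 ∧ x ≠ Model.zz} = 270 := by
  rw [Nat.card_eq_fintype_card]; decide +kernel

theorem card_noncomm_K :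
    Nat.card {x : XG rK 8 // x * x = 1 ∧ x * idim rK 8 0 ≠ idim rK 8 0 * x} = 128 := by
  rw [Nat.card_eq_fintype_card]; decide +kernel

namespace CoHyp

theorem data (H : CoHyp Q z) : Data Q z := by
  obtain ⟨φ, P⟩ := H.pin
  exact GPin.data P nd_K

theorem z_ne (H : CoHyp Q z) : z ≠ 1 := by
  obtain ⟨φ, P⟩ := H.pin
  exact P.z_ne

theorem card_Q (H : CoHyp Q z) : Nat.card Q = 512 := by
  obtain ⟨φ, P⟩ := H.pin
  rw [← Nat.card_congr φ.toEquiv, card_XG]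
  norm_num

/-- `Z(Q) = ⟨z⟩`. -/
theorem center (H : CoHyp Q z) {x : G} (hx : x ∈ Q) (h : ∀ q ∈ Q, q * x * q⁻¹ = x) :
    x = 1 ∨ x = z := by
  obtain ⟨φ, P⟩ := H.pin
  exact GPin.center P nd_K hx h

/-- `C(z)` is transitive on the 270 noncentral involutions of `Q`. -/
theorem conj_inv (H : CoHyp Q z) {x y : G} (hx : x ∈ Q) (hx2 : x * x = 1)
    (hx1 : x ≠ 1) (hxz : x ≠ z) (hy : y ∈ Q) (hy2 : y * y = 1)
    (h1 : y ≠ 1) (hz : y ≠ z) : ∃ c, c * z = z * c ∧ c * x * c⁻¹ = y := by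
  obtain ⟨φ, P⟩ := H.pin
  exact P.conj_inv trK hx hx2 hx1 hxz hy hy2 h1 hz

/-- `C(z)` is transitive on the 34560 ordered pairs of noncommuting involutions of `Q`. -/
theorem conj_pair (H : CoHyp Q z) {x v y w : G}
    (hx : x ∈ Q) (hx2 : x * x = 1) (hv : v ∈ Q) (hv2 : v * v = 1) (hxv : v * x ≠ x * v)
    (hy : y ∈ Q) (hy2 : y * y = 1) (hw : w ∈ Q) (hw2 : w * w = 1) (hyw : w * y ≠ y * w) :
    ∃ c, c * z = z * c ∧ c * x * c⁻¹ = y ∧ c * v * c⁻¹ = w := by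
  obtain ⟨φ, P⟩ := H.pin
  exact P.conj_pair trK tr2K hx hx2 hv hv2 hxv hy hy2 hw hw2 hyw

/-- Coordinates adapted to a noncentral involution. -/
theorem adapt (H : CoHyp Q z) (hy : y ∈ Q) (hy2 : y * y = 1) (h1 : y ≠ 1) (hz : y ≠ z) :
    ∃ φ : XG rK 8 ≃* Q, GPin Q z φ ∧ (φ (idim rK 8 0) : G) = y := by
  obtain ⟨φ, P⟩ := H.pin
  exact P.adapt trK hy hy2 h1 hz

/-- Coordinates adapted to a pair of noncommuting involutions `y`, `w`: the images of `q 2, …, q 7` are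
pairwise anticommuting elements of order four generating `C_Q(⟨y, w⟩)` together with `z`. -/
theorem adapt₂ (H : CoHyp Q z) (hy : y ∈ Q) (hy2 : y * y = 1) (hw : w ∈ Q) (hw2 : w * w = 1)
    (hyw : w * y ≠ y * w) :
    ∃ φ : XG rK 8 ≃* Q, GPin Q z φ ∧ (φ (idim rK 8 0) : G) = y ∧ (φ (idim rK 8 1) : G) = w := by
  obtain ⟨φ, P⟩ := H.pin
  exact P.adapt₂ trK tr2K hy hy2 hw hw2 hyw

/-- `|C(z) ∩ C(y)| = 2¹⁴ · 20160`. -/
theorem card_CV (H : CoHyp Q z) (hy : y ∈ Q) (hy2 : y * y = 1) (h1 : y ≠ 1) (hz : y ≠ z) :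
    Nat.card (CV z y) = 330301440 := by
  obtain ⟨φ, P⟩ := H.pin
  have h2 := card_inf_centralizer_mul (Subgroup.centralizer ({z} : Set G)) y
  rw [P.card_orbit trK hy hy2 h1 hz, card_noncentral_K, H.card] at h2
  have h3 : Nat.card (CV z y) * 270 = 89181388800 := h2
  omega

/-- `|C(z) ∩ C(y) ∩ C(w)| = 2⁷ · 20160`. -/
theorem card_CVw (H : CoHyp Q z) (hy : y ∈ Q) (hy2 : y * y = 1) (hw : w ∈ Q) (hw2 : w * w = 1)
    (hyw : w * y ≠ y * w) :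
    Nat.card ↥(CV z y ⊓ Subgroup.centralizer ({w} : Set G)) = 2580480 := by
  obtain ⟨φ, P⟩ := H.pin
  have h1 : y ≠ 1 := by rintro rfl; simp at hyw
  have hz : y ≠ z := by rintro rfl; exact hyw (GPin.comm_z P hw)
  have h2 := card_inf_centralizer_mul (CV z y) w
  rw [P.card_orbit₂ trK tr2K hy hy2 hw hw2 hyw, card_noncomm_K, H.card_CV hy hy2 h1 hz] at h2
  omega

/-- All the hypotheses of `Ctx.main_four` hold; `|R| = 2¹⁴`. -/
theorem chk [Finite G] (H : CoHyp Q z) (h : Ctx Q P z y) : ∃ a0 : G,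
    (∀ x ∈ Q, x ∈ P → x ∈ h.V) ∧ h.Vec a0 ∧
    (∀ c ∈ CV z y, (∀ d ∈ CV z y, c * d * c⁻¹ * d⁻¹ ∈ h.R) → c ∈ h.R) ∧
    (∃ a ∈ h.A, a ∉ h.V ∧ a * a0 ∉ h.V) ∧ Nat.card h.R = 16384 := by
  obtain ⟨φ, P', hφ⟩ := H.adapt h.yQ h.yy h.y1 h.ne
  obtain ⟨h1, h2, h3, h4, h5⟩ := chk_all chkK P' hφ h
  exact ⟨_, h1, h2, h3, h4, by rw [h5]; norm_num⟩

/-- **The four-group for the Conway type**: `N_G(V)` contains `R : (L × ⟨f, τ⟩)`, `|L| = 20160`. -/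
theorem four [Finite G] (H : CoHyp Q z) (h : Ctx Q P z y) :
    ∃ f τ : G, h.IsF f ∧ τ ∈ Q ∧ τ * τ = 1 ∧ τ * f * τ⁻¹ = f⁻¹ ∧ τ * y * τ⁻¹ = z * y ∧
      (∀ l ∈ h.L f, τ * l = l * τ) ∧ (∀ l ∈ h.L f, l * f = f * l) ∧
      (∀ x ∈ h.L f, x ∈ h.R → x = 1) ∧
      (∀ c ∈ CV z y, ∃ x ∈ h.R, ∃ l ∈ h.L f, c = x * l) ∧
      (∀ x ∈ h.R, x * (f * x * f⁻¹) * (f⁻¹ * x * f) = 1) ∧
      (∀ x ∈ Q, (∀ l ∈ h.L f, x * l = l * x) → x ∈ h.V ∨ x * τ ∈ h.V) ∧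
      (∀ x ∈ Q, x ∈ P → x ∈ h.V) ∧ Nat.card h.R = 16384 ∧ Nat.card (h.L f) = 20160 ∧
      Nat.card (CV z y) = 330301440 := by
  obtain ⟨a0, h1, h2, h3, h4, h5⟩ := H.chk h
  obtain ⟨f, τ, k1, k2, k3, k4, k5, k6, k7, k8, k9, k10, k11⟩ := h.main_four h1 h2 h3 h4
  have h6 := H.card_CV h.yQ h.yy h.y1 h.ne
  have h7 := card_mul_of_compl h.R_le_CV (fun x hx => (h.mem_L.mp hx).1) k8 k9
  refine ⟨f, τ, k1, k2, k3, k4, k5, k6, k7, k8, k9, k10, k11, h1, h5, ?_, h6⟩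
  rw [h6, h5] at h7
  omega

end CoHyp

end

end Cfsg.Agent.LargeExtra
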