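import Cfsg.Agent.LargeExtra.SixMinus

/-!
# Coordinates of plus type on `V = Q / ⟨z⟩` adapted to a totally singular family, and `C_G(z) / Q ≅ Ω⁺` for
`|D̃| = 2` (helper356)

* `exists_plus`: a linearly independent, totally singular family `x : Fin m → V`, `|V| = 2 ^ (2 m)`, is the first
  half of a basis in which `q` is `quadFormPlus m`.
* `exists_omega_plus`: `|D̃| = 2`, `|V| = 2 ^ (2 m)`, `m ≥ 3`, with a totally singular subspace of order `2 ^ m`:
  `C_G(z) / Q' ≅ Ω (quadFormPlus m)` (`m = 4`: the hypothesis `e` of S1718 and S1677).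
-/

set_option autoImplicit false

namespace Cfsg.Agent.LargeExtra.PlusForm

open Cfsg.Agent.Co2Type.Quad Cfsg.Agent.LargeExtra.Base
open Cfsg.Agent.LargeExtra.Siegel Cfsg.Agent.LargeExtra.SiegelOrbit Cfsg.Agent.LargeExtra.SixMinus
open Cfsg.Agent.LieClassical.OrthCore Cfsg.Agent.LieClassical.OrthTrans
open Cfsg.Agent.LieClassical.OrthFinite

variable {G : Type*} [Group G] {Q A : Subgroup G} {z a : G}

/-- a dual family -/
theorem exists_dual [Finite Q] (h : Large Q z) {m : ℕ} {x : Fin m → h.V}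
    (hli : LinearIndependent (ZMod 2) x) :
    ∃ y : Fin m → h.V, ∀ i j, h.b (y i) (x j) = if i = j then 1 else 0 := by
  classical
  have hinj : LinearMap.ker (Finsupp.linearCombination (ZMod 2) x) = ⊥ := LinearMap.ker_eq_bot.2 hli
  obtain ⟨g, hg⟩ := LinearMap.exists_leftInverse_of_injective _ hinj
  have hgx : ∀ j, g (x j) = Finsupp.single j 1 := by
    intro j
    have h1 := LinearMap.congr_fun hg (Finsupp.single j 1)
    rw [LinearMap.comp_apply, Finsupp.linearCombination_single, one_smul] at h1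
    exact h1
  have h1 : ∀ i : Fin m, ∃ v, ∀ w, h.b v w = (Finsupp.lapply i ∘ₗ g) w := fun i => h.exists_b_eq _
  choose y hy using h1
  refine ⟨y, fun i j => ?_⟩
  rw [hy, LinearMap.comp_apply, hgx, Finsupp.lapply_apply, Finsupp.single_apply]
  by_cases hij : i = j
  · rw [if_pos hij, if_pos hij.symm]
  · rw [if_neg hij, if_neg (Ne.symm hij)]

/-- `q` vanishes on the span of a totally singular family -/
theorem q_sum (h : Large Q z) {ι : Type*} (x : ι → h.V) (hq : ∀ i, h.q (x i) = 0)
    (hb : ∀ i j, h.b (x i) (x j) = 0) (s : Finset ι) (c : ι → ZMod 2) :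
    h.q (∑ i ∈ s, c i • x i) = 0 := by
  classical
  induction s using Finset.induction_on with
  | empty => rw [Finset.sum_empty, h.q_zero]
  | insert i s hi ih =>
    rw [Finset.sum_insert hi, h.q_add', ih, map_sum]
    have h1 : h.q (c i • x i) = 0 := by
      have hc : c i = 0 ∨ c i = 1 := TwoCentral.zmod_two _
      rcases hc with hc | hc
      · rw [hc, zero_smul, h.q_zero]
      · rw [hc, one_smul, hq]
    rw [h1, zero_add, zero_add]
    refine Finset.sum_eq_zero fun j _ => ?_
    rw [map_smul, map_smul, LinearMap.smul_apply, hb, smul_zero, smul_zero]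

theorem exists_hyp_dual [Finite Q] (h : Large Q z) {m : ℕ} {x : Fin m → h.V}
    (hli : LinearIndependent (ZMod 2) x) (hq : ∀ i, h.q (x i) = 0) (hb : ∀ i j, h.b (x i) (x j) = 0) :
    ∃ Y : Fin m → h.V, (∀ i j, h.b (Y i) (x j) = if i = j then 1 else 0) ∧
      (∀ i, h.q (Y i) = 0) ∧ ∀ i j, h.b (Y i) (Y j) = 0 := by
  classical
  obtain ⟨y, hy⟩ := exists_dual h hli
  -- coefficients
  let c : Fin m → Fin m → ZMod 2 := fun i j => (if j < i then h.b (y i) (y j) else 0) +
    (if i = j then h.q (y i) else 0)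
  let S : Fin m → h.V := fun i => ∑ j, c i j • x j
  have hSx : ∀ i j, h.b (S i) (x j) = 0 := by
    intro i j
    show h.b (∑ k, c i k • x k) (x j) = 0
    rw [map_sum, LinearMap.sum_apply]
    refine Finset.sum_eq_zero fun k _ => ?_
    rw [map_smul, LinearMap.smul_apply, hb, smul_zero]
  have hSS : ∀ i j, h.b (S i) (S j) = 0 := by
    intro i j
    show h.b (S i) (∑ k, c j k • x k) = 0
    rw [map_sum]
    refine Finset.sum_eq_zero fun k _ => ?_
    rw [map_smul, hSx, smul_zero]
  have hyS : ∀ i j, h.b (y i) (S j) = c j i := by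
    intro i j
    show h.b (y i) (∑ k, c j k • x k) = c j i
    rw [map_sum, Finset.sum_eq_single i]
    · rw [map_smul, hy, if_pos rfl, smul_eq_mul, mul_one]
    · intro k _ hk
      rw [map_smul, hy, if_neg (Ne.symm hk), smul_zero]
    · intro hi
      exact absurd (Finset.mem_univ i) hi
  refine ⟨fun i => y i + S i, ?_, ?_, ?_⟩
  · intro i j
    rw [map_add, LinearMap.add_apply, hSx, add_zero, hy]
  · intro i
    rw [h.q_add', hyS, show h.q (S i) = 0 from q_sum h x hq hb _ _, add_zero]
    show h.q (y i) + ((if i < i then h.b (y i) (y i) else 0) + (if i = i then h.q (y i) else 0)) = 0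
    rw [if_neg (lt_irrefl i), if_pos rfl, zero_add]
    exact CharTwo.add_self_eq_zero _
  · intro i j
    have e0 : h.b (y i + S i) (y j + S j) =
        h.b (y i) (y j) + h.b (y i) (S j) + (h.b (S i) (y j) + h.b (S i) (S j)) := by
      simp only [map_add, LinearMap.add_apply]; abel
    show h.b (y i + S i) (y j + S j) = 0
    rw [e0, hSS, hyS, h.b_comm (S i) (y j), hyS, add_zero]
    show h.b (y i) (y j) + ((if i < j then h.b (y j) (y i) else 0) + (if j = i then h.q (y j) else 0)) +
      ((if j < i then h.b (y i) (y j) else 0) + (if i = j then h.q (y i) else 0)) = 0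
    rcases lt_trichotomy i j with hij | hij | hij
    · rw [if_pos hij, if_neg (ne_of_gt hij), if_neg (not_lt_of_gt hij), if_neg (ne_of_lt hij), add_zero,
        add_zero, add_zero, h.b_comm (y j)]
      exact CharTwo.add_self_eq_zero _
    · subst hij
      rw [if_neg (lt_irrefl i), if_pos rfl, zero_add, h.b_self, zero_add]
      exact CharTwo.add_self_eq_zero _
    · rw [if_neg (not_lt_of_gt hij), if_neg (ne_of_lt hij), if_pos hij, if_neg (ne_of_gt hij), add_zero,
        add_zero]
      exact CharTwo.add_self_eq_zero _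

/-- **coordinates of plus type adapted to a totally singular family** -/
theorem exists_plus [Finite Q] (h : Large Q z) {m : ℕ} {x : Fin m → h.V}
    (hli : LinearIndependent (ZMod 2) x) (hq : ∀ i, h.q (x i) = 0) (hb : ∀ i j, h.b (x i) (x j) = 0)
    (hc : Nat.card h.V = 2 ^ (2 * m)) :
    ∃ e : h.V ≃ₗ[ZMod 2] (Fin m ⊕ Fin m → ZMod 2), (∀ i, e (x i) = Pi.single (Sum.inl i) 1) ∧
      ∀ v, h.q v = Cfsg.quadFormPlus m (ZMod 2) (e v) := by
  classical
  obtain ⟨Y, hYx, hYq, hYY⟩ := exists_hyp_dual h hli hq hb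
  let φ : (Fin m ⊕ Fin m → ZMod 2) →ₗ[ZMod 2] h.V :=
    { toFun := fun c => (∑ i, c (.inl i) • x i) + ∑ i, c (.inr i) • Y i
      map_add' := by
        intro c d
        simp only [Pi.add_apply, add_smul, Finset.sum_add_distrib]
        abel
      map_smul' := by
        intro t c
        simp only [Pi.smul_apply, smul_eq_mul, mul_smul, smul_add, RingHom.id_apply, Finset.smul_sum] }
  have hφ : ∀ c, φ c = (∑ i, c (.inl i) • x i) + ∑ i, c (.inr i) • Y i := fun _ => rfl
  have e1 : ∀ c j, h.b (Y j) (φ c) = c (.inl j) := by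
    intro c j
    rw [hφ, map_add, map_sum, map_sum, Finset.sum_eq_single j, Finset.sum_eq_zero, add_zero, map_smul,
      hYx, if_pos rfl, smul_eq_mul, mul_one]
    · intro k _
      rw [map_smul, hYY, smul_zero]
    · intro k _ hk
      rw [map_smul, hYx, if_neg (Ne.symm hk), smul_zero]
    · intro hj
      exact absurd (Finset.mem_univ j) hj
  have e2 : ∀ c j, h.b (x j) (φ c) = c (.inr j) := by
    intro c j
    rw [hφ, map_add, map_sum, map_sum, Finset.sum_eq_zero, zero_add, Finset.sum_eq_single j, map_smul,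
      h.b_comm, hYx, if_pos rfl, smul_eq_mul, mul_one]
    · intro k _ hk
      rw [map_smul, h.b_comm, hYx, if_neg hk, smul_zero]
    · intro hj
      exact absurd (Finset.mem_univ j) hj
    · intro k _
      rw [map_smul, hb, smul_zero]
  have hinj : Function.Injective φ := by
    rw [← LinearMap.ker_eq_bot, LinearMap.ker_eq_bot']
    intro c hc0
    funext i
    rcases i with i | i
    · have := e1 c i
      rw [hc0, map_zero] at this
      exact this.symm
    · have := e2 c i
      rw [hc0, map_zero] at this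
      exact this.symm
  have hcard : Nat.card (Fin m ⊕ Fin m → ZMod 2) = Nat.card h.V := by
    rw [hc, Nat.card_eq_fintype_card, Fintype.card_fun, ZMod.card, Fintype.card_sum, Fintype.card_fin,
      two_mul]
  have hfin : Finite h.V := inferInstance
  have hbij : Function.Bijective φ := (Nat.bijective_iff_injective_and_card φ).2 ⟨hinj, hcard⟩
  refine ⟨(LinearEquiv.ofBijective φ hbij).symm, fun i => ?_, fun v => ?_⟩
  · rw [LinearEquiv.symm_apply_eq]
    show x i = φ (Pi.single (Sum.inl i) 1)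
    rw [hφ, Finset.sum_eq_single i, Finset.sum_eq_zero, add_zero, Pi.single_eq_same, one_smul]
    · intro k _
      rw [Pi.single_eq_of_ne (by simp), zero_smul]
    · intro k _ hk
      rw [Pi.single_eq_of_ne (by simpa using hk), zero_smul]
    · intro hj
      exact absurd (Finset.mem_univ i) hj
  · obtain ⟨c, rfl⟩ := hbij.2 v
    have h1 : (LinearEquiv.ofBijective φ hbij).symm (φ c) = c :=
      (LinearEquiv.ofBijective φ hbij).symm_apply_apply c
    rw [h1, Cfsg.quadFormPlus]
    have h2 : h.q (φ c) = h.b (∑ i, c (.inl i) • x i) (φ c) := by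
      have h3 : h.b (∑ i, c (.inl i) • x i) (φ c) =
          h.b (∑ i, c (.inl i) • x i) (∑ i, c (.inr i) • Y i) := by
        rw [hφ, map_add, h.b_self, zero_add]
      rw [h3, hφ, h.q_add', q_sum h x hq hb, q_sum h Y hYq hYY, zero_add, zero_add]
    rw [h2, map_sum, LinearMap.sum_apply]
    refine Finset.sum_congr rfl fun i _ => ?_
    rw [map_smul, LinearMap.smul_apply, e2, smul_eq_mul]

/-- a totally singular subspace of order `2 ^ m` gives a totally singular family -/
theorem exists_family [Finite Q] (h : Large Q z) {m : ℕ} {T : Submodule (ZMod 2) h.V}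
    (hT : Nat.card T = 2 ^ m) (hq : ∀ v ∈ T, h.q v = 0) :
    ∃ x : Fin m → h.V, LinearIndependent (ZMod 2) x ∧ (∀ i, x i ∈ T) ∧ (∀ i, h.q (x i) = 0) ∧
      ∀ i j, h.b (x i) (x j) = 0 := by
  have hfd : FiniteDimensional (ZMod 2) T := Module.Finite.of_finite
  have hdim : Module.finrank (ZMod 2) T = m := by
    have h1 := Module.natCard_eq_pow_finrank (K := ZMod 2) (V := T)
    rw [hT, Nat.card_zmod] at h1
    exact (Nat.pow_right_injective (le_refl 2) h1).symm
  let B := Module.finBasisOfFinrankEq (ZMod 2) T hdim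
  have hbT : ∀ v ∈ T, ∀ w ∈ T, h.b v w = 0 := by
    intro v hv w hw
    have h1 := h.q_add' v w
    rw [hq _ (T.add_mem hv hw), hq v hv, hq w hw, zero_add, zero_add] at h1
    exact h1.symm
  refine ⟨fun i => B i, ?_, fun i => (B i).2, fun i => hq _ (B i).2, fun i j => hbT _ (B i).2 _ (B j).2⟩
  exact B.linearIndependent.map' T.subtype T.ker_subtype

/-- `|D̃| = 2`, plus type: `C_G(z) / Q' ≅ Ω⁺` -/
theorem exists_omega_plus [Finite G] (hG : ∀ H : Subgroup G, H.index ≠ 2) (p : Pair Q z A a)
    (hO : O2 p.lz) (hD : Nat.card p.D = 2) {m : ℕ} (hm : 3 ≤ m) (hV : Nat.card p.lz.V = 2 ^ (2 * m))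
    (hT : ∃ T : Submodule (ZMod 2) p.lz.V, Nat.card T = 2 ^ m ∧ ∀ v ∈ T, p.lz.q v = 0)
    (Q' : Subgroup (Subgroup.centralizer ({z} : Set G))) [Q'.Normal]
    (hQ' : Q'.map (Subgroup.centralizer ({z} : Set G)).subtype = Q) :
    Nonempty ((Subgroup.centralizer ({z} : Set G)) ⧸ Q' ≃*
      Cfsg.Omega (ZMod 2) (Cfsg.quadFormPlus m (ZMod 2))) := by
  obtain ⟨e1⟩ := quotient_equiv p.lz Q' hQ'
  have h16 : 16 < Nat.card p.lz.V := by
    rw [hV]
    calc 16 < 2 ^ 6 := by norm_num
      _ ≤ 2 ^ (2 * m) := Nat.pow_le_pow_right (by norm_num) (by omega)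
  have h1 : p.lz.act.range = E (qf p.lz) := H_eq_E hG p hO hD h16
  have hgood := good_qf p.lz h16
  have h2 : p.lz.act.range = ⁅O (qf p.lz), O (qf p.lz)⁆ := by rw [hgood.commutator_eq_E]; exact h1
  obtain ⟨T, hT1, hT2⟩ := hT
  obtain ⟨x, x1, -, x2, x3⟩ := exists_family p.lz hT1 hT2
  obtain ⟨e, -, he⟩ := exists_plus p.lz x1 x2 x3 hV
  obtain ⟨e2⟩ := nonempty_equiv (Q := qf p.lz)
    (Q' := Cfsg.Agent.LieClassical.OrthForms.plusForm m (ZMod 2)) e (fun v => by
      rw [Cfsg.Agent.LieClassical.OrthForms.coe_plusForm, ← he]; rfl)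
  have e3 := omegaEquiv (Cfsg.Agent.LieClassical.OrthForms.plusForm m (ZMod 2))
  rw [Cfsg.Agent.LieClassical.OrthForms.coe_plusForm] at e3
  exact ⟨((e1.trans (MulEquiv.subgroupCongr h2)).trans e2).trans e3.symm⟩

end Cfsg.Agent.LargeExtra.PlusForm
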