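import Cfsg.Agent.LargeExtra.KillResidue

/-!
# Points at distance two (helper915): `|F ∩ Q_u ∩ Q| = 4` for `u ∈ z^{N(F)}`, `u ∉ Q`
-/

set_option autoImplicit false

namespace Cfsg.Agent.LargeExtra.KillTwo

open Cfsg.Agent.Co2Type.Quad Cfsg.Agent.LargeExtra.Base Cfsg.Agent.LargeExtra.Local
open Cfsg.Agent.LargeExtra.KillSiegel Cfsg.Agent.LargeExtra.KillFrame Cfsg.Agent.LargeExtra.KillAbel
open Cfsg.Agent.LargeExtra.KillResidue

variable {G : Type*} [Group G] {Q B : Subgroup G} {z : G} [Finite G]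

theorem perp_span2 (h : Large Q z) {e w t : h.V}
    (ht : ∀ v, h.b e v = 0 → h.b w v = 0 → h.b t v = 0) :
    t = 0 ∨ t = e ∨ t = w ∨ t = e + w := by
  have h1 : t ∈ Submodule.span (ZMod 2) ({e, w} : Set h.V) := by
    apply Perp.mem_of_perp h
    intro v hv
    rw [h.b_comm]
    exact ht v (hv e (Submodule.subset_span (by simp))) (hv w (Submodule.subset_span (by simp)))
  obtain ⟨c, d, hcd⟩ := Submodule.mem_span_pair.1 h1
  rcases zmod2 c with h2 | h2 <;> rcases zmod2 d with h3 | h3 <;> rw [h2, h3] at hcd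
  · left; rw [← hcd, zero_smul, zero_smul, add_zero]
  · right; right; left; rw [← hcd, zero_smul, one_smul, zero_add]
  · right; left; rw [← hcd, zero_smul, one_smul, add_zero]
  · right; right; right; rw [← hcd, one_smul, one_smul]

/-- `u ∈ F ∩ Q_e`, `e ∈ B ∖ ⟨z⟩`, `u ∉ B`: the action of `u` on `V` -/
theorem act_form (s : Frame Q B z) {A : Subgroup G} {e : G} (p : Pair Q z A e)
    (hD : ∀ v ∈ p.D, v = 0 ∨ v = p.va) (he : e ∈ B) {u : G} (huA : u ∈ A)
    (huF : u ∈ Subgroup.centralizer (B : Set G)) (huB : u ∉ B)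
    (hu : u ∈ Subgroup.centralizer ({z} : Set G)) :
    ∃ w ∈ s.T, w ≠ 0 ∧ w ≠ p.va ∧ s.lz.b p.va w = 0 ∧
      (∀ v, s.lz.b p.va v = 0 → s.lz.act ⟨u, hu⟩ v = v + s.lz.b w v • p.va) ∧
      ∀ v, s.lz.act ⟨u, hu⟩ v = v + s.lz.b w v • p.va + s.lz.b p.va v • w := by
  set u' : Subgroup.centralizer ({z} : Set G) := ⟨u, hu⟩ with hu'
  have hX : s.lz.act u' ∈ p.X := p.mem_X.2 ⟨u', huA, rfl⟩
  obtain ⟨w, hw0, hw⟩ := X_form p hD hX
  have hvaT : p.va ∈ s.T := (s.mem_T ⟨e, s.le he⟩).2 he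
  have hwT : w ∈ s.T := by
    apply s.mem_T_of_perp
    intro t ht
    have h1 := hw t (s.b_T hvaT ht)
    have h2 : s.lz.act u' t = t := s.act_T (c := u') huF ht
    rw [h2] at h1
    rcases zmod2 (p.lz.b w t) with h3 | h3
    · rw [s.lz.b_comm]; exact h3
    · rw [h3, one_smul, eq_comm] at h1
      exact absurd (add_eq_left.1 h1) p.va_ne
  have hfull : ∀ v, s.lz.act u' v = v + s.lz.b w v • p.va + s.lz.b p.va v • w :=
    KillEta.siegel_full s.lz (fun v => s.lz.q_act u' v) (s.q_T hvaT) (s.q_T hwT) hw0 hw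
  have hne : ∀ v, s.lz.b w v • p.va + s.lz.b p.va v • w = 0 → s.lz.act u' v = v := by
    intro v hv
    rw [hfull, add_assoc, hv, add_zero]
  refine ⟨w, hwT, ?_, ?_, hw0, hw, hfull⟩
  · intro h
    apply huB
    apply s.mem_of_act (c := u') huF
    intro v
    apply hne
    rw [h, smul_zero, map_zero, LinearMap.zero_apply, zero_smul, add_zero]
  · intro h
    apply huB
    apply s.mem_of_act (c := u') huF
    intro v
    apply hne
    rw [h, s.lz.add_self]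

/-- `w ∉ {0, e}`: some `v ⊥ e` is not orthogonal to `w` -/
theorem exists_perp (h : Large Q z) {e w : h.V} (h0 : w ≠ 0) (h1 : w ≠ e) :
    ∃ v, h.b e v = 0 ∧ h.b w v = 1 := by
  by_contra hcon
  push Not at hcon
  rcases perp_span h (e := e) (s := w) (fun v hv => by
    rcases zmod2 (h.b w v) with h | h
    · exact h
    · exact absurd h (hcon v hv)) with h | h
  · exact h0 h
  · exact h1 h

omit [Finite G] in
theorem mul_z_cases (h : Large Q z) {x y : Q} (hxy : h.pr x = h.pr y) :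
    (x : G) = y ∨ (x : G) = y * z := h.pr_eq_pr.1 hxy

/-- `R u r` and `R u (r z)` cannot both hold -/
theorem not_both (s : Frame Q B z) {u r : G} (hu : ¬ R B z u z) (hr : r ∈ B) (h1 : R B z u r) :
    ¬ R B z u (r * z) := by
  intro h2
  apply hu
  have h3 := R_mul s h1 h2
  have e : r * (r * z) = z := by rw [← mul_assoc, s.sq r hr, one_mul]
  rwa [e] at h3

/-- the second point -/
theorem second (s : Frame Q B z) {A : Subgroup G} {e u : G} (p : Pair Q z A e)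
    (hD : ∀ v ∈ p.D, v = 0 ∨ v = p.va) (he : e ∈ B)
    (huA : u ∈ A) (huF : u ∈ Subgroup.centralizer (B : Set G)) (huB : u ∉ B)
    (hu : u ∈ Subgroup.centralizer ({z} : Set G)) {w : s.lz.V} (hwT : w ∈ s.T) (hw0 : w ≠ 0)
    (hwe : w ≠ p.va)
    (hwp : ∀ v, s.lz.b p.va v = 0 → s.lz.act ⟨u, hu⟩ v = v + s.lz.b w v • p.va)
    (hfull : ∀ v, s.lz.act ⟨u, hu⟩ v = v + s.lz.b w v • p.va + s.lz.b p.va v • w) :
    ∃ r : Q, (r : G) ∈ B ∧ s.lz.pr r = w ∧ R B z r u := by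
  have hvaT : p.va ∈ s.T := (s.mem_T ⟨e, s.le he⟩).2 he
  have hwT' := hwT
  obtain ⟨r0, hr0, rfl⟩ := hwT'
  have hr1 : (r0 : G) ≠ 1 := fun h => hw0 (s.lz.pr_eq_zero.2 (Or.inl h))
  have hrz : (r0 : G) ≠ z := fun h => hw0 (s.lz.pr_eq_zero.2 (Or.inr h))
  obtain ⟨A0, p0, hD0⟩ := s.fus r0 (s.sq r0 hr0) hr1 hrz
  obtain ⟨hP, hRz⟩ := basic s hr0 hr1 hrz
  have hRr := R_self s hP
  obtain ⟨y', hy', hy'z⟩ := exists_not_comm p0.la p0.z_mem p0.lz.z_ne p0.ne.symm
  have hyz : y' * z ≠ z * y' := by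
    rw [hy'z]
    intro h
    exact p0.la.z_ne (mul_eq_left.1 h)
  have her : e * r0 = r0 * e := s.comm he hr0
  have hxF := eta_cent s p0 hD0 hr0 he hy' hyz
  have hxA := KillEta.eta_mem p0 her hy'
  have hxz := KillEta.eta_comm p0 (s.le he) her hy' hyz
  have hxact := fun v hv => KillEta.eta_act p0 hD0 (s.le he) her hy' hyz v hv
  set x := y' * e * y'⁻¹ * e⁻¹ with hx
  set x' : Subgroup.centralizer ({z} : Set G) :=
    ⟨x, Subgroup.mem_centralizer_singleton_iff.2 hxz⟩ with hx'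
  have hva0 : p0.va = s.lz.pr r0 := rfl
  have hb0 : s.lz.b (s.lz.pr r0) p.va = 0 := s.b_T hwT hvaT
  have hxfull := KillEta.siegel_full s.lz (f := s.lz.act x') (fun v => s.lz.q_act x' v)
    (e := s.lz.pr r0) (w := p.va) (s.q_T hwT) (s.q_T hvaT) hb0 hxact
  set u' : Subgroup.centralizer ({z} : Set G) := ⟨u, hu⟩ with hu'
  have hux : s.lz.act u' = s.lz.act x' := by
    ext v
    rw [hfull, hxfull]
    abel
  -- `t = u x⁻¹ ∈ B`
  have ht : u * x⁻¹ ∈ B := by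
    apply s.mem_of_act (c := u' * x'⁻¹) (Subgroup.mul_mem _ huF (Subgroup.inv_mem _ hxF))
    intro v
    rw [map_mul, hux, map_inv, mul_inv_cancel]
    rfl
  have hcard : 64 ≤ Nat.card s.lz.V := by rw [s.card_V]
  have huz : u * z = z * u := Subgroup.mem_centralizer_singleton_iff.1 hu
  have htperp : ∀ v, s.lz.b p.va v = 0 → s.lz.b (s.lz.pr r0) v = 0 →
      s.lz.b (s.lz.pr ⟨u * x⁻¹, s.le ht⟩) v = 0 := by
    intro v hv1 hv2
    obtain ⟨r, rfl⟩ := s.lz.pr_surjective v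
    have hre : (r : G) * e = e * r := ((s.lz.b_pr ⟨e, s.le he⟩ r).1 hv1).symm
    have hrr : (r : G) * r0 = r0 * r := ((s.lz.b_pr r0 r).1 hv2).symm
    have h1 : (r : G) * u = u * r :=
      KillCommute.commute_of_perp p hD hcard s.fus huA huz (w := s.lz.pr r0)
        (s.b_T hvaT hwT) (s.q_T hwT) hwp r.2 hre hv2
    have h2 : (r : G) * x = x * r :=
      KillCommute.commute_of_perp p0 hD0 hcard s.fus hxA hxz (w := p.va)
        hb0 (s.q_T hvaT) hxact r.2 hrr hv1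
    rw [s.lz.b_pr]
    show u * x⁻¹ * r = r * (u * x⁻¹)
    have h3 : x⁻¹ * r = r * x⁻¹ := by
      rw [inv_mul_eq_iff_eq_mul, ← mul_assoc, ← h2, mul_assoc, mul_inv_cancel, mul_one]
    rw [mul_assoc, h3, ← mul_assoc, ← h1, mul_assoc]
  have hRx : R B z r0 x := (R_iff_mem s p0 hP).2 ⟨hxF, hxA⟩
  -- elements of `B` whose image lies in `⟨w⟩`
  have hsmall : ∀ (t : G) (ht : t ∈ B), (s.lz.pr ⟨t, s.le ht⟩ = 0 ∨
      s.lz.pr ⟨t, s.le ht⟩ = s.lz.pr r0) → R B z r0 t := by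
    intro t ht h
    rcases h with h | h
    · rcases s.lz.pr_eq_zero.1 h with h1 | h1
      · have h1' : t = 1 := h1
        rw [h1']; exact R_one s hP
      · have h1' : t = z := h1
        rw [h1']; exact hRz
    · rcases s.lz.pr_eq_pr.1 h with h1 | h1
      · have h1' : t = r0 := h1
        rw [h1']; exact hRr
      · have h1' : t = r0 * z := h1
        rw [h1']; exact R_mul s hRr hRz
  have hcase : (s.lz.pr ⟨u * x⁻¹, s.le ht⟩ = 0 ∨ s.lz.pr ⟨u * x⁻¹, s.le ht⟩ = s.lz.pr r0) ∨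
      (s.lz.pr ⟨u * x⁻¹, s.le ht⟩ = p.va ∨ s.lz.pr ⟨u * x⁻¹, s.le ht⟩ = p.va + s.lz.pr r0) := by
    rcases perp_span2 s.lz htperp with h | h | h | h
    · exact Or.inl (Or.inl h)
    · exact Or.inr (Or.inl h)
    · exact Or.inl (Or.inr h)
    · exact Or.inr (Or.inr h)
  rcases hcase with hc | hc
  · refine ⟨r0, hr0, rfl, ?_⟩
    have h1 := R_mul s (hsmall _ ht hc) hRx
    have e1 : u * x⁻¹ * x = u := by group
    rwa [e1] at h1
  · obtain ⟨y, hy, hyr⟩ := exists_not_comm s.lz r0.2 hr1 hrz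
    have hyN : y ∈ N B := Q_le_normalizer s hy
    have hyC : y ∈ Subgroup.centralizer ({z} : Set G) :=
      Subgroup.mem_centralizer_singleton_iff.2 (s.lz.comm_z y hy)
    -- `ρ = y⁻¹ u y u⁻¹`
    have hρF : y⁻¹ * u * y * u⁻¹ ∈ Subgroup.centralizer (B : Set G) :=
      Subgroup.mul_mem _ (N_cent' hyN huF) (Subgroup.inv_mem _ huF)
    have hρQ : y⁻¹ * u * y * u⁻¹ ∈ Q := by
      have := Q.mul_mem (Q.inv_mem hy) (s.lz.conj_mem u huz y hy)
      have e1 : y⁻¹ * (u * y * u⁻¹) = y⁻¹ * u * y * u⁻¹ := by group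
      rwa [e1] at this
    have hρB := s.mem_B hρQ hρF
    have hρpr : s.lz.pr ⟨y⁻¹ * u * y * u⁻¹, hρQ⟩ =
        s.lz.b (s.lz.pr r0) (s.lz.pr ⟨y, hy⟩) • p.va + s.lz.b p.va (s.lz.pr ⟨y, hy⟩) • s.lz.pr r0 := by
      have e1 : (⟨y⁻¹ * u * y * u⁻¹, hρQ⟩ : Q) = ⟨y, hy⟩⁻¹ * s.lz.conjQ u' ⟨y, hy⟩ := by
        apply Subtype.ext
        rw [Subgroup.coe_mul, s.lz.conjQ_coe]
        show y⁻¹ * u * y * u⁻¹ = y⁻¹ * (u * y * u⁻¹)
        group
      rw [e1, s.lz.pr_mul, ← s.lz.act_pr, s.lz.pr_inv, s.lz.neg_eq, hfull]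
      have : ∀ α β γ : s.lz.V, α + (α + β + γ) = β + γ := by
        intro α β γ
        have : α + (α + β + γ) = (α + α) + (β + γ) := by abel
        rw [this, s.lz.add_self, zero_add]
      exact this _ _ _
    have hby : s.lz.b (s.lz.pr r0) (s.lz.pr ⟨y, hy⟩) = 1 := by
      rw [s.lz.b_comm]
      exact (s.lz.b_pr_one ⟨y, hy⟩ r0).2 hyr
    rw [hby, one_smul] at hρpr
    have hm : (y⁻¹ * u * y * u⁻¹) * (u * x⁻¹) ∈ B := B.mul_mem hρB ht
    have hmpr : s.lz.pr ⟨(y⁻¹ * u * y * u⁻¹) * (u * x⁻¹), s.le hm⟩ = 0 ∨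
        s.lz.pr ⟨(y⁻¹ * u * y * u⁻¹) * (u * x⁻¹), s.le hm⟩ = s.lz.pr r0 := by
      have e1 : (⟨(y⁻¹ * u * y * u⁻¹) * (u * x⁻¹), s.le hm⟩ : Q) =
        ⟨y⁻¹ * u * y * u⁻¹, hρQ⟩ * ⟨u * x⁻¹, s.le ht⟩ := rfl
      rw [e1, s.lz.pr_mul, hρpr]
      have a1 := s.lz.add_self p.va
      have a2 := s.lz.add_self (s.lz.pr r0)
      rcases zmod2 (s.lz.b p.va (s.lz.pr ⟨y, hy⟩)) with h | h <;> rw [h] <;>
        rcases hc with h' | h' <;> rw [h']
      · left; rw [zero_smul, add_zero, a1]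
      · right; rw [zero_smul, add_zero, ← add_assoc, a1, zero_add]
      · right; rw [one_smul, add_right_comm, a1, zero_add]
      · left; rw [one_smul, s.lz.add_self]
    have h1 := R_mul s (hsmall _ hm hmpr) hRx
    have e1 : (y⁻¹ * u * y * u⁻¹) * (u * x⁻¹) * x = y⁻¹ * u * y := by group
    rw [e1] at h1
    have h2 := R_conj hyN h1
    have e2 : y * (y⁻¹ * u * y) * y⁻¹ = u := by group
    have e3 : y * r0 * y⁻¹ = r0 * z := by rw [hyr, mul_assoc (r0 : G) y z, s.lz.comm_z y hy]; group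
    rw [e2, e3] at h2
    refine ⟨r0 * ⟨z, s.lz.z_mem⟩, B.mul_mem hr0 s.z_mem, ?_, h2⟩
    rw [s.lz.pr_mul, (s.lz.pr_eq_zero (x := ⟨z, s.lz.z_mem⟩)).2 (Or.inr rfl), add_zero]

theorem inter_two (s : Frame Q B z) {u : G} (hu : P B z u) (huB : u ∉ B) :
    {x | x ∈ B ∧ R B z u x}.ncard = 4 := by
  have hu1 := P_ne s hu
  have huF := P_cent s hu
  have huz : ¬ R B z u z := by
    intro h
    exact huB ((R_z s).1 (symm s h s.lz.z_ne).2)
  have huC : u ∈ Subgroup.centralizer ({z} : Set G) :=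
    Subgroup.mem_centralizer_singleton_iff.2 (s.comm_z huF)
  -- a first point
  obtain ⟨e, he, he1, hRe⟩ : ∃ e ∈ B, e ≠ 1 ∧ R B z u e := by
    obtain ⟨h, hN, hh⟩ := hu
    have hle : B.map (MulAut.conj h).toMonoidHom ≤ Subgroup.centralizer (B : Set G) := by
      rintro _ ⟨b, hb, rfl⟩
      exact N_cent hN (s.B_le hb)
    obtain ⟨x, hx, hxB, hx1⟩ := s.meet hle (by
      rw [Subgroup.card_map_of_injective (MulAut.conj h).injective, s.card]; norm_num)
    refine ⟨x, hxB, hx1, ?_⟩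
    obtain ⟨b, hb, rfl⟩ := hx
    refine ⟨h, hN, hh, ?_⟩
    have e : h⁻¹ * (h * b * h⁻¹) * h = b := by group
    show h⁻¹ * (h * b * h⁻¹) * h ∈ B
    rw [e]; exact hb
  have hez : e ≠ z := fun h => huz (h ▸ hRe)
  have key : ∀ x (hx : x ∈ B), x ≠ 1 → R B z u x →
      ∃ A, ∃ p : Pair Q z A x, (∀ v ∈ p.D, v = 0 ∨ v = p.va) ∧ u ∈ A := by
    intro x hx hx1 hRx
    have hxz : x ≠ z := fun h => huz (h ▸ hRx)
    obtain ⟨A, p, hD⟩ := s.fus ⟨x, s.le hx⟩ (s.sq x hx) hx1 hxz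
    obtain ⟨h1, h2⟩ := symm s hRx hx1
    exact ⟨A, p, hD, ((R_iff_mem s p h1).1 h2).2⟩
  obtain ⟨A, p, hD, huA⟩ := key e he he1 hRe
  obtain ⟨w, hwT, hw0, hwe, -, hwp, hfull⟩ := act_form s p hD he huA huF huB huC
  obtain ⟨r, hr, hrw, hRr⟩ := second s p hD he huA huF huB huC hwT hw0 hwe hwp hfull
  have hRr' := (symm s hRr hu1).2
  have hr1 : (r : G) ≠ 1 := by
    intro h
    apply hw0
    rw [← hrw]
    exact s.lz.pr_eq_zero.2 (Or.inl h)
  have hva : p.va = s.lz.pr ⟨e, s.le he⟩ := rfl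
  have her : e ≠ r := by
    intro h
    apply hwe
    rw [hva, ← hrw]
    congr 1
    exact Subtype.ext h.symm
  have hset : {x | x ∈ B ∧ R B z u x} = ({1, e, (r : G), e * r} : Set G) := by
    ext x
    constructor
    · rintro ⟨hx, hR⟩
      by_cases hx1 : x = 1
      · left; exact hx1
      obtain ⟨Ax, px, hDx, huAx⟩ := key x hx hx1 hR
      obtain ⟨wx, hwxT, hwx0, hwxe, -, hwxp, -⟩ := act_form s px hDx hx huAx huF huB huC
      obtain ⟨v, hv1, hv2⟩ := exists_perp s.lz hwx0 hwxe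
      have h1 := hwxp v hv1
      rw [hv2, one_smul, hfull v, add_assoc] at h1
      have h2 : s.lz.pr ⟨x, s.le hx⟩ = s.lz.b w v • p.va + s.lz.b p.va v • w :=
        (add_left_cancel h1).symm
      have hx0 : s.lz.pr ⟨x, s.le hx⟩ ≠ 0 := px.va_ne
      -- `pr x ∈ {e, w, e + w}`
      have fin : ∀ y : Q, (y : G) ∈ B → R B z u y → s.lz.pr ⟨x, s.le hx⟩ = s.lz.pr y →
          x = y := by
        intro y hy hRy hxy
        rcases s.lz.pr_eq_pr.1 hxy with h3 | h3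
        · exact h3
        · exfalso
          have h3' : x = y * z := h3
          rw [h3'] at hR
          exact not_both s huz hy hRy hR
      rcases zmod2 (s.lz.b w v) with h3 | h3 <;> rcases zmod2 (s.lz.b p.va v) with h4 | h4 <;>
        rw [h3, h4] at h2
      · exfalso
        apply hx0
        rw [h2, zero_smul, zero_smul, add_zero]
      · right; right; left
        apply fin r hr hRr'
        rw [h2, zero_smul, one_smul, zero_add, hrw]
      · right; left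
        apply fin ⟨e, s.le he⟩ he hRe
        rw [h2, zero_smul, one_smul, add_zero, hva]
      · right; right; right
        apply fin (⟨e, s.le he⟩ * r) (B.mul_mem he hr) (R_mul s hRe hRr')
        rw [h2, one_smul, one_smul, s.lz.pr_mul, hrw, hva]
    · rintro (rfl | rfl | rfl | rfl)
      · exact ⟨B.one_mem, R_one s hu⟩
      · exact ⟨he, hRe⟩
      · exact ⟨hr, hRr'⟩
      · exact ⟨B.mul_mem he hr, R_mul s hRe hRr'⟩
  rw [hset]
  apply ncard_four
  · exact he1.symm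
  · exact hr1.symm
  · intro h
    apply her
    have h1 := s.sq r hr
    calc e = e * (r * r) := by rw [h1, mul_one]
      _ = (e * r) * r := by group
      _ = r := by rw [← h, one_mul]
  · exact her
  · intro h; exact hr1 (mul_eq_left.1 h.symm)
  · intro h; exact he1 (mul_eq_right.1 h.symm)

end Cfsg.Agent.LargeExtra.KillTwo
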