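import Cfsg.Agent.LargeExtra.SixMinus
import Cfsg.Agent.LargeExtra.KillTwo

/-!
# Totally singular 3-spaces and an anisotropic plane perpendicular to one (helper915)
-/

set_option autoImplicit false

namespace Cfsg.Agent.LargeExtra.KOneLin

open Cfsg.Agent.Co2Type.Quad Cfsg.Agent.LargeExtra.KillSiegel

variable {G : Type*} [Group G] {Q : Subgroup G} {z : G}

theorem card_sup [Finite G] (h : Large Q z) {T : Submodule (ZMod 2) h.V} {x : h.V} (hx : x ∉ T) :
    Nat.card ↥(T ⊔ Submodule.span (ZMod 2) {x}) = 2 * Nat.card T := by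
  classical
  have e : 2 * Nat.card T = Nat.card (T × ZMod 2) := by
    rw [Nat.card_prod, Nat.card_zmod, mul_comm]
  rw [e]
  symm
  refine Nat.card_eq_of_bijective (fun c : T × ZMod 2 =>
    (⟨(c.1 : h.V) + c.2 • x, Submodule.add_mem_sup c.1.2
      (Submodule.smul_mem _ _ (Submodule.mem_span_singleton_self x))⟩ :
      ↥(T ⊔ Submodule.span (ZMod 2) {x}))) ⟨?_, ?_⟩
  · rintro ⟨t, c⟩ ⟨t', c'⟩ htt
    have h1 : (t : h.V) + c • x = t' + c' • x := congrArg Subtype.val htt
    rcases zmod2 c with h2 | h2 <;> rcases zmod2 c' with h3 | h3 <;> subst h2 <;> subst h3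
    · rw [zero_smul, add_zero, add_zero] at h1
      rw [Subtype.ext h1]
    · exfalso
      apply hx
      rw [zero_smul, add_zero, one_smul] at h1
      have : x = t' + t := by
        rw [h1, ← add_assoc, h.add_self, zero_add]
      rw [this]; exact T.add_mem t'.2 t.2
    · exfalso
      apply hx
      rw [zero_smul, add_zero, one_smul] at h1
      have : x = t + t' := by
        rw [← h1, ← add_assoc, h.add_self, zero_add]
      rw [this]; exact T.add_mem t.2 t'.2
    · have h2 := add_right_cancel h1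
      rw [Subtype.ext h2]
  · rintro ⟨y, hy⟩
    obtain ⟨t, ht, s, hs, rfl⟩ := Submodule.mem_sup.1 hy
    obtain ⟨c, rfl⟩ := Submodule.mem_span_singleton.1 hs
    exact ⟨(⟨t, ht⟩, c), rfl⟩

theorem mem_sup_iff (h : Large Q z) {T : Submodule (ZMod 2) h.V} {x y : h.V}
    (hy : y ∈ T ⊔ Submodule.span (ZMod 2) {x}) : y ∈ T ∨ ∃ t ∈ T, y = t + x := by
  obtain ⟨t, ht, s, hs, rfl⟩ := Submodule.mem_sup.1 hy
  obtain ⟨c, rfl⟩ := Submodule.mem_span_singleton.1 hs
  rcases zmod2 c with h2 | h2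
  · left; rw [h2, zero_smul, add_zero]; exact ht
  · right; exact ⟨t, ht, by rw [h2, one_smul]⟩

/-- enlarging a totally singular subspace by a singular vector of `T^⊥` -/
theorem ts_sup (h : Large Q z) {T : Submodule (ZMod 2) h.V} (hT : ∀ v ∈ T, h.q v = 0) {x : h.V}
    (hx : h.q x = 0) (hxT : ∀ t ∈ T, h.b t x = 0) :
    ∀ v ∈ T ⊔ Submodule.span (ZMod 2) {x}, h.q v = 0 := by
  intro v hv
  rcases mem_sup_iff h hv with h1 | ⟨t, ht, rfl⟩
  · exact hT v h1
  · rw [h.q_add', hT t ht, hx, hxT t ht, add_zero, add_zero]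

/-- in a large enough space a small totally singular subspace can be enlarged -/
theorem exists_ext [Finite G] (h : Large Q z) {T : Submodule (ZMod 2) h.V}
    (hT : ∀ v ∈ T, h.q v = 0) (hc : 4 * (Nat.card T * Nat.card T) < Nat.card h.V) :
    ∃ T' : Submodule (ZMod 2) h.V, (∀ v ∈ T', h.q v = 0) ∧ Nat.card T' = 2 * Nat.card T := by
  classical
  have key : ∀ S : Submodule (ZMod 2) h.V, Nat.card T * Nat.card S < Nat.card h.V →
      ∃ w, (∀ s ∈ S, h.b s w = 0) ∧ w ∉ T := by
    intro S hS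
    by_contra hcon
    push Not at hcon
    have h1 := Perp.card_perp h S
    have hle : h.b.orthogonal S ≤ T := fun w hw => hcon w ((Perp.mem_perp h S).1 hw)
    have h2 : Nat.card (h.b.orthogonal S) ≤ Nat.card T :=
      Nat.card_le_card_of_injective _ (Submodule.inclusion_injective hle)
    have h3 : Nat.card S * Nat.card (h.b.orthogonal S) ≤ Nat.card S * Nat.card T :=
      Nat.mul_le_mul_left _ h2
    rw [h1, mul_comm] at h3
    omega
  have hpos : 0 < Nat.card T := Nat.card_pos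
  have hpos2 : 0 < Nat.card T * Nat.card T := Nat.mul_pos hpos hpos
  obtain ⟨w1, hw1, hw1T⟩ := key T (by omega)
  by_cases hq1 : h.q w1 = 0
  · exact ⟨_, ts_sup h hT hq1 hw1, card_sup h hw1T⟩
  have hq1' : h.q w1 = 1 := by
    rcases zmod2 (h.q w1) with h1 | h1
    · exact absurd h1 hq1
    · exact h1
  -- `w2 ∈ ⟨T, w1⟩^⊥` outside `⟨T, w1⟩`
  have hcs := card_sup h hw1T
  set S := T ⊔ Submodule.span (ZMod 2) {w1} with hS
  have hTS : T ≤ S := le_sup_left
  have hw1S : w1 ∈ S := (le_sup_right : _ ≤ S) (Submodule.mem_span_singleton_self w1)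
  obtain ⟨w2, hw2, hw2S⟩ : ∃ w, (∀ s ∈ S, h.b s w = 0) ∧ w ∉ S := by
    by_contra hcon
    push Not at hcon
    have h1 := Perp.card_perp h S
    have hle : h.b.orthogonal S ≤ S := fun w hw => hcon w ((Perp.mem_perp h S).1 hw)
    have h2 : Nat.card (h.b.orthogonal S) ≤ Nat.card S :=
      Nat.card_le_card_of_injective _ (Submodule.inclusion_injective hle)
    have h3 : Nat.card S * Nat.card (h.b.orthogonal S) ≤ Nat.card S * Nat.card S :=
      Nat.mul_le_mul_left _ h2
    rw [h1, hcs] at h3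
    have : 2 * Nat.card T * (2 * Nat.card T) = 4 * (Nat.card T * Nat.card T) := by ring
    omega
  have hw2T : w2 ∉ T := fun h1 => hw2S (hTS h1)
  have hw2p : ∀ t ∈ T, h.b t w2 = 0 := fun t ht => hw2 t (hTS ht)
  by_cases hq2 : h.q w2 = 0
  · exact ⟨_, ts_sup h hT hq2 hw2p, card_sup h hw2T⟩
  have hq2' : h.q w2 = 1 := by
    rcases zmod2 (h.q w2) with h1 | h1
    · exact absurd h1 hq2
    · exact h1
  have hq3 : h.q (w1 + w2) = 0 := by
    rw [h.q_add', hq1', hq2', hw2 w1 hw1S]; decide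
  have hT3 : w1 + w2 ∉ T := by
    intro h1
    apply hw2S
    have : w2 = w1 + (w1 + w2) := by rw [← add_assoc, h.add_self, zero_add]
    rw [this]
    exact S.add_mem hw1S (hTS h1)
  refine ⟨_, ts_sup h hT hq3 ?_, card_sup h hT3⟩
  intro t ht
  rw [map_add, hw1 t ht, hw2p t ht, add_zero]

/-- a totally singular 3-space (`|V| ≥ 128`) -/
theorem exists_ts [Finite G] (h : Large Q z) (hV : 64 < Nat.card h.V) :
    ∃ T : Submodule (ZMod 2) h.V, (∀ v ∈ T, h.q v = 0) ∧ Nat.card T = 8 := by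
  have h0 : Nat.card (⊥ : Submodule (ZMod 2) h.V) = 1 := by simp
  obtain ⟨T1, h1, c1⟩ := exists_ext h (T := ⊥) (fun v hv => by
    rw [(Submodule.mem_bot _).1 hv]; exact h.q_zero) (by rw [h0]; omega)
  rw [h0] at c1
  obtain ⟨T2, h2, c2⟩ := exists_ext h h1 (by rw [c1]; omega)
  rw [c1] at c2
  obtain ⟨T3, h3, c3⟩ := exists_ext h h2 (by rw [c2]; omega)
  rw [c2] at c3
  exact ⟨T3, h3, c3⟩

/-- minus type: a totally singular 3-space perpendicular to an anisotropic plane -/
theorem exists_frame [Finite G] (h : Large Q z) (hV : Nat.card h.V = 256)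
    (hm : ¬ ∃ T : Submodule (ZMod 2) h.V, Nat.card T = 16 ∧ ∀ v ∈ T, h.q v = 0) :
    ∃ (T : Submodule (ZMod 2) h.V) (u v : h.V), (∀ t ∈ T, h.q t = 0) ∧ Nat.card T = 8 ∧
      h.q u = 1 ∧ h.q v = 1 ∧ h.b u v = 1 ∧ (∀ t ∈ T, h.b u t = 0) ∧ (∀ t ∈ T, h.b v t = 0) := by
  obtain ⟨T, hT, hc⟩ := exists_ts h (by omega)
  have hout : ∀ x, (∀ t ∈ T, h.b t x = 0) → x ∉ T → h.q x = 1 := by
    intro x hx hxT
    rcases zmod2 (h.q x) with h1 | h1
    · exfalso
      apply hm
      exact ⟨_, by rw [card_sup h hxT, hc], ts_sup h hT h1 hx⟩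
    · exact h1
  have hp := Perp.card_perp h T
  rw [hc, hV] at hp
  obtain ⟨u, hu, huT⟩ : ∃ u, (∀ t ∈ T, h.b t u = 0) ∧ u ∉ T := by
    by_contra hcon
    push Not at hcon
    have hle : h.b.orthogonal T ≤ T := fun w hw => hcon w ((Perp.mem_perp h T).1 hw)
    have h2 : Nat.card (h.b.orthogonal T) ≤ Nat.card T :=
      Nat.card_le_card_of_injective _ (Submodule.inclusion_injective hle)
    omega
  obtain ⟨v, hv, huv⟩ : ∃ v, (∀ t ∈ T, h.b t v = 0) ∧ h.b u v = 1 := by
    by_contra hcon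
    push Not at hcon
    apply huT
    apply Perp.mem_of_perp h
    intro w hw
    rw [h.b_comm]
    rcases zmod2 (h.b u w) with h1 | h1
    · exact h1
    · exact absurd h1 (hcon w hw)
  have hvT : v ∉ T := by
    intro h1
    have := hu v h1
    rw [h.b_comm, huv] at this
    exact absurd this (by decide)
  refine ⟨T, u, v, hT, hc, hout u hu huT, hout v hv hvT, huv, ?_, ?_⟩
  · intro t ht; rw [h.b_comm]; exact hu t ht
  · intro t ht; rw [h.b_comm]; exact hv t ht

end Cfsg.Agent.LargeExtra.KOneLin
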