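import Cfsg.Agent.LargeExtra.KOneFus
import Cfsg.Agent.LargeExtra.KOneLin

/-!
# `|Q| = 2^9`, `|D̃| = 2`, minus type is impossible (helper915)

`ρ ∈ C(z)` of order 3 acting on `V` as the product of two transvections in an anisotropic plane:
`C_G(ρ) / ⟨ρ⟩` has a large extraspecial subgroup of order `2^7` of plus type all of whose pairs have
`|D̃| = 2`, against `KillPlus.false_of_plus`.
-/

set_option autoImplicit false

namespace Cfsg.Agent.LargeExtra.KOne

open Cfsg.Agent.Co2Type.Quad Cfsg.Agent.LargeExtra.Base Cfsg.Agent.LargeExtra.Local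
open Cfsg.Agent.LargeExtra.Siegel Cfsg.Agent.LargeExtra.SiegelOrbit
open Cfsg.Agent.LargeExtra.KillSiegel Cfsg.Agent.LargeExtra.KOneQuot Cfsg.Agent.LargeExtra.KOneFus
open Cfsg.Agent.LieClassical.OrthCore Cfsg.Agent.LieClassical.OrthTrans

variable {G : Type*} [Group G] {Q A : Subgroup G} {z a : G}

/-! ### the map `f = r_u r_v` -/

/-- `f` acts on the plane `⟨u, v⟩` as an element of order 3 and trivially on its orthogonal space -/
structure Rot (h : Large Q z) (f : h.V ≃ₗ[ZMod 2] h.V) (u v : h.V) : Prop where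
  qu : h.q u = 1
  qv : h.q v = 1
  buv : h.b u v = 1
  eq : ∀ x, f x = x + h.b v x • v + (h.b u x + h.b v x) • u

namespace Rot

variable {h : Large Q z} {f : h.V ≃ₗ[ZMod 2] h.V} {u v : h.V}

theorem fu (s : Rot h f u v) : f u = v := by
  have hvu : h.b v u = 1 := by rw [h.b_comm]; exact s.buv
  rw [s.eq, h.b_self, hvu, zero_add, one_smul, one_smul, add_comm (u + v), ← add_assoc, h.add_self,
    zero_add]

theorem fv (s : Rot h f u v) : f v = u + v := by
  rw [s.eq, h.b_self, s.buv, zero_smul, add_zero, add_zero, one_smul, add_comm]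

theorem fw (s : Rot h f u v) {w : h.V} (h1 : h.b u w = 0) (h2 : h.b v w = 0) : f w = w := by
  rw [s.eq, h1, h2, zero_smul, add_zero, add_zero, zero_smul, add_zero]

theorem fuv (s : Rot h f u v) : f (u + v) = u := by
  rw [map_add, s.fu, s.fv, add_comm u v, ← add_assoc, h.add_self, zero_add]

theorem cube (s : Rot h f u v) (x : h.V) : f (f (f x)) = x := by
  obtain ⟨w, h1, h2, α, β, hx⟩ : ∃ w, h.b u w = 0 ∧ h.b v w = 0 ∧ ∃ α β : ZMod 2,
      x = w + α • u + β • v := by
    refine ⟨x + h.b v x • u + h.b u x • v, ?_, ?_, h.b v x, h.b u x, ?_⟩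
    · rw [map_add, map_add, map_smul, map_smul, h.b_self, s.buv, smul_zero, add_zero, smul_eq_mul,
        mul_one, CharTwo.add_self_eq_zero]
    · rw [map_add, map_add, map_smul, map_smul, h.b_self, h.b_comm v u, s.buv, smul_zero, add_zero,
        smul_eq_mul, mul_one, CharTwo.add_self_eq_zero]
    · rw [add_assoc (x + _) _ _, add_comm (h.b u x • v), add_assoc x, ← add_assoc (h.b v x • u),
        h.add_self, zero_add, add_assoc, h.add_self, add_zero]
  have e1 : f (f (f u)) = u := by rw [s.fu, s.fv, s.fuv]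
  have e2 : f (f (f v)) = v := by rw [s.fv, s.fuv, s.fu]
  rw [hx]
  simp only [map_add, map_smul, s.fw h1 h2, e1, e2]

theorem pow_fix (s : Rot h f u v) (i : ℕ) {w : h.V} (h1 : h.b u w = 0) (h2 : h.b v w = 0) :
    (f ^ i) w = w := by
  induction i with
  | zero => rfl
  | succ n ih =>
    rw [pow_succ]
    show (f ^ n) (f w) = w
    rw [s.fw h1 h2, ih]

/-- an isometry that commutes with `f` and is trivial on `⟨u, v⟩^⊥` is a power of `f` -/
theorem eq_pow [Finite G] (s : Rot h f u v) {g : h.V ≃ₗ[ZMod 2] h.V} (hg : ∀ x y, h.b (g x) (g y) = h.b x y)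
    (hgf : ∀ x, g (f x) = f (g x)) (hw : ∀ w, h.b u w = 0 → h.b v w = 0 → g w = w) :
    ∃ i : ℕ, ∀ x, g x = (f ^ i) x := by
  have hdec : ∀ x, ∃ w, h.b u w = 0 ∧ h.b v w = 0 ∧ ∃ α β : ZMod 2, x = w + α • u + β • v := by
    intro x
    refine ⟨x + h.b v x • u + h.b u x • v, ?_, ?_, h.b v x, h.b u x, ?_⟩
    · rw [map_add, map_add, map_smul, map_smul, h.b_self, s.buv, smul_zero, add_zero, smul_eq_mul,
        mul_one, CharTwo.add_self_eq_zero]
    · rw [map_add, map_add, map_smul, map_smul, h.b_self, h.b_comm v u, s.buv, smul_zero, add_zero,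
        smul_eq_mul, mul_one, CharTwo.add_self_eq_zero]
    · rw [add_assoc (x + _) _ _, add_comm (h.b u x • v), add_assoc x, ← add_assoc (h.b v x • u),
        h.add_self, zero_add, add_assoc, h.add_self, add_zero]
  -- it suffices that `g u = f^i u`
  have key : ∀ i : ℕ, g u = (f ^ i) u → ∀ x, g x = (f ^ i) x := by
    intro i hi
    have hcomm : ∀ x, (f ^ i) (f x) = f ((f ^ i) x) := by
      intro x
      show (f ^ i * f) x = (f * f ^ i) x
      rw [← pow_succ, ← pow_succ']
    have hv : g v = (f ^ i) v := by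
      rw [← s.fu, hgf, hi, hcomm]
    have hfix : ∀ w, h.b u w = 0 → h.b v w = 0 → (f ^ i) w = w := fun w h1 h2 =>
      s.pow_fix i h1 h2
    intro x
    obtain ⟨w, h1, h2, α, β, rfl⟩ := hdec x
    simp only [map_add, map_smul, hw w h1 h2, hfix w h1 h2, hi, hv]
  have hperp : ∀ w, h.b u w = 0 → h.b v w = 0 → h.b (g u) w = 0 := by
    intro w h1 h2
    have := hg u w
    rw [hw w h1 h2] at this
    rw [this]; exact h1
  have hne : u ≠ 0 := by
    intro h0
    have := s.qu
    rw [h0, h.q_zero] at this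
    exact absurd this (by decide)
  rcases KillTwo.perp_span2 h hperp with h1 | h1 | h1 | h1
  · exfalso
    exact hne ((map_eq_zero_iff g g.injective).1 h1)
  · exact ⟨0, key 0 (by rw [pow_zero]; exact h1)⟩
  · exact ⟨1, key 1 (by rw [pow_one, s.fu]; exact h1)⟩
  · exact ⟨2, key 2 (by
      rw [pow_two]
      show g u = f (f u)
      rw [s.fu, s.fv]; exact h1)⟩

end Rot

/-! ### the fusion of `Q` -/

/-- transitivity of `C(z)` on the involutions of `Q ∖ ⟨z⟩` gives the fusion hypothesis of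
`KillPlus.false_of_plus` -/
theorem fus_of_trans [Finite G] (p : Pair Q z A a) (hD : Nat.card p.D = 2)
    (htrans : ∀ x ∈ Q, x * x = 1 → x ≠ 1 → x ≠ z → ∃ c : G, c * z = z * c ∧ c * a * c⁻¹ = x)
    (x : Q) (hx : (x : G) * x = 1) (hx1 : (x : G) ≠ 1) (hxz : (x : G) ≠ z) :
    ∃ A, ∃ p : Pair Q z A x, ∀ v ∈ p.D, v = 0 ∨ v = p.va := by
  have hD' : ∀ v ∈ p.D, v = 0 ∨ v = p.va := by
    obtain ⟨x, y, hxy, hall⟩ := Nat.card_eq_two_iff.1 hD
    intro v hv
    have h0 : (0 : p.D) ∈ ({x, y} : Set p.D) := by rw [hall]; trivial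
    have h1 : (⟨p.va, p.va_mem_D⟩ : p.D) ∈ ({x, y} : Set p.D) := by rw [hall]; trivial
    have h2 : (⟨v, hv⟩ : p.D) ∈ ({x, y} : Set p.D) := by rw [hall]; trivial
    simp only [Set.mem_insert_iff, Set.mem_singleton_iff] at h0 h1 h2
    have hne : (⟨p.va, p.va_mem_D⟩ : p.D) ≠ 0 := fun h => p.va_ne (congrArg Subtype.val h)
    have key : (⟨v, hv⟩ : p.D) = 0 ∨ (⟨v, hv⟩ : p.D) = ⟨p.va, p.va_mem_D⟩ := by
      rcases h0 with h0 | h0 <;> rcases h1 with h1 | h1
      · exact absurd (h1.trans h0.symm) hne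
      · rw [h0, h1]; exact h2
      · rw [h0, h1]; exact h2.symm
      · exact absurd (h1.trans h0.symm) hne
    rcases key with h | h
    · left; exact congrArg Subtype.val h
    · right; exact congrArg Subtype.val h
  obtain ⟨c, hcz, hc⟩ := htrans x x.2 hx hx1 hxz
  obtain ⟨g, hg, -, hA, -⟩ := p.isConj
  have hcg : (c * g) * z * (c * g)⁻¹ = x := by
    calc (c * g) * z * (c * g)⁻¹ = c * (g * z * g⁻¹) * c⁻¹ := by group
      _ = x := by rw [hg, hc]
  have pp : Pair Q z (Q.map (MulAut.conj (c * g)).toMonoidHom) (x : G) := by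
    have := pair_of_conj p.lz (g := c * g) (by rw [hcg]; exact x.2) (by rw [hcg]; exact hxz)
    rwa [hcg] at this
  refine ⟨_, pp, ?_⟩
  intro v hv
  obtain ⟨y, hy, rfl⟩ := hv
  -- conjugate `y` back by `c`
  obtain ⟨w, hw, hwy⟩ := hy
  have hwy' : c * g * w * (c * g)⁻¹ = y := hwy
  have hyQ : c⁻¹ * y * c ∈ Q := by
    have := p.lz.conj_mem c⁻¹ (by
      rw [inv_mul_eq_iff_eq_mul, ← mul_assoc, hcz, mul_assoc, mul_inv_cancel, mul_one]) y y.2
    rwa [inv_inv] at this
  have hyA : c⁻¹ * y * c ∈ A := by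
    rw [hA]
    refine ⟨w, hw, ?_⟩
    show g * w * g⁻¹ = c⁻¹ * y * c
    rw [← hwy']; group
  have hback : ∀ t : G, c⁻¹ * y * c = t → (y : G) = c * t * c⁻¹ := by
    intro t ht; rw [← ht]; group
  have hcz' : c * z * c⁻¹ = z := by rw [hcz]; group
  rcases KillCommute.mem_D4 p hD' hyQ hyA with h | h | h | h
  · left
    apply p.lz.pr_eq_zero.2
    left
    rw [hback _ h]; group
  · left
    apply p.lz.pr_eq_zero.2
    right
    rw [hback _ h, hcz']
  · right
    apply p.lz.pr_eq_pr.2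
    left
    rw [hback _ h, hc]
  · right
    apply p.lz.pr_eq_pr.2
    right
    rw [hback _ h]
    calc c * (a * z) * c⁻¹ = (c * a * c⁻¹) * (c * z * c⁻¹) := by group
      _ = _ := by rw [hc, hcz']

/-! ### the preimage of a subspace -/

/-- the preimage in `G` -/
def pre (h : Large Q z) (U : Submodule (ZMod 2) h.V) : Subgroup G where
  carrier := {x | ∃ hx : x ∈ Q, h.pr ⟨x, hx⟩ ∈ U}
  one_mem' := ⟨Q.one_mem, by rw [show h.pr ⟨1, _⟩ = 0 from h.pr_one]; exact U.zero_mem⟩
  mul_mem' := by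
    rintro x y ⟨hx, hx'⟩ ⟨hy, hy'⟩
    refine ⟨Q.mul_mem hx hy, ?_⟩
    have := U.add_mem hx' hy'
    rw [← h.pr_mul] at this
    exact this
  inv_mem' := by
    rintro x ⟨hx, hx'⟩
    refine ⟨Q.inv_mem hx, ?_⟩
    have := U.neg_mem hx'
    rw [← h.pr_inv] at this
    exact this

theorem mem_pre (h : Large Q z) {U : Submodule (ZMod 2) h.V} {x : G} :
    x ∈ pre h U ↔ ∃ hx : x ∈ Q, h.pr ⟨x, hx⟩ ∈ U := Iff.rfl

theorem card_pre [Finite G] (h : Large Q z) (U : Submodule (ZMod 2) h.V) :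
    Nat.card (pre h U) = 2 * Nat.card U := by
  have hz : z ∈ pre h U := ⟨h.z_mem, by
    rw [show h.pr ⟨z, h.z_mem⟩ = 0 from h.pr_eq_zero.2 (Or.inr rfl)]; exact U.zero_mem⟩
  have hle : pre h U ≤ Q := fun x hx => hx.1
  have h1 := Local.card_sub h hz
  have h2 : Local.sub h (pre h U) = U := by
    ext v
    constructor
    · rintro ⟨x, ⟨hx, hx'⟩, rfl⟩
      exact hx'
    · intro hv
      obtain ⟨x, rfl⟩ := h.pr_surjective v
      exact ⟨x, ⟨x.2, hv⟩, rfl⟩
  rw [h2, inf_eq_left.2 hle] at h1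
  exact h1

/-! ### the conclusion -/

/-- **k1**: `|D̃| = 2`, minus type, `|Q| = 2^9`. -/
theorem false_of_minus [Finite G] (p : Pair Q z A a) (hO : O2 p.lz) (hQ : Nat.card Q = 2 ^ 9)
    (hD : Nat.card p.D = 2)
    (hm : ¬ ∃ T : Submodule (ZMod 2) p.lz.V, Nat.card T = 16 ∧ ∀ v ∈ T, p.lz.q v = 0) : False := by
  have hV : Nat.card p.lz.V = 256 := by
    have h1 := p.lz.card_eq
    rw [hQ] at h1
    omega
  set h := p.lz with hh
  obtain ⟨T, u, v, hT, hTc, qu, qv, buv, huT, hvT⟩ := KOneLin.exists_frame h hV hm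
  have qu' : qf h u ≠ 0 := by show h.q u ≠ 0; rw [qu]; decide
  have qv' : qf h v ≠ 0 := by show h.q v ≠ 0; rw [qv]; decide
  have hmem : refl (qf h) u qu' * refl (qf h) v qv' ∈ p.H := by
    apply E_le_H p hO hD (by rw [← hh]; omega)
    apply (SixMinus.good_qf h (by omega)).refl_mul_refl_mem
    show h.q v = h.q u
    rw [qu, qv]
  obtain ⟨c, hc⟩ := hmem
  have hrot : Rot h (h.act c) u v := by
    refine ⟨qu, qv, buv, fun x => ?_⟩
    have e : h.act c x = refl (qf h) u qu' (refl (qf h) v qv' x) := by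
      have := congrArg (fun g : h.V ≃ₗ[ZMod 2] h.V => g x) hc
      exact this
    rw [e, SixMinus.refl_qf, SixMinus.refl_qf, map_add, map_smul, buv, smul_eq_mul, mul_one]
  -- `ρ = c^4`
  have hcz : (c : G) * z = z * c := Subgroup.mem_centralizer_singleton_iff.1 c.2
  have hf3 : h.act c ^ 3 = 1 := by
    ext x
    rw [pow_succ, pow_succ, pow_one]
    exact hrot.cube x
  have hc3 : ((c ^ 3 : Subgroup.centralizer ({z} : Set G)) : G) ∈ Q := by
    apply h.mem_of_act
    rw [map_pow, hf3]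
  have hc12 : (c : G) ^ 12 = 1 := by
    have h4 := KOneFus.pow_four h hc3
    rw [SubmonoidClass.coe_pow] at h4
    rw [← h4]
    rw [← pow_add, ← pow_add]
  set ρ' : Subgroup.centralizer ({z} : Set G) := c ^ 4 with hρ'
  set ρ : G := (c : G) ^ 4 with hρ
  have hρρ : (ρ' : G) = ρ := by rw [hρ', SubmonoidClass.coe_pow]
  have hρz : ρ * z = z * ρ := (Commute.pow_left hcz 4).eq
  have h3 : ρ * ρ * ρ = 1 := by
    rw [hρ, ← pow_add, ← pow_add]
    exact hc12
  have hact : h.act ρ' = h.act c := by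
    rw [hρ', map_pow, pow_succ, hf3, one_mul]
  -- commuting with `ρ`
  have hcomm : ∀ x : Q, h.b u (h.pr x) = 0 → h.b v (h.pr x) = 0 → ρ * (x : G) = x * ρ := by
    intro x h1 h2
    apply KOneQuot.comm_of_fix h hρz h3
    have e := hrot.fw h1 h2
    rw [← hact, h.act_pr, h.pr_eq_pr, h.conjQ_coe, hρρ] at e
    exact e
  have hcomm' : ∀ x : Q, ρ * (x : G) = x * ρ → h.b u (h.pr x) = 0 ∧ h.b v (h.pr x) = 0 := by
    intro x hx
    have e : h.act c (h.pr x) = h.pr x := by
      rw [← hact]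
      apply Base.Pair.act_pr_coe
      rw [hρρ, hx]; group
    rw [hrot.eq] at e
    have hvu : h.b v u = 1 := by rw [h.b_comm]; exact buv
    have e1 := congrArg (h.b u) e
    have e2 := congrArg (h.b v) e
    rw [map_add, map_add, map_smul, map_smul, h.b_self, buv, smul_zero, add_zero, smul_eq_mul,
      mul_one] at e1
    rw [map_add, map_add, map_smul, map_smul, h.b_self, hvu, smul_zero, add_zero, smul_eq_mul,
      mul_one] at e2
    have e1' : h.b v (h.pr x) = 0 := by simpa using e1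
    rw [e1'] at e2
    refine ⟨?_, e1'⟩
    simpa using e2
  -- `C_Q(ρ)` is self-centralising modulo `⟨ρ⟩`
  have hself : ∀ k, k * z = z * k → k * ρ = ρ * k →
      (∀ x ∈ Q, ρ * x = x * ρ → k * x = x * k) → ∃ r ∈ R ρ, k * (r : G) ∈ Q := by
    intro k hkz hkρ hk
    set k' : Subgroup.centralizer ({z} : Set G) := ⟨k, Subgroup.mem_centralizer_singleton_iff.2 hkz⟩
      with hk'
    obtain ⟨i, hi⟩ := hrot.eq_pow (g := h.act k') (fun x y => h.b_act k' x y) (by
      intro x
      have hkk : k' * ρ' = ρ' * k' := by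
        apply Subtype.ext
        show k * (ρ' : G) = ρ' * k
        rw [hρρ]; exact hkρ
      have := congrArg h.act hkk
      rw [map_mul, map_mul, hact] at this
      exact congrArg (fun g : h.V ≃ₗ[ZMod 2] h.V => g x) this) (by
      intro w h1 h2
      obtain ⟨x, rfl⟩ := h.pr_surjective w
      apply Base.Pair.act_pr_coe
      show k * (x : G) * k⁻¹ = x
      rw [hk x x.2 (hcomm x h1 h2)]; group)
    have hmem2 : ((k' * (ρ' ^ i)⁻¹ : Subgroup.centralizer ({z} : Set G)) : G) ∈ Q := by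
      apply h.mem_of_act
      rw [map_mul, map_inv, map_pow, hact, mul_inv_eq_one]
      ext x
      exact hi x
    refine ⟨(rho ρ ^ i)⁻¹, Subgroup.inv_mem _ (Subgroup.pow_mem _ (Subgroup.mem_zpowers _) i), ?_⟩
    have e : (((rho ρ ^ i)⁻¹ : Subgroup.centralizer ({ρ} : Set G)) : G) = ((ρ' ^ i)⁻¹ :
        Subgroup.centralizer ({z} : Set G)) := by
      rw [InvMemClass.coe_inv, SubmonoidClass.coe_pow, InvMemClass.coe_inv, SubmonoidClass.coe_pow,
        hρρ]
      rfl
    rw [e]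
    exact hmem2
  have hL := KOneQuot.large h hρz h3 hself
  -- the order of the quotient group
  have hQB : Nat.card (QB Q ρ) = 2 ^ 7 := by
    rw [card_QB h hρz h3]
    have e : sub h (Subgroup.centralizer ({ρ} : Set G)) =
        h.b.orthogonal (Submodule.span (ZMod 2) ({u, v} : Set h.V)) := by
      ext w
      rw [Perp.mem_perp]
      constructor
      · rintro ⟨x, hx, rfl⟩
        obtain ⟨h1, h2⟩ := hcomm' x (Subgroup.mem_centralizer_singleton_iff.1 hx).symm
        intro y hy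
        obtain ⟨α, β, rfl⟩ := Submodule.mem_span_pair.1 hy
        rw [map_add, map_smul, map_smul, LinearMap.add_apply, LinearMap.smul_apply,
          LinearMap.smul_apply, h1, h2, smul_zero, smul_zero, add_zero]
      · intro hw
        obtain ⟨x, rfl⟩ := h.pr_surjective w
        refine ⟨x, ?_, rfl⟩
        exact Subgroup.mem_centralizer_singleton_iff.2 (hcomm x
          (hw u (Submodule.subset_span (by simp))) (hw v (Submodule.subset_span (by simp)))).symm
    have hu0 : u ≠ 0 := by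
      rintro rfl
      rw [h.q_zero] at qu
      exact absurd qu (by decide)
    have hv0 : v ≠ 0 := by
      rintro rfl
      rw [h.q_zero] at qv
      exact absurd qv (by decide)
    have hvu : v ≠ u := by
      rintro rfl
      rw [h.b_self] at buv
      exact absurd buv (by decide)
    have h4 := KillAbel.four_le_span h hu0 hv0 hvu
    have h5 : Nat.card (Submodule.span (ZMod 2) ({u, v} : Set h.V)) ≤ 4 := by
      have : Function.Surjective (fun c : ZMod 2 × ZMod 2 =>
          (⟨c.1 • u + c.2 • v, Submodule.mem_span_pair.2 ⟨c.1, c.2, rfl⟩⟩ :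
            Submodule.span (ZMod 2) ({u, v} : Set h.V))) := by
        rintro ⟨y, hy⟩
        obtain ⟨α, β, rfl⟩ := Submodule.mem_span_pair.1 hy
        exact ⟨(α, β), rfl⟩
      have h6 := Nat.card_le_card_of_surjective _ this
      rw [Nat.card_prod, Nat.card_zmod] at h6
      exact h6
    have h6 := Perp.card_perp h (Submodule.span (ZMod 2) ({u, v} : Set h.V))
    rw [hV, le_antisymm h5 h4] at h6
    rw [e]
    omega
  -- the elementary abelian subgroup of order 16
  have hBQ : pre h T ≤ Q := fun x hx => hx.1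
  have hBρ : ∀ b ∈ pre h T, ρ * b = b * ρ := by
    rintro b ⟨hb, hbT⟩
    exact hcomm ⟨b, hb⟩ (huT _ hbT) (hvT _ hbT)
  have hB16 : Nat.card (im (pre h T) ρ) = 16 := by
    rw [card_im h h3 hBQ hBρ, card_pre, hTc]
  refine KillPlus.false_of_plus (B := im (pre h T) ρ) hL hQB ?_ ?_ ?_ ?_ hB16
  · intro x hx hx1 hxz
    exact KOneFus.fus h hρz h3 hL (fus_of_trans p hD fun x hx hxx hx1 hxz =>
      exists_conj_G p hO hD (by rw [← hh]; omega) hx hxx hx1 hxz) x hx hx1 hxz
  · rintro _ ⟨k, hk, rfl⟩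
    exact ⟨k, hBQ hk, rfl⟩
  · have hzB : z ∈ pre h T := ⟨h.z_mem, by
      rw [show h.pr ⟨z, h.z_mem⟩ = 0 from h.pr_eq_zero.2 (Or.inr rfl)]; exact T.zero_mem⟩
    exact ⟨zK hρz, hzB, rfl⟩
  · rintro _ ⟨k, hk, rfl⟩
    obtain ⟨hk1, hk2⟩ := hk
    rw [← map_mul]
    have : k * k = 1 := Subtype.ext (h.q_eq_zero.1 (hT _ hk2))
    rw [this, map_one]

end Cfsg.Agent.LargeExtra.KOne
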