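import Mathlib

/-!
# The transfer trick (R12, helper805)

`G` a finite group without subgroups of index two, `C ≤ G` of odd index, `C₀ ≤ C` of index two, `u ∈ G` with
`u² = 1`. Then the number of cosets `gC` with `g⁻¹ u g ∈ C ∖ C₀` is even, and so is the number of those fixed by
any 2-subgroup `P` of `C_G(u)`. For `C = C_G(z)`: if `u ∈ C ∖ C₀` and `P` centralises `z` and `u`, then there is a
conjugate `z^g ≠ z` centralised by `P` with `g⁻¹ u g ∈ C ∖ C₀`.
-/

set_option autoImplicit false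
set_option linter.style.haveILetI false

namespace Cfsg.Agent.LargeExtra.Transfer

open Equiv.Perm

variable {G : Type*} [Group G]

/-- Counting elements through cosets. -/
theorem card_subtype_eq [Finite G] (H : Subgroup G) (p : G → Prop) (hp : ∀ g h, h ∈ H → (p (g * h) ↔ p g)) :
    Nat.card {g : G // p g} = Nat.card {x : G ⧸ H // p x.out} * Nat.card H := by
  rw [← Nat.card_prod]
  apply Nat.card_congr
  refine
    { toFun := fun g => (⟨(g.1 : G ⧸ H), ?_⟩, ⟨(g.1 : G ⧸ H).out⁻¹ * g.1, ?_⟩)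
      invFun := fun x => ⟨x.1.1.out * (x.2 : G), (hp _ _ x.2.2).2 x.1.2⟩
      left_inv := fun g => ?_
      right_inv := fun x => ?_ }
  · have h1 : (g.1 : G ⧸ H).out⁻¹ * g.1 ∈ H := by
      rw [← QuotientGroup.eq, QuotientGroup.out_eq']
    have h2 := hp (g.1 : G ⧸ H).out _ h1
    rw [mul_inv_cancel_left] at h2
    exact h2.1 g.2
  · rw [← QuotientGroup.eq, QuotientGroup.out_eq']
  · apply Subtype.ext
    show _ * (_⁻¹ * _) = _
    rw [mul_inv_cancel_left]
  · have h1 : ((x.1.1.out * (x.2 : G) : G) : G ⧸ H) = x.1.1 := by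
      rw [QuotientGroup.mk_mul_of_mem _ x.2.2, QuotientGroup.out_eq']
    apply Prod.ext
    · apply Subtype.ext
      exact h1
    · apply Subtype.ext
      show (_ : G ⧸ H).out⁻¹ * _ = _
      rw [h1, inv_mul_cancel_left]

variable {C C₀ : Subgroup G}

/-- cosets `gC` with `g⁻¹ u g ∈ C ∖ C₀` -/
def Odd1 (C C₀ : Subgroup G) (u : G) (x : G ⧸ C) : Prop := x.out⁻¹ * u * x.out ∈ C ∧ x.out⁻¹ * u * x.out ∉ C₀

theorem normal_of_relIndex (hle : C₀ ≤ C) (h2 : C₀.relIndex C = 2) {c x : G} (hc : c ∈ C) :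
    c⁻¹ * x * c ∈ C₀ ↔ x ∈ C₀ := by
  have hN : (C₀.subgroupOf C).Normal := Subgroup.normal_of_index_eq_two h2
  have key : ∀ c x : G, c ∈ C → x ∈ C₀ → c * x * c⁻¹ ∈ C₀ := by
    intro c x hc hx
    have := hN.conj_mem ⟨x, hle hx⟩ hx ⟨c, hc⟩
    exact this
  constructor
  · intro h
    have := key c _ hc h
    have e : c * (c⁻¹ * x * c) * c⁻¹ = x := by group
    rwa [e] at this
  · intro h
    have := key c⁻¹ x (inv_mem hc) h
    rwa [inv_inv] at this

theorem odd1_iff (hle : C₀ ≤ C) (h2 : C₀.relIndex C = 2) (u g : G) :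
    Odd1 C C₀ u (g : G ⧸ C) ↔ g⁻¹ * u * g ∈ C ∧ g⁻¹ * u * g ∉ C₀ := by
  set k := (g : G ⧸ C).out with hk
  have h1 : k⁻¹ * g ∈ C := by rw [← QuotientGroup.eq, hk, QuotientGroup.out_eq']
  have e : (k⁻¹ * g)⁻¹ * (k⁻¹ * u * k) * (k⁻¹ * g) = g⁻¹ * u * g := by group
  have hC : k⁻¹ * u * k ∈ C ↔ g⁻¹ * u * g ∈ C := by
    rw [← e]
    constructor
    · intro h
      exact C.mul_mem (C.mul_mem (C.inv_mem h1) h) h1
    · intro h
      have := C.mul_mem (C.mul_mem h1 h) (C.inv_mem h1)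
      have e2 : (k⁻¹ * g) * ((k⁻¹ * g)⁻¹ * (k⁻¹ * u * k) * (k⁻¹ * g)) * (k⁻¹ * g)⁻¹ = k⁻¹ * u * k := by group
      rwa [e2] at this
  unfold Odd1
  rw [← hk, hC]
  constructor
  · rintro ⟨h3, h4⟩
    refine ⟨h3, fun h5 => h4 ?_⟩
    rw [← e] at h5
    exact (normal_of_relIndex hle h2 h1).1 h5
  · rintro ⟨h3, h4⟩
    refine ⟨h3, fun h5 => h4 ?_⟩
    rw [← e]
    exact (normal_of_relIndex hle h2 h1).2 h5

/-- Fixed points of `u` on `G ⧸ H`. -/
theorem smul_eq_iff (H : Subgroup G) (u g : G) : u • (g : G ⧸ H) = g ↔ g⁻¹ * u * g ∈ H := by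
  show ((u * g : G) : G ⧸ H) = g ↔ _
  rw [QuotientGroup.eq]
  have e : ((u * g)⁻¹ * g)⁻¹ = g⁻¹ * u * g := by group
  rw [← e, inv_mem_iff]

/-- The number of cosets `gC` with `g⁻¹ u g ∈ C ∖ C₀` is even. -/
theorem even_card_odd1 [Finite G] (hG : ∀ H : Subgroup G, H.index ≠ 2) (hodd : Odd C.index)
    (hle : C₀ ≤ C) (h2 : C₀.relIndex C = 2) (u : G) (hu : u * u = 1) :
    Even (Nat.card {x : G ⧸ C // Odd1 C C₀ u x}) := by
  classical
  have : Fintype (G ⧸ C) := Fintype.ofFinite _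
  have : Fintype (G ⧸ C₀) := Fintype.ofFinite _
  have hu2 : u ^ 2 = 1 := by rw [pow_two, hu]
  set m := C.index with hm
  -- `n₀`, `n₁`
  set n0 := Nat.card {x : G ⧸ C // x.out⁻¹ * u * x.out ∈ C₀} with hn0
  set n1 := Nat.card {x : G ⧸ C // Odd1 C C₀ u x} with hn1
  -- the number of fixed points on `G ⧸ C₀` is `2 n₀`
  have hC0 : Nat.card C = 2 * Nat.card C₀ := by
    have h3 := (C₀.subgroupOf C).card_mul_index
    have h4 : (C₀.subgroupOf C).index = 2 := h2
    rw [h4, Nat.card_congr (Subgroup.subgroupOfEquivOfLe hle).toEquiv] at h3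
    rw [← h3, mul_comm]
  have hpos : 0 < Nat.card C₀ := Nat.card_pos
  have hp0 : ∀ g h, h ∈ C₀ → ((g * h)⁻¹ * u * (g * h) ∈ C₀ ↔ g⁻¹ * u * g ∈ C₀) := by
    intro g h hh
    have e : (g * h)⁻¹ * u * (g * h) = h⁻¹ * (g⁻¹ * u * g) * h := by group
    rw [e]
    constructor
    · intro h3
      have := C₀.mul_mem (C₀.mul_mem hh h3) (C₀.inv_mem hh)
      have e2 : h * (h⁻¹ * (g⁻¹ * u * g) * h) * h⁻¹ = g⁻¹ * u * g := by group
      rwa [e2] at this
    · intro h3
      exact C₀.mul_mem (C₀.mul_mem (C₀.inv_mem hh) h3) hh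
  have hp1 : ∀ g h, h ∈ C → ((g * h)⁻¹ * u * (g * h) ∈ C₀ ↔ g⁻¹ * u * g ∈ C₀) := by
    intro g h hh
    have e : (g * h)⁻¹ * u * (g * h) = h⁻¹ * (g⁻¹ * u * g) * h := by group
    rw [e]
    constructor
    · intro h3
      have h4 : g⁻¹ * u * g ∈ C := by
        have := C.mul_mem (C.mul_mem hh (hle h3)) (C.inv_mem hh)
        have e2 : h * (h⁻¹ * (g⁻¹ * u * g) * h) * h⁻¹ = g⁻¹ * u * g := by group
        rwa [e2] at this
      exact (normal_of_relIndex hle h2 hh).1 h3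
    · intro h3
      exact (normal_of_relIndex hle h2 hh).2 h3
  have hc0 := card_subtype_eq C₀ (fun g => g⁻¹ * u * g ∈ C₀) hp0
  have hc1 := card_subtype_eq C (fun g => g⁻¹ * u * g ∈ C₀) hp1
  have hfix0 : Nat.card {x : G ⧸ C₀ // u • x = x} = Nat.card {x : G ⧸ C₀ // x.out⁻¹ * u * x.out ∈ C₀} := by
    apply Nat.card_congr
    refine Equiv.subtypeEquivRight fun x => ?_
    rw [← smul_eq_iff C₀ u x.out, QuotientGroup.out_eq']
  have hfix : Nat.card {x : G ⧸ C₀ // u • x = x} = 2 * n0 := by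
    rw [hfix0]
    apply Nat.eq_of_mul_eq_mul_right hpos
    rw [← hc0, hc1, hC0, hn0]
    ring
  -- sign on `G ⧸ C₀`
  have hidx : C₀.index = 2 * m := by
    rw [← Subgroup.relIndex_mul_index hle, h2]
  have hcard0 : Fintype.card (G ⧸ C₀) = 2 * m := by
    rw [← Nat.card_eq_fintype_card, ← Subgroup.index_eq_card, hidx]
  have hn0m : n0 ≤ m := by
    rw [hn0, hm, Subgroup.index_eq_card]
    exact Nat.card_le_card_of_injective _ Subtype.val_injective
  have hsign : Equiv.Perm.sign (MulAction.toPermHom G (G ⧸ C₀) u) = (-1) ^ (m - n0) := by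
    have h3 : (MulAction.toPermHom G (G ⧸ C₀) u) ^ 2 = 1 := by
      rw [← map_pow, hu2, map_one]
    rw [sign_of_pow_two_eq_one h3, hcard0]
    have h4 : Fintype.card (Function.fixedPoints (MulAction.toPermHom G (G ⧸ C₀) u)) = 2 * n0 := by
      rw [← Nat.card_eq_fintype_card, ← hfix]
      rfl
    rw [h4, ← Nat.mul_sub, Nat.mul_div_cancel_left _ (by norm_num)]
  have heven0 : Even (m - n0) := by
    by_contra hne
    rw [Nat.not_even_iff_odd] at hne
    rw [hne.neg_one_pow] at hsign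
    set f : G →* ℤˣ := (Equiv.Perm.sign).comp (MulAction.toPermHom G (G ⧸ C₀)) with hf
    apply hG f.ker
    rw [Subgroup.index_ker]
    have : f.range = ⊤ := by
      rw [eq_top_iff]
      intro x _
      rcases Int.units_eq_one_or x with rfl | rfl
      · exact f.range.one_mem
      · exact ⟨u, hsign⟩
    rw [this, Subgroup.card_top, Nat.card_eq_fintype_card]
    rfl
  -- fixed points on `G ⧸ C`
  have hfixC : Nat.card {x : G ⧸ C // u • x = x} = n0 + n1 := by
    have h3 : Nat.card {x : G ⧸ C // u • x = x} =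
        Nat.card ({x : G ⧸ C // x.out⁻¹ * u * x.out ∈ C₀} ⊕ {x : G ⧸ C // Odd1 C C₀ u x}) := by
      apply Nat.card_congr
      have h4 : ∀ x : G ⧸ C, u • x = x ↔ (x.out⁻¹ * u * x.out ∈ C₀ ∨ Odd1 C C₀ u x) := by
        intro x
        have h5 : u • x = x ↔ x.out⁻¹ * u * x.out ∈ C := by
          rw [← smul_eq_iff C u x.out, QuotientGroup.out_eq']
        rw [h5]
        constructor
        · intro h6
          by_cases h7 : x.out⁻¹ * u * x.out ∈ C₀
          · exact Or.inl h7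
          · exact Or.inr ⟨h6, h7⟩
        · rintro (h6 | h6)
          · exact hle h6
          · exact h6.1
      refine (Equiv.subtypeEquivRight h4).trans ?_
      apply subtypeOrEquiv
      rw [disjoint_iff_inf_le]
      rintro x ⟨h5, h6⟩
      exact h6.2 h5
    rw [h3, Nat.card_sum]
  have hfixodd : Odd (n0 + n1) := by
    rw [← hfixC]
    have hp : IsPGroup 2 (Subgroup.zpowers u) := by
      rw [IsPGroup.iff_card]
      rcases eq_or_ne u 1 with rfl | hne
      · exact ⟨0, by rw [Nat.card_zpowers, orderOf_one, pow_zero]⟩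
      · exact ⟨1, by rw [Nat.card_zpowers, orderOf_eq_prime hu2 hne, pow_one]⟩
    have : Fact (Nat.Prime 2) := ⟨Nat.prime_two⟩
    have h3 := hp.card_modEq_card_fixedPoints (G ⧸ C)
    have h4 : Nat.card (MulAction.fixedPoints (Subgroup.zpowers u) (G ⧸ C)) =
        Nat.card {x : G ⧸ C // u • x = x} := by
      apply Nat.card_congr
      refine Equiv.subtypeEquivRight fun x => ?_
      rw [MulAction.mem_fixedPoints]
      constructor
      · intro h
        exact h ⟨u, Subgroup.mem_zpowers u⟩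
      · rintro h ⟨v, hv⟩
        obtain ⟨k, rfl⟩ := Subgroup.mem_zpowers_iff.1 hv
        show u ^ k • x = x
        have hx : u ∈ MulAction.stabilizer G x := h
        exact (MulAction.stabilizer G x).zpow_mem hx k
    rw [h4, ← Subgroup.index_eq_card] at h3
    rw [Nat.odd_iff, ← Nat.odd_iff.1 hodd]
    exact h3.symm
  -- conclusion
  have h5 : n0 % 2 = m % 2 := by
    rcases heven0 with ⟨r, hr⟩
    omega
  rw [Nat.even_iff]
  rw [Nat.odd_iff] at hfixodd hodd
  omega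

/-- The same for the cosets fixed by a 2-subgroup of `C_G(u)`. -/
theorem even_card_fixed [Finite G] (hG : ∀ H : Subgroup G, H.index ≠ 2) (hodd : Odd C.index)
    (hle : C₀ ≤ C) (h2 : C₀.relIndex C = 2) (u : G) (hu : u * u = 1) (P : Subgroup G)
    (hP : IsPGroup 2 P) (hPu : ∀ p ∈ P, p * u = u * p) :
    Even (Nat.card {x : G ⧸ C // Odd1 C C₀ u x ∧ ∀ p ∈ P, p • x = x}) := by
  classical
  have : Fact (Nat.Prime 2) := ⟨Nat.prime_two⟩
  have hinv : ∀ p ∈ P, ∀ x : G ⧸ C, Odd1 C C₀ u x → Odd1 C C₀ u (p • x) := by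
    intro p hp x hx
    obtain ⟨g, rfl⟩ := QuotientGroup.mk_surjective x
    rw [odd1_iff hle h2] at hx
    show Odd1 C C₀ u ((p * g : G) : G ⧸ C)
    rw [odd1_iff hle h2]
    have e : (p * g)⁻¹ * u * (p * g) = g⁻¹ * u * g := by
      have : p⁻¹ * u * p = u := by
        rw [mul_assoc, ← hPu p hp, ← mul_assoc, inv_mul_cancel, one_mul]
      calc (p * g)⁻¹ * u * (p * g) = g⁻¹ * (p⁻¹ * u * p) * g := by group
        _ = _ := by rw [this]
    rw [e]; exact hx
  letI : MulAction P {x : G ⧸ C // Odd1 C C₀ u x} :=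
    { smul := fun p x => ⟨(p : G) • x.1, hinv p p.2 x.1 x.2⟩
      one_smul := fun x => Subtype.ext (one_smul G x.1)
      mul_smul := fun p q x => Subtype.ext (mul_smul (p : G) (q : G) x.1) }
  have h3 := hP.card_modEq_card_fixedPoints {x : G ⧸ C // Odd1 C C₀ u x}
  have h4 : Nat.card (MulAction.fixedPoints P {x : G ⧸ C // Odd1 C C₀ u x}) =
      Nat.card {x : G ⧸ C // Odd1 C C₀ u x ∧ ∀ p ∈ P, p • x = x} := by
    apply Nat.card_congr
    refine
      { toFun := fun x => ⟨x.1.1, x.1.2, fun p hp => congrArg Subtype.val (x.2 ⟨p, hp⟩)⟩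
        invFun := fun x => ⟨⟨x.1, x.2.1⟩, fun p => Subtype.ext (x.2.2 p p.2)⟩
        left_inv := fun _ => rfl
        right_inv := fun _ => rfl }
  rw [h4] at h3
  have h5 := even_card_odd1 hG hodd hle h2 u hu
  rw [Nat.even_iff] at h5 ⊢
  rw [← h5]
  exact h3.symm

/-- The transfer trick in terms of conjugates of `z`. -/
theorem exists_conj [Finite G] (hG : ∀ H : Subgroup G, H.index ≠ 2) {z : G}
    (hodd : Odd (Subgroup.centralizer ({z} : Set G)).index) (hle : C₀ ≤ Subgroup.centralizer ({z} : Set G))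
    (h2 : C₀.relIndex (Subgroup.centralizer ({z} : Set G)) = 2) (u : G) (hu : u * u = 1)
    (huz : u * z = z * u) (huC : u ∉ C₀) (P : Subgroup G)
    (hP : IsPGroup 2 P) (hPu : ∀ p ∈ P, p * u = u * p) (hPz : ∀ p ∈ P, p * z = z * p) :
    ∃ g : G, g * z * g⁻¹ ≠ z ∧ (∀ p ∈ P, p * (g * z * g⁻¹) = (g * z * g⁻¹) * p) ∧
      (g⁻¹ * u * g) * z = z * (g⁻¹ * u * g) ∧ g⁻¹ * u * g ∉ C₀ := by
  classical
  have h3 := even_card_fixed hG hodd hle h2 u hu P hP hPu
  set S := {x : G ⧸ Subgroup.centralizer ({z} : Set G) //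
    Odd1 (Subgroup.centralizer ({z} : Set G)) C₀ u x ∧ ∀ p ∈ P, p • x = x} with hS
  -- the trivial coset
  have h1 : Odd1 (Subgroup.centralizer ({z} : Set G)) C₀ u
      ((1 : G) : G ⧸ Subgroup.centralizer ({z} : Set G)) ∧
      ∀ p ∈ P, p • ((1 : G) : G ⧸ Subgroup.centralizer ({z} : Set G)) = (1 : G) := by
    constructor
    · rw [odd1_iff hle h2, inv_one, one_mul, mul_one]
      exact ⟨Subgroup.mem_centralizer_singleton_iff.2 huz, huC⟩
    · intro p hp
      rw [smul_eq_iff, inv_one, one_mul, mul_one]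
      exact Subgroup.mem_centralizer_singleton_iff.2 (hPz p hp)
  have hne : Nat.card S ≠ 1 := by
    intro h; rw [h] at h3; exact absurd h3 (by decide)
  have hpos : 0 < Nat.card S := Nat.card_pos_iff.2 ⟨⟨⟨_, h1⟩⟩, inferInstance⟩
  have hlt : 1 < Nat.card S := by omega
  rw [Finite.one_lt_card_iff_nontrivial] at hlt
  obtain ⟨⟨x, hx1, hx2⟩, hxne⟩ := exists_ne (⟨_, h1⟩ : S)
  obtain ⟨g, rfl⟩ := QuotientGroup.mk_surjective x
  rw [odd1_iff hle h2] at hx1
  refine ⟨g, ?_, ?_, Subgroup.mem_centralizer_singleton_iff.1 hx1.1, hx1.2⟩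
  · intro h4
    apply hxne
    apply Subtype.ext
    show (g : G ⧸ Subgroup.centralizer ({z} : Set G)) = (1 : G)
    rw [eq_comm, QuotientGroup.eq, inv_one, one_mul]
    rw [mul_inv_eq_iff_eq_mul] at h4
    exact Subgroup.mem_centralizer_singleton_iff.2 h4
  · intro p hp
    have h4 := hx2 p hp
    rw [smul_eq_iff] at h4
    have h5 := Subgroup.mem_centralizer_singleton_iff.1 h4
    calc p * (g * z * g⁻¹) = g * ((g⁻¹ * p * g) * z) * g⁻¹ := by group
      _ = g * (z * (g⁻¹ * p * g)) * g⁻¹ := by rw [h5]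
      _ = _ := by group

end Cfsg.Agent.LargeExtra.Transfer
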