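import Cfsg.Agent.LargeExtra.Local
import Cfsg.Agent.LargeExtra.TwoCentral
import Cfsg.Agent.LargeExtra.Transfer

/-!
# Lemma T1 (helper805)

`Q = F*(C_G(z))` extraspecial of order at least 32 (`Large Q z`), `G` without subgroups of index two. Then `Q` lies
in every subgroup of index two of `C_G(z)`, and `C_G(z)` fixes no nonzero vector of `V = Q / ⟨z⟩`.
-/

set_option autoImplicit false
set_option linter.style.haveILetI false

namespace Cfsg.Agent.LargeExtra.TOne

open Cfsg.Agent.Co2Type.Quad Cfsg.Agent.LargeExtra.Base Cfsg.Agent.LargeExtra.Local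
open Cfsg.Agent.LargeExtra.TwoCentral Cfsg.Agent.LargeExtra.Transfer

variable {G : Type*} [Group G] {Q : Subgroup G} {z : G}

/-- A subgroup of index two contains commutators. -/
theorem comm_mem_of_relIndex {C C₀ : Subgroup G} (h2 : C₀.relIndex C = 2) {x y : G}
    (hx : x ∈ C) (hy : y ∈ C) : x * y * x⁻¹ * y⁻¹ ∈ C₀ := by
  have h3 : (C₀.subgroupOf C).index = 2 := h2
  have hmul : ∀ a b : C, (a * b ∈ C₀.subgroupOf C ↔ (a ∈ C₀.subgroupOf C ↔ b ∈ C₀.subgroupOf C)) :=
    fun a b => Subgroup.mul_mem_iff_of_index_two h3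
  have hinv : ∀ a : C, (a⁻¹ ∈ C₀.subgroupOf C ↔ a ∈ C₀.subgroupOf C) := fun a => inv_mem_iff
  have key : (⟨x, hx⟩ * ⟨y, hy⟩ * ⟨x, hx⟩⁻¹ * ⟨y, hy⟩⁻¹ : C) ∈ C₀.subgroupOf C := by
    rw [hmul, hmul, hmul, hinv, hinv]
    tauto
  exact key

theorem z_mem_of_relIndex (h : Large Q z) (hne : ∃ x ∈ Q, x ≠ 1 ∧ x ≠ z) {C₀ : Subgroup G}
    (h2 : C₀.relIndex (Subgroup.centralizer ({z} : Set G)) = 2) : z ∈ C₀ := by
  obtain ⟨x, hx, hx1, hxz⟩ := hne
  obtain ⟨y, hy, hyx⟩ := exists_not_comm h hx hx1 hxz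
  have h3 := comm_mem_of_relIndex h2 (x := y) (y := x)
    (Subgroup.mem_centralizer_singleton_iff.2 (h.comm_z y hy))
    (Subgroup.mem_centralizer_singleton_iff.2 (h.comm_z x hx))
  have e : y * x * y⁻¹ * x⁻¹ = z := by
    rw [hyx]
    have h4 := h.comm_z y hy
    have h5 := h.comm_z x hx
    calc x * y * z * y⁻¹ * x⁻¹ = x * (y * z) * y⁻¹ * x⁻¹ := by group
      _ = x * (z * y) * y⁻¹ * x⁻¹ := by rw [h4]
      _ = x * z * x⁻¹ := by group
      _ = z := by rw [h5]; group
  rwa [e] at h3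

/-- (b) an involution of `Q` not conjugate to `z` lies in every subgroup of index two of `C_G(z)` -/
theorem mem_of_not_conj [Finite G] (hG : ∀ H : Subgroup G, H.index ≠ 2) (h : Large Q z) {x : G}
    (hx : x ∈ Q) (hxx : x * x = 1) (hx1 : x ≠ 1) (hxz : x ≠ z) (hnc : ∀ g : G, g * z * g⁻¹ ≠ x)
    {C₀ : Subgroup G} (hle : C₀ ≤ Subgroup.centralizer ({z} : Set G))
    (h2 : C₀.relIndex (Subgroup.centralizer ({z} : Set G)) = 2) : x ∈ C₀ := by
  by_contra hxC
  obtain ⟨g, hg1, hg2, -, -⟩ := exists_conj hG (odd_index h) hle h2 x hxx (h.comm_z x hx) hxC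
    (Q ⊓ Subgroup.centralizer ({x} : Set G))
    ((isPGroup h).to_le inf_le_left)
    (fun p hp => Subgroup.mem_centralizer_singleton_iff.1 (Subgroup.mem_inf.1 hp).2)
    (fun p hp => h.comm_z p (Subgroup.mem_inf.1 hp).1)
  set y := g * z * g⁻¹ with hy
  have hyP : ∀ r ∈ Q, r * x = x * r → r * y = y * r := fun r hr hrx =>
    hg2 r (Subgroup.mem_inf.2 ⟨hr, Subgroup.mem_centralizer_singleton_iff.2 hrx⟩)
  have hyz : y * z = z * y := (hyP z h.z_mem (h.comm_z x hx).symm).symm
  have hyC : y ∈ Subgroup.centralizer ({z} : Set G) := Subgroup.mem_centralizer_singleton_iff.2 hyz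
  -- `y` acts trivially on `V`
  have hact : h.act ⟨y, hyC⟩ = 1 := by
    apply eq_one_of_fix_perp h (a := h.pr ⟨x, hx⟩) (h.q_eq_zero.2 hxx)
    · exact h.q_act _
    · intro v hv
      obtain ⟨r, rfl⟩ := h.pr_surjective v
      have h3 : (r : G) * x = x * r := ((h.b_pr _ _).1 hv).symm
      apply Cfsg.Agent.LargeExtra.Base.Pair.act_pr_coe
      show y * (r : G) * y⁻¹ = r
      rw [← hyP r r.2 h3]; group
  have hyQ : y ∈ Q := h.mem_of_act ⟨y, hyC⟩ hact
  have hyy1 : y ≠ 1 := by
    intro h3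
    apply h.z_ne
    have : z = g⁻¹ * y * g := by rw [hy]; group
    rw [this, h3]; group
  rcases eq_of_cent h hx hyQ hyP with h3 | h3 | h3 | h3
  · exact hyy1 h3
  · exact hg1 h3
  · exact hnc g h3
  · -- `x z ~ x` under `Q`
    obtain ⟨w, hw, hwx⟩ := exists_not_comm h hx hx1 hxz
    apply hnc (w * g)
    have e1 : w * (x * z) * w⁻¹ = x := by
      have h4 := h.comm_z w hw
      calc w * (x * z) * w⁻¹ = (w * x) * z * w⁻¹ := by group
        _ = x * w * (z * z) * w⁻¹ := by rw [hwx]; group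
        _ = x := by rw [h.z_sq]; group
    calc w * g * z * (w * g)⁻¹ = w * y * w⁻¹ := by rw [hy]; group
      _ = x := by rw [h3, e1]

/-- (c) a conjugate of `z` in `Q` lies in every subgroup of index two of `C_G(z)` (`|Q| ≥ 32`) -/
theorem mem_of_pair [Finite G] {A : Subgroup G} {a : G} (p : Pair Q z A a) (h32 : 8 < Nat.card Q)
    {C₀ : Subgroup G} (h2 : C₀.relIndex (Subgroup.centralizer ({z} : Set G)) = 2) : a ∈ C₀ := by
  have h := p.lz
  have hz0 : z ∈ C₀ := z_mem_of_relIndex h ⟨a, p.a_mem, p.la.z_ne, p.ne⟩ h2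
  have hC : ∀ {x : G}, x * z = z * x → x ∈ Subgroup.centralizer ({z} : Set G) :=
    fun hx => Subgroup.mem_centralizer_singleton_iff.2 hx
  -- an element of `X = C_A(z)` outside `Q`
  obtain ⟨x, hxA, hxz, hxQ⟩ : ∃ x ∈ A, x * z = z * x ∧ x ∉ Q := by
    by_contra hcon
    push Not at hcon
    have hAQ : Nat.card A = Nat.card Q := p.card_eq
    have hcard := Local.card_centralizer p.la p.z_mem h.z_ne p.ne.symm
    -- all elements of `C_A(z)` lie in `{1, a, z, z a}`
    have hall : ∀ y ∈ A, y * z = z * y → y = 1 ∨ y = a ∨ y = z ∨ y = z * a := by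
      intro y hy hyz
      refine eq_of_cent p.la p.z_mem hy ?_
      intro r hr hrz
      exact p.comm_D (hcon r hr hrz) hr (hcon y hy hyz) hy
    have hle : Nat.card ↥(Subgroup.centralizer ({z} : Set G) ⊓ A) ≤ 4 := by
      have hinj : Function.Injective (fun y : ↥(Subgroup.centralizer ({z} : Set G) ⊓ A) =>
          (⟨y, by
            have h3 := Subgroup.mem_inf.1 y.2
            have h4 := hall y h3.2 (Subgroup.mem_centralizer_singleton_iff.1 h3.1)
            simpa using h4⟩ : ({1, a, z, z * a} : Set G))) := by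
        intro y y' hyy'
        exact Subtype.ext (congrArg (fun t : ({1, a, z, z * a} : Set G) => (t : G)) hyy')
      have h4 := Nat.card_le_card_of_injective _ hinj
      refine h4.trans ?_
      rw [Nat.card_coe_set_eq]
      refine (Set.ncard_insert_le _ _).trans ?_
      have h5 := Set.ncard_insert_le a ({z, z * a} : Set G)
      have h6 := Set.ncard_insert_le z ({z * a} : Set G)
      rw [Set.ncard_singleton] at h6
      omega
    rw [hAQ] at hcard
    omega
  have hxC := hC hxz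
  -- `x` moves a vector of `ã^⊥`
  have hact : h.act ⟨x, hxC⟩ ≠ 1 := fun h3 => hxQ (h.mem_of_act ⟨x, hxC⟩ h3)
  obtain ⟨r, hra, hrx⟩ : ∃ r : Q, (r : G) * a = a * r ∧ h.act ⟨x, hxC⟩ (h.pr r) ≠ h.pr r := by
    by_contra hcon
    push Not at hcon
    apply hact
    apply eq_one_of_fix_perp h (a := h.pr ⟨a, p.a_mem⟩) (h.q_eq_zero.2 p.la.z_sq)
    · exact h.q_act _
    · intro v hv
      obtain ⟨r, rfl⟩ := h.pr_surjective v
      exact hcon r ((h.b_pr _ _).1 hv).symm
  -- the commutator `d = [r, x] ∈ D`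
  set d := (r : G) * x * (r : G)⁻¹ * x⁻¹ with hd
  have hdm := Subgroup.mem_inf.1 (p.comm_mem r.2 hra hxA hxz)
  rw [← hd] at hdm
  have hd0 : d ∈ C₀ := comm_mem_of_relIndex h2 (hC (h.comm_z r r.2)) hxC
  have hd1 : h.pr ⟨d, hdm.1⟩ ≠ 0 := by
    intro h3
    apply hrx
    apply (h.act_pr _ r).trans
    rw [h.pr_eq_pr, h.conjQ_coe]
    show x * (r : G) * x⁻¹ = r ∨ x * (r : G) * x⁻¹ = r * z
    have e : x * (r : G) * x⁻¹ = d⁻¹ * r := by rw [hd]; group
    rw [e]
    rcases h.pr_eq_zero.1 h3 with h4 | h4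
    · have h4' : d = 1 := h4
      left; rw [h4']; group
    · have h4' : d = z := h4
      right; rw [h4', h.z_inv, (h.commz r.2).eq]
  by_cases hda : h.pr ⟨d, hdm.1⟩ = h.pr ⟨a, p.a_mem⟩
  · rcases h.pr_eq_pr.1 hda with h3 | h3
    · have h3' : d = a := h3
      rwa [h3'] at hd0
    · have h3' : d = a * z := h3
      have := C₀.mul_mem hd0 hz0
      rwa [h3', mul_assoc, h.z_sq, mul_one] at this
  · -- a transvection moving `d`
    obtain ⟨w, hw1, hw2⟩ : ∃ w, h.b (h.pr ⟨a, p.a_mem⟩) w = 0 ∧ h.b (h.pr ⟨d, hdm.1⟩) w ≠ 0 := by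
      by_contra hcon
      push Not at hcon
      rcases eq_of_perp h hcon with h3 | h3
      · exact hd1 h3
      · exact hda h3
    obtain ⟨x', hx'A, hx'z, hx'⟩ := p.exists_transvection (h.b w) (by
      rw [h.b_comm]; exact hw1)
    have h3 := (hx' d hdm.1 hdm.2).2 (by
      rw [h.b_comm]; exact zmod_two_ne hw2)
    have h4 := comm_mem_of_relIndex h2 (hC (h.comm_z d hdm.1)) (hC hx'z)
    have h5 : (d * x' * d⁻¹ * x'⁻¹)⁻¹ = a := by
      have e : (d * x' * d⁻¹ * x'⁻¹)⁻¹ = (x' * d * x'⁻¹) * d⁻¹ := by group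
      rw [e, h3, p.la.comm_z d hdm.2]; group
    rw [← h5]
    exact C₀.inv_mem h4

/-- all involutions of `Q` lie in every subgroup of index two of `C_G(z)` -/
theorem invol_mem [Finite G] (hG : ∀ H : Subgroup G, H.index ≠ 2) (h : Large Q z)
    (h32 : 8 < Nat.card Q) {x : G} (hx : x ∈ Q) (hxx : x * x = 1)
    {C₀ : Subgroup G} (hle : C₀ ≤ Subgroup.centralizer ({z} : Set G))
    (h2 : C₀.relIndex (Subgroup.centralizer ({z} : Set G)) = 2) : x ∈ C₀ := by
  by_cases hx1 : x = 1
  · rw [hx1]; exact C₀.one_mem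
  by_cases hxz : x = z
  · rw [hxz]
    refine z_mem_of_relIndex h ?_ h2
    by_contra hcon
    push Not at hcon
    have hle4 : Nat.card Q ≤ 2 := by
      have hinj : Function.Injective (fun y : Q => (⟨y, by
          by_cases h3 : (y : G) = 1
          · simp [h3]
          · simp [hcon y y.2 h3]⟩ : ({1, z} : Set G))) := by
        intro y y' hyy'
        exact Subtype.ext (congrArg (fun t : ({1, z} : Set G) => (t : G)) hyy')
      have h4 := Nat.card_le_card_of_injective _ hinj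
      refine h4.trans ?_
      rw [Nat.card_coe_set_eq]
      refine (Set.ncard_insert_le _ _).trans ?_
      rw [Set.ncard_singleton]
    omega
  by_cases hc : ∃ g : G, g * z * g⁻¹ = x
  · obtain ⟨g, rfl⟩ := hc
    exact mem_of_pair (pair_of_conj h hx hxz) h32 h2
  · push Not at hc
    exact mem_of_not_conj hG h hx hxx hx1 hxz hc hle h2

/-- **Lemma T1**: `Q` lies in every subgroup of index two of `C_G(z)`. -/
theorem le_of_relIndex [Finite G] (hG : ∀ H : Subgroup G, H.index ≠ 2) (h : Large Q z)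
    (h32 : 8 < Nat.card Q) {C₀ : Subgroup G} (hle : C₀ ≤ Subgroup.centralizer ({z} : Set G))
    (h2 : C₀.relIndex (Subgroup.centralizer ({z} : Set G)) = 2) : Q ≤ C₀ := by
  classical
  intro x0 hx0
  by_contra hx0C
  have hinv : ∀ x ∈ Q, x ∉ C₀ → x * x = z := by
    intro x hx hxC
    rcases h.sq x hx with h3 | h3
    · exact absurd (invol_mem hG h h32 hx h3 hle h2) hxC
    · exact h3
  have hmulC : ∀ x ∈ Q, x ∈ C₀ → x0 * x ∉ C₀ := by
    intro x _ hxC h3
    apply hx0C
    have := C₀.mul_mem h3 (C₀.inv_mem hxC)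
    rwa [mul_inv_cancel_right] at this
  have hQC : ∀ x ∈ Q, x ∈ Subgroup.centralizer ({z} : Set G) := fun x hx =>
    Subgroup.mem_centralizer_singleton_iff.2 (h.comm_z x hx)
  -- `q y = b x₀ y` on `N = C₀ ∩ Q`
  have hq : ∀ y : Q, (y : G) ∈ C₀ → h.q (h.pr y) = h.b (h.pr ⟨x0, hx0⟩) (h.pr y) := by
    intro y hy
    have h3 : h.q (h.pr (⟨x0, hx0⟩ * y)) = 1 :=
      h.q_eq_one.2 (hinv _ (Q.mul_mem hx0 y.2) (hmulC y y.2 hy))
    have h4 : h.q (h.pr ⟨x0, hx0⟩) = 1 := h.q_eq_one.2 (hinv _ hx0 hx0C)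
    rw [h.pr_mul, h.q_add', h4] at h3
    have : ∀ a b : ZMod 2, 1 + a + b = 1 → a = b := by decide
    exact this _ _ h3
  -- `N` is abelian
  have hab : ∀ y y' : Q, (y : G) ∈ C₀ → (y' : G) ∈ C₀ → (y : G) * y' = y' * y := by
    intro y y' hy hy'
    rw [← h.b_pr]
    have h3 := h.q_add' (h.pr y) (h.pr y')
    have h4 := hq (y * y') (C₀.mul_mem hy hy')
    rw [h.pr_mul] at h4
    rw [h4, hq y hy, hq y' hy', map_add] at h3
    have : ∀ a b c : ZMod 2, a + b = a + b + c → c = 0 := by decide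
    exact this _ _ _ h3
  -- elements of `Q` outside `C₀` differ by elements of `C₀`
  have hout : ∀ x ∈ Q, ∀ y ∈ Q, x ∉ C₀ → y ∉ C₀ → x⁻¹ * y ∈ C₀ := by
    intro x hx y hy hxC hyC
    have h3 : (C₀.subgroupOf (Subgroup.centralizer ({z} : Set G))).index = 2 := h2
    have := (Subgroup.mul_mem_iff_of_index_two h3
      (a := (⟨x, hQC x hx⟩ : Subgroup.centralizer ({z} : Set G))⁻¹) (b := ⟨y, hQC y hy⟩)).2
      (by
        rw [inv_mem_iff]
        constructor
        · intro h4; exact absurd h4 hxC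
        · intro h4; exact absurd h4 hyC)
    exact this
  -- an element of `N` outside `⟨z⟩`
  have hcardN : Nat.card Q ≤ 2 * Nat.card ↥(C₀ ⊓ Q) := by
    have hinj : Function.Injective (fun y : Q => (⟨if (y : G) ∈ C₀ then (0 : Fin 2) else 1,
        (if hy : (y : G) ∈ C₀ then ⟨y, Subgroup.mem_inf.2 ⟨hy, y.2⟩⟩ else
          ⟨x0⁻¹ * y, Subgroup.mem_inf.2 ⟨hout x0 hx0 y y.2 hx0C hy, Q.mul_mem (Q.inv_mem hx0) y.2⟩⟩)⟩ :
          Fin 2 × ↥(C₀ ⊓ Q))) := by
      intro y y' hyy'
      have h3 := congrArg Prod.fst hyy'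
      have h4 := congrArg (fun t : Fin 2 × ↥(C₀ ⊓ Q) => (t.2 : G)) hyy'
      dsimp only at h3 h4
      apply Subtype.ext
      by_cases hy : (y : G) ∈ C₀
      · by_cases hy' : (y' : G) ∈ C₀
        · rw [dif_pos hy, dif_pos hy'] at h4
          exact h4
        · rw [if_pos hy, if_neg hy'] at h3
          exact absurd h3 (by decide)
      · by_cases hy' : (y' : G) ∈ C₀
        · rw [if_neg hy, if_pos hy'] at h3
          exact absurd h3 (by decide)
        · rw [dif_neg hy, dif_neg hy'] at h4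
          exact mul_left_cancel h4
    have h5 := Nat.card_le_card_of_injective _ hinj
    rwa [Nat.card_prod, Nat.card_fin] at h5
  have hNle : Nat.card ↥(C₀ ⊓ Q) ≤ 4 := by
    by_cases hex : ∃ y ∈ Q, y ∈ C₀ ∧ y ≠ 1 ∧ y ≠ z
    · obtain ⟨y, hy, hyC, hy1, hyz⟩ := hex
      -- `C_Q(y) = N`
      have hcy : ∀ r ∈ Q, r * y = y * r → r ∈ C₀ := by
        intro r hr hry
        by_contra hrC
        rcases h.cent y hy (fun x hx => by
          by_cases hxC : x ∈ C₀
          · exact hab ⟨y, hy⟩ ⟨x, hx⟩ hyC hxC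
          · have h3 := hout r hr x hx hrC hxC
            have h4 := hab ⟨y, hy⟩ ⟨r⁻¹ * x, Q.mul_mem (Q.inv_mem hr) hx⟩ hyC h3
            have h4' : y * (r⁻¹ * x) = (r⁻¹ * x) * y := h4
            calc y * x = y * (r * (r⁻¹ * x)) := by group
              _ = (y * r) * (r⁻¹ * x) := by group
              _ = (r * y) * (r⁻¹ * x) := by rw [hry]
              _ = r * (y * (r⁻¹ * x)) := by group
              _ = r * ((r⁻¹ * x) * y) := by rw [h4']
              _ = x * y := by group) with h3 | h3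
        · exact hy1 h3
        · exact hyz h3
      have hall : ∀ y' ∈ C₀ ⊓ Q, y' = 1 ∨ y' = z ∨ y' = y ∨ y' = y * z := by
        intro y' hy'
        obtain ⟨h3, h4⟩ := Subgroup.mem_inf.1 hy'
        refine eq_of_cent h hy h4 ?_
        intro r hr hry
        exact hab ⟨r, hr⟩ ⟨y', h4⟩ (hcy r hr hry) h3
      have hinj : Function.Injective (fun t : ↥(C₀ ⊓ Q) =>
          (⟨t, by
            have h4 := hall t t.2
            simpa using h4⟩ : ({1, z, y, y * z} : Set G))) := by
        intro t t' htt'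
        exact Subtype.ext (congrArg (fun t : ({1, z, y, y * z} : Set G) => (t : G)) htt')
      have h4 := Nat.card_le_card_of_injective _ hinj
      refine h4.trans ?_
      rw [Nat.card_coe_set_eq]
      refine (Set.ncard_insert_le _ _).trans ?_
      have h5 := Set.ncard_insert_le z ({y, y * z} : Set G)
      have h6 := Set.ncard_insert_le y ({y * z} : Set G)
      rw [Set.ncard_singleton] at h6
      omega
    · push Not at hex
      have hinj : Function.Injective (fun t : ↥(C₀ ⊓ Q) =>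
          (⟨t, by
            obtain ⟨h3, h4⟩ := Subgroup.mem_inf.1 t.2
            by_cases h5 : (t : G) = 1
            · simp [h5]
            · simp [hex t h4 h3 h5]⟩ : ({1, z} : Set G))) := by
        intro t t' htt'
        exact Subtype.ext (congrArg (fun t : ({1, z} : Set G) => (t : G)) htt')
      have h4 := Nat.card_le_card_of_injective _ hinj
      refine h4.trans ?_
      rw [Nat.card_coe_set_eq]
      refine (Set.ncard_insert_le _ _).trans ?_
      rw [Set.ncard_singleton]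
      norm_num
  omega

/-- `C_G(z)` fixes no nonzero vector of `V`. -/
theorem eq_zero_of_fixed [Finite G] (hG : ∀ H : Subgroup G, H.index ≠ 2) (h : Large Q z)
    (h32 : 8 < Nat.card Q) {v : h.V} (hv : ∀ c, h.act c v = v) : v = 0 := by
  obtain ⟨x, rfl⟩ := h.pr_surjective v
  by_contra hne
  have hx1 : (x : G) ≠ 1 := fun h3 => hne (h.pr_eq_zero.2 (Or.inl h3))
  have hxz : (x : G) ≠ z := fun h3 => hne (h.pr_eq_zero.2 (Or.inr h3))
  obtain ⟨y, hy, hyx⟩ := exists_not_comm h x.2 hx1 hxz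
  have hyC : y ∈ Subgroup.centralizer ({z} : Set G) :=
    Subgroup.mem_centralizer_singleton_iff.2 (h.comm_z y hy)
  have hne' : ∀ g : G, g ≠ g * z := fun g hg => h.z_ne (mul_eq_left.1 hg.symm)
  have hmove : ∀ c : Subgroup.centralizer ({z} : Set G),
      (c : G) * x = x * c ∨ (c : G) * x = x * c * z := by
    intro c
    have h3 := hv c
    rw [h.act_pr, h.pr_eq_pr, h.conjQ_coe] at h3
    have hcz : (c : G) * z = z * c := Subgroup.mem_centralizer_singleton_iff.1 c.2
    rcases h3 with h4 | h4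
    · left; rw [mul_inv_eq_iff_eq_mul] at h4; exact h4
    · right; rw [mul_inv_eq_iff_eq_mul] at h4; rw [h4, mul_assoc, ← hcz, mul_assoc]
  have h2 : (Subgroup.centralizer ({z} : Set G) ⊓ Subgroup.centralizer ({(x : G)} : Set G)).relIndex
      (Subgroup.centralizer ({z} : Set G)) = 2 := by
    rw [Subgroup.relIndex, Subgroup.index_eq_two_iff]
    refine ⟨⟨y, hyC⟩, fun c => ?_⟩
    rw [Subgroup.mem_subgroupOf, Subgroup.mem_subgroupOf, Subgroup.mem_inf, Subgroup.mem_inf,
      Subgroup.mem_centralizer_singleton_iff (g := (x : G)),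
      Subgroup.mem_centralizer_singleton_iff (g := (x : G))]
    have hcyC : (c : G) * y ∈ Subgroup.centralizer ({z} : Set G) := mul_mem c.2 hyC
    have e : (c : G) * y * x = c * x * y * z := by rw [mul_assoc, hyx]; group
    rcases hmove c with h3 | h3
    · right
      refine ⟨⟨c.2, h3⟩, ?_⟩
      rintro ⟨-, h4⟩
      have h4' : (c : G) * y * x = x * (c * y) := h4
      rw [e, h3] at h4'
      apply hne' ((x : G) * c * y)
      rw [h4', mul_assoc]
    · left
      refine ⟨⟨hcyC, ?_⟩, ?_⟩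
      · show (c : G) * y * x = x * (c * y)
        rw [e, h3]
        calc (x : G) * c * z * y * z = x * c * (z * y) * z := by group
          _ = x * c * (y * z) * z := by rw [h.comm_z y hy]
          _ = x * (c * y) * (z * z) := by group
          _ = x * (c * y) := by rw [h.z_sq, mul_one]
      · rintro ⟨-, h4⟩
        exact hne' ((x : G) * c) (by rw [← h3, h4])
  have h3 := le_of_relIndex hG h h32 inf_le_left h2 hy
  have h4 := Subgroup.mem_centralizer_singleton_iff.1 (Subgroup.mem_inf.1 h3).2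
  rw [hyx] at h4
  exact hne' _ h4.symm

end Cfsg.Agent.LargeExtra.TOne
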