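import Cfsg.Agent.LargeExtra.WCIrr

/-!
# Large extraspecial 2-subgroups, case I, any width `≥ 3`: the line theorem (helper821)

`G` a finite group, `Large Q z`, `|Q| ≥ 2 ^ 7`, `z^G ∩ Q = {z}`, `z` not isolated in `C_G(z)`, no element of
`C_G(z)` induces a reflection on `V = Q / ⟨z⟩` (this holds if `G` has no subgroup of index two, Lemma R). Then
there is `t ∈ z^G ∩ C_G(z)` such that `D = Q ∩ Q_t` is a four-group and `[V, t] = D̃`, `[V_t, z] = D̃_t`
(`Line`).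
-/

set_option autoImplicit false

namespace Cfsg.Agent.LargeExtra.WCIrr

open Cfsg.Agent.Co2Type.Quad Cfsg.Agent.LargeExtra.WC Cfsg.Agent.LargeExtra.Base

variable {G : Type*} [Group G]

/-- no element of `C_G(z)` induces a reflection on `Q / ⟨z⟩` (in terms of group elements) -/
def NoRefl (Q : Subgroup G) (z : G) : Prop :=
  ∀ u ∈ Q, u * u = z → ∀ c, c * z = z * c →
    ¬ ∀ x ∈ Q, (x * u = u * x → c * x * c⁻¹ = x ∨ c * x * c⁻¹ = x * z) ∧
      (x * u ≠ u * x → c * x * c⁻¹ = x * u ∨ c * x * c⁻¹ = x * u * z)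

theorem noRefl_of_index [Finite G] {Q : Subgroup G} {z : G} (h : Large Q z) (hQ : 8 < Nat.card Q)
    (hG : ∀ H : Subgroup G, H.index ≠ 2) : NoRefl Q z := by
  intro u hu hu2 c hc hcon
  refine LemmaR.no_reflection hG h hQ (a := h.pr ⟨u, hu⟩) (h.q_eq_one.2 hu2)
    (c := ⟨c, Subgroup.mem_centralizer_singleton_iff.2 hc⟩) ?_
  intro v
  obtain ⟨x, hx, rfl⟩ := pr_surj _ v
  obtain ⟨h1, h2⟩ := hcon x hx
  rw [h.act_pr]
  by_cases h3 : x * u = u * x
  · have h4 : h.b (h.pr ⟨u, hu⟩) (h.pr ⟨x, hx⟩) = 0 := (h.b_pr _ _).2 h3.symm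
    rw [h4, zero_smul, add_zero, h.pr_eq_pr, h.conjQ_coe]
    exact h1 h3
  · have h4 : h.b (h.pr ⟨u, hu⟩) (h.pr ⟨x, hx⟩) = 1 := by
      rcases zm_cases (h.b (h.pr ⟨u, hu⟩) (h.pr ⟨x, hx⟩)) with h5 | h5
      · exact absurd ((h.b_pr _ _).1 h5).symm h3
      · exact h5
    rw [h4, one_smul, ← h.pr_mul, h.pr_eq_pr, h.conjQ_coe]
    exact h2 h3

theorem NoRefl.conj {Q : Subgroup G} {z : G} (h : NoRefl Q z) (g : G) :
    NoRefl (Q.map (MulAut.conj g).toMonoidHom) (g * z * g⁻¹) := by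
  rintro _ ⟨u, hu, rfl⟩ hu2 c hc hcon
  have hu2' : g * u * g⁻¹ * (g * u * g⁻¹) = g * z * g⁻¹ := hu2
  have e : u * u = z := by
    calc u * u = g⁻¹ * (g * u * g⁻¹ * (g * u * g⁻¹)) * g := by group
      _ = z := by rw [hu2']; group
  have hc' : (g⁻¹ * c * g) * z = z * (g⁻¹ * c * g) := by
    calc (g⁻¹ * c * g) * z = g⁻¹ * (c * (g * z * g⁻¹)) * g := by group
      _ = g⁻¹ * ((g * z * g⁻¹) * c) * g := by rw [hc]
      _ = _ := by group
  refine h u hu e (g⁻¹ * c * g) hc' fun x hx => ?_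
  obtain ⟨h1, h2⟩ := hcon (g * x * g⁻¹) ⟨x, hx, rfl⟩
  have key : ∀ y : G, c * (g * x * g⁻¹) * c⁻¹ = g * y * g⁻¹ → (g⁻¹ * c * g) * x * (g⁻¹ * c * g)⁻¹ = y := by
    intro y hy
    calc (g⁻¹ * c * g) * x * (g⁻¹ * c * g)⁻¹ = g⁻¹ * (c * (g * x * g⁻¹) * c⁻¹) * g := by group
      _ = y := by rw [hy]; group
  constructor
  · intro h3
    have h4 : g * x * g⁻¹ * (g * u * g⁻¹) = g * u * g⁻¹ * (g * x * g⁻¹) := by
      calc g * x * g⁻¹ * (g * u * g⁻¹) = g * (x * u) * g⁻¹ := by group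
        _ = _ := by rw [h3]; group
    rcases h1 h4 with h5 | h5
    · exact Or.inl (key x h5)
    · refine Or.inr (key (x * z) (h5.trans ?_))
      group
  · intro h3
    have h4 : g * x * g⁻¹ * (g * u * g⁻¹) ≠ g * u * g⁻¹ * (g * x * g⁻¹) := by
      intro h5
      apply h3
      calc x * u = g⁻¹ * (g * x * g⁻¹ * (g * u * g⁻¹)) * g := by group
        _ = g⁻¹ * (g * u * g⁻¹ * (g * x * g⁻¹)) * g := by rw [h5]
        _ = u * x := by group
    rcases h2 h4 with h5 | h5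
    · refine Or.inl (key (x * u) (h5.trans ?_))
      show g * x * g⁻¹ * (g * u * g⁻¹) = _
      group
    · refine Or.inr (key (x * u * z) (h5.trans ?_))
      show g * x * g⁻¹ * (g * u * g⁻¹) * (g * z * g⁻¹) = _
      group

variable {P : Set G} {Q : G → Subgroup G} {p t : G}

/-- Good pairs exist, `NoRefl` version. -/
theorem exists_good' [Finite G] (B : Base P Q) (c : Com P p t) (hR : NoRefl (Q t) t) :
    ∃ s, Good P p s := by
  set h := B.large t c.ht with hh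
  obtain ⟨v, hv0, hvq⟩ : ∃ v, Com.T B c.symm v + v ≠ 0 ∧ h.q (Com.T B c.symm v + v) = 0 := by
    by_contra hcon
    push Not at hcon
    obtain ⟨v1, hv1⟩ := Com.T_ne B c.symm
    set w := Com.T B c.symm v1 + v1 with hw
    have hw0 : w ≠ 0 := fun h => hv1 (eq_of_add h)
    have hqw : h.q w = 1 := by
      rcases zm_cases (h.q w) with h1 | h1
      · exact absurd h1 (hcon v1 hw0)
      · exact h1
    have hT := Com.T_inv B c.symm
    have hW : ∀ v, Com.T B c.symm v + v = 0 ∨ Com.T B c.symm v + v = w := by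
      intro v
      by_contra hne
      push Not at hne
      have h1 : h.q (Com.T B c.symm v + v) = 1 := by
        rcases zm_cases (h.q (Com.T B c.symm v + v)) with h1 | h1
        · exact absurd h1 (hcon v hne.1)
        · exact h1
      have h2 : Com.T B c.symm (v + v1) + (v + v1) = (Com.T B c.symm v + v) + w := by
        rw [map_add, hw]; abel
      have h3 : h.b (Com.T B c.symm v + v) w = 0 := hT.isotropic (QS.f_mem_W _ _) (QS.f_mem_W _ _)
      apply hcon (v + v1)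
      · rw [h2]
        exact fun h4 => hne.2 (eq_of_add h4)
      · rw [h2, h.q_add', h1, hqw, h3]; decide
    have hfix : ∀ v, h.b w v = 0 → Com.T B c.symm v = v := by
      intro v hv
      rw [hT.fix_iff, QS.mem_perp]
      rintro _ ⟨u, rfl⟩
      show h.b (Com.T B c.symm u + u) v = 0
      rcases hW u with h1 | h1
      · rw [h1, map_zero]; rfl
      · rw [h1]; exact hv
    rcases TwoCentral.eq_or_refl_of_fix_perp h (Com.T B c.symm) (fun v w => hT.iso.b_eq v w) hfix with h1 | h1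
    · apply hv1
      rw [h1]; rfl
    · obtain ⟨u, hu, huw⟩ := pr_surj h w
      rw [← huw] at h1 hqw
      refine hR u hu (h.q_eq_one.1 hqw) p c.com fun x hx => ?_
      have h2 := h1 (h.pr ⟨x, hx⟩)
      rw [Com.T, ac_pr] at h2
      constructor
      · intro h3
        rw [(h.b_pr ⟨u, hu⟩ ⟨x, hx⟩).2 h3.symm, zero_smul, add_zero, h.pr_eq_pr] at h2
        exact h2
      · intro h3
        have h4 : h.b (h.pr ⟨u, hu⟩) (h.pr ⟨x, hx⟩) = 1 := by
          rcases zm_cases (h.b (h.pr ⟨u, hu⟩) (h.pr ⟨x, hx⟩)) with h5 | h5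
          · exact absurd ((h.b_pr _ _).1 h5).symm h3
          · exact h5
        rw [h4, one_smul, ← h.pr_mul, h.pr_eq_pr] at h2
        exact h2
  obtain ⟨y, hy, rfl⟩ := pr_surj _ v
  rw [Com.T, ac_add] at hv0 hvq
  have ha2' : (p * y * p⁻¹ * y⁻¹) * (p * y * p⁻¹ * y⁻¹) = 1 := h.q_eq_zero.1 hvq
  have ha : p * y * p⁻¹ * y⁻¹ ∈ Q t := Com.u_mem B c.symm hy
  set a := p * y * p⁻¹ * y⁻¹ with haa
  have hs := Com.conj_eq B c.symm y
  rw [← haa] at hs
  have hsP : y * p * y⁻¹ ∈ P := B.conj_mem p c.hp y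
  have h1 : p * (y * p * y⁻¹) = a := by rw [hs, ← mul_assoc, B.sq c.hp, one_mul]
  refine ⟨y * p * y⁻¹, ⟨c.hp, hsP, ?_, ?_⟩, ?_⟩
  · intro h1
    rw [hs] at h1
    apply hv0
    exact h.pr_eq_zero.2 (Or.inl (mul_eq_left.1 h1.symm))
  · have h2 : (p * (y * p * y⁻¹))⁻¹ = p * (y * p * y⁻¹) := by
      rw [h1]; exact inv_eq_of_mul_eq_one_left ha2'
    rw [mul_inv_rev, B.inv c.hp, B.inv hsP] at h2
    exact h2.symm
  · rw [h1]
    intro h2
    have h3 := B.eq_of_mem t c.ht _ h2 ha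
    apply hv0
    exact h.pr_eq_zero.2 (Or.inr h3)

/-- `Line Q p t`: the pair `(p, t)` in group-theoretic terms; `D = Q p ∩ Q t` is a four-group containing
`[Q p, t]` modulo `⟨p⟩` and `[Q t, p]` modulo `⟨t⟩`. -/
structure Line (P : Set G) (Q : G → Subgroup G) (p t : G) : Prop where
  good : Good P p t
  comm : ∀ x ∈ Q p, t * x * t⁻¹ * x⁻¹ ∈ Q t ∨ t * x * t⁻¹ * x⁻¹ * p ∈ Q t
  comm' : ∀ x ∈ Q t, p * x * p⁻¹ * x⁻¹ ∈ Q p ∨ p * x * p⁻¹ * x⁻¹ * t ∈ Q p
  ex : ∃ d ∈ Q p, d ∈ Q t ∧ d ≠ 1 ∧ ∃ e ∈ Q p, e ∈ Q t ∧ e ≠ 1 ∧ d ≠ e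

theorem Line.symm (l : Line P Q p t) : Line P Q t p := by
  refine ⟨l.good.symm, l.comm', l.comm, ?_⟩
  obtain ⟨d, h6, h7, h8, e, h9, h10, h11, h12⟩ := l.ex
  exact ⟨d, h7, h6, h8, e, h10, h9, h11, h12⟩

theorem W_le_iff (B : Base P Q) (c : Com P p t) : QS.W (Com.T B c) ≤ Com.U B c ↔
    ∀ x ∈ Q p, t * x * t⁻¹ * x⁻¹ ∈ Q t ∨ t * x * t⁻¹ * x⁻¹ * p ∈ Q t := by
  have key : ∀ x (hx : x ∈ Q p), Com.T B c ((B.large p c.hp).pr ⟨x, hx⟩) + (B.large p c.hp).pr ⟨x, hx⟩ =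
      (B.large p c.hp).pr ⟨t * x * t⁻¹ * x⁻¹, Com.u_mem B c hx⟩ := fun x hx => ac_add _ _ _ _ _
  constructor
  · intro h x hx
    have h1 := h (QS.f_mem_W (Com.T B c) ((B.large p c.hp).pr ⟨x, hx⟩))
    rw [key x hx] at h1
    obtain ⟨d, h2, h3, h4⟩ := (Com.mem_U B c).1 h1
    rcases (B.large p c.hp).pr_eq_pr.1 h4 with h5 | h5
    · left
      have h6 : d = t * x * t⁻¹ * x⁻¹ := h5
      rw [← h6]; exact h3
    · right
      have h6 : d = t * x * t⁻¹ * x⁻¹ * p := h5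
      rw [← h6]; exact h3
  · rintro h _ ⟨v, rfl⟩
    obtain ⟨x, hx, rfl⟩ := pr_surj _ v
    have h0 : Com.T B c ((B.large p c.hp).pr ⟨x, hx⟩) + (B.large p c.hp).pr ⟨x, hx⟩ ∈ Com.U B c := by
      rw [key x hx]
      rcases h x hx with h1 | h1
      · exact (Com.mem_U B c).2 ⟨_, Com.u_mem B c hx, h1, rfl⟩
      · refine (Com.mem_U B c).2 ⟨_, mul_mem (Com.u_mem B c hx) (B.large p c.hp).z_mem, h1, ?_⟩
        rw [(B.large p c.hp).pr_eq_pr]
        right; rfl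
    exact h0

theorem line_of_typeU (B : Base P Q) (c : Good P p t) (u : TypeU B c) : Line P Q p t :=
  ⟨c, (W_le_iff B c.toCom).1 u.W_le, (W_le_iff B c.symm.toCom).1 u.W_le', u.ex⟩

theorem Line.typeU (B : Base P Q) (l : Line P Q p t) : TypeU B l.good :=
  ⟨(W_le_iff B l.good.toCom).2 l.comm, (W_le_iff B l.good.symm.toCom).2 l.comm', l.ex⟩

theorem Line.conj (B : Base P Q) (l : Line P Q p t) (g : G) : Line P Q (g * p * g⁻¹) (g * t * g⁻¹) := by
  have key : ∀ {p t : G} (_ : Line P Q p t), ∀ x ∈ Q (g * p * g⁻¹),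
      (g * t * g⁻¹) * x * (g * t * g⁻¹)⁻¹ * x⁻¹ ∈ Q (g * t * g⁻¹) ∨
      (g * t * g⁻¹) * x * (g * t * g⁻¹)⁻¹ * x⁻¹ * (g * p * g⁻¹) ∈ Q (g * t * g⁻¹) := by
    intro p t l x hx
    have e0 : g * (g⁻¹ * x * g) * g⁻¹ = x := by group
    have hx' : g⁻¹ * x * g ∈ Q p := by
      rw [← B.conj_iff l.good.hp g, e0]; exact hx
    rcases l.comm _ hx' with h1 | h1
    · left
      rw [← B.conj_iff l.good.ht g] at h1
      have e : g * (t * (g⁻¹ * x * g) * t⁻¹ * (g⁻¹ * x * g)⁻¹) * g⁻¹ =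
          (g * t * g⁻¹) * x * (g * t * g⁻¹)⁻¹ * x⁻¹ := by group
      rwa [e] at h1
    · right
      rw [← B.conj_iff l.good.ht g] at h1
      have e : g * (t * (g⁻¹ * x * g) * t⁻¹ * (g⁻¹ * x * g)⁻¹ * p) * g⁻¹ =
          (g * t * g⁻¹) * x * (g * t * g⁻¹)⁻¹ * x⁻¹ * (g * p * g⁻¹) := by group
      rwa [e] at h1
  refine ⟨⟨⟨B.conj_mem p l.good.hp g, B.conj_mem t l.good.ht g, ?_, ?_⟩, ?_⟩, key l, key l.symm, ?_⟩
  · intro h
    exact l.good.ne (mul_left_cancel (mul_right_cancel h))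
  · calc g * p * g⁻¹ * (g * t * g⁻¹) = g * (p * t) * g⁻¹ := by group
      _ = _ := by rw [l.good.com]; group
  · intro h
    apply l.good.nmem
    have h1 := B.conj_mem _ h g⁻¹
    have e : g⁻¹ * (g * p * g⁻¹ * (g * t * g⁻¹)) * g⁻¹⁻¹ = p * t := by group
    rwa [e] at h1
  · obtain ⟨d, h6, h7, h8, e, h9, h10, h11, h12⟩ := l.ex
    have hne : ∀ d : G, d ≠ 1 → g * d * g⁻¹ ≠ 1 := by
      intro d hd h
      apply hd
      have : d = g⁻¹ * (g * d * g⁻¹) * g := by group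
      rw [this, h]; group
    exact ⟨g * d * g⁻¹, B.Q_conj _ l.good.hp g d h6, B.Q_conj _ l.good.ht g d h7, hne d h8,
      g * e * g⁻¹, B.Q_conj _ l.good.hp g e h9, B.Q_conj _ l.good.ht g e h10, hne e h11,
      fun h => h12 (mul_left_cancel (mul_right_cancel h))⟩

/-- `D = {1, d, e, d e}` -/
theorem Line.D_eq [Finite G] (B : Base P Q) (l : Line P Q p t) {d e f : G} (h1 : d ∈ Q p) (h2 : d ∈ Q t)
    (h3 : e ∈ Q p) (h4 : e ∈ Q t) (hd : d ≠ 1) (he : e ≠ 1) (hde : d ≠ e) (h5 : f ∈ Q p) (h6 : f ∈ Q t) :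
    f = 1 ∨ f = d ∨ f = e ∨ f = d * e := by
  by_cases hf : f = 1
  · exact Or.inl hf
  by_cases hfd : f = d
  · exact Or.inr (Or.inl hfd)
  by_cases hfe : f = e
  · exact Or.inr (Or.inr (Or.inl hfe))
  · exact Or.inr (Or.inr (Or.inr (l.good.D_three B h1 h2 h3 h4 h5 h6 hd he hf hde (Ne.symm hfd)
      (Ne.symm hfe))))

/-- `|D| = 4` -/
theorem Line.card_D [Finite G] (B : Base P Q) (l : Line P Q p t) : Nat.card ↥(Q p ⊓ Q t) = 4 := by
  classical
  obtain ⟨d, h1, h2, hd, e, h3, h4, he, hde⟩ := l.ex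
  have hdd := Com.D_sq B l.good.toCom h1 h2
  have hee := Com.D_sq B l.good.toCom h3 h4
  have h5 : ((Q p ⊓ Q t : Subgroup G) : Set G) = (({1, d, e, d * e} : Finset G) : Set G) := by
    ext f
    simp only [SetLike.mem_coe, Finset.coe_insert, Finset.coe_singleton, Set.mem_insert_iff,
      Set.mem_singleton_iff]
    constructor
    · intro hf
      obtain ⟨h5, h6⟩ := Subgroup.mem_inf.1 hf
      exact l.D_eq B h1 h2 h3 h4 hd he hde h5 h6
    · rintro (rfl | rfl | rfl | rfl)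
      · exact one_mem _
      · exact Subgroup.mem_inf.2 ⟨h1, h2⟩
      · exact Subgroup.mem_inf.2 ⟨h3, h4⟩
      · exact Subgroup.mem_inf.2 ⟨mul_mem h1 h3, mul_mem h2 h4⟩
  have h6 : Nat.card ↥(Q p ⊓ Q t) = Nat.card ((Q p ⊓ Q t : Subgroup G) : Set G) := rfl
  rw [h6, h5, Nat.card_coe_set_eq, Set.ncard_coe_finset, Finset.card_insert_of_notMem,
    Finset.card_insert_of_notMem, Finset.card_insert_of_notMem, Finset.card_singleton]
  · simp only [Finset.mem_singleton]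
    exact fun h => hd (right_eq_mul.1 h)
  · simp only [Finset.mem_insert, Finset.mem_singleton, not_or]
    exact ⟨hde, fun h => he (left_eq_mul.1 h)⟩
  · simp only [Finset.mem_insert, Finset.mem_singleton, not_or]
    refine ⟨Ne.symm hd, Ne.symm he, fun h => hde ?_⟩
    have : d * e = e * e := h.symm.trans hee.symm
    exact mul_right_cancel this

/-- `|[V, t]| = 4` -/
theorem Line.card_W [Finite G] (B : Base P Q) (l : Line P Q p t) :
    Nat.card (QS.W (Com.T B l.good.toCom)) = 4 := by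
  obtain ⟨d, h1, h2, hd, e, h3, h4, he, hde⟩ := l.ex
  have u := l.typeU B
  have key : ∀ (d : G) (h1 : d ∈ Q p), d ∈ Q t → d ≠ 1 → (B.large p l.good.hp).pr ⟨d, h1⟩ ≠ 0 := by
    intro d h1 h2 hd h
    rcases (B.large p l.good.hp).pr_eq_zero.1 h with h6 | h6
    · exact hd h6
    · have h7 : d = p := h6
      rw [h7] at h2
      exact Com.notMem B l.good.symm.toCom h2
  have hne : (B.large p l.good.hp).pr ⟨d, h1⟩ ≠ (B.large p l.good.hp).pr ⟨e, h3⟩ := by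
    intro h
    rcases (B.large p l.good.hp).pr_eq_pr.1 h with h6 | h6
    · exact hde h6
    · have h7 : d = e * p := h6
      apply Com.notMem B l.good.symm.toCom
      have h8 : e⁻¹ * d ∈ Q t := mul_mem (inv_mem h4) h2
      rw [h7, inv_mul_cancel_left] at h8
      exact h8
  apply card_four (l.good.D_le B h1 h2) (l.good.D_le B h3 h4) (key d h1 h2 hd) (key e h3 h4 he) hne
  intro v hv
  obtain ⟨f, h5, h6, rfl⟩ := (Com.mem_U B l.good.toCom).1 (u.W_le hv)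
  rcases l.D_eq B h1 h2 h3 h4 hd he hde h5 h6 with rfl | rfl | rfl | rfl
  · left; exact (B.large p l.good.hp).pr_eq_zero.2 (Or.inl rfl)
  · right; left; rfl
  · right; right; left; rfl
  · right; right; right; rfl

/-- **The line theorem** for a class. -/
theorem exists_line [Finite G] (B : Base P Q) (hR : ∀ p ∈ P, NoRefl (Q p) p)
    (h128 : ∀ p ∈ P, 128 ≤ Nat.card (Q p)) (hex : ∃ p t, Com P p t) {q : G} (hq : q ∈ P) :
    ∃ t, Line P Q q t := by
  have h64 : ∀ p (hp : p ∈ P), 64 ≤ Nat.card (B.large p hp).V := by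
    intro p hp
    have h1 := (B.large p hp).card_eq
    have h2 := h128 p hp
    omega
  obtain ⟨p, t, c⟩ := hex
  obtain ⟨s, c'⟩ := exists_good' B c (hR t c.ht)
  obtain ⟨p, t, c, u⟩ := exists_typeU B h64 ⟨p, s, c'⟩
  obtain ⟨g, hg⟩ := B.exists_conj p c.hp q hq
  have h1 := (line_of_typeU B c u).conj B g
  rw [hg] at h1
  exact ⟨_, h1⟩

/-- **The line theorem** (weakly closed case, `|Q| ≥ 2 ^ 7`). `B = base h hwc`. -/
theorem exists_line_of_large [Finite G] {Q : Subgroup G} {z : G} (h : Large Q z)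
    (h128 : 128 ≤ Nat.card Q) (hR : NoRefl Q z) (hwc : ∀ g : G, g * z * g⁻¹ ∈ Q → g * z * g⁻¹ = z)
    (hex : ∃ g : G, g * z * g⁻¹ ≠ z ∧ g * z * g⁻¹ * z = z * (g * z * g⁻¹)) :
    ∃ t, Line (cls z) (QQ Q z) z t := by
  have B := base h hwc
  have hz : z ∈ cls z := ⟨1, by group⟩
  obtain ⟨g, hg1, hg2⟩ := hex
  refine exists_line B ?_ ?_ ⟨z, g * z * g⁻¹, ⟨hz, ⟨g, rfl⟩, Ne.symm hg1, hg2.symm⟩⟩ hz
  · rintro _ ⟨k, rfl⟩
    rw [QQ_eq h]
    exact hR.conj k
  · intro p hp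
    rw [B.card_eq hp hz, QQ_self h]
    exact h128

/-- The consequence for the action on `V = Q / ⟨z⟩`: some `t ∈ z^G ∩ C(z)` acts with `|[V, t]| = 4`,
`[V, t]` totally singular. -/
theorem exists_act_four [Finite G] {Q : Subgroup G} {z : G} (h : Large Q z)
    (h128 : 128 ≤ Nat.card Q) (hR : NoRefl Q z) (hwc : ∀ g : G, g * z * g⁻¹ ∈ Q → g * z * g⁻¹ = z)
    (hex : ∃ g : G, g * z * g⁻¹ ≠ z ∧ g * z * g⁻¹ * z = z * (g * z * g⁻¹)) :
    ∃ c : Subgroup.centralizer ({z} : Set G), (∃ g : G, g * z * g⁻¹ = c) ∧ (c : G) ∉ Q ∧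
      Nat.card (LinearMap.range ((h.act c).toLinearMap + LinearMap.id)) = 4 ∧
      ∀ v, h.q (h.act c v + v) = 0 := by
  obtain ⟨t, l⟩ := exists_line_of_large h h128 hR hwc hex
  have B := base h hwc
  obtain ⟨g, hg⟩ := l.good.ht
  have htz : t * z = z * t := l.good.com.symm
  refine ⟨⟨t, Subgroup.mem_centralizer_singleton_iff.2 htz⟩, ⟨g, hg⟩, ?_, ?_, ?_⟩
  · have h1 := Com.notMem B l.good.toCom
    rw [QQ_self h] at h1
    exact h1
  · have h1 := l.card_W B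
    have key : ∀ (Q' : Subgroup G) (h' : Large Q' z), Q' = Q →
        Nat.card (QS.W (ac h' t htz)) = Nat.card (QS.W (ac h t htz)) := by
      rintro Q' h' rfl; rfl
    exact (key _ (B.large z l.good.hp) (QQ_self h)).symm.trans h1
  · have h1 : ∀ v, (B.large z l.good.hp).q (ac (B.large z l.good.hp) t htz v + v) = 0 :=
      fun v => l.good.q_W B (QS.f_mem_W _ v)
    have key : ∀ (Q' : Subgroup G) (h' : Large Q' z), Q' = Q →
        (∀ v, h'.q (ac h' t htz v + v) = 0) → (∀ v, h.q (ac h t htz v + v) = 0) := by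
      rintro Q' h' rfl h1; exact h1
    exact key _ (B.large z l.good.hp) (QQ_self h) h1

end Cfsg.Agent.LargeExtra.WCIrr
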