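import Mathlib
import Cfsg.Agent.LargeExtra.Lift

/-!
# Elements of `G` acting on an explicit extraspecial subgroup
-/

set_option autoImplicit false

namespace Cfsg.Agent.LargeExtra.ActsLib

open Cfsg.Agent.LargeExtra.Model Cfsg.Agent.LargeExtra.Pres Cfsg.Agent.LargeExtra.AutBound
open Cfsg.Agent.LargeExtra.Models Cfsg.Agent.LargeExtra.Lift
open Cfsg.Agent.Transfer.ExtraspecialTwo

variable {G : Type*} [Group G] {B : ℕ → ℕ} {n : ℕ} {φ : XG B n →* G}

/-- `c` acts on the image of `φ` as `α`. -/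
def Acts (φ : XG B n →* G) (c : G) (α : MulAut (XG B n)) : Prop := ∀ x, φ (α x) = c * φ x * c⁻¹

theorem Acts.one : Acts φ 1 1 := fun x => by simp

theorem Acts.mul {c d : G} {α β : MulAut (XG B n)} (h : Acts φ c α) (h' : Acts φ d β) :
    Acts φ (c * d) (α * β) := fun x => by
  rw [MulAut.mul_apply, h, h']; group

theorem Acts.inv {c : G} {α : MulAut (XG B n)} (h : Acts φ c α) : Acts φ c⁻¹ α⁻¹ := fun x => by
  have h1 := h (α⁻¹ x)
  rw [MulAut.apply_inv_self] at h1
  rw [h1]; group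

theorem Acts.pow {c : G} {α : MulAut (XG B n)} (h : Acts φ c α) (k : ℕ) :
    Acts φ (c ^ k) (α ^ k) := by
  induction k with
  | zero => rw [pow_zero, pow_zero]; exact Acts.one
  | succ k ih => rw [pow_succ, pow_succ]; exact ih.mul h

theorem Acts.conj {c d : G} {α β : MulAut (XG B n)} (h : Acts φ c α) (h' : Acts φ d β) :
    Acts φ (d * c * d⁻¹) (β * α * β⁻¹) := (h'.mul h).mul h'.inv

theorem acts_phi (x : XG B n) : Acts φ (φ x) (MulAut.conj x) := fun y => by
  rw [MulAut.conj_apply, map_mul, map_mul, map_inv]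

theorem Acts.unique (hi : Function.Injective φ) {c : G} {α β : MulAut (XG B n)} (h : Acts φ c α)
    (h' : Acts φ c β) : α = β := MulEquiv.ext fun x => hi ((h x).trans (h' x).symm)

/-- An element acting on `φ` commutes with `φ x` when the automorphism fixes `x`. -/
theorem Acts.comm {c : G} {α : MulAut (XG B n)} (h : Acts φ c α) {x : XG B n} (hx : α x = x) :
    c * φ x = φ x * c := by
  have h1 := h x
  rw [hx] at h1
  exact (mul_inv_eq_iff_eq_mul.mp h1.symm)

theorem Acts.fix (hi : Function.Injective φ) {c : G} {α : MulAut (XG B n)} (h : Acts φ c α)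
    {x : XG B n} (hx : c * φ x = φ x * c) : α x = x := by
  apply hi
  rw [h x, hx, mul_inv_cancel_right]

theorem Acts.apply {c : G} {α : MulAut (XG B n)} (h : Acts φ c α) {x y : XG B n} (hx : α x = y) :
    c * φ x * c⁻¹ = φ y := by rw [← h, hx]

theorem acts_one_of_comm {c : G} (h : ∀ x, c * φ x = φ x * c) : Acts φ c 1 := fun x => by
  rw [h, mul_inv_cancel_right]; rfl

/-- The automorphisms induced by elements of `G` form a subgroup. -/
def real (φ : XG B n →* G) : Subgroup (MulAut (XG B n)) where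
  carrier := {α | ∃ c, Acts φ c α}
  one_mem' := ⟨1, Acts.one⟩
  mul_mem' := by
    rintro α β ⟨c, hc⟩ ⟨d, hd⟩
    exact ⟨c * d, hc.mul hd⟩
  inv_mem' := by
    rintro α ⟨c, hc⟩
    exact ⟨c⁻¹, hc.inv⟩

theorem mem_real {α : MulAut (XG B n)} : α ∈ real φ ↔ ∃ c, Acts φ c α := Iff.rfl

theorem inner_mem_real (x : XG B n) : MulAut.conj x ∈ real φ := ⟨φ x, acts_phi x⟩

/-- `G` induces a subgroup of index at most two of the automorphism group of the image of `φ`, which
contains its centralizer in the centralizer of `φ zz`. -/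
structure Loc (φ : XG B n →* G) : Prop where
  nd : Nondeg B n
  inj : Function.Injective φ
  tot : ∀ c, c * φ zz = φ zz * c → ∃ α, Acts φ c α
  ker : ∀ c, Acts φ c 1 → c = 1 ∨ c = φ zz
  index : (real φ).index = 1 ∨ (real φ).index = 2

theorem Loc.comm_z (L : Loc φ) {c : G} {α : MulAut (XG B n)} (h : Acts φ c α) :
    c * φ zz = φ zz * c := h.comm (aut_zz L.nd α)

theorem Loc.z_ne (L : Loc φ) : φ zz ≠ 1 := fun h =>
  zz_ne (L.inj (h.trans (map_one φ).symm))

theorem zsq (φ : XG B n →* G) : φ zz * φ zz = 1 := by rw [← map_mul, zz_mul_zz, map_one]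

theorem Loc.sq_mem (L : Loc φ) (α : MulAut (XG B n)) : α * α ∈ real φ := by
  rcases L.index with h | h
  · rw [Subgroup.index_eq_one.mp h]; exact Subgroup.mem_top _
  · exact Subgroup.mul_self_mem_of_index_two h α

theorem Loc.mul_mem (L : Loc φ) {α β : MulAut (XG B n)} (hα : α ∉ real φ)
    (hβ : β ∉ real φ) : α * β ∈ real φ := by
  rcases L.index with h | h
  · rw [Subgroup.index_eq_one.mp h]; exact Subgroup.mem_top _
  · exact (Subgroup.mul_mem_iff_of_index_two h).mpr (iff_of_false hα hβ)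

theorem Loc.odd_mem (L : Loc φ) {α : MulAut (XG B n)} {k : ℕ} (hk : Odd k)
    (hα : α ^ k = 1) : α ∈ real φ := by
  obtain ⟨m, rfl⟩ := hk
  have h1 : α = ((α * α) ^ m)⁻¹ := by
    rw [eq_inv_iff_mul_eq_one, ← sq, ← pow_mul, ← pow_succ']
    exact hα
  rw [h1]
  exact Subgroup.inv_mem _ (Subgroup.pow_mem _ (L.sq_mem α) m)

theorem Loc.eq_or (L : Loc φ) {a b : G} {α : MulAut (XG B n)} (h : Acts φ a α) (h' : Acts φ b α) :
    a = b ∨ a = φ zz * b := by
  have h1 : Acts φ (a * b⁻¹) 1 := by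
    have := h.mul h'.inv
    rwa [mul_inv_cancel] at this
  rcases L.ker _ h1 with h2 | h2
  · left; exact mul_inv_eq_one.mp h2
  · right; exact mul_inv_eq_iff_eq_mul.mp h2

theorem Loc.zz_acts : Acts φ (φ zz) 1 := by
  have h := acts_phi (φ := φ) (zz : XG B n)
  have h1 : MulAut.conj (zz : XG B n) = 1 := by
    apply MulEquiv.ext
    intro x
    rw [MulAut.conj_apply, ← zz_comm, mul_inv_cancel_right]; rfl
  rwa [h1] at h

theorem Loc.z_mul_pow_odd (L : Loc φ) {b : G} {α : MulAut (XG B n)} (h : Acts φ b α) {k : ℕ}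
    (hk : Odd k) : (φ zz * b) ^ k = φ zz * b ^ k := by
  have hc : Commute (φ zz) b := (L.comm_z h).symm
  rw [hc.mul_pow]
  obtain ⟨m, rfl⟩ := hk
  rw [pow_succ, pow_mul, sq, zsq, one_pow, one_mul]

theorem Loc.exists_odd (L : Loc φ) {α : MulAut (XG B n)} {k : ℕ} (hk : Odd k)
    (hα : α ^ k = 1) : ∃ c : G, c ^ k = 1 ∧ Acts φ c α := by
  obtain ⟨c, hc⟩ := L.odd_mem hk hα
  have h1 : Acts φ (c ^ k) 1 := by rw [← hα]; exact hc.pow k
  rcases L.ker _ h1 with h2 | h2
  · exact ⟨c, h2, hc⟩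
  · refine ⟨φ zz * c, ?_, ?_⟩
    · rw [L.z_mul_pow_odd hc hk, h2, zsq]
    · have := Loc.zz_acts.mul hc
      rwa [one_mul] at this

theorem Loc.eq_of_odd (L : Loc φ) {a b : G} {α : MulAut (XG B n)} {k : ℕ} (hk : Odd k)
    (ha : a ^ k = 1) (hb : b ^ k = 1) (h : Acts φ a α) (h' : Acts φ b α) : a = b := by
  rcases L.eq_or h h' with h1 | h1
  · exact h1
  · exfalso
    rw [h1, L.z_mul_pow_odd h' hk, hb, mul_one] at ha
    exact L.z_ne ha

/-- Two elements, one of them of odd order, commute when their actions commute. -/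
theorem Loc.comm_of_odd (L : Loc φ) {a b : G} {α β : MulAut (XG B n)} {k : ℕ} (hk : Odd k)
    (ha : a ^ k = 1) (h : Acts φ a α) (h' : Acts φ b β) (hc : α * β = β * α) : a * b = b * a := by
  have h1 : b * a * b⁻¹ = a := by
    apply L.eq_of_odd hk _ ha _ h
    · rw [conj_pow, ha, mul_one, mul_inv_cancel]
    · have := h.conj h'
      rwa [← hc, mul_inv_cancel_right] at this
  rw [mul_inv_eq_iff_eq_mul] at h1
  exact h1.symm

theorem Loc.mem_of_inner (L : Loc φ) {c : G} {x : XG B n} (h : Acts φ c (MulAut.conj x)) :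
    c = φ x ∨ c = φ (zz * x) := by
  rcases L.eq_or h (acts_phi x) with h2 | h2
  · exact Or.inl h2
  · right
    rw [map_mul, h2]

/-- `Loc` from `Pin`. -/
theorem loc_of_pin {z : G} {Q : Subgroup (Subgroup.centralizer ({z} : Set G))}
    {z' : Subgroup.centralizer ({z} : Set G)} (hz : (z' : G) = z) {ψ : XG B n ≃* Q}
    {ρ : Subgroup.centralizer ({z} : Set G) →* MulAut (XG B n)} (P : Pin Q z' ψ ρ)
    (nd : Nondeg B n) :
    Loc (((Subgroup.centralizer ({z} : Set G)).subtype.comp Q.subtype).comp ψ.toMonoidHom) := by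
  set φ := ((Subgroup.centralizer ({z} : Set G)).subtype.comp Q.subtype).comp ψ.toMonoidHom with hφ
  have hφa : ∀ x, φ x = ((ψ x : Subgroup.centralizer ({z} : Set G)) : G) := fun x => rfl
  have hzz : φ zz = z := by rw [hφa, P.zz, hz]
  have hacts : ∀ c : Subgroup.centralizer ({z} : Set G), Acts φ (c : G) (ρ c) := by
    intro c x
    rw [hφa, hφa, P.act]; rfl
  have hinj : Function.Injective φ := by
    intro x y hxy
    rw [hφa, hφa] at hxy
    exact ψ.injective (Subtype.ext (Subtype.ext hxy))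
  have hmem : ∀ (c : G) (α : MulAut (XG B n)), Acts φ c α → c ∈ Subgroup.centralizer ({z} : Set G) := by
    intro c α h
    have h1 := h.comm (aut_zz nd α)
    rw [hzz] at h1
    exact Subgroup.mem_centralizer_singleton_iff.mpr h1
  have hreal : real φ = ρ.range := by
    ext α
    constructor
    · rintro ⟨c, hc⟩
      refine ⟨⟨c, hmem c α hc⟩, ?_⟩
      exact (hacts ⟨c, hmem c α hc⟩).unique hinj hc
    · rintro ⟨c, rfl⟩
      exact ⟨c, hacts c⟩
  refine ⟨nd, hinj, ?_, ?_, ?_⟩
  · intro c hc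
    rw [hzz] at hc
    exact ⟨_, hacts ⟨c, Subgroup.mem_centralizer_singleton_iff.mpr hc⟩⟩
  · intro c hc
    have h1 := (hacts ⟨c, hmem c 1 hc⟩).unique hinj hc
    rcases (P.ker _).mp h1 with h2 | h2
    · left; exact congrArg Subtype.val h2
    · right
      rw [hzz, ← hz]; exact congrArg Subtype.val h2
  · rw [hreal]; exact P.index

end Cfsg.Agent.LargeExtra.ActsLib
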