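import Mathlib

/-!
# The counting contradiction (helper915)

A "partial linear space" with 71 points and 7 lines of 3 points through every point does not exist.
-/

set_option autoImplicit false

namespace Cfsg.Agent.LargeExtra.KillCount

open Finset

variable {α : Type*} [Group α] [Finite α]

theorem three_dvd (P : α → Prop) (R : α → α → Prop)
    (h1 : ∀ u, P u → u ≠ 1) (hRP : ∀ u v, R u v → P u) (hR1 : ∀ u, P u → R u 1)
    (hRu : ∀ u, P u → R u u) (hsym : ∀ u v, R u v → v ≠ 1 → R v u)
    (hmul : ∀ u v, R u v → R u (u * v)) (hcomm : ∀ u v, R u v → u * v = v * u)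
    (hsq : ∀ u, P u → u * u = 1) (hcard : ∀ u, P u → {v | R u v}.ncard = 16) :
    3 ∣ {u | P u}.ncard := by
  classical
  have := Fintype.ofFinite α
  set S : Finset (α × α) := univ.filter (fun x => R x.1 x.2 ∧ x.2 ≠ 1 ∧ x.2 ≠ x.1) with hS
  set P' : Finset α := univ.filter P with hP'
  have hPc : {u | P u}.ncard = P'.card := by
    rw [← Set.ncard_coe_finset]
    congr 1
    ext u
    simp [hP']
  have hAc : ∀ u, P u → (univ.filter (R u)).card = 16 := by
    intro u hu
    rw [← hcard u hu, ← Set.ncard_coe_finset]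
    congr 1
    ext v
    simp
  have hScard : S.card = 14 * P'.card := by
    rw [Finset.card_eq_sum_card_fiberwise (f := Prod.fst) (t := P')]
    · rw [Finset.sum_const_nat (m := 14)]
      · ring
      · intro u hu
        have hu' : P u := by simpa [hP'] using hu
        have e1 : (S.filter (fun x => x.1 = u)) =
            (((univ.filter (R u)).erase 1).erase u).image (fun v => (u, v)) := by
          ext ⟨x, v⟩
          simp only [hS, mem_filter, mem_univ, true_and, mem_image, mem_erase, Prod.mk.injEq]
          constructor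
          · rintro ⟨⟨a1, a2, a3⟩, rfl⟩
            exact ⟨v, ⟨a3, a2, a1⟩, rfl, rfl⟩
          · rintro ⟨v', ⟨a3, a2, a1⟩, rfl, rfl⟩
            exact ⟨⟨a1, a2, a3⟩, rfl⟩
        rw [e1, Finset.card_image_of_injective _ (fun v v' h => (Prod.mk.injEq _ _ _ _ ▸ h).2),
          Finset.card_erase_of_mem, Finset.card_erase_of_mem, hAc u hu']
        · simp [hR1 u hu']
        · simp [h1 u hu', hRu u hu']
    · intro x hx
      have hx' : R x.1 x.2 := by
        have := Finset.mem_coe.1 hx
        simp only [hS, mem_filter, mem_univ, true_and] at this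
        exact this.1
      simp only [hP', coe_filter, mem_univ, true_and]
      exact hRP _ _ hx'
  have hmem : ∀ x : S, R (x : α × α).1 (x : α × α).2 ∧ (x : α × α).2 ≠ 1 ∧
      (x : α × α).2 ≠ (x : α × α).1 := by
    intro x
    have := x.2
    simpa only [hS, mem_filter, mem_univ, true_and] using this
  have hP2 : ∀ x : S, P (x : α × α).2 := fun x => hRP _ _ (hsym _ _ (hmem x).1 (hmem x).2.1)
  let f : Function.End S := fun x => ⟨((x : α × α).2, (x : α × α).1 * (x : α × α).2), by
    obtain ⟨a1, a2, a3⟩ := hmem x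
    have a4 := hRP _ _ a1
    have a5 := hsym _ _ a1 a2
    simp only [hS, mem_filter, mem_univ, true_and]
    refine ⟨?_, ?_, ?_⟩
    · rw [hcomm _ _ a1]; exact hmul _ _ a5
    · intro h
      apply a3
      have h' : (x : α × α).1⁻¹ = (x : α × α).1 := inv_eq_of_mul_eq_one_left (hsq _ a4)
      rw [← h']
      exact (inv_eq_of_mul_eq_one_right h).symm
    · intro h
      exact h1 _ a4 (mul_eq_right.1 h)⟩
  have hf : f ^ 3 ^ 1 = 1 := by
    funext x
    obtain ⟨a1, a2, a3⟩ := hmem x
    have b1 := hsq _ (hRP _ _ a1)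
    have b2 := hsq _ (hP2 x)
    have b3 := hcomm _ _ a1
    show f (f (f x)) = x
    apply Subtype.ext
    show ((x : α × α).2 * ((x : α × α).1 * (x : α × α).2),
      (x : α × α).1 * (x : α × α).2 * ((x : α × α).2 * ((x : α × α).1 * (x : α × α).2))) = x
    have c1 : (x : α × α).2 * ((x : α × α).1 * (x : α × α).2) = (x : α × α).1 := by
      rw [← mul_assoc, ← b3, mul_assoc, b2, mul_one]
    rw [c1]
    have c2 : (x : α × α).1 * (x : α × α).2 * (x : α × α).1 = (x : α × α).2 := by
      rw [b3, mul_assoc, b1, mul_one]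
    rw [c2]
  have : Fact (Nat.Prime 3) := ⟨by norm_num⟩
  have key := Equiv.Perm.card_fixedPoints_modEq hf
  have hfix : Fintype.card f.fixedPoints = 0 := by
    rw [Fintype.card_eq_zero_iff]
    refine ⟨fun x => ?_⟩
    have hx : f x = x := x.2
    have : ((x : S) : α × α).2 = ((x : S) : α × α).1 := congrArg (fun y : S => (y : α × α).1) hx
    exact (hmem (x : S)).2.2 this
  rw [hfix, Fintype.card_coe, hScard] at key
  have h3 : 3 ∣ 14 * P'.card := (Nat.modEq_zero_iff_dvd).1 key
  rw [hPc]
  exact (Nat.Coprime.dvd_mul_left (by norm_num)).1 h3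

theorem count_false (P : α → Prop) (R : α → α → Prop) (z : α) (hz : P z)
    (h1 : ∀ u, P u → u ≠ 1) (hRP : ∀ u v, R u v → P u) (hR1 : ∀ u, P u → R u 1)
    (hRu : ∀ u, P u → R u u) (hsym : ∀ u v, R u v → v ≠ 1 → R v u)
    (hmul : ∀ u v, R u v → R u (u * v)) (hcomm : ∀ u v, R u v → u * v = v * u)
    (hsq : ∀ u, P u → u * u = 1) (hcard : ∀ u, P u → {v | R u v}.ncard = 16)
    (hint : ∀ e, R z e → e ≠ 1 → e ≠ z → {x | R z x ∧ R e x}.ncard = 4)
    (hint2 : ∀ u, P u → ¬ R z u → {x | R z x ∧ R u x}.ncard = 4) : False := by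
  classical
  have := Fintype.ofFinite α
  have h3 := three_dvd P R h1 hRP hR1 hRu hsym hmul hcomm hsq hcard
  set P' : Finset α := univ.filter P with hP'
  have hPc : {u | P u}.ncard = P'.card := by
    rw [← Set.ncard_coe_finset]
    congr 1
    ext u
    simp [hP']
  have hAc : ∀ u, P u → (univ.filter (R u)).card = 16 := by
    intro u hu
    rw [← hcard u hu, ← Set.ncard_coe_finset]
    congr 1
    ext v
    simp
  have hI : ∀ e, R z e → e ≠ 1 → e ≠ z → (univ.filter (fun x => R z x ∧ R e x)).card = 4 := by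
    intro e he he1 hez
    rw [← hint e he he1 hez, ← Set.ncard_coe_finset]
    congr 1
    ext v
    simp
  have hI2 : ∀ u, P u → ¬ R z u → (univ.filter (fun x => R z x ∧ R u x)).card = 4 := by
    intro u hu hzu
    rw [← hint2 u hu hzu, ← Set.ncard_coe_finset]
    congr 1
    ext v
    simp
  have hPR : ∀ e, R z e → e ≠ 1 → P e := fun e he he1 => hRP _ _ (hsym _ _ he he1)
  -- `|P| = 15 + m`
  have hsplit : P'.card = (P'.filter (R z)).card + (P'.filter (fun u => ¬ R z u)).card :=
    (Finset.card_filter_add_card_filter_not (s := P') (R z)).symm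
  have h15 : (P'.filter (R z)).card = 15 := by
    have e1 : P'.filter (R z) = (univ.filter (R z)).erase 1 := by
      ext u
      simp only [hP', mem_filter, mem_univ, true_and, mem_erase]
      constructor
      · rintro ⟨a1, a2⟩; exact ⟨h1 u a1, a2⟩
      · rintro ⟨a1, a2⟩; exact ⟨hPR u a2 a1, a2⟩
    rw [e1, Finset.card_erase_of_mem (by simp [hR1 z hz]), hAc z hz]
  -- count pairs
  set T : Finset (α × α) := univ.filter
    (fun x => R z x.1 ∧ x.1 ≠ 1 ∧ x.1 ≠ z ∧ R x.1 x.2 ∧ ¬ R z x.2) with hT
  have hT1 : T.card = 14 * 12 := by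
    rw [Finset.card_eq_sum_card_fiberwise (f := Prod.fst)
      (t := ((univ.filter (R z)).erase 1).erase z)]
    · rw [Finset.sum_const_nat (m := 12)]
      · rw [Finset.card_erase_of_mem (by simp [h1 z hz, hRu z hz]),
          Finset.card_erase_of_mem (by simp [hR1 z hz]), hAc z hz]
      · intro e he
        simp only [mem_erase, mem_filter, mem_univ, true_and] at he
        obtain ⟨hez, he1, hRe⟩ := he
        have hPe := hPR e hRe he1
        have e1 : (T.filter (fun x => x.1 = e)) =
            ((univ.filter (R e)).filter (fun v => ¬ R z v)).image (fun v => (e, v)) := by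
          ext ⟨x, v⟩
          simp only [hT, mem_filter, mem_univ, true_and, mem_image, Prod.mk.injEq]
          constructor
          · rintro ⟨⟨a1, a2, a3, a4, a5⟩, rfl⟩
            exact ⟨v, ⟨a4, a5⟩, rfl, rfl⟩
          · rintro ⟨v', ⟨a4, a5⟩, rfl, rfl⟩
            exact ⟨⟨hRe, he1, hez, a4, a5⟩, rfl⟩
        rw [e1, Finset.card_image_of_injective _ (fun v v' h => (Prod.mk.injEq _ _ _ _ ▸ h).2)]
        have e2 := Finset.card_filter_add_card_filter_not (s := univ.filter (R e)) (R z)
        have e3 : (univ.filter (R e)).filter (R z) = univ.filter (fun x => R z x ∧ R e x) := by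
          ext x
          simp only [mem_filter, mem_univ, true_and]
          exact and_comm
        rw [e3, hI e hRe he1 hez, hAc e hPe] at e2
        omega
    · intro x hx
      have := Finset.mem_coe.1 hx
      simp only [hT, mem_filter, mem_univ, true_and] at this
      simp only [coe_erase, coe_filter, mem_univ, true_and]
      exact ⟨⟨this.1, this.2.1⟩, this.2.2.1⟩
  have hT2 : T.card = 3 * (P'.filter (fun u => ¬ R z u)).card := by
    rw [Finset.card_eq_sum_card_fiberwise (f := Prod.snd) (t := P'.filter (fun u => ¬ R z u))]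
    · rw [Finset.sum_const_nat (m := 3)]
      · ring
      · intro u hu
        simp only [hP', mem_filter, mem_univ, true_and] at hu
        obtain ⟨hPu, hzu⟩ := hu
        have e1 : (T.filter (fun x => x.2 = u)) =
            ((univ.filter (fun x => R z x ∧ R u x)).erase 1).image (fun e => (e, u)) := by
          ext ⟨e, v⟩
          simp only [hT, mem_filter, mem_univ, true_and, mem_image, mem_erase, Prod.mk.injEq]
          constructor
          · rintro ⟨⟨a1, a2, a3, a4, a5⟩, rfl⟩
            exact ⟨e, ⟨a2, a1, hsym _ _ a4 (h1 _ hPu)⟩, rfl, rfl⟩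
          · rintro ⟨e', ⟨a2, a1, a4⟩, rfl, rfl⟩
            refine ⟨⟨a1, a2, ?_, hsym _ _ a4 a2, hzu⟩, rfl⟩
            rintro rfl
            exact hzu (hsym _ _ a4 a2)
        rw [e1, Finset.card_image_of_injective _ (fun v v' h => (Prod.mk.injEq _ _ _ _ ▸ h).1),
          Finset.card_erase_of_mem (by simp [hR1 z hz, hR1 u hPu]), hI2 u hPu hzu]
    · intro x hx
      have := Finset.mem_coe.1 hx
      simp only [hT, mem_filter, mem_univ, true_and] at this
      obtain ⟨a1, a2, a3, a4, a5⟩ := this
      simp only [hP', coe_filter, mem_filter, mem_univ, true_and]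
      have hx1 : x.2 ≠ 1 := by
        intro h
        apply a5
        rw [h]
        exact hR1 z hz
      exact ⟨hRP _ _ (hsym _ _ a4 hx1), a5⟩
  rw [hPc] at h3
  omega

end Cfsg.Agent.LargeExtra.KillCount
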