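import Cfsg.Agent.LargeExtra.KillTwo
import Cfsg.Agent.LargeExtra.KillCount

/-!
# Case II of S1762, `|D̃| = 2`, type `+` is impossible (helper915)

`Frame.false` : there is no elementary abelian `B ≤ Q` of order 16 containing `z` if `|Q| = 2^7` and all
involutions `x ∈ Q ∖ ⟨z⟩` give pairs with `Q ∩ Q_x = ⟨z, x⟩`.

(The elements of `z^{N(F)}`, `F = C_G(B)` elementary abelian of order `2^7`, and the lines `{u, v, uv}`,
`v ∈ F ∩ Q_u`, would form a partial linear space with 71 points, 3 points on a line and 7 lines on a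
point.)
-/

set_option autoImplicit false

namespace Cfsg.Agent.LargeExtra.KillPlus

open Cfsg.Agent.Co2Type.Quad Cfsg.Agent.LargeExtra.Base Cfsg.Agent.LargeExtra.Local
open Cfsg.Agent.LargeExtra.KillSiegel Cfsg.Agent.LargeExtra.KillFrame Cfsg.Agent.LargeExtra.KillAbel
open Cfsg.Agent.LargeExtra.KillResidue

variable {G : Type*} [Group G] [Finite G] {Q B : Subgroup G} {z : G}

theorem false_of_frame (s : Frame Q B z) : False := by
  have hset : ∀ u, {x | R B z z x ∧ R B z u x} = {x | x ∈ B ∧ R B z u x} := by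
    intro u
    ext x
    constructor
    · rintro ⟨h1, h2⟩; exact ⟨(R_z s).1 h1, h2⟩
    · rintro ⟨h1, h2⟩; exact ⟨(R_z s).2 h1, h2⟩
  apply KillCount.count_false (P B z) (R B z) z P_z
  · intro u hu; exact P_ne s hu
  · intro u v h; exact P_of_R h
  · intro u hu; exact R_one s hu
  · intro u hu; exact R_self s hu
  · intro u v h hv; exact (symm s h hv).2
  · intro u v h; exact R_mul s (R_self s (P_of_R h)) h
  · intro u v h; exact KillAbel.comm s (P_cent s (P_of_R h)) (R_cent s h)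
  · intro u hu; exact sq_one s (P_cent s hu)
  · rintro u ⟨h, hN, hh⟩
    have e : {v | R B z u v} = (fun b => h * b * h⁻¹) '' (B : Set G) := by
      ext v
      constructor
      · intro hv
        exact ⟨h⁻¹ * v * h, (R_iff s hN hh).1 hv, by group⟩
      · rintro ⟨b, hb, rfl⟩
        show R B z u (h * b * h⁻¹)
        rw [R_iff s hN hh]
        have e1 : h⁻¹ * (h * b * h⁻¹) * h = b := by group
        rw [e1]; exact hb
    have hinj : Function.Injective (fun b : G => h * b * h⁻¹) := (MulAut.conj h).injective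
    rw [e, Set.ncard_image_of_injective _ hinj]
    exact s.card
  · intro e he he1 hez
    rw [hset]
    exact inter s ((R_z s).1 he) he1 hez
  · intro u hu hzu
    rw [hset]
    exact KillTwo.inter_two s hu (fun h => hzu ((R_z s).2 h))

/-- The elimination of type `+` for `|D̃| = 2`. -/
theorem false_of_plus (h : Large Q z) (hQ : Nat.card Q = 2 ^ 7)
    (hfus : ∀ x : Q, (x : G) * x = 1 → (x : G) ≠ 1 → (x : G) ≠ z →
      ∃ A, ∃ p : Pair Q z A x, ∀ v ∈ p.D, v = 0 ∨ v = p.va)
    (hle : B ≤ Q) (hz : z ∈ B) (hsq : ∀ x ∈ B, x * x = 1) (hB : Nat.card B = 16) : False :=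
  false_of_frame (B := B) ⟨h, by rw [hQ]; norm_num, hfus, hle, hz, hsq, hB⟩

/-- The same with transitivity of `C(z)` on the involutions of `Q`. -/
theorem false_of_trans {A : Subgroup G} {a : G} (p : Pair Q z A a) (hQ : Nat.card Q = 2 ^ 7)
    (hD : Nat.card p.D = 2)
    (htrans : ∀ x ∈ Q, x * x = 1 → x ≠ 1 → x ≠ z → ∃ c : G, c * z = z * c ∧ c * a * c⁻¹ = x)
    (hle : B ≤ Q) (hz : z ∈ B) (hsq : ∀ x ∈ B, x * x = 1) (hB : Nat.card B = 16) : False := by
  have hD' : ∀ v ∈ p.D, v = 0 ∨ v = p.va := by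
    obtain ⟨x, y, hxy, hall⟩ := Nat.card_eq_two_iff.1 hD
    intro v hv
    have h0 : (0 : p.D) ∈ ({x, y} : Set p.D) := by rw [hall]; trivial
    have h1 : (⟨p.va, p.va_mem_D⟩ : p.D) ∈ ({x, y} : Set p.D) := by rw [hall]; trivial
    have h2 : (⟨v, hv⟩ : p.D) ∈ ({x, y} : Set p.D) := by rw [hall]; trivial
    simp only [Set.mem_insert_iff, Set.mem_singleton_iff] at h0 h1 h2
    have hne : (⟨p.va, p.va_mem_D⟩ : p.D) ≠ 0 := fun h => p.va_ne (congrArg Subtype.val h)
    have key : (⟨v, hv⟩ : p.D) = 0 ∨ (⟨v, hv⟩ : p.D) = ⟨p.va, p.va_mem_D⟩ := by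
      rcases h0 with h0 | h0 <;> rcases h1 with h1 | h1
      · exact absurd (h1.trans h0.symm) hne
      · rw [h0, h1]; exact h2
      · rw [h0, h1]; exact h2.symm
      · exact absurd (h1.trans h0.symm) hne
    rcases key with h | h
    · left; exact congrArg Subtype.val h
    · right; exact congrArg Subtype.val h
  refine false_of_plus (B := B) p.lz hQ ?_ hle hz hsq hB
  intro x hx hx1 hxz
  obtain ⟨c, hcz, hc⟩ := htrans x x.2 hx hx1 hxz
  obtain ⟨g, hg, -, hA, -⟩ := p.isConj
  have hcg : (c * g) * z * (c * g)⁻¹ = x := by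
    calc (c * g) * z * (c * g)⁻¹ = c * (g * z * g⁻¹) * c⁻¹ := by group
      _ = x := by rw [hg, hc]
  have pp : Pair Q z (Q.map (MulAut.conj (c * g)).toMonoidHom) (x : G) := by
    have := pair_of_conj p.lz (g := c * g) (by rw [hcg]; exact x.2) (by rw [hcg]; exact hxz)
    rwa [hcg] at this
  refine ⟨_, pp, ?_⟩
  intro v hv
  obtain ⟨y, hy, rfl⟩ := hv
  -- conjugate `y` back by `c`
  obtain ⟨w, hw, hwy⟩ := hy
  have hwy' : c * g * w * (c * g)⁻¹ = y := hwy
  have hyQ : c⁻¹ * y * c ∈ Q := by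
    have := p.lz.conj_mem c⁻¹ (by
      rw [inv_mul_eq_iff_eq_mul, ← mul_assoc, hcz, mul_assoc, mul_inv_cancel, mul_one]) y y.2
    rwa [inv_inv] at this
  have hyA : c⁻¹ * y * c ∈ A := by
    rw [hA]
    refine ⟨w, hw, ?_⟩
    show g * w * g⁻¹ = c⁻¹ * y * c
    rw [← hwy']; group
  have hback : ∀ t : G, c⁻¹ * y * c = t → (y : G) = c * t * c⁻¹ := by
    intro t ht; rw [← ht]; group
  have hcz' : c * z * c⁻¹ = z := by rw [hcz]; group
  rcases KillCommute.mem_D4 p hD' hyQ hyA with h | h | h | h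
  · left
    apply p.lz.pr_eq_zero.2
    left
    rw [hback _ h]; group
  · left
    apply p.lz.pr_eq_zero.2
    right
    rw [hback _ h, hcz']
  · right
    apply p.lz.pr_eq_pr.2
    left
    rw [hback _ h, hc]
  · right
    apply p.lz.pr_eq_pr.2
    right
    rw [hback _ h]
    calc c * (a * z) * c⁻¹ = (c * a * c⁻¹) * (c * z * c⁻¹) := by group
      _ = _ := by rw [hc, hcz']

end Cfsg.Agent.LargeExtra.KillPlus
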