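import Cfsg.Agent.LargeExtra.Dickson
import Cfsg.Agent.LargeExtra.Local

/-!
# Two commuting conjugates `z`, `s = z^g ∉ Q` (helper805)

* `notMem_of_conj`: `z ∉ Q^g`.
* `inter_facts`, `comm_cent`: `D = Q ∩ Q^g` is centralised by `C_Q(s)`; if `D = 1` then `C_{Q^g}(z)` centralises
  `C_Q(s)`.
* `card_le_eight`: an involution `t` acting on an extraspecial group `A` with centre `⟨s⟩` with `C_A(t) ≤ ⟨s⟩`
  forces `|A| ≤ 8`.
-/

set_option autoImplicit false
set_option linter.style.haveILetI false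

namespace Cfsg.Agent.LargeExtra.CentCard

open Cfsg.Agent.Co2Type.Quad Cfsg.Agent.LargeExtra.Base Cfsg.Agent.LargeExtra.Local
open Cfsg.Agent.LargeExtra.TwoCentral Cfsg.Agent.LargeExtra.Dickson

variable {G : Type*} [Group G] {Q : Subgroup G} {z : G}

theorem map_map_inv (Q : Subgroup G) (g : G) :
    (Q.map (MulAut.conj g).toMonoidHom).map (MulAut.conj g⁻¹).toMonoidHom = Q := by
  rw [Subgroup.map_map]
  ext x
  constructor
  · rintro ⟨y, hy, rfl⟩
    have : (((MulAut.conj g⁻¹).toMonoidHom).comp (MulAut.conj g).toMonoidHom) y = y := by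
      show g⁻¹ * (g * y * g⁻¹) * (g⁻¹)⁻¹ = y
      group
    rw [this]; exact hy
  · intro hx
    refine ⟨x, hx, ?_⟩
    show g⁻¹ * (g * x * g⁻¹) * (g⁻¹)⁻¹ = x
    group

/-- If `s = z^g ∉ Q` then `z ∉ Q^g`. -/
theorem notMem_of_conj (h : Large Q z) {g s : G} (hg : g * z * g⁻¹ = s) (hsQ : s ∉ Q) :
    z ∉ Q.map (MulAut.conj g).toMonoidHom := by
  intro hzA
  have la : Large (Q.map (MulAut.conj g).toMonoidHom) s := by rw [← hg]; exact h.conj g
  have hne : z ≠ s := by
    intro h1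
    exact hsQ (h1 ▸ h.z_mem)
  have e : g⁻¹ * s * (g⁻¹)⁻¹ = z := by rw [← hg]; group
  have p := pair_of_conj la (g := g⁻¹) (by rw [e]; exact hzA) (by rw [e]; exact hne)
  have h1 := p.z_mem
  rw [map_map_inv] at h1
  exact hsQ h1

/-- elements of `Q ∩ A` commute with `C_Q(s)` -/
theorem comm_inter (h : Large Q z) {A : Subgroup G} {s : G} (la : Large A s) (hzA : z ∉ A) {d x : G}
    (hdQ : d ∈ Q) (hdA : d ∈ A) (hx : x ∈ Q) (hxs : x * s = s * x) : x * d = d * x := by
  rcases h.comm x hx d hdQ with h2 | h2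
  · exact h2
  · exfalso
    apply hzA
    have h3 : x * d * x⁻¹ ∈ A := la.conj_mem x hxs d hdA
    have h4 : x * d * x⁻¹ = d * z := by
      rw [h2, mul_inv_eq_iff_eq_mul, mul_assoc, h.comm_z x hx, mul_assoc]
    have h5 := A.mul_mem (A.inv_mem hdA) h3
    rwa [h4, inv_mul_cancel_left] at h5

/-- `[C_Q(s), C_A(z)] ≤ Q ∩ A` -/
theorem comm_mem_inter (h : Large Q z) {A : Subgroup G} {s : G} (la : Large A s) {x y : G}
    (hy : y ∈ Q) (hys : y * s = s * y) (hx : x ∈ A) (hxz : x * z = z * x) :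
    y * x * y⁻¹ * x⁻¹ ∈ Q ∧ y * x * y⁻¹ * x⁻¹ ∈ A := by
  constructor
  · have h3 := h.conj_mem x hxz _ (Q.inv_mem hy)
    have h4 := Q.mul_mem hy h3
    have e : y * (x * y⁻¹ * x⁻¹) = y * x * y⁻¹ * x⁻¹ := by group
    rwa [e] at h4
  · exact A.mul_mem (la.conj_mem y hys x hx) (A.inv_mem hx)

theorem comm_of_inter_eq_bot (h : Large Q z) {A : Subgroup G} {s : G} (la : Large A s)
    (hD : ∀ d ∈ Q, d ∈ A → d = 1) {x y : G}
    (hy : y ∈ Q) (hys : y * s = s * y) (hx : x ∈ A) (hxz : x * z = z * x) : y * x = x * y := by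
  obtain ⟨h1, h2⟩ := comm_mem_inter h la hy hys hx hxz
  have h3 := hD _ h1 h2
  rw [mul_inv_eq_one, mul_inv_eq_iff_eq_mul] at h3
  exact h3

/-- An involution `t` acting on `A` with `C_A(t) ≤ ⟨s⟩` forces `|A| ≤ 8`. -/
theorem card_le_eight {A : Subgroup G} {s t : G} [Finite A] (la : Large A s) (ht : t * t = 1)
    (hts : t * s = s * t) (hX : ∀ x ∈ A, x * t = t * x → x = 1 ∨ x = s) : Nat.card A ≤ 8 := by
  have htC : t ∈ Subgroup.centralizer ({s} : Set G) := Subgroup.mem_centralizer_singleton_iff.2 hts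
  have : FiniteDimensional (ZMod 2) la.V := finiteDim la
  set τ := la.act ⟨t, htC⟩ with hτ
  have hττ : ∀ v, τ (τ v) = v := by
    intro v
    have h1 : τ * τ = 1 := by
      rw [hτ, ← map_mul]
      have : (⟨t, htC⟩ * ⟨t, htC⟩ : Subgroup.centralizer ({s} : Set G)) = 1 := Subtype.ext ht
      rw [this, map_one]
    exact congrArg (fun t : la.V ≃ₗ[ZMod 2] la.V => t v) h1
  let F : la.V →ₗ[ZMod 2] la.V := τ.toLinearMap + LinearMap.id
  have hF : ∀ v, F v = τ v + v := fun v => rfl
  have hrange : LinearMap.range F ≤ LinearMap.ker F := by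
    rintro _ ⟨v, rfl⟩
    rw [LinearMap.mem_ker, hF, hF, map_add, hττ]
    calc v + τ v + (τ v + v) = (v + v) + (τ v + τ v) := by abel
      _ = 0 := by rw [la.add_self, la.add_self, add_zero]
  have hker : ∀ v ∈ LinearMap.ker F, ∀ w ∈ LinearMap.ker F, v ≠ 0 → w ≠ 0 → v = w := by
    intro v hv w hw hv0 hw0
    obtain ⟨x, rfl⟩ := la.pr_surjective v
    obtain ⟨y, rfl⟩ := la.pr_surjective w
    have key : ∀ x : A, la.pr x ∈ LinearMap.ker F → la.pr x ≠ 0 → t * (x : G) * t⁻¹ = x * s := by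
      intro x hx hx0
      rw [LinearMap.mem_ker, hF] at hx
      have h1 : τ (la.pr x) = la.pr x := by
        calc τ (la.pr x) = τ (la.pr x) + la.pr x + la.pr x := by rw [add_assoc, la.add_self, add_zero]
          _ = la.pr x := by rw [hx, zero_add]
      rw [hτ, la.act_pr, la.pr_eq_pr, la.conjQ_coe] at h1
      rcases h1 with h2 | h2
      · exfalso
        apply hx0
        rw [la.pr_eq_zero]
        refine hX x x.2 ?_
        have h2' : t * (x : G) * t⁻¹ = x := h2
        rw [mul_inv_eq_iff_eq_mul] at h2'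
        exact h2'.symm
      · exact h2
    have h1 := key x hv hv0
    have h2 := key y hw hw0
    have h3 : ((x * y : A) : G) = 1 ∨ ((x * y : A) : G) = s := by
      apply hX _ (x * y).2
      have h4 : t * ((x : G) * y) * t⁻¹ = x * y := by
        calc t * ((x : G) * y) * t⁻¹ = (t * x * t⁻¹) * (t * y * t⁻¹) := by group
          _ = x * (s * y) * s := by rw [h1, h2]; group
          _ = x * (y * s) * s := by rw [la.comm_z y y.2]
          _ = x * y * (s * s) := by group
          _ = x * y := by rw [la.z_sq, mul_one]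
      rw [mul_inv_eq_iff_eq_mul] at h4
      exact h4.symm
    have h4 := la.pr_eq_zero.2 h3
    rw [la.pr_mul] at h4
    calc la.pr x = la.pr x + la.pr y + la.pr y := by rw [add_assoc, la.add_self, add_zero]
      _ = la.pr y := by rw [h4, zero_add]
  have hk1 : Module.finrank (ZMod 2) (LinearMap.ker F) ≤ 1 := by
    rw [finrank_le_one_iff]
    by_cases hex : ∃ v ∈ LinearMap.ker F, v ≠ 0
    · obtain ⟨v, hv, hv0⟩ := hex
      refine ⟨⟨v, hv⟩, fun w => ?_⟩
      by_cases hw : (w : la.V) = 0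
      · exact ⟨0, by rw [zero_smul]; exact (Subtype.ext hw).symm⟩
      · refine ⟨1, ?_⟩
        rw [one_smul]
        exact Subtype.ext (hker v hv w w.2 hv0 hw)
    · push Not at hex
      exact ⟨0, fun w => ⟨0, by rw [zero_smul]; exact (Subtype.ext (hex w w.2)).symm⟩⟩
  have hrk := LinearMap.finrank_range_add_finrank_ker F
  have hle := Submodule.finrank_mono hrange
  have hV2 : Module.finrank (ZMod 2) la.V ≤ 2 := by omega
  have hcardV : Nat.card la.V ≤ 4 := by
    rw [Module.natCard_eq_pow_finrank (K := ZMod 2), Nat.card_zmod]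
    calc 2 ^ Module.finrank (ZMod 2) la.V ≤ 2 ^ 2 := Nat.pow_le_pow_right (by norm_num) hV2
      _ = 4 := by norm_num
  have := la.card_eq
  omega

theorem card_map_conj (Q : Subgroup G) (g : G) :
    Nat.card (Q.map (MulAut.conj g).toMonoidHom) = Nat.card Q :=
  (Nat.card_congr (Q.equivMapOfInjective _ (MulAut.conj g).injective).toEquiv).symm

end Cfsg.Agent.LargeExtra.CentCard
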