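import Cfsg.Agent.LargeExtra.SwapFlip
import Cfsg.Agent.LargeExtra.CentCard
import Cfsg.Agent.LargeExtra.Perp
import Cfsg.Agent.LargeExtra.TransferPow

/-!
# The kill of `PGL₂(7)` (S1762, II-c2; helper805)

`|Q| = 2⁷`, `V = U ⊕ W` with `U`, `W` totally singular, every element of `C_G(z)` preserves or swaps `U` and `W`, some
element swaps them, and every linear automorphism of `U` is induced. Then `G` has a subgroup of index two.
-/

set_option autoImplicit false
set_option linter.style.haveILetI false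

namespace Cfsg.Agent.LargeExtra.PGLKill

open Cfsg.Agent.Co2Type.Quad Cfsg.Agent.LargeExtra.Base Cfsg.Agent.LargeExtra.TwoCentral
open Cfsg.Agent.LargeExtra.SwapBasic Cfsg.Agent.LargeExtra.SwapFlip Cfsg.Agent.LargeExtra.CentCard
open Module

variable {G : Type*} [Group G] {Q : Subgroup G} {z : G}

/-- The situation: `H = L₃(2).2 = PGL₂(7)` on `3 ⊕ 3*`. -/
structure Swap (h : Large Q z) (U W : Submodule (ZMod 2) h.V) : Prop where
  lag : Lag h U W
  pres : ∀ c, Keep h U W (h.act c) ∨ Flip h U W (h.act c)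
  swap : ∃ c, Flip h U W (h.act c)
  gl : ∀ φ : U ≃ₗ[ZMod 2] U, ∃ c, ∀ u : U, h.act c u = φ u

section Linear

variable {h : Large Q z} {U W : Submodule (ZMod 2) h.V}

theorem exists_ne_zero (S : Lag h U W) : ∃ u ∈ U, u ≠ 0 := by
  have h1 := S.cardU
  by_contra hcon
  push Not at hcon
  have h2 : U = ⊥ := by
    rw [eq_bot_iff]
    intro u hu
    exact hcon u hu
  rw [h2] at h1
  simp at h1

theorem not_keep_flip (S : Lag h U W) {f : h.V ≃ₗ[ZMod 2] h.V} (hk : Keep h U W f) (hf : Flip h U W f) :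
    False := by
  obtain ⟨u, hu, hu0⟩ := exists_ne_zero S
  apply hu0
  have := S.disj _ (hk.1 u hu) (hf.1 u hu)
  exact f.map_eq_zero_iff.1 this

theorem flip_mul {f g : h.V ≃ₗ[ZMod 2] h.V} (hf : Flip h U W f) (hg : Flip h U W g) : Keep h U W (f * g) :=
  ⟨fun v hv => hf.2 _ (hg.1 v hv), fun v hv => hf.1 _ (hg.2 v hv)⟩

theorem flip_mul_keep {f g : h.V ≃ₗ[ZMod 2] h.V} (hf : Flip h U W f) (hg : Keep h U W g) :
    Flip h U W (f * g) :=
  ⟨fun v hv => hf.1 _ (hg.1 v hv), fun v hv => hf.2 _ (hg.2 v hv)⟩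

theorem keep_mul_flip {f g : h.V ≃ₗ[ZMod 2] h.V} (hf : Keep h U W f) (hg : Flip h U W g) :
    Flip h U W (f * g) :=
  ⟨fun v hv => hf.2 _ (hg.1 v hv), fun v hv => hf.1 _ (hg.2 v hv)⟩

theorem keep_mul {f g : h.V ≃ₗ[ZMod 2] h.V} (hf : Keep h U W f) (hg : Keep h U W g) :
    Keep h U W (f * g) :=
  ⟨fun v hv => hf.1 _ (hg.1 v hv), fun v hv => hf.2 _ (hg.2 v hv)⟩

/-- A transvection `x` with centre `u` and axis `w₁^⊥ ≠ (f u)^⊥` does not commute with its conjugate under `f`. -/
theorem caseA {f : h.V ≃ₗ[ZMod 2] h.V} (I : Inv h U W f) {x : h.V ≃ₗ[ZMod 2] h.V} {u w₁ : h.V} (hu : u ∈ U)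
    (hu0 : u ≠ 0) (hw₁ : w₁ ∈ W) (hw₁0 : w₁ ≠ 0) (hne : w₁ ≠ f u) (hb : h.b u (f u) = 0) (hb₁ : h.b u w₁ = 0)
    (hxv : ∀ v, x v = v + h.b w₁ v • u + h.b u v • w₁)
    (hc : ∀ v, x (f (x (f v))) = f (x (f (x v)))) : False := by
  have S := I.lag
  have hfu := I.flip.1 u hu
  have hfu0 : f u ≠ 0 := fun h0 => hu0 (I.f_inj h0)
  have hfw₁ := I.flip.2 w₁ hw₁
  have hfw₁0 : f w₁ ≠ 0 := fun h0 => hw₁0 (I.f_inj h0)
  have hshift : ∀ a v, h.b a (f v) = h.b (f a) v := fun a v => by rw [← I.iso a (f v), I.inv]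
  -- `α = b(w₁, f w₁) = 0`
  have hα : h.b w₁ (f w₁) = 0 := by
    obtain ⟨v, hv, -, hv1⟩ := S.sep W.zero_mem hfu hfu0 hfu0
    -- `f x f v = v + f w₁`
    have hyv : f (x (f v)) = v + f w₁ := by
      rw [hxv, map_add, map_add, map_smul, map_smul, I.inv, hshift w₁ v, S.bU hfw₁ hv, zero_smul, add_zero,
        hshift u v, hv1, one_smul]
    have hxv' : x v = v + h.b w₁ v • u := by
      rw [hxv, S.bU hu hv, zero_smul, add_zero]
    have hyu : f (x (f u)) = u := by
      rw [hxv, map_add, map_add, map_smul, map_smul, I.inv, hshift w₁ u, S.bU hfw₁ hu, zero_smul, add_zero,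
        hb, zero_smul, add_zero]
    have lhs : x (v + f w₁) = v + h.b w₁ v • u + (f w₁ + h.b w₁ (f w₁) • u) := by
      rw [map_add, hxv', hxv (f w₁), S.bU hu hfw₁, zero_smul, add_zero]
    have rhs : f (x (f (x v))) = v + f w₁ + h.b w₁ v • u := by
      rw [hxv', map_add, map_add, map_add, hyv, map_smul, map_smul, map_smul, hyu]
    have h1 := hc v
    rw [hyv, lhs, rhs] at h1
    have h2 : h.b w₁ (f w₁) • u = 0 := by
      have e1 : v + h.b w₁ v • u + (f w₁ + h.b w₁ (f w₁) • u) =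
          (v + f w₁ + h.b w₁ v • u) + h.b w₁ (f w₁) • u := by abel
      rw [e1] at h1
      exact add_eq_left.1 h1
    rcases smul_eq_zero.1 h2 with h3 | h3
    · exact h3
    · exact absurd h3 hu0
  -- dimension
  have h1 := S.dim_one hu hfw₁ hfu hw₁ hu0 hfw₁0 hfu0 hw₁0 hne hb hb₁
    (by rw [I.iso, h.b_comm]; exact hb₁) (by rw [h.b_comm]; exact hα)
  apply hne
  rw [← h1, I.inv]

/-- an element of `W` perpendicular to `u`, different from `0` and `w` -/
theorem exists_third (S : Lag h U W) {u w : h.V} : ∃ w' ∈ W, h.b u w' = 0 ∧ w' ≠ 0 ∧ w' ≠ w := by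
  classical
  by_contra hcon
  push Not at hcon
  have := S.finiteQ
  have : Finite h.V := inferInstance
  have : Module.Finite (ZMod 2) h.V := Module.Finite.of_finite
  set F := (h.b u).domRestrict W with hF
  have hk : ∀ v ∈ LinearMap.ker F, v ≠ 0 → (v : h.V) = w := by
    intro v hv hv0
    exact hcon v v.2 hv (fun h0 => hv0 (Subtype.ext h0))
  have h1 := LinearMap.finrank_range_add_finrank_ker F
  have h2 : finrank (ZMod 2) (LinearMap.range F) ≤ 1 := by
    have := Submodule.finrank_le (LinearMap.range F)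
    rwa [finrank_self] at this
  have h3 : finrank (ZMod 2) (LinearMap.ker F) ≤ 1 := by
    rw [finrank_le_one_iff]
    by_cases hex : ∃ v ∈ LinearMap.ker F, v ≠ 0
    · obtain ⟨v, hv, hv0⟩ := hex
      refine ⟨⟨v, hv⟩, fun v' => ?_⟩
      by_cases hv' : (v' : W) = 0
      · exact ⟨0, by rw [zero_smul]; exact (Subtype.ext hv').symm⟩
      · refine ⟨1, ?_⟩
        rw [one_smul]
        apply Subtype.ext
        apply Subtype.ext
        rw [hk v hv hv0, hk v' v'.2 hv']
    · push Not at hex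
      exact ⟨0, fun v' => ⟨0, by rw [zero_smul]; exact (Subtype.ext (hex v' v'.2)).symm⟩⟩
  rw [S.symm.finrank_U] at h1
  omega

end Linear

variable {h : Large Q z} {U W : Submodule (ZMod 2) h.V}

/-- vectors `u + f u` with `b(u, f u) = 0`, `u ≠ 0`, do not come from conjugates of `z` -/
theorem not_conj_graph [Finite G] (S : Swap h U W) {s : Subgroup.centralizer ({z} : Set G)}
    (I : Inv h U W (h.act s)) {c : Q} {u : h.V} (hu : u ∈ U) (hu0 : u ≠ 0) (hb : h.b u (h.act s u) = 0)
    (hc : h.pr c = u + h.act s u) (g : G) : g * z * g⁻¹ ≠ c := by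
  intro hg
  obtain ⟨f, hf⟩ : ∃ f, f = h.act s := ⟨_, rfl⟩
  rw [← hf] at I hb hc
  obtain ⟨w, hw⟩ : ∃ w, w = f u := ⟨_, rfl⟩
  have hwW : w ∈ W := hw ▸ I.flip.1 u hu
  have hw0 : w ≠ 0 := fun h0 => hu0 (I.f_inj (hw ▸ h0))
  have hfw : f w = u := by rw [hw, I.inv]
  rw [← hw] at hb hc
  have hcz : (c : G) ≠ z := by
    intro h1
    have h2 := h.pr_eq_zero.2 (Or.inr h1)
    rw [hc] at h2
    have h3 := eq_of_add h h2
    exact hu0 (I.lag.disj u hu (h3 ▸ hwW))
  have p := pair_of_conj h (g := g) (by rw [hg]; exact c.2) (by rw [hg]; exact hcz)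
  rw [hg] at p
  have hva : p.va = u + w := hc
  have hiso : ∀ x ∈ p.X, ∀ v w, h.b (x v) (x w) = h.b v w := by
    intro x hx
    obtain ⟨c', -, rfl⟩ := p.mem_X.1 hx
    exact h.b_act c'
  have hKF : ∀ x ∈ p.X, Keep h U W x ∨ Flip h U W x := by
    intro x hx
    obtain ⟨c', -, rfl⟩ := p.mem_X.1 hx
    exact S.pres c'
  have hXva : ∀ x ∈ p.X, x (u + w) = u + w := by
    intro x hx
    have := p.X_va hx
    rwa [hva] at this
  have hfH : f ∈ p.H := by rw [hf]; exact ⟨s, rfl⟩
  have hfva : f p.va = p.va := by rw [hva, map_add, ← hw, hfw, add_comm]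
  have hfsymm : ∀ v, f⁻¹ v = f v := by
    intro v
    show f.symm v = f v
    rw [LinearEquiv.symm_apply_eq, I.inv]
  -- step 1
  have key1 : ∀ x ∈ p.X, Keep h U W x → x ≠ 1 → ∀ v, x v = v + h.b w v • u + h.b u v • w := by
    intro x hx hk hx1
    obtain ⟨u₁, hu₁, w₁, hw₁, hu₁0, hw₁0, hb₁, hxv⟩ := I.lag.transvection (hiso x hx) hk (p.X_sq hx) hx1
    have hfix := hXva x hx
    rw [hxv, map_add, map_add, I.lag.bW hw₁ hwW, I.lag.bU hu₁ hu, add_zero, zero_add, add_assoc] at hfix
    have h1 := add_eq_left.1 hfix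
    have h2 : h.b w₁ u • u₁ = 0 := I.lag.disj _ (U.smul_mem _ hu₁) (by
      rw [eq_of_add h h1]; exact W.smul_mem _ hw₁)
    have h3 : h.b u₁ w • w₁ = 0 := by rw [h2, zero_add] at h1; exact h1
    have h4 : h.b w₁ u = 0 := (smul_eq_zero.1 h2).resolve_right hu₁0
    have h5 : h.b u₁ w = 0 := (smul_eq_zero.1 h3).resolve_right hw₁0
    have hy : f * x * f⁻¹ ∈ p.X := p.X_normal hfH hfva hx
    have hcomm : ∀ v, x (f (x (f v))) = f (x (f (x v))) := by
      intro v
      have h6 := congrArg (fun t : h.V ≃ₗ[ZMod 2] h.V => t v) (p.X_comm hx hy)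
      have h7 : x (f (x (f⁻¹ v))) = f (x (f⁻¹ (x v))) := h6
      rwa [hfsymm, hfsymm] at h7
    by_cases hwe : w₁ = w
    · by_cases hue : u₁ = u
      · rw [← hwe, ← hue]; exact hxv
      · exfalso
        rw [hwe] at hxv hb₁
        have hhf := hfw
        exact caseA I.symm hwW hw0 hu₁ hu₁0 (by rw [hfw]; exact hue) (by rw [hfw, h.b_comm]; exact hb)
          (by rw [h.b_comm]; exact hb₁) (fun v => by rw [hxv]; abel) hcomm
    · exfalso
      by_cases hue : u₁ = u
      · rw [hue] at hxv hb₁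
        exact caseA I hu hu0 hw₁ hw₁0 (by rw [← hw]; exact hwe) (by rw [← hw]; exact hb) hb₁ hxv hcomm
      · apply hue
        exact I.lag.dim_one hu hu₁ hwW hw₁ hu0 hu₁0 hw0 hw₁0 hwe hb (by rw [h.b_comm]; exact h4) h5 hb₁
  -- step 2: a swapping element of `X`
  have hcardX : 4 ≤ Nat.card p.X := by
    have := I.lag.finiteQ
    have h1 := p.card_X
    have h2 : Nat.card p.lz.V = 64 := I.lag.cardV
    have h3 : Nat.card p.D * Nat.card p.D ≤ Nat.card p.lz.V := by
      have := Cfsg.Agent.LargeExtra.Perp.card_sq_le p.lz p.D (fun v hv w hw => p.b_D hv hw)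
      simpa [pow_two] using this
    rw [h2] at h1 h3
    have h4 : Nat.card p.D ≤ 8 := by nlinarith
    nlinarith
  obtain ⟨σ, hσX, hσ⟩ : ∃ σ ∈ p.X, Flip h U W σ := by
    classical
    by_contra hcon
    push Not at hcon
    have hkeep : ∀ x ∈ p.X, Keep h U W x := fun x hx => (hKF x hx).resolve_right (hcon x hx)
    have hfin : Finite p.X := by
      apply Nat.finite_of_card_ne_zero; omega
    have hinj : Function.Injective (fun x : p.X => decide ((x : p.lz.V ≃ₗ[ZMod 2] p.lz.V) = 1)) := by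
      intro a b hab
      have hab' : decide ((a : p.lz.V ≃ₗ[ZMod 2] p.lz.V) = 1) = decide ((b : p.lz.V ≃ₗ[ZMod 2] p.lz.V) = 1) :=
        hab
      by_cases ha : (a : p.lz.V ≃ₗ[ZMod 2] p.lz.V) = 1
      · rw [decide_eq_true ha] at hab'
        have hb' := of_decide_eq_true hab'.symm
        exact Subtype.ext (ha.trans hb'.symm)
      · rw [decide_eq_false ha] at hab'
        have hb' := of_decide_eq_false hab'.symm
        apply Subtype.ext
        ext v
        rw [key1 a a.2 (hkeep a a.2) ha v, key1 b b.2 (hkeep b b.2) hb' v]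
    have h1 := Nat.card_le_card_of_injective _ hinj
    have h2 : Nat.card Bool = 2 := by simp
    omega
  -- step 3
  obtain ⟨w', hw', hbw', hw'0, hw'w⟩ := exists_third I.lag (u := u) (w := w)
  -- the transvection on `U`
  let T : U →ₗ[ZMod 2] U :=
    { toFun := fun v => v + h.b w' v • ⟨u, hu⟩
      map_add' := by
        intro v v'
        rw [Submodule.coe_add, map_add, add_smul]; abel
      map_smul' := by
        intro a v
        rw [Submodule.coe_smul, map_smul, smul_eq_mul, RingHom.id_apply, smul_add, smul_smul] }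
  have hT : ∀ v : U, (T v : h.V) = v + h.b w' v • u := fun v => rfl
  have hTT : Function.Involutive T := by
    intro v
    apply Subtype.ext
    rw [hT, hT, map_add, map_smul, h.b_comm w' u, hbw', smul_zero, add_zero, add_assoc, h.add_self, add_zero]
  obtain ⟨c', hc'⟩ := S.gl (LinearEquiv.ofInvolutive T hTT)
  obtain ⟨r, hr⟩ : ∃ r, r = h.act c' := ⟨_, rfl⟩
  have hrU : ∀ v ∈ U, r v = v + h.b w' v • u := by
    intro v hv
    rw [hr]
    exact hc' ⟨v, hv⟩
  have hriso : ∀ v w, h.b (r v) (r w) = h.b v w := by rw [hr]; exact h.b_act c'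
  have hru : r u = u := by rw [hrU u hu, h.b_comm w' u, hbw', zero_smul, add_zero]
  have hrk : Keep h U W r := by
    rw [hr]
    rcases S.pres c' with h1 | h1
    · exact h1
    · exfalso
      rw [← hr] at h1
      have h2 := h1.1 u hu
      rw [hru] at h2
      exact hu0 (I.lag.disj u hu h2)
  have hrrU : ∀ v ∈ U, r (r v) = v := by
    intro v hv
    rw [hrU v hv, map_add, map_smul, hru, hrU v hv, add_assoc, h.add_self, add_zero]
  have hrW : ∀ v ∈ W, r v = v + h.b u v • w' := by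
    intro v hv
    apply eq_of_add h
    apply I.lag.eq_zero_W (W.add_mem (hrk.2 v hv) (W.add_mem hv (W.smul_mem _ hw')))
    intro v' hv'
    have h2 : h.b (r v) v' = h.b v (r v') := by
      rw [← hriso v (r v'), hrrU v' hv']
    rw [map_add, LinearMap.add_apply, h2, hrU v' hv', map_add, map_add, LinearMap.add_apply, map_smul,
      map_smul, LinearMap.smul_apply, smul_eq_mul, smul_eq_mul, h.b_comm u v]
    have : ∀ a b c : ZMod 2, a + b * c + (a + c * b) = 0 := by decide
    exact this _ _ _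
  have hrva : r p.va = p.va := by
    rw [hva, map_add, hru, hrW w hwW, hb, zero_smul, add_zero]
  have hrH : r ∈ p.H := by rw [hr]; exact ⟨c', rfl⟩
  have hσ'X : r * σ * r⁻¹ ∈ p.X := p.X_normal hrH hrva hσX
  obtain ⟨σ', hσ'⟩ : ∃ σ', σ' = r * σ * r⁻¹ := ⟨_, rfl⟩
  rw [← hσ'] at hσ'X
  have hσ'r : ∀ v, σ' (r v) = r (σ v) := by
    intro v
    have : σ' * r = r * σ := by rw [hσ']; group
    exact congrArg (fun t : h.V ≃ₗ[ZMod 2] h.V => t v) this
  have hσ'F : Flip h U W σ' := by
    rcases hKF σ' hσ'X with h1 | h1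
    · exfalso
      have h2 : Keep h U W (σ' * r) := keep_mul h1 hrk
      have h3 : Flip h U W (σ' * r) := by
        have : σ' * r = r * σ := by rw [hσ']; group
        rw [this]
        exact keep_mul_flip hrk hσ
      exact not_keep_flip I.lag h2 h3
    · exact h1
  have hσσ : ∀ v, σ (σ v) = v := by
    intro v
    exact congrArg (fun t : h.V ≃ₗ[ZMod 2] h.V => t v) (p.X_sq hσX)
  have hσu : σ u = w := by
    have h1 := hXva σ hσX
    rw [map_add] at h1
    apply eq_of_add h
    apply I.lag.disj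
    · have : σ u + w = σ w + u := by
        apply eq_of_add h
        calc σ u + w + (σ w + u) = (σ u + σ w) + (u + w) := by abel
          _ = 0 := by rw [h1, h.add_self]
      rw [this]
      exact U.add_mem (hσ.2 w hwW) hu
    · exact W.add_mem (hσ.1 u hu) hwW
  have hξX : σ' * σ ∈ p.X := p.X.mul_mem hσ'X hσX
  have hξK : Keep h U W (σ' * σ) := flip_mul hσ'F hσ
  obtain ⟨v, hv, hv0, hv1⟩ := I.lag.sep hwW hw' hw'0 hw'w
  have hσv := hσ.1 v hv
  have hbσ : h.b u (σ v) = 0 := by
    have := hiso σ hσX u (σ v)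
    rw [← this, hσσ, hσu]; exact hv0
  have h1 : r (σ v) = σ v := by rw [hrW _ hσv, hbσ, zero_smul, add_zero]
  have h2 : r v = v + u := by rw [hrU v hv, hv1, one_smul]
  have h3 := hσ'r v
  rw [h1, h2] at h3
  -- `σ' = (σ' σ) σ`
  have h4 : σ' (v + u) = (σ' * σ) (σ v + w) := by
    show σ' (v + u) = σ' (σ (σ v + w))
    rw [map_add σ, hσσ, ← hσu, hσσ]
  have h5 : (σ' * σ) (σ v + w) = σ v + w := by
    by_cases h6 : σ' * σ = 1
    · rw [h6]; rfl
    · rw [key1 _ hξX hξK h6, map_add, map_add, I.lag.bW hwW hσv, I.lag.bW hwW hwW, hbσ, hb]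
      simp
  rw [h4, h5] at h3
  exact hw0 (add_eq_left.1 h3)

/-- `s r s⁻¹` for `r` over `v + f v` -/
theorem comm_graph {s : Subgroup.centralizer ({z} : Set G)} (hs : (s : G) * s = 1 ∨ (s : G) * s = z) (x r : Q)
    (hr : h.pr r = h.pr x + h.act s (h.pr x)) :
    (h.b (h.pr x) (h.act s (h.pr x)) = 0 → (s : G) * r = r * s) ∧
      (h.b (h.pr x) (h.act s (h.pr x)) = 1 → (s : G) * r = r * z * s) := by
  set x' := h.conjQ s x with hx'
  have hx'c : (x' : G) = s * x * (s : G)⁻¹ := rfl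
  have hpr' : h.act s (h.pr x) = h.pr x' := h.act_pr s x
  have hsz : (s : G) * z = z * s := Subgroup.mem_centralizer_singleton_iff.1 s.2
  have hssx : ((s : G) * s) * x * ((s : G) * s)⁻¹ = x := by
    rcases hs with h1 | h1 <;> rw [h1]
    · group
    · rw [← h.comm_z x x.2]; group
  have e0 : (s : G) * (x' * x) * (s : G)⁻¹ = x * x' := by
    calc (s : G) * (x' * x) * (s : G)⁻¹ = (s * x' * (s : G)⁻¹) * (s * x * (s : G)⁻¹) := by group
      _ = (((s : G) * s) * x * ((s : G) * s)⁻¹) * x' := by rw [hx'c]; group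
      _ = x * x' := by rw [hssx]
  have hr' : (r : G) = x' * x ∨ (r : G) = x' * x * z := by
    rw [hpr', add_comm, ← h.pr_mul] at hr
    exact h.pr_eq_pr.1 hr
  rw [hpr']
  constructor
  · intro h1
    have h2 : (x : G) * x' = x' * x := (h.b_pr _ _).1 h1
    rw [h2, mul_inv_eq_iff_eq_mul] at e0
    rcases hr' with h3 | h3
    · rw [h3]; exact e0
    · rw [h3]
      calc (s : G) * (x' * x * z) = (s * (x' * x)) * z := by group
        _ = x' * x * (s * z) := by rw [e0]; group
        _ = x' * x * z * s := by rw [hsz]; group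
  · intro h1
    have h2 : (x : G) * x' = x' * x * z := (h.b_pr_one _ _).1 h1
    rw [h2, mul_inv_eq_iff_eq_mul] at e0
    rcases hr' with h3 | h3
    · rw [h3]; exact e0
    · rw [h3]
      calc (s : G) * (x' * x * z) = (s * (x' * x)) * z := by group
        _ = x' * x * z * (s * z) := by rw [e0]; group
        _ = x' * x * z * z * s := by rw [hsz]; group

/-- elements of `Q` commuting with `s` -/
theorem graph_of_comm {s : Subgroup.centralizer ({z} : Set G)} (I : Inv h U W (h.act s))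
    (hs : (s : G) * s = 1 ∨ (s : G) * s = z) {r : G} (hr : r ∈ Q) (hrs : r * s = s * r) :
    ∃ u ∈ I.U0, h.pr ⟨r, hr⟩ = u + h.act s u := by
  have h1 : h.act s (h.pr ⟨r, hr⟩) = h.pr ⟨r, hr⟩ := by
    apply Pair.act_pr_coe
    show (s : G) * r * (s : G)⁻¹ = r
    rw [← hrs]; group
  obtain ⟨u, hu, hru⟩ := I.fixed_iff.1 h1
  refine ⟨u, I.mem_U0.2 ⟨hu, ?_⟩, hru⟩
  by_contra h2
  obtain ⟨x, rfl⟩ := h.pr_surjective u
  have h3 := (comm_graph hs x ⟨r, hr⟩ hru).2 (zmod_two_ne h2)
  have h4 : (s : G) * r = r * z * s := h3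
  have hsz : (s : G) * z = z * s := Subgroup.mem_centralizer_singleton_iff.1 s.2
  rw [← hrs, mul_assoc r z, ← hsz] at h4
  have h5 := mul_left_cancel h4
  exact h.z_ne (mul_eq_left.1 h5.symm)

/-- an element commuting with `s` and `C_Q(s)`: its action on `V` -/
theorem act_eq_one_of_keep {s : Subgroup.centralizer ({z} : Set G)} (I : Inv h U W (h.act s))
    (hs : (s : G) * s = 1 ∨ (s : G) * s = z) (y : Subgroup.centralizer ({z} : Set G))
    (hys : (y : G) * s = s * y) (hyE : ∀ e ∈ Q, e * s = s * e → e * y = y * e)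
    (hk : Keep h U W (h.act y)) : h.act y = 1 := by
  apply I.eq_one_of_fix (h.b_act y) hk
  · intro v
    have : y * s = s * y := Subtype.ext hys
    have h1 := congrArg (fun t => h.act t v) this
    simp only [map_mul] at h1
    exact h1
  · intro u hu
    obtain ⟨x, hx⟩ := h.pr_surjective u
    obtain ⟨r, hr⟩ := h.pr_surjective (u + h.act s u)
    have h1 := (comm_graph hs x r (by rw [hr, hx])).1 (by rw [hx]; exact (I.mem_U0.1 hu).2)
    have h2 := hyE r r.2 h1.symm
    rw [← hr]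
    apply Pair.act_pr_coe
    show (y : G) * r * (y : G)⁻¹ = r
    rw [← h2]; group

/-- all `s e`, `e ∈ C_Q(s)`, are conjugate to `s` under `Q` -/
theorem exists_conj_mul {s : Subgroup.centralizer ({z} : Set G)} (I : Inv h U W (h.act s))
    (hs : (s : G) * s = 1 ∨ (s : G) * s = z) {e : Q} {u : h.V} (hu : u ∈ I.U0)
    (he : h.pr e = u + h.act s u) : ∃ x ∈ Q, x * s * x⁻¹ = s * e := by
  have hsz : (s : G) * z = z * s := Subgroup.mem_centralizer_singleton_iff.1 s.2
  obtain ⟨x, hx⟩ := h.pr_surjective u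
  have huU := (I.mem_U0.1 hu).1
  -- `e' = s⁻¹ x s x⁻¹`
  obtain ⟨e', he'⟩ : ∃ e' : Q, e' = h.conjQ s⁻¹ x * x⁻¹ := ⟨_, rfl⟩
  have he'c : (e' : G) = (s : G)⁻¹ * x * s * (x : G)⁻¹ := by
    rw [he', Subgroup.coe_mul, h.conjQ_coe, Subgroup.coe_inv, Subgroup.coe_inv]; group
  have hpre' : h.pr e' = h.pr e := by
    rw [he', h.pr_mul, ← h.act_pr, h.pr_inv, h.neg_eq, he, hx, map_inv]
    have : (h.act s)⁻¹ u = h.act s u := by
      show (h.act s).symm u = h.act s u
      rw [LinearEquiv.symm_apply_eq, I.inv]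
    rw [this, add_comm]
  have hx1 : (x : G) * s * (x : G)⁻¹ = s * e' := by rw [he'c]; group
  rcases h.pr_eq_pr.1 hpre' with h1 | h1
  · exact ⟨x, x.2, by rw [hx1, h1]⟩
  · -- `e' = e z`
    obtain ⟨u', hu', hu'1⟩ := I.exists_one
    obtain ⟨x', hx'⟩ := h.pr_surjective u'
    obtain ⟨r, hr⟩ := h.pr_surjective (u' + h.act s u')
    have h2 := (comm_graph hs x' r (by rw [hr, hx'])).2 (by rw [hx']; exact hu'1)
    have h3 : (r : G) * e = e * r := by
      rw [← h.b_pr, hr, he]
      exact I.b_graph hu' huU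
    have hrz : (r : G) * z = z * r := h.comm_z r r.2
    have h4 : (r : G) * s * (r : G)⁻¹ = z * s := by
      rw [mul_inv_eq_iff_eq_mul]
      calc (r : G) * s = z * z * (r * s) := by rw [h.z_sq, one_mul]
        _ = z * ((z * r) * s) := by group
        _ = z * ((r * z) * s) := by rw [hrz]
        _ = z * (s * r) := by rw [h2]
        _ = z * s * r := by group
    refine ⟨r * x, Q.mul_mem r.2 x.2, ?_⟩
    calc (r : G) * x * s * ((r : G) * x)⁻¹ = r * (x * s * (x : G)⁻¹) * (r : G)⁻¹ := by group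
      _ = r * (s * (e * z)) * (r : G)⁻¹ := by rw [hx1, h1]
      _ = (r * s * (r : G)⁻¹) * (r * e) * (z * (r : G)⁻¹) := by group
      _ = (r * s * (r : G)⁻¹) * (e * r) * ((r : G)⁻¹ * z) := by
          rw [h3]
          have : z * (r : G)⁻¹ = (r : G)⁻¹ * z := by
            rw [eq_inv_mul_iff_mul_eq, ← mul_assoc, hrz, mul_assoc, mul_inv_cancel, mul_one]
          rw [this]
      _ = z * (s * e) * z := by rw [h4]; group
      _ = z * (z * (s * e)) := by
          have h5 : (s : G) * e * z = z * (s * e) := by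
            calc (s : G) * e * z = s * (e * z) := by group
              _ = (s * z) * e := by rw [h.comm_z e e.2]; group
              _ = z * (s * e) := by rw [hsz]; group
          rw [mul_assoc z, h5]
      _ = s * e := by rw [← mul_assoc, h.z_sq, one_mul]

theorem inv_of_flip (S : Swap h U W) {s : Subgroup.centralizer ({z} : Set G)} (hf : Flip h U W (h.act s))
    (hs : (s : G) * s = 1 ∨ (s : G) * s = z) : Inv h U W (h.act s) where
  lag := S.lag
  iso := h.b_act s
  flip := hf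
  inv v := by
    have h1 : h.act (s * s) = 1 := by
      apply h.act_mem
      show (s : G) * s ∈ Q
      rcases hs with h2 | h2 <;> rw [h2]
      · exact Q.one_mem
      · exact h.z_mem
    rw [map_mul] at h1
    exact congrArg (fun t : h.V ≃ₗ[ZMod 2] h.V => t v) h1

private theorem mul_inv_cancel_right_of' {x t : G} (h3 : x * t = 1) (ht : t * t = 1) : x = t := by
  rw [eq_inv_of_mul_eq_one_left h3, inv_eq_of_mul_eq_one_left ht]

/-- an element commuting with an outer involution `t` and with `C_Q(t)` lies in `Q⟨t⟩` -/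
theorem outer_cent [Finite G] (S : Swap h U W) {t : Subgroup.centralizer ({z} : Set G)}
    (hf : Flip h U W (h.act t)) (ht : (t : G) * t = 1) (I : Inv h U W (h.act t))
    (x : Subgroup.centralizer ({z} : Set G)) (hxt : (x : G) * t = t * x)
    (hxE : ∀ e ∈ Q, e * (t : G) = t * e → e * (x : G) = x * e) :
    (x : G) ∈ Q ∨ (x : G) * t ∈ Q := by
  rcases S.pres x with hk | hk
  · left
    exact h.mem_of_act _ (act_eq_one_of_keep I (Or.inl ht) x hxt hxE hk)
  · right
    obtain ⟨y, hy⟩ : ∃ y : Subgroup.centralizer ({z} : Set G), y = x * t := ⟨_, rfl⟩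
    have hyc : (y : G) = x * t := by rw [hy, Subgroup.coe_mul]
    have hk' : Keep h U W (h.act y) := by
      rw [hy, map_mul]; exact flip_mul hk hf
    have h1 : (y : G) * t = t * y := by
      rw [hyc, hxt, mul_assoc, hxt]
    have h2 : ∀ e ∈ Q, e * (t : G) = t * e → e * (y : G) = y * e := by
      intro e he het
      rw [hyc, ← mul_assoc, hxE e he het, mul_assoc, het, ← mul_assoc]
    rw [← hyc]
    exact h.mem_of_act _ (act_eq_one_of_keep I (Or.inl ht) y h1 h2 hk')

/-- involutions outside `C₀` are not conjugate to `z` -/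
theorem not_conj_outer [Finite G] (S : Swap h U W) {t : Subgroup.centralizer ({z} : Set G)}
    (hf : Flip h U W (h.act t)) (ht : (t : G) * t = 1) (g : G) : g * z * g⁻¹ ≠ t := by
  intro hg
  have hs : (t : G) * t = 1 ∨ (t : G) * t = z := Or.inl ht
  have I := inv_of_flip S hf hs
  have htQ : (t : G) ∉ Q := by
    intro h1
    have h2 := h.act_mem t h1
    rw [h2] at hf
    have hk : Keep h U W (1 : h.V ≃ₗ[ZMod 2] h.V) := ⟨fun v hv => hv, fun v hv => hv⟩
    exact not_keep_flip S.lag hk hf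
  have hzA := notMem_of_conj h hg htQ
  have hcardA := card_map_conj Q g
  have la : Large (Q.map (MulAut.conj g).toMonoidHom) (t : G) := by rw [← hg]; exact h.conj g
  revert hzA la hcardA
  generalize Q.map (MulAut.conj g).toMonoidHom = A
  intro hzA hcardA la
  by_cases hD : ∀ d ∈ Q, d ∈ A → d = 1
  · have htz : z * (t : G) = t * z := (Subgroup.mem_centralizer_singleton_iff.1 t.2).symm
    have hX : ∀ x ∈ A, x * z = z * x → x = 1 ∨ x = t := by
      intro x hxA hxz
      have hxC : x ∈ Subgroup.centralizer ({z} : Set G) := Subgroup.mem_centralizer_singleton_iff.2 hxz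
      have hxt : x * t = t * x := la.comm_z x hxA
      have hxE : ∀ e ∈ Q, e * t = t * e → e * x = x * e := fun e he het =>
        comm_of_inter_eq_bot h la hD he het hxA hxz
      rcases outer_cent S hf ht I ⟨x, hxC⟩ hxt hxE with h2 | h2
      · exact Or.inl (hD x h2 hxA)
      · right
        have h3 := hD _ h2 (A.mul_mem hxA la.z_mem)
        exact mul_inv_cancel_right_of' h3 ht
    have h1 := card_le_eight la h.z_sq htz hX
    rw [hcardA, S.lag.cardQ] at h1
    omega
  · push Not at hD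
    obtain ⟨d, hdQ, hdA, hd1⟩ := hD
    have hdt : d * t = t * d := la.comm_z d hdA
    obtain ⟨u, hu, hdu⟩ := graph_of_comm I hs hdQ hdt
    have hdz : d ≠ z := fun h1 => hzA (h1 ▸ hdA)
    have hu0 : u ≠ 0 := by
      intro h1
      rw [h1, map_zero, add_zero] at hdu
      rcases h.pr_eq_zero.1 hdu with h2 | h2
      · exact hd1 h2
      · exact hdz h2
    obtain ⟨x, hx, hxt⟩ := exists_conj_mul I hs (e := ⟨d, hdQ⟩) hu hdu
    obtain ⟨w, hwA, hwd⟩ := exists_not_comm la hdA hd1 (fun h1 => htQ (h1 ▸ hdQ))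
    have hwt : w * t = t * w := la.comm_z w hwA
    have h1 : w * d * w⁻¹ = t * d := by
      rw [mul_inv_eq_iff_eq_mul, hwd, mul_assoc d, hwt, ← mul_assoc, hdt]
    have hxt' : x * t * x⁻¹ = t * d := hxt
    apply not_conj_graph S I (c := ⟨d, hdQ⟩) (I.mem_U0.1 hu).1 hu0 (I.mem_U0.1 hu).2 hdu (w⁻¹ * x * g)
    show w⁻¹ * x * g * z * (w⁻¹ * x * g)⁻¹ = d
    calc w⁻¹ * x * g * z * (w⁻¹ * x * g)⁻¹ = w⁻¹ * (x * (g * z * g⁻¹) * x⁻¹) * w := by group
      _ = w⁻¹ * (w * d * w⁻¹) * w := by rw [hg, hxt', h1]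
      _ = d := by group

/-- the subgroup of `C_G(z)` preserving `U` and `W` -/
def K (S : Swap h U W) : Subgroup (Subgroup.centralizer ({z} : Set G)) where
  carrier := {c | Keep h U W (h.act c)}
  one_mem' := by
    show Keep h U W (h.act 1)
    rw [map_one]
    exact ⟨fun v hv => hv, fun v hv => hv⟩
  mul_mem' := by
    intro a b ha hb
    show Keep h U W (h.act (a * b))
    rw [map_mul]
    exact keep_mul ha hb
  inv_mem' := by
    intro a ha
    show Keep h U W (h.act a⁻¹)
    rcases S.pres a⁻¹ with h1 | h1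
    · exact h1
    · exfalso
      have h2 : Flip h U W (h.act (a⁻¹ * a)) := by
        rw [map_mul]; exact flip_mul_keep h1 ha
      rw [inv_mul_cancel, map_one] at h2
      exact not_keep_flip S.lag ⟨fun v hv => hv, fun v hv => hv⟩ h2

theorem mem_K (S : Swap h U W) {c : Subgroup.centralizer ({z} : Set G)} : c ∈ K S ↔ Keep h U W (h.act c) :=
  Iff.rfl

theorem not_mem_K (S : Swap h U W) {c : Subgroup.centralizer ({z} : Set G)} : c ∉ K S ↔ Flip h U W (h.act c) := by
  rw [mem_K]
  constructor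
  · intro h1; exact (S.pres c).resolve_left h1
  · intro h1 h2; exact not_keep_flip S.lag h2 h1

theorem index_K (S : Swap h U W) : (K S).index = 2 := by
  obtain ⟨s, hs⟩ := S.swap
  rw [Subgroup.index_eq_two_iff]
  refine ⟨s, fun b => ?_⟩
  rcases S.pres b with h1 | h1
  · right
    refine ⟨h1, ?_⟩
    rw [not_mem_K, map_mul]
    exact keep_mul_flip h1 hs
  · left
    refine ⟨?_, (not_mem_K S).2 h1⟩
    rw [mem_K, map_mul]
    exact flip_mul h1 hs

/-- an element swapping `U` and `W` whose square acts trivially -/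
theorem exists_outer_inv (S : Swap h U W) :
    ∃ s : Subgroup.centralizer ({z} : Set G), Flip h U W (h.act s) ∧ h.act s * h.act s = 1 := by
  classical
  have := S.lag.finiteQ
  have : Finite h.V := inferInstance
  have : Module.Finite (ZMod 2) h.V := Module.Finite.of_finite
  obtain ⟨c₀, hc₀⟩ := S.swap
  have hinv : Flip h U W (h.act c₀⁻¹) := by
    rw [← not_mem_K S, inv_mem_iff, not_mem_K]; exact hc₀
  let e := Module.finBasis (ZMod 2) U
  have hw : ∀ i, ∃ w ∈ W, ∀ u : U, h.b w u = e.coord i u := fun i => S.lag.exists_repr (e.coord i)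
  choose w hwW hwu using hw
  let φ : U →ₗ[ZMod 2] h.V := ∑ i, (e.coord i).smulRight (w i)
  have hφ : ∀ u, φ u = ∑ i, e.coord i u • w i := by
    intro u
    show (∑ i, (e.coord i).smulRight (w i)) u = _
    rw [LinearMap.sum_apply]
    rfl
  have hφW : ∀ u, φ u ∈ W := by
    intro u
    rw [hφ]
    exact W.sum_mem fun i _ => W.smul_mem _ (hwW i)
  have hφb : ∀ u v : U, h.b (φ u) v = ∑ i, e.coord i u * e.coord i v := by
    intro u v
    rw [hφ, map_sum, LinearMap.sum_apply]
    apply Finset.sum_congr rfl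
    intro i _
    rw [map_smul, LinearMap.smul_apply, hwu, smul_eq_mul]
  have hφsymm : ∀ u v : U, h.b (φ u) v = h.b (φ v) u := by
    intro u v
    rw [hφb, hφb]
    exact Finset.sum_congr rfl fun i _ => mul_comm _ _
  have hφinj : ∀ u : U, φ u = 0 → u = 0 := by
    intro u hu
    apply e.ext_elem
    intro i
    have h1 : h.b (φ u) (e i) = 0 := by rw [hu]; simp
    rw [hφb] at h1
    rw [map_zero, Finsupp.zero_apply]
    rw [Finset.sum_eq_single i] at h1
    · simpa [Basis.coord_apply] using h1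
    · intro j _ hj
      rw [Basis.coord_apply, Basis.coord_apply, e.repr_self, Finsupp.single_apply, if_neg (Ne.symm hj), mul_zero]
    · intro hi; exact absurd (Finset.mem_univ i) hi
  -- the automorphism of `U`
  let g : U →ₗ[ZMod 2] U :=
    { toFun := fun u => ⟨h.act c₀⁻¹ (φ u), hinv.2 _ (hφW u)⟩
      map_add' := fun u v => by
        apply Subtype.ext
        show h.act c₀⁻¹ (φ (u + v)) = h.act c₀⁻¹ (φ u) + h.act c₀⁻¹ (φ v)
        rw [map_add, map_add]
      map_smul' := fun a u => by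
        apply Subtype.ext
        show h.act c₀⁻¹ (φ (a • u)) = a • h.act c₀⁻¹ (φ u)
        rw [map_smul, map_smul] }
  have hg : ∀ u, (g u : h.V) = h.act c₀⁻¹ (φ u) := fun u => rfl
  have hginj : Function.Injective g := by
    rw [← LinearMap.ker_eq_bot, LinearMap.ker_eq_bot']
    intro u hu
    apply hφinj
    have h1 : h.act c₀⁻¹ (φ u) = 0 := congrArg Subtype.val hu
    exact (h.act c₀⁻¹).map_eq_zero_iff.1 h1
  obtain ⟨c₁, hc₁⟩ := S.gl (LinearEquiv.ofInjectiveEndo g hginj)
  have hsU : ∀ u : U, h.act (c₀ * c₁) u = φ u := by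
    intro u
    have h1 : h.act c₁ u = h.act c₀⁻¹ (φ u) := hc₁ u
    rw [map_mul]
    show h.act c₀ (h.act c₁ u) = φ u
    rw [h1]
    have h2 : (h.act c₀ * h.act c₀⁻¹) (φ u) = φ u := by
      rw [← map_mul, mul_inv_cancel, map_one]; rfl
    exact h2
  have hflip : Flip h U W (h.act (c₀ * c₁)) := by
    rcases S.pres (c₀ * c₁) with h1 | h1
    · exfalso
      obtain ⟨u, hu, hu0⟩ := exists_ne_zero S.lag
      apply hu0
      have h2 := h1.1 u hu
      rw [hsU ⟨u, hu⟩] at h2
      have h3 := S.lag.disj _ h2 (hφW _)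
      exact congrArg Subtype.val (hφinj ⟨u, hu⟩ h3)
    · exact h1
  have hflip' : Flip h U W (h.act (c₀ * c₁)⁻¹) := by
    rw [← not_mem_K S, inv_mem_iff, not_mem_K]; exact hflip
  refine ⟨c₀ * c₁, hflip, ?_⟩
  obtain ⟨f, hf⟩ : ∃ f, f = h.act (c₀ * c₁) := ⟨_, rfl⟩
  rw [← hf] at hflip hsU ⊢
  have hiso : ∀ v w, h.b (f v) (f w) = h.b v w := by rw [hf]; exact h.b_act _
  have hsurj : ∀ w ∈ W, ∃ u ∈ U, f u = w := by
    intro w hw
    refine ⟨h.act (c₀ * c₁)⁻¹ w, hflip'.2 w hw, ?_⟩
    rw [hf]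
    have h2 : (h.act (c₀ * c₁) * h.act (c₀ * c₁)⁻¹) w = w := by
      rw [← map_mul, mul_inv_cancel, map_one]; rfl
    exact h2
  have hUU : ∀ u ∈ U, f (f u) = u := by
    intro u hu
    apply eq_of_add h
    apply S.lag.eq_zero_U (U.add_mem (hflip.2 _ (hflip.1 u hu)) hu)
    intro w hw
    obtain ⟨u', hu', rfl⟩ := hsurj w hw
    rw [map_add, LinearMap.add_apply, hiso, hsU ⟨u, hu⟩, hsU ⟨u', hu'⟩, h.b_comm u]
    have h1 : h.b (φ ⟨u, hu⟩) u' = h.b (φ ⟨u', hu'⟩) u := hφsymm ⟨u, hu⟩ ⟨u', hu'⟩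
    rw [h1]
    rcases zmod_two (h.b (φ ⟨u', hu'⟩) u) with h2 | h2 <;> rw [h2] <;> decide
  ext v
  obtain ⟨u, hu, w, hw, rfl⟩ := S.lag.exists_add v
  show f (f (u + w)) = u + w
  obtain ⟨u', hu', rfl⟩ := hsurj w hw
  rw [map_add, map_add, hUU u hu, hUU u' hu']

/-- an element swapping `U` and `W` with square in `⟨z⟩` -/
theorem exists_outer (S : Swap h U W) :
    ∃ s : Subgroup.centralizer ({z} : Set G), Flip h U W (h.act s) ∧ ((s : G) * s = 1 ∨ (s : G) * s = z) := by
  have := S.lag.finiteQ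
  obtain ⟨s, hs, hss⟩ := exists_outer_inv S
  have hkQ : (s : G) * s ∈ Q := h.mem_of_act (s * s) (by rw [map_mul]; exact hss)
  have I : Inv h U W (h.act s) :=
    { lag := S.lag
      iso := h.b_act s
      flip := hs
      inv := fun v => congrArg (fun t : h.V ≃ₗ[ZMod 2] h.V => t v) hss }
  have h1 : h.act s (h.pr ⟨(s : G) * s, hkQ⟩) = h.pr ⟨(s : G) * s, hkQ⟩ := by
    apply Pair.act_pr_coe
    show (s : G) * (s * s) * (s : G)⁻¹ = s * s
    group
  obtain ⟨u, hu, hku⟩ := I.fixed_iff.1 h1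
  obtain ⟨x, hx⟩ := h.pr_surjective u
  have hxC : (x : G) ∈ Subgroup.centralizer ({z} : Set G) :=
    Subgroup.mem_centralizer_singleton_iff.2 (h.comm_z x x.2)
  refine ⟨s * ⟨x, hxC⟩, ?_, ?_⟩
  · rw [map_mul, h.act_mem ⟨x, hxC⟩ x.2, mul_one]; exact hs
  · have h2 : h.pr (h.conjQ s x * ⟨(s : G) * s, hkQ⟩ * x) = 0 := by
      rw [h.pr_mul, h.pr_mul, ← h.act_pr, hku, hx]
      calc h.act s u + (u + h.act s u) + u = (h.act s u + h.act s u) + (u + u) := by abel
        _ = 0 := by rw [h.add_self, h.add_self, add_zero]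
    have h3 := h.pr_eq_zero.1 h2
    have e : ((h.conjQ s x * ⟨(s : G) * s, hkQ⟩ * x : Q) : G) = (s * x) * (s * x) := by
      rw [Subgroup.coe_mul, Subgroup.coe_mul, h.conjQ_coe]
      show (s : G) * x * (s : G)⁻¹ * (s * s) * x = s * x * (s * x)
      group
    rw [e] at h3
    exact h3

/-- **The kill of `PGL₂(7)`.** -/
theorem kill [Finite G] (hG : ∀ H : Subgroup G, H.index ≠ 2) (S : Swap h U W) : False := by
  obtain ⟨s, hsf, hss⟩ := exists_outer S
  have I := inv_of_flip S hsf hss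
  have hsz : (s : G) * z = z * s := Subgroup.mem_centralizer_singleton_iff.1 s.2
  set C₀ : Subgroup G := (K S).map (Subgroup.centralizer ({z} : Set G)).subtype with hC₀
  have hmem : ∀ c : Subgroup.centralizer ({z} : Set G), (c : G) ∈ C₀ ↔ c ∈ K S := by
    intro c
    constructor
    · rintro ⟨d, hd, hdc⟩
      have : d = c := Subtype.ext hdc
      rw [← this]; exact hd
    · intro hc
      exact ⟨c, hc, rfl⟩
  have hle : C₀ ≤ Subgroup.centralizer ({z} : Set G) := by
    rintro _ ⟨d, _, rfl⟩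
    exact d.2
  have h2 : C₀.relIndex (Subgroup.centralizer ({z} : Set G)) = 2 := by
    have e : C₀.subgroupOf (Subgroup.centralizer ({z} : Set G)) = K S := by
      ext d
      rw [Subgroup.mem_subgroupOf, hmem]
    rw [Subgroup.relIndex, e, index_K]
  have hs0 : (s : G) ∉ C₀ := by rw [hmem]; exact (not_mem_K S).2 hsf
  have hssQ : (s : G) * s ∈ Q := by
    rcases hss with h1 | h1 <;> rw [h1]
    · exact Q.one_mem
    · exact h.z_mem
  have hsscomm : ∀ y ∈ Q, y * ((s : G) * s) = ((s : G) * s) * y := by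
    intro y hy
    rcases hss with h1 | h1 <;> rw [h1]
    · group
    · exact h.comm_z y hy
  have hss_s : ((s : G) * s) * s = s * ((s : G) * s) := by group
  have hs4 : (s : G) ^ (2 ^ 2) = 1 := by
    have : (s : G) ^ (2 ^ 2) = (s * s) * (s * s) := by
      rw [show (2 ^ 2 : ℕ) = 4 from rfl]
      simp only [pow_succ, pow_zero, one_mul, mul_assoc]
    rw [this]
    rcases hss with h1 | h1 <;> rw [h1]
    · rw [one_mul]
    · exact h.z_sq
  -- even powers
  have hev : ∀ (m : ℕ) (g : G), 2 ∣ m → (g⁻¹ * (s : G) ^ m * g) * z = z * (g⁻¹ * (s : G) ^ m * g) →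
      g⁻¹ * (s : G) ^ m * g ∈ C₀ := by
    rintro m g ⟨j, rfl⟩ hcomm
    have h3 : (s : G) ^ (2 * j) = 1 ∨ (s : G) ^ (2 * j) = z := by
      rw [pow_mul, pow_two]
      rcases hss with h1 | h1 <;> rw [h1]
      · left; exact one_pow j
      · rcases Nat.even_or_odd j with ⟨k, hk⟩ | ⟨k, hk⟩
        · left
          rw [hk, ← two_mul, pow_mul, pow_two, h.z_sq, one_pow]
        · right
          rw [hk, pow_succ, pow_mul, pow_two, h.z_sq, one_pow, one_mul]
    by_contra hnot
    have htC : g⁻¹ * (s : G) ^ (2 * j) * g ∈ Subgroup.centralizer ({z} : Set G) :=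
      Subgroup.mem_centralizer_singleton_iff.2 hcomm
    have hflip : Flip h U W (h.act ⟨_, htC⟩) := by
      rw [← not_mem_K S, ← hmem]; exact hnot
    rcases h3 with h4 | h4
    · apply hnot
      rw [h4]
      have : g⁻¹ * 1 * g = 1 := by group
      rw [this]; exact C₀.one_mem
    · refine not_conj_outer S hflip ?_ g⁻¹ ?_
      · show g⁻¹ * (s : G) ^ (2 * j) * g * (g⁻¹ * (s : G) ^ (2 * j) * g) = 1
        rw [h4]
        calc g⁻¹ * z * g * (g⁻¹ * z * g) = g⁻¹ * (z * z) * g := by group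
          _ = 1 := by rw [h.z_sq]; group
      · show g⁻¹ * z * (g⁻¹)⁻¹ = g⁻¹ * (s : G) ^ (2 * j) * g
        rw [h4, inv_inv]
  -- the group `P = ⟨s⟩ C_Q(s)`
  let P : Subgroup G :=
    { carrier := {x | ∃ y ∈ Q, y * s = s * y ∧ (x = y ∨ x = y * s)}
      one_mem' := ⟨1, Q.one_mem, by group, Or.inl rfl⟩
      mul_mem' := by
        rintro a b ⟨y, hy, hys, ha⟩ ⟨y', hy', hys', hb⟩
        have hyy' : y * y' * s = s * (y * y') := by
          calc y * y' * s = y * (y' * s) := by group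
            _ = (y * s) * y' := by rw [hys']; group
            _ = s * (y * y') := by rw [hys]; group
        rcases ha with rfl | rfl <;> rcases hb with rfl | rfl
        · exact ⟨a * b, Q.mul_mem hy hy', hyy', Or.inl rfl⟩
        · exact ⟨a * y', Q.mul_mem hy hy', hyy', Or.inr (by group)⟩
        · refine ⟨y * b, Q.mul_mem hy hy', hyy', Or.inr ?_⟩
          calc y * (s : G) * b = y * (s * b) := by group
            _ = y * b * s := by rw [← hys']; group
        · refine ⟨y * y' * (s * s), Q.mul_mem (Q.mul_mem hy hy') hssQ, ?_, Or.inl ?_⟩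
          · calc y * y' * ((s : G) * s) * s = (y * y') * (((s : G) * s) * s) := by group
              _ = (y * y' * s) * (s * s) := by rw [hss_s]; group
              _ = s * (y * y' * (s * s)) := by rw [hyy']; group
          · calc y * (s : G) * (y' * s) = y * (s * y') * s := by group
              _ = y * y' * (s * s) := by rw [← hys']; group
      inv_mem' := by
        rintro a ⟨y, hy, hys, ha⟩
        have h1 : y⁻¹ * s = s * y⁻¹ := by
          rw [inv_mul_eq_iff_eq_mul, ← mul_assoc, hys, mul_inv_cancel_right]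
        rcases ha with rfl | rfl
        · exact ⟨a⁻¹, Q.inv_mem hy, h1, Or.inl rfl⟩
        · refine ⟨y⁻¹ * (s * s)⁻¹, Q.mul_mem (Q.inv_mem hy) (Q.inv_mem hssQ), ?_, Or.inr ?_⟩
          · calc y⁻¹ * ((s : G) * s)⁻¹ * s = (y⁻¹ * s) * (s : G)⁻¹ * (s : G)⁻¹ := by group
              _ = s * (y⁻¹ * ((s : G) * s)⁻¹) := by rw [h1]; group
          · calc (y * (s : G))⁻¹ = (s : G)⁻¹ * y⁻¹ := by group
              _ = (s : G)⁻¹ * (y⁻¹ * s) * (s : G)⁻¹ := by group
              _ = y⁻¹ * (s : G)⁻¹ := by rw [h1]; group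
              _ = y⁻¹ * ((s : G) * s)⁻¹ * s := by group }
  have hPs : ∀ p ∈ P, p * s = s * p := by
    rintro p ⟨y, hy, hys, rfl | rfl⟩
    · exact hys
    · calc y * (s : G) * s = (s * y) * s := by rw [hys]
        _ = s * (y * s) := mul_assoc _ _ _
  have hPz : ∀ p ∈ P, p * z = z * p := by
    rintro p ⟨y, hy, hys, rfl | rfl⟩
    · exact h.comm_z p hy
    · calc y * (s : G) * z = y * (s * z) := by group
        _ = (y * z) * s := by rw [hsz]; group
        _ = z * (y * s) := by rw [h.comm_z y hy]; group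
  have hPp : IsPGroup 2 P := by
    have hy4 : ∀ y ∈ Q, y ^ (2 ^ 2) = 1 := by
      intro y hy
      rw [show (2 ^ 2 : ℕ) = 4 from rfl]
      have : y ^ 4 = (y * y) * (y * y) := by simp only [pow_succ, pow_zero, one_mul, mul_assoc]
      rw [this]
      rcases h.sq y hy with h1 | h1 <;> rw [h1]
      · rw [one_mul]
      · exact h.z_sq
    rintro ⟨p, y, hy, hys, hp⟩
    refine ⟨2, ?_⟩
    apply Subtype.ext
    show p ^ (2 ^ 2) = 1
    rcases hp with rfl | rfl
    · exact hy4 p hy
    · have hc' : Commute y (s : G) := hys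
      rw [hc'.mul_pow, hy4 y hy, one_mul, hs4]
  obtain ⟨g, hg1, hg2, -, -⟩ := Cfsg.Agent.LargeExtra.TransferPow.exists_conj hG hle h2 (s : G) hs4 hev hsz hs0 P
    hPp hPs hPz
  obtain ⟨y, hy⟩ : ∃ y, y = g * z * g⁻¹ := ⟨_, rfl⟩
  rw [← hy] at hg1 hg2
  have hys : y * s = s * y := (hg2 s ⟨1, Q.one_mem, by group, Or.inr (by group)⟩).symm
  have hyE : ∀ x ∈ Q, x * s = s * x → x * y = y * x := fun x hx hxs => hg2 x ⟨x, hx, hxs, Or.inl rfl⟩
  have hyz : y * z = z * y := (hyE z h.z_mem hsz.symm).symm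
  have hyC : y ∈ Subgroup.centralizer ({z} : Set G) := Subgroup.mem_centralizer_singleton_iff.2 hyz
  have hy1 : y ≠ 1 := by
    intro h3
    apply h.z_ne
    have : z = g⁻¹ * y * g := by rw [hy]; group
    rw [this, h3]; group
  rcases S.pres ⟨y, hyC⟩ with hk | hk
  · have h3 := act_eq_one_of_keep I hss ⟨y, hyC⟩ hys hyE hk
    have hyQ : y ∈ Q := by
      have := S.lag.finiteQ
      exact h.mem_of_act _ h3
    obtain ⟨u, hu, hyu⟩ := graph_of_comm I hss hyQ hys
    by_cases hu0 : u = 0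
    · rw [hu0, map_zero, add_zero] at hyu
      rcases h.pr_eq_zero.1 hyu with h4 | h4
      · exact hy1 h4
      · exact hg1 h4
    · exact not_conj_graph S I (c := ⟨y, hyQ⟩) (I.mem_U0.1 hu).1 hu0 (I.mem_U0.1 hu).2 hyu g hy.symm
  · refine not_conj_outer S hk ?_ g hy.symm
    show y * y = 1
    rw [hy]
    calc g * z * g⁻¹ * (g * z * g⁻¹) = g * (z * z) * g⁻¹ := by group
      _ = 1 := by rw [h.z_sq]; group

end Cfsg.Agent.LargeExtra.PGLKill
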