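import Mathlib

/-!
# S1762, case II: the abstract family on the six-dimensional space `V = Q / ⟨z⟩` (helper416)

`V` is a vector space over `F₂` with `64` elements, `q` a nondegenerate quadratic form with polar form `b`,
`H` a group of isometries, `O` an orbit of `H`, and for `c ∈ O` there are submodules `D c` (totally singular) and
`W c ≤ c^⊥` with `|D c| |W c| = 64`, such that all Siegel maps `r_{c,w}`, `w ∈ W c`, are in `H`.
-/

set_option autoImplicit false

namespace Cfsg.Agent.LargeExtra.Six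

variable {V : Type*} [AddCommGroup V] [Module (ZMod 2) V]

/-- The Siegel map `r_{c,w}`. -/
def sg (q : V → ZMod 2) (b : LinearMap.BilinForm (ZMod 2) V) (c w v : V) : V :=
  v + b v w • c + b v c • w + (q w * b v c) • c

/-- The abstract situation of case II for `w = 3`. -/
structure SixFam (q : V → ZMod 2) (b : LinearMap.BilinForm (ZMod 2) V) (H : Subgroup (V ≃ₗ[ZMod 2] V))
    (O : Set V) (D W : V → Submodule (ZMod 2) V) : Prop where
  card : Nat.card V = 64
  q_add : ∀ v w, q (v + w) = q v + q w + b v w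
  nondeg : ∀ v, (∀ w, b v w = 0) → v = 0
  q_H : ∀ h ∈ H, ∀ v, q (h v) = q v
  ne : O.Nonempty
  zero : ∀ c ∈ O, c ≠ 0
  stable : ∀ h ∈ H, ∀ c ∈ O, h c ∈ O
  trans : ∀ c ∈ O, ∀ c' ∈ O, ∃ h ∈ H, h c = c'
  self_D : ∀ c ∈ O, c ∈ D c
  q_D : ∀ c ∈ O, ∀ v ∈ D c, q v = 0
  self_W : ∀ c ∈ O, c ∈ W c
  perp_W : ∀ c ∈ O, ∀ v ∈ W c, b c v = 0
  D_map : ∀ h ∈ H, ∀ c ∈ O, ∀ v ∈ D c, h v ∈ D (h c)
  W_map : ∀ h ∈ H, ∀ c ∈ O, ∀ v ∈ W c, h v ∈ W (h c)
  siegel : ∀ c ∈ O, ∀ w ∈ W c, ∃ h ∈ H, ∀ v, h v = sg q b c w v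
  cap : ∀ c ∈ O, ∀ v ∈ D c, (∀ w ∈ W c, b v w = 0) → v = 0 ∨ v = c
  card_DW : ∀ c ∈ O, Nat.card (D c) * Nat.card (W c) = 64

theorem zm (c : ZMod 2) : c = 0 ∨ c = 1 := by revert c; decide

theorem add_self (v : V) : v + v = 0 := by
  have : (2 : ZMod 2) • v = 0 := by rw [show (2 : ZMod 2) = 0 from rfl, zero_smul]
  rwa [two_smul] at this

theorem zadd (c : ZMod 2) : c + c = 0 := by revert c; decide

theorem eq_of_add {v w : V} (h : v + w = 0) : v = w := by
  calc v = v + (w + w) := by rw [add_self, add_zero]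
    _ = (v + w) + w := by rw [add_assoc]
    _ = w := by rw [h, zero_add]

theorem add_cancel' (v w : V) : v + w + w = v := by rw [add_assoc, add_self, add_zero]

namespace SixFam

variable {q : V → ZMod 2} {b : LinearMap.BilinForm (ZMod 2) V} {H : Subgroup (V ≃ₗ[ZMod 2] V)}
  {O : Set V} {D W : V → Submodule (ZMod 2) V}

theorem q_zero (F : SixFam q b H O D W) : q 0 = 0 := by
  have h := F.q_add 0 0
  rw [add_zero, map_zero, add_zero, zadd] at h
  exact h

theorem b_eq (F : SixFam q b H O D W) (v w : V) : b v w = q (v + w) + q v + q w := by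
  rw [F.q_add]
  generalize q v = x, q w = y, b v w = z
  revert x y z; decide

theorem b_comm (F : SixFam q b H O D W) (v w : V) : b v w = b w v := by
  rw [F.b_eq, F.b_eq, add_comm w v]; ring

theorem b_self (F : SixFam q b H O D W) (v : V) : b v v = 0 := by
  rw [F.b_eq, add_self, F.q_zero, zero_add, zadd]

theorem q_self (F : SixFam q b H O D W) {c : V} (hc : c ∈ O) : q c = 0 := F.q_D c hc c (F.self_D c hc)

theorem b_H (F : SixFam q b H O D W) {h : V ≃ₗ[ZMod 2] V} (hh : h ∈ H) (v w : V) :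
    b (h v) (h w) = b v w := by
  rw [F.b_eq, F.b_eq, ← map_add, F.q_H h hh, F.q_H h hh, F.q_H h hh]

theorem b_D (F : SixFam q b H O D W) {c : V} (hc : c ∈ O) {v w : V} (hv : v ∈ D c) (hw : w ∈ D c) :
    b v w = 0 := by
  rw [F.b_eq, F.q_D c hc _ ((D c).add_mem hv hw), F.q_D c hc v hv, F.q_D c hc w hw]; rfl

theorem finite (F : SixFam q b H O D W) : Finite V :=
  Nat.finite_of_card_ne_zero (by rw [F.card]; norm_num)

theorem sg_mem (F : SixFam q b H O D W) {c w v : V} (hc : c ∈ O) (hw : w ∈ W c) (hv : v ∈ O) :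
    sg q b c w v ∈ O := by
  obtain ⟨h, hh, e⟩ := F.siegel c hc w hw
  rw [← e]; exact F.stable h hh v hv

theorem D_map_iff (F : SixFam q b H O D W) {h : V ≃ₗ[ZMod 2] V} (hh : h ∈ H) {c : V} (hc : c ∈ O) (v : V) :
    h v ∈ D (h c) ↔ v ∈ D c := by
  refine ⟨fun hv => ?_, F.D_map h hh c hc v⟩
  have := F.D_map h⁻¹ (H.inv_mem hh) (h c) (F.stable h hh c hc) _ hv
  have e : ∀ v, (h⁻¹ : V ≃ₗ[ZMod 2] V) (h v) = v := fun v => h.symm_apply_apply v
  rwa [e, e] at this

theorem W_map_iff (F : SixFam q b H O D W) {h : V ≃ₗ[ZMod 2] V} (hh : h ∈ H) {c : V} (hc : c ∈ O) (v : V) :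
    h v ∈ W (h c) ↔ v ∈ W c := by
  refine ⟨fun hv => ?_, F.W_map h hh c hc v⟩
  have := F.W_map h⁻¹ (H.inv_mem hh) (h c) (F.stable h hh c hc) _ hv
  have e : ∀ v, (h⁻¹ : V ≃ₗ[ZMod 2] V) (h v) = v := fun v => h.symm_apply_apply v
  rwa [e, e] at this

theorem card_D_eq (F : SixFam q b H O D W) {c c' : V} (hc : c ∈ O) (hc' : c' ∈ O) :
    Nat.card (D c) = Nat.card (D c') := by
  obtain ⟨h, hh, rfl⟩ := F.trans c hc c' hc'
  refine Nat.card_congr ⟨fun v => ⟨h v, F.D_map h hh c hc v v.2⟩,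
    fun v => ⟨h.symm v, (F.D_map_iff hh hc _).1 (by rw [h.apply_symm_apply]; exact v.2)⟩, ?_, ?_⟩
  · intro v; exact Subtype.ext (h.symm_apply_apply _)
  · intro v; exact Subtype.ext (h.apply_symm_apply _)

theorem card_W_eq (F : SixFam q b H O D W) {c c' : V} (hc : c ∈ O) (hc' : c' ∈ O) :
    Nat.card (W c) = Nat.card (W c') := by
  obtain ⟨h, hh, rfl⟩ := F.trans c hc c' hc'
  refine Nat.card_congr ⟨fun v => ⟨h v, F.W_map h hh c hc v v.2⟩,
    fun v => ⟨h.symm v, (F.W_map_iff hh hc _).1 (by rw [h.apply_symm_apply]; exact v.2)⟩, ?_, ?_⟩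
  · intro v; exact Subtype.ext (h.symm_apply_apply _)
  · intro v; exact Subtype.ext (h.apply_symm_apply _)

end SixFam

end Cfsg.Agent.LargeExtra.Six
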