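import Cfsg.Agent.LargeExtra.SiegelOrbit
import Cfsg.Agent.LargeExtra.SixFam
import Cfsg.Agent.LargeExtra.TOne

/-!
# The abstract six-dimensional family of a pair (helper73)

`sixFam : SixFam p.lz.q p.lz.b p.H (orb p) (fD p) (fW p)` for a pair `p` with `|V| = 64`; `orb p = ã^H`,
`fD p (f ã) = f D̃`, `fW p (f ã) = f W̃` for `f ∈ H`.
-/

set_option autoImplicit false

namespace Cfsg.Agent.LargeExtra.SixInst

open Cfsg.Agent.Co2Type.Quad Cfsg.Agent.LargeExtra.Base Cfsg.Agent.LargeExtra.TwoCentral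
open Cfsg.Agent.LargeExtra.Siegel Cfsg.Agent.LargeExtra.SiegelOrbit
open Cfsg.Agent.LieClassical.OrthCore

variable {G : Type*} [Group G] {Q A : Subgroup G} {z a : G}

theorem W_inv (p : Pair Q z A a) {f : p.lz.V ≃ₗ[ZMod 2] p.lz.V} (hf : f ∈ p.H)
    (hfa : f p.va = p.va) {w : p.lz.V} (hw : w ∈ pW p) : f w ∈ pW p := by
  obtain ⟨h1, h2⟩ := hw
  have h3 := p.X_normal hf hfa h2
  have h4 : p.lz.b p.va (f w) = 0 := by
    nth_rewrite 1 [← hfa]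
    rw [b_of_mem_O p.lz (H_le_O p hf)]; exact h1
  have h5 := sg_conj p.lz (H_le_O p hf) (q_va p) h1 (by rw [hfa]; exact q_va p)
    (by rw [hfa]; exact h4)
  rw [h5, sg_congr p.lz _ _ (q_va p) h4 hfa rfl] at h3
  exact ⟨h4, h3⟩

/-- the orbit of `ã` -/
def orb (p : Pair Q z A a) : Set p.lz.V := {v | ∃ f ∈ p.H, f p.va = v}

/-- transport of an `H_ã`-invariant submodule along the orbit -/
noncomputable def fam (p : Pair Q z A a) (S : Submodule (ZMod 2) p.lz.V) (c : p.lz.V) :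
    Submodule (ZMod 2) p.lz.V := by
  classical
  exact if h : ∃ f ∈ p.H, f p.va = c then S.map (h.choose : p.lz.V →ₗ[ZMod 2] p.lz.V) else ⊥

/-- `S` is invariant under the stabiliser of `ã` -/
def Inv (p : Pair Q z A a) (S : Submodule (ZMod 2) p.lz.V) : Prop :=
  ∀ f ∈ p.H, f p.va = p.va → ∀ v ∈ S, f v ∈ S

theorem fam_eq (p : Pair Q z A a) {S : Submodule (ZMod 2) p.lz.V} (hS : Inv p S)
    {f : p.lz.V ≃ₗ[ZMod 2] p.lz.V} (hf : f ∈ p.H) :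
    fam p S (f p.va) = S.map (f : p.lz.V →ₗ[ZMod 2] p.lz.V) := by
  classical
  have hex : ∃ g ∈ p.H, g p.va = f p.va := ⟨f, hf, rfl⟩
  have e : fam p S (f p.va) = S.map (hex.choose : p.lz.V →ₗ[ZMod 2] p.lz.V) := by
    rw [fam, dif_pos hex]
  rw [e]
  obtain ⟨h1, h2⟩ := hex.choose_spec
  generalize hex.choose = g at h1 h2
  have key : ∀ g g' : p.lz.V ≃ₗ[ZMod 2] p.lz.V, g ∈ p.H → g' ∈ p.H → g p.va = g' p.va →
      S.map (g : p.lz.V →ₗ[ZMod 2] p.lz.V) ≤ S.map (g' : p.lz.V →ₗ[ZMod 2] p.lz.V) := by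
    rintro g g' hg hg' hgg _ ⟨s, hs, rfl⟩
    refine ⟨g'⁻¹ (g s), ?_, ?_⟩
    · refine hS (g'⁻¹ * g) (p.H.mul_mem (p.H.inv_mem hg') hg) ?_ s hs
      show g'⁻¹ (g p.va) = p.va
      rw [hgg, apply_inv]
    · show g' (g'⁻¹ (g s)) = g s
      rw [inv_apply]
  exact le_antisymm (key g f h1 hf h2) (key f g hf h1 h2.symm)

theorem mem_fam (p : Pair Q z A a) {S : Submodule (ZMod 2) p.lz.V} (hS : Inv p S)
    {f : p.lz.V ≃ₗ[ZMod 2] p.lz.V} (hf : f ∈ p.H) {v : p.lz.V} :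
    v ∈ fam p S (f p.va) ↔ ∃ s ∈ S, f s = v := by
  rw [fam_eq p hS hf]
  rfl

theorem fam_map (p : Pair Q z A a) {S : Submodule (ZMod 2) p.lz.V} (hS : Inv p S)
    {h : p.lz.V ≃ₗ[ZMod 2] p.lz.V} (hh : h ∈ p.H) {c : p.lz.V} (hc : c ∈ orb p) {v : p.lz.V}
    (hv : v ∈ fam p S c) : h v ∈ fam p S (h c) := by
  obtain ⟨f, hf, rfl⟩ := hc
  rw [mem_fam p hS hf] at hv
  obtain ⟨s, hs, rfl⟩ := hv
  exact (mem_fam p hS (p.H.mul_mem hh hf)).2 ⟨s, hs, rfl⟩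

theorem inv_D (p : Pair Q z A a) : Inv p p.D := fun _ hf hfa _ hv => p.D_inv hf hfa hv

theorem inv_W (p : Pair Q z A a) : Inv p (pW p) := fun _ hf hfa _ hv => W_inv p hf hfa hv

theorem card_map (p : Pair Q z A a) (S : Submodule (ZMod 2) p.lz.V)
    (f : p.lz.V ≃ₗ[ZMod 2] p.lz.V) :
    Nat.card (S.map (f : p.lz.V →ₗ[ZMod 2] p.lz.V)) = Nat.card S :=
  (Nat.card_congr (LinearEquiv.submoduleMap f S).toEquiv).symm

/-- **the instance** -/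
theorem sixFam [Finite G] (p : Pair Q z A a) (hV : Nat.card p.lz.V = 64) :
    Six.SixFam p.lz.q p.lz.b p.H (orb p) (fam p p.D) (fam p (pW p)) where
  card := hV
  q_add := p.lz.q_add'
  nondeg := fun v hv => p.lz.b_nondeg hv
  q_H := fun h hh v => H_le_O p hh v
  ne := ⟨p.va, 1, p.H.one_mem, rfl⟩
  zero := by
    rintro _ ⟨f, hf, rfl⟩ h0
    exact p.va_ne (f.map_eq_zero_iff.1 h0)
  stable := by
    rintro h hh _ ⟨f, hf, rfl⟩
    exact ⟨h * f, p.H.mul_mem hh hf, rfl⟩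
  trans := by
    rintro _ ⟨f, hf, rfl⟩ _ ⟨g, hg, rfl⟩
    refine ⟨g * f⁻¹, p.H.mul_mem hg (p.H.inv_mem hf), ?_⟩
    show g (f⁻¹ (f p.va)) = g p.va
    rw [apply_inv]
  self_D := by
    rintro _ ⟨f, hf, rfl⟩
    exact (mem_fam p (inv_D p) hf).2 ⟨p.va, p.va_mem_D, rfl⟩
  q_D := by
    rintro _ ⟨f, hf, rfl⟩ v hv
    obtain ⟨s, hs, rfl⟩ := (mem_fam p (inv_D p) hf).1 hv
    rw [q_of_mem_O p.lz (H_le_O p hf)]
    exact p.q_D hs
  self_W := by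
    rintro _ ⟨f, hf, rfl⟩
    exact (mem_fam p (inv_W p) hf).2 ⟨p.va, va_mem_pW p, rfl⟩
  perp_W := by
    rintro _ ⟨f, hf, rfl⟩ v hv
    obtain ⟨s, hs, rfl⟩ := (mem_fam p (inv_W p) hf).1 hv
    rw [b_of_mem_O p.lz (H_le_O p hf)]
    exact hs.1
  D_map := fun h hh c hc v hv => fam_map p (inv_D p) hh hc hv
  W_map := fun h hh c hc v hv => fam_map p (inv_W p) hh hc hv
  siegel := by
    rintro _ ⟨f, hf, rfl⟩ w hw
    obtain ⟨s, hs, rfl⟩ := (mem_fam p (inv_W p) hf).1 hw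
    refine ⟨f * sg p.lz p.va s (q_va p) hs.1 * f⁻¹,
      p.H.mul_mem (p.H.mul_mem hf (p.X_le_H hs.2)) (p.H.inv_mem hf), fun v => ?_⟩
    rw [sg_conj p.lz (H_le_O p hf) (q_va p) hs.1
      (by rw [q_of_mem_O p.lz (H_le_O p hf)]; exact q_va p)
      (by rw [b_of_mem_O p.lz (H_le_O p hf)]; exact hs.1), sg_apply, Six.sg, p.lz.b_comm v,
      p.lz.b_comm v, add_smul]
    abel
  cap := by
    rintro _ ⟨f, hf, rfl⟩ v hv hw
    obtain ⟨s, hs, rfl⟩ := (mem_fam p (inv_D p) hf).1 hv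
    have h1 : s = 0 ∨ s = p.va := by
      apply eq_of_mem_D_perp p (fun g hg => exists_sg64 p hV hg) hs
      intro w hw'
      have h2 := hw (f w) ((mem_fam p (inv_W p) hf).2 ⟨w, hw', rfl⟩)
      rw [b_of_mem_O p.lz (H_le_O p hf)] at h2
      rw [p.lz.b_comm]; exact h2
    rcases h1 with rfl | rfl
    · left; rw [map_zero]
    · right; rfl
  card_DW := by
    rintro _ ⟨f, hf, rfl⟩
    rw [fam_eq p (inv_D p) hf, fam_eq p (inv_W p) hf, card_map p, card_map p, mul_comm, ← hV]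
    exact card_pW p fun g hg => exists_sg64 p hV hg

/-- the value of the family at `ã` -/
theorem fam_va (p : Pair Q z A a) {S : Submodule (ZMod 2) p.lz.V} (hS : Inv p S) :
    fam p S p.va = S := by
  have h1 := fam_eq p hS p.H.one_mem
  have h2 : (1 : p.lz.V ≃ₗ[ZMod 2] p.lz.V) p.va = p.va := rfl
  rw [h2] at h1
  rw [h1]
  ext v
  constructor
  · rintro ⟨s, hs, rfl⟩; exact hs
  · intro hv; exact ⟨v, hv, rfl⟩

theorem va_mem_orb (p : Pair Q z A a) : p.va ∈ orb p := ⟨1, p.H.one_mem, rfl⟩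

/-- normal 2-subgroups of `H` are trivial (form for `Six`) -/
theorem o2_H [Finite G] (p : Pair Q z A a) (hO : O2 p.lz) (N : Subgroup (p.lz.V ≃ₗ[ZMod 2] p.lz.V))
    (hN : N ≤ p.H) (hn : ∀ h ∈ p.H, ∀ g ∈ N, h * g * h⁻¹ ∈ N)
    (h2 : ∀ g ∈ N, ∃ k : ℕ, g ^ 2 ^ k = 1) : ∀ g ∈ N, g = 1 :=
  fun _ hg => eq_one_of_normal p.lz hO hN hn h2 hg

/-- `H` fixes no nonzero vector (form for `Six`) -/
theorem no_fixed [Finite G] (hG : ∀ H : Subgroup G, H.index ≠ 2) (p : Pair Q z A a)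
    (h8 : 8 < Nat.card Q) {v : p.lz.V} (hv : ∀ h ∈ p.H, h v = v) : v = 0 :=
  TOne.eq_zero_of_fixed hG p.lz h8 fun c => hv _ ⟨c, rfl⟩

end Cfsg.Agent.LargeExtra.SixInst
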