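import Cfsg.Agent.LargeExtra.SixEightGood

/-!
# S1762, case II, `|D| = 8`: the hyperbolic type gives a fixed vector (helper416)
-/

set_option autoImplicit false

namespace Cfsg.Agent.LargeExtra.Six

variable {V : Type*} [AddCommGroup V] [Module (ZMod 2) V] {q : V → ZMod 2}
  {b : LinearMap.BilinForm (ZMod 2) V} {H : Subgroup (V ≃ₗ[ZMod 2] V)}
  {O : Set V} {D W : V → Submodule (ZMod 2) V}

open SixFam

/-- `v ∈ (W c)^⊥` and `q v = 1` -/
def Nn (q : V → ZMod 2) (b : LinearMap.BilinForm (ZMod 2) V) (W : V → Submodule (ZMod 2) V) (v c : V) :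
    Prop := (∀ w ∈ W c, b v w = 0) ∧ q v = 1

set_option synthInstance.maxSize 1024 in
set_option synthInstance.maxHeartbeats 400000 in
theorem beta_dec1 : ∀ x < 64, bn (T8 true false false) x 1 = false → bn (T8 true false false) x 4 = false →
    bn (T8 true false false) x 8 = false → (T8 true false false).testBit x = true → x = 60 ∨ x = 61 := by
  decide +kernel

set_option synthInstance.maxSize 1024 in
set_option synthInstance.maxHeartbeats 400000 in
theorem beta_dec2 : ∀ x < 64, bn (T8 true false false) x 1 = false → bn (T8 true false false) x 2 = false →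
    bn (T8 true false false) x 4 = false → bn (T8 true false false) x 8 = false →
    x = 0 ∨ x = 36 ∨ x = 24 ∨ x = 60 := by
  decide +kernel

/-- the common vector of a non-orthogonal pair -/
structure PairN (q : V → ZMod 2) (b : LinearMap.BilinForm (ZMod 2) V) (W : V → Submodule (ZMod 2) V)
    (a c n : V) : Prop where
  na : Nn q b W n a
  nc : Nn q b W n c
  ua : ∀ v, Nn q b W v a → v = n ∨ v = n + a
  uc : ∀ v, Nn q b W v c → v = n ∨ v = n + c
  wa : ∃ w ∈ W a, ∃ w' ∈ W a, b w w' = 1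
  wc : ∃ w ∈ W c, ∃ w' ∈ W c, b w w' = 1
  g : ∃ g1 g2, g1 + g2 = n ∧ q g1 = 0 ∧ q g2 = 0 ∧ g1 ≠ g2 ∧
    ∀ v, b v a = 0 → b v c = 0 → (∀ w ∈ W a, b v w = 0) → v = 0 ∨ v = g1 ∨ v = g2 ∨ v = n

theorem PairN.symm_of (F : SixFam q b H O D W) {a c n : V} (ha : a ∈ O) (hc : c ∈ O) (hac : b a c = 1)
    (h : PairN q b W a c n) (h' : ∃ n', Nn q b W n' a ∧ Nn q b W n' c ∧ PairN q b W c a n') :
    PairN q b W c a n := by
  obtain ⟨n', h1, h2, h3⟩ := h'
  rcases h.ua n' h1 with h4 | h4
  · rw [h4] at h3; exact h3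
  · exfalso
    have h5 := h2.1 c (F.self_W c hc)
    have h6 := h.nc.1 c (F.self_W c hc)
    rw [h4, map_add, LinearMap.add_apply, h6, hac] at h5
    exact absurd h5 (by decide)

section

variable (F : SixFam q b H O D W)
  (hyp : ∀ a ∈ O, ∀ c ∈ O, b a c = 1 → ∃ w1 w2 t1 t2, Dat8 q b D W a c w1 w2 t1 t2 ∧ q w1 = 0 ∧ q w2 = 0 ∧
    b w1 w2 = 1)

include F hyp in
theorem exists_n {a c : V} (ha : a ∈ O) (hc : c ∈ O) (hac : b a c = 1) :
    ∃ n, Nn q b W n a ∧ Nn q b W n c ∧ (∀ v, Nn q b W v a → v = n ∨ v = n + a) ∧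
      (∃ w ∈ W a, ∃ w' ∈ W a, b w w' = 1) ∧
      (∃ g1 g2, g1 + g2 = n ∧ q g1 = 0 ∧ q g2 = 0 ∧ g1 ≠ g2 ∧
        ∀ v, b v a = 0 → b v c = 0 → (∀ w ∈ W a, b v w = 0) → v = 0 ∨ v = g1 ∨ v = g2 ∨ v = n) := by
  obtain ⟨w1, w2, t1, t2, d, h1, h2, h3⟩ := hyp a ha c hc hac
  have C := coord8 (β := true) (q1 := false) (q2 := false) F ha hc hac d h1 h2 h3
  obtain ⟨y1, y2, -, -, hy1, hy2, hg, hW⟩ := good_of_check8 (β := true) (q1 := false) (q2 := false) F ha hc hac d
    h1 h2 h3 _ _ check100'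
  have he1 : ev (![a, c, w1, w2, t1, t2] : Fin 6 → V) 1 = a := ev_1 _
  have he2 : ev (![a, c, w1, w2, t1, t2] : Fin 6 → V) 2 = c := ev_2 _
  have he4 : ev (![a, c, w1, w2, t1, t2] : Fin 6 → V) 4 = w1 := ev_4 _
  have he8 : ev (![a, c, w1, w2, t1, t2] : Fin 6 → V) 8 = w2 := ev_8 _
  revert C he1 he2 he4 he8 hW
  generalize (![a, c, w1, w2, t1, t2] : Fin 6 → V) = e
  intro C hW he1 he2 he4 he8
  have hbn : ∀ s < 64, ∀ t < 64, b (ev e s) (ev e t) = bz (bn (T8 true false false) s t) := fun s hs t ht =>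
    b_ev F C hs ht
  have hbn0 : ∀ s < 64, ∀ t < 64, b (ev e s) (ev e t) = 0 → bn (T8 true false false) s t = false :=
    fun s hs t ht h => bz_eq_zero.1 (by rw [← hbn s hs t ht]; exact h)
  have haW := F.self_W a ha
  have hw1W : w1 ∈ W a := (d.hW _).2 ⟨false, true, false, by simp [bz]⟩
  have hw2W : w2 ∈ W a := (d.hW _).2 ⟨false, false, true, by simp [bz]⟩
  have hz : ∀ v, b v a = 0 → b v w1 = 0 → b v w2 = 0 → ∀ w ∈ W a, b v w = 0 := by
    intro v e1 e2 e3 w hw
    obtain ⟨r, s, t, rfl⟩ := (d.hW w).1 hw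
    rw [map_add, map_add, map_smul, map_smul, map_smul, e1, e2, e3]
    simp
  have hn1 : b (ev e 60) a = 0 := by
    rw [← he1, hbn 60 (by norm_num) 1 (by norm_num)]; decide
  have hn2 : b (ev e 60) c = 0 := by
    rw [← he2, hbn 60 (by norm_num) 2 (by norm_num)]; decide
  have hn3 : b (ev e 60) w1 = 0 := by
    rw [← he4, hbn 60 (by norm_num) 4 (by norm_num)]; decide
  have hn4 : b (ev e 60) w2 = 0 := by
    rw [← he8, hbn 60 (by norm_num) 8 (by norm_num)]; decide
  have hqn : q (ev e 60) = 1 := by rw [C.q_ev 60 (by norm_num)]; decide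
  have hg' : bn T100 60 y1 = false ∧ bn T100 60 y2 = false := by
    simpa [good100] using hg
  refine ⟨ev e 60, ⟨hz _ hn1 hn3 hn4, hqn⟩, ⟨?_, hqn⟩, ?_, ⟨w1, hw1W, w2, hw2W, h3⟩, ev e 36, ev e 24, ?_, ?_, ?_,
    ?_, ?_⟩
  · intro w hw
    obtain ⟨r, s, t, rfl⟩ := (hW w).1 hw
    have e1 : b (ev e 60) (ev e y1) = 0 := by
      rw [hbn 60 (by norm_num) y1 hy1]
      show bz (bn T100 60 y1) = 0
      rw [hg'.1]; rfl
    have e2 : b (ev e 60) (ev e y2) = 0 := by
      rw [hbn 60 (by norm_num) y2 hy2]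
      show bz (bn T100 60 y2) = 0
      rw [hg'.2]; rfl
    rw [map_add, map_add, map_smul, map_smul, map_smul, hn2, e1, e2]
    simp
  · rintro v ⟨hv1, hv2⟩
    obtain ⟨x, hx, rfl⟩ := C.surj v
    have e1 := hbn0 x hx 1 (by norm_num) (by rw [he1]; exact hv1 a haW)
    have e2 := hbn0 x hx 4 (by norm_num) (by rw [he4]; exact hv1 w1 hw1W)
    have e3 := hbn0 x hx 8 (by norm_num) (by rw [he8]; exact hv1 w2 hw2W)
    have e4 : (T8 true false false).testBit x = true := bz_eq_one.1 (by rw [← C.q_ev x hx]; exact hv2)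
    rcases beta_dec1 x hx e1 e2 e3 e4 with h | h
    · left; rw [h]
    · right; rw [h, ← he1, ← ev_xor]; rfl
  · rw [← ev_xor]; rfl
  · rw [C.q_ev 36 (by norm_num)]; decide
  · rw [C.q_ev 24 (by norm_num)]; decide
  · intro h
    exact absurd (C.inj 36 (by norm_num) 24 (by norm_num) h) (by decide)
  · intro v h5 h6 h7
    obtain ⟨x, hx, rfl⟩ := C.surj v
    have e1 := hbn0 x hx 1 (by norm_num) (by rw [he1]; exact h5)
    have e2 := hbn0 x hx 2 (by norm_num) (by rw [he2]; exact h6)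
    have e3 := hbn0 x hx 4 (by norm_num) (by rw [he4]; exact h7 w1 hw1W)
    have e4 := hbn0 x hx 8 (by norm_num) (by rw [he8]; exact h7 w2 hw2W)
    rcases beta_dec2 x hx e1 e2 e3 e4 with h | h | h | h
    · left; rw [h, ev_zero]
    · right; left; rw [h]
    · right; right; left; rw [h]
    · right; right; right; rw [h]

include F hyp in
theorem exists_pairN {a c : V} (ha : a ∈ O) (hc : c ∈ O) (hac : b a c = 1) :
    ∃ n, PairN q b W a c n := by
  have hca : b c a = 1 := by rw [F.b_comm]; exact hac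
  obtain ⟨n, h1, h2, h3, h4, h5⟩ := exists_n F hyp ha hc hac
  obtain ⟨n', h1', h2', h3', h4', -⟩ := exists_n F hyp hc ha hca
  have hnn : n' = n := by
    rcases h3 n' h2' with h6 | h6
    · exact h6
    · exfalso
      have h7 := h1'.1 c (F.self_W c hc)
      have h8 := h2.1 c (F.self_W c hc)
      rw [h6, map_add, LinearMap.add_apply, h8, hac] at h7
      exact absurd h7 (by decide)
  rw [hnn] at h3'
  exact ⟨n, h1, h2, h3, h3', h4, h4', h5⟩

include F hyp in
/-- the common vector is unique -/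
theorem pairN_of {a c n : V} (ha : a ∈ O) (hc : c ∈ O) (hac : b a c = 1) (h1 : Nn q b W n a)
    (h2 : Nn q b W n c) : PairN q b W a c n := by
  obtain ⟨n', h⟩ := exists_pairN F hyp ha hc hac
  rcases h.ua n h1 with h3 | h3
  · rw [h3]; exact h
  · exfalso
    have h4 := h2.1 c (F.self_W c hc)
    have h5 := h.nc.1 c (F.self_W c hc)
    rw [h3, map_add, LinearMap.add_apply, h5, hac] at h4
    exact absurd h4 (by decide)

include F hyp in
theorem beta_both {a c d n : V} (ha : a ∈ O) (hc : c ∈ O) (hd : d ∈ O) (hac : b a c = 1)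
    (h : PairN q b W a c n) (had : b a d = 1) (hcd : b c d = 1) : b n d = 0 := by
  rcases zm (b n d) with h0 | h0
  · exact h0
  exfalso
  obtain ⟨m, hm⟩ := exists_pairN F hyp ha hd had
  obtain ⟨m', hm'⟩ := exists_pairN F hyp hc hd hcd
  have hmd := hm.nc.1 d (F.self_W d hd)
  have hmd' := hm'.nc.1 d (F.self_W d hd)
  have e1 : m = n + a := by
    rcases h.ua m hm.na with h1 | h1
    · rw [h1, h0] at hmd; exact absurd hmd (by decide)
    · exact h1
  have e2 : m' = n + c := by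
    rcases h.uc m' hm'.na with h1 | h1
    · rw [h1, h0] at hmd'; exact absurd hmd' (by decide)
    · exact h1
  rcases hm.uc m' hm'.nc with h1 | h1
  · rw [e1, e2] at h1
    have h2 : c = a := add_left_cancel h1
    rw [h2, F.b_self] at hac
    exact absurd hac (by decide)
  · rw [e1, e2, add_assoc] at h1
    have h2 : c = a + d := add_left_cancel h1
    have h3 := F.q_self hc
    rw [h2, F.q_add, F.q_self ha, F.q_self hd, had] at h3
    exact absurd h3 (by decide)

include F hyp in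
theorem beta_one {a c d n : V} (ha : a ∈ O) (hc : c ∈ O) (hd : d ∈ O) (hac : b a c = 1)
    (h : PairN q b W a c n) (hcd : b c d = 1) : b n d = 0 := by
  rcases zm (b a d) with had | had
  swap
  · exact beta_both F hyp ha hc hd hac h had hcd
  have hca : b c a = 1 := by rw [F.b_comm]; exact hac
  -- a suitable `w ∈ W c`
  obtain ⟨w, hw, hw1⟩ : ∃ w ∈ W c, b (d + a) w + q w = 1 := by
    by_contra hcon
    push Not at hcon
    have h1 : ∀ w ∈ W c, q w = b (d + a) w := by
      intro w hw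
      have h2 := hcon w hw
      rcases zm (b (d + a) w + q w) with h3 | h3
      · have h4 : b (d + a) w = b (d + a) w + q w + q w := by rw [add_assoc, zadd, add_zero]
        rw [h4, h3, zero_add]
      · exact absurd h3 h2
    obtain ⟨w, hw, w', hw', h2⟩ := h.wc
    have h3 := F.q_add w w'
    rw [h1 _ ((W c).add_mem hw hw'), h1 w hw, h1 w' hw', h2, map_add] at h3
    simp at h3
  have hnw := h.nc.1 w hw
  have hnc := h.nc.1 c (F.self_W c hc)
  have hwc := F.perp_W c hc w hw
  have hdO := F.sg_mem hc hw hd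
  have hdc : b d c = 1 := by rw [F.b_comm]; exact hcd
  have hda : b d a = 0 := by rw [F.b_comm]; exact had
  have e1 : b a (sg q b c w d) = 1 := by
    rw [F.b_comm]
    simp only [sg, hdc, map_add, LinearMap.add_apply, map_smul, LinearMap.smul_apply, smul_eq_mul, hda, hca,
      mul_one, one_smul, zero_add]
    rw [← hw1, map_add, LinearMap.add_apply, F.b_comm a w]
  have e2 : b c (sg q b c w d) = 1 := by
    simp only [sg, hdc, map_add, map_smul, smul_eq_mul, hcd, F.b_self, hwc,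
      mul_one, one_smul, mul_zero, add_zero]
  have e3 := beta_both F hyp ha hc hdO hac h e1 e2
  simp only [sg, hdc, map_add, map_smul, smul_eq_mul, hnc, hnw, one_smul, mul_zero, add_zero, mul_one] at e3
  exact e3

theorem PairN.symm {a c n : V} (h : PairN q b W a c n)
    (hg : ∃ g1 g2, g1 + g2 = n ∧ q g1 = 0 ∧ q g2 = 0 ∧ g1 ≠ g2 ∧
    ∀ v, b v c = 0 → b v a = 0 → (∀ w ∈ W c, b v w = 0) → v = 0 ∨ v = g1 ∨ v = g2 ∨ v = n) :
    PairN q b W c a n := ⟨h.nc, h.na, h.uc, h.ua, h.wc, h.wa, hg⟩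

include F hyp in
theorem beta_Nn {a c d n : V} (ha : a ∈ O) (hc : c ∈ O) (hd : d ∈ O) (hac : b a c = 1)
    (h : PairN q b W a c n) (hcd : b c d = 1) : Nn q b W n d := by
  have h0 := beta_one F hyp ha hc hd hac h hcd
  obtain ⟨m, hm⟩ := exists_pairN F hyp hc hd hcd
  rcases h.uc m hm.na with h1 | h1
  · rw [← h1]; exact hm.nc
  · exfalso
    have h2 := hm.nc.1 d (F.self_W d hd)
    rw [h1, map_add, LinearMap.add_apply, h0, hcd] at h2
    exact absurd h2 (by decide)

/-- the connected component -/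
def KK (q : V → ZMod 2) (b : LinearMap.BilinForm (ZMod 2) V) (W : V → Submodule (ZMod 2) V) (O : Set V)
    (n : V) : Set V := {c | c ∈ O ∧ ∃ a ∈ O, b a c = 1 ∧ Nn q b W n a ∧ Nn q b W n c}

include F hyp in
theorem KK_closed {n c d : V} (hc : c ∈ KK q b W O n) (hd : d ∈ O) (hcd : b c d = 1) :
    d ∈ KK q b W O n ∧ b n d = 0 := by
  obtain ⟨hcO, a, ha, hac, h1, h2⟩ := hc
  have hp := pairN_of F hyp ha hcO hac h1 h2
  exact ⟨⟨hd, c, hcO, hcd, h2, beta_Nn F hyp ha hcO hd hac hp hcd⟩, beta_one F hyp ha hcO hd hac hp hcd⟩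

include F hyp in
/-- `n ⊥ O` -/
theorem beta_perp {a c n : V} (ha : a ∈ O) (hc : c ∈ O) (hac : b a c = 1) (hp : PairN q b W a c n) {d : V}
    (hd : d ∈ O) : b n d = 0 := by
  rcases zm (b n d) with h0 | h0
  · exact h0
  exfalso
  have hca : b c a = 1 := by rw [F.b_comm]; exact hac
  have hcK : c ∈ KK q b W O n := ⟨hc, a, ha, hac, hp.na, hp.nc⟩
  have haK : a ∈ KK q b W O n := ⟨ha, c, hc, hca, hp.nc, hp.na⟩
  have hna := hp.na.1 a (F.self_W a ha)
  -- elements non-orthogonal to something in `K`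
  have hK : ∀ k ∈ KK q b W O n, ∀ x ∈ O, b n x = 1 → b k x = 0 := by
    intro k hk x hx hnx
    rcases zm (b k x) with h1 | h1
    · exact h1
    · rw [(KK_closed F hyp hk hx h1).2] at hnx
      exact absurd hnx (by decide)
  have hKW : ∀ x ∈ O, b n x = 1 → ∀ w ∈ W a, b x w = 0 := by
    intro x hx hnx w hw
    rcases zm (b x w) with h1 | h1
    · exact h1
    exfalso
    have hxa : b x a = 0 := by rw [F.b_comm]; exact hK a haK x hx hnx
    have h2 := F.sg_mem ha hw hx
    have h3 : sg q b a w x = x + a := by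
      rw [sg, h1, hxa]; simp
    rw [h3] at h2
    have h4 : b c (x + a) = 1 := by rw [map_add, hK c hcK x hx hnx, hca, zero_add]
    have h5 := (KK_closed F hyp hcK h2 h4).2
    rw [map_add, hnx, hna] at h5
    exact absurd h5 (by decide)
  -- partners of `d`
  have hpart : ∀ x ∈ O, b d x = 1 → (∀ k ∈ KK q b W O n, b k x = 0) ∧ ∀ w ∈ W a, b x w = 0 := by
    intro x hx hdx
    have hxd : b x d = 1 := by rw [F.b_comm]; exact hdx
    have h1 : ∀ k ∈ KK q b W O n, b k x = 0 := by
      intro k hk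
      rcases zm (b k x) with h1 | h1
      · exact h1
      exfalso
      have h2 := (KK_closed F hyp hk hx h1).1
      have h3 := (KK_closed F hyp h2 hd hxd).2
      rw [h0] at h3
      exact absurd h3 (by decide)
    refine ⟨h1, fun w hw => ?_⟩
    rcases zm (b x w) with h2 | h2
    · exact h2
    exfalso
    have hxa : b x a = 0 := by rw [F.b_comm]; exact h1 a haK
    have h3 := F.sg_mem ha hw hx
    have h4 : sg q b a w x = x + a := by
      rw [sg, h2, hxa]; simp
    rw [h4] at h3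
    have h5 : b c (x + a) = 1 := by rw [map_add, h1 c hcK, hca, zero_add]
    have h6 := (KK_closed F hyp hcK h3 h5).1
    have hda : b a d = 0 := hK a haK d hd h0
    have h7 : b (x + a) d = 1 := by rw [map_add, LinearMap.add_apply, hxd, hda, add_zero]
    have h8 := (KK_closed F hyp h6 hd h7).2
    rw [h0] at h8
    exact absurd h8 (by decide)
  obtain ⟨g1, g2, hg, hg1, hg2, hg12, hgall⟩ := hp.g
  have hqn := hp.na.2
  have hsing : ∀ x ∈ O, b x a = 0 → b x c = 0 → (∀ w ∈ W a, b x w = 0) → x = g1 ∨ x = g2 := by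
    intro x hx h1 h2 h3
    rcases hgall x h1 h2 h3 with h4 | h4 | h4 | h4
    · exact absurd h4 (F.zero x hx)
    · exact Or.inl h4
    · exact Or.inr h4
    · have h5 := F.q_self hx
      rw [h4, hqn] at h5
      exact absurd h5 (by decide)
  have hdg := hsing d hd (by rw [F.b_comm]; exact hK a haK d hd h0) (by rw [F.b_comm]; exact hK c hcK d hd h0)
    (hKW d hd h0)
  -- a partner of `d`
  obtain ⟨d1, hd1, hdd1⟩ : ∃ d1 ∈ O, b d d1 = 1 := by
    obtain ⟨h, hh, rfl⟩ := F.trans a ha d hd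
    exact ⟨h c, F.stable h hh c hc, by rw [F.b_H hh]; exact hac⟩
  have hpg : ∀ x ∈ O, b d x = 1 → x = g1 ∨ x = g2 := fun x hx hdx => by
    obtain ⟨h1, h2⟩ := hpart x hx hdx
    exact hsing x hx (by rw [F.b_comm]; exact h1 a haK) (by rw [F.b_comm]; exact h1 c hcK) h2
  have hd1g := hpg d1 hd1 hdd1
  have hd1d : b d1 d = 1 := by rw [F.b_comm]; exact hdd1
  -- every partner of `d` is `d1`
  have huni : ∀ x ∈ O, b d x = 1 → x = d1 := by
    intro x hx hdx
    have h1 := hpg x hx hdx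
    have hne : ∀ y, b d y = 1 → y ≠ d := fun y hy h => by
      rw [h, F.b_self] at hy; exact absurd hy (by decide)
    have hx' := hne x hdx
    have hd1' := hne d1 hdd1
    rcases hdg with h2 | h2 <;> rcases h1 with h3 | h3 <;> rcases hd1g with h4 | h4
    · exact absurd (h3.trans h2.symm) hx'
    · exact absurd (h3.trans h2.symm) hx'
    · exact absurd (h4.trans h2.symm) hd1'
    · exact h3.trans h4.symm
    · exact h3.trans h4.symm
    · exact absurd (h4.trans h2.symm) hd1'
    · exact absurd (h3.trans h2.symm) hx'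
    · exact absurd (h3.trans h2.symm) hx'
  -- `w ∈ W d` orthogonal to `d1`
  obtain ⟨w, hw, hw0, hwd1⟩ : ∃ w ∈ W d, w ≠ 0 ∧ b w d1 = 0 := by
    obtain ⟨w1, w2, t1, t2, dd, h1, h2, h3⟩ := hyp d hd d1 hd1 hdd1
    refine ⟨w1, (dd.hW _).2 ⟨false, true, false, by simp [bz]⟩, ?_, dd.w1d⟩
    intro h
    rw [h, map_zero, LinearMap.zero_apply] at h3
    exact absurd h3 (by decide)
  have h1 := F.sg_mem hd hw hd1
  have h2 : sg q b d w d1 = d1 + w + q w • d := by
    rw [sg, F.b_comm d1 w, hwd1, hd1d]; simp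
  rw [h2] at h1
  have h3 : b d (d1 + w + q w • d) = 1 := by
    rw [map_add, map_add, map_smul, F.b_self, F.perp_W d hd w hw, hdd1]; simp
  have h4 := huni _ h1 h3
  have h5 : w + q w • d = 0 := by
    rw [add_assoc] at h4
    simpa using h4
  have h6 := eq_of_add h5
  rcases zm (q w) with h7 | h7
  · rw [h7, zero_smul] at h6; exact hw0 h6
  · rw [h7, one_smul] at h6
    rw [h6, hdd1] at hwd1
    exact absurd hwd1 (by decide)

include F hyp in
/-- hyperbolic type: `H` fixes a nonzero vector. -/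
theorem beta_fixed {a c : V} (ha : a ∈ O) (hc : c ∈ O) (hac : b a c = 1) :
    ∃ n, n ≠ 0 ∧ ∀ h ∈ H, h n = n := by
  obtain ⟨n, hp⟩ := exists_pairN F hyp ha hc hac
  have hqn := hp.na.2
  have hca : b c a = 1 := by rw [F.b_comm]; exact hac
  refine ⟨n, fun h => ?_, fun h hh => ?_⟩
  · rw [h, F.q_zero] at hqn
    exact absurd hqn (by decide)
  -- `h n` is orthogonal to `O`
  have h1 : ∀ d ∈ O, b (h n) d = 0 := by
    intro d hd
    have e : h (h.symm d) = d := h.apply_symm_apply d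
    have h2 : h.symm d ∈ O := F.stable h⁻¹ (H.inv_mem hh) d hd
    rw [← e, F.b_H hh]
    exact beta_perp F hyp ha hc hac hp h2
  have h2 : ∀ w ∈ W a, b (h n) w = 0 := by
    intro w hw
    have h3 := h1 _ (F.sg_mem ha hw hc)
    rw [sg, hca] at h3
    simp only [map_add, map_smul, smul_eq_mul, one_smul, h1 a ha, h1 c hc, mul_zero, zero_add, add_zero] at h3
    exact h3
  obtain ⟨g1, g2, hg, hg1, hg2, hg12, hgall⟩ := hp.g
  have hq := F.q_H h hh n
  rw [hqn] at hq
  rcases hgall (h n) (h1 a ha) (h1 c hc) h2 with h4 | h4 | h4 | h4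
  · rw [h4, F.q_zero] at hq; exact absurd hq (by decide)
  · rw [h4, hg1] at hq; exact absurd hq (by decide)
  · rw [h4, hg2] at hq; exact absurd hq (by decide)
  · exact h4

end

end Cfsg.Agent.LargeExtra.Six
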