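import Cfsg.Agent.LargeExtra.SixModel

/-!
# S1762, case II, `|D| = 4`: the finite checks (helper416)
-/

set_option autoImplicit false

namespace Cfsg.Agent.LargeExtra.Six

/-- the vectors orthogonal to `a = 1` and `b = 2` -/
def V0M : List ℕ := [0, 4, 8, 12, 16, 20, 24, 28, 32, 36, 40, 44, 48, 52, 56, 60]

/-- `q = x₀x₁ + x₂x₃ + x₄x₅ + q₂ x₂ + q₃ x₃ + q₄ x₄ + q₅ x₅` -/
def T4 (q2 q3 q4 q5 : Bool) : ℕ :=
  match q2, q3, q4, q5 with
  | false, false, false, false => 9761403244881934472
  | false, false, false, true => 8685340828577069192
  | false, false, true, false => 8685324409167640712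
  | false, false, true, true => 9761419664792451208
  | false, true, false, false => 8680555827239094152
  | false, true, false, true => 9766188246723233672
  | false, true, true, false => 9766204812159321992
  | false, true, true, true => 8680539261297461128
  | true, false, false, false => 8613002863636416632
  | true, false, false, true => 9833741210357368952
  | true, false, true, false => 9833759837346302072
  | true, false, true, true => 8612984236079024248
  | true, true, false, false => 9837963270298302328
  | true, true, false, true => 8608780803125049208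
  | true, true, true, false => 8608762047289063288
  | true, true, true, true => 9837982026706679672

/-- the family consisting of `a` and `b`; `W a = ⟨a, u⟩^⊥`, `D a = ⟨a, d⟩` -/
def fam4 (T d u' d' : ℕ) : List Ent :=
  [⟨1, fun v => !bn T v 1 && !bn T v 4, fun v => (v == 0 || v == 1) || (v == d || v == (d ^^^ 1))⟩,
    ⟨2, fun v => !bn T v 2 && !bn T v u', fun v => (v == 0 || v == 2) || (v == d' || v == (d' ^^^ 2))⟩]

/-- all possibilities for `W b`, `D b` are killed by a word. -/
def check4 (T d : ℕ) (β : Bool) : Bool :=
  V0M.all fun u' => (u' == 0) || ((T.testBit u' != T.testBit 4) ||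
    V0M.all fun d' => T.testBit d' || ((d' == 0) || ((d' == u') || ((bn T u' d' != β) ||
      ((V0M.any fun w => T.testBit w && chk T (fam4 T d u' d') V0M [(1, w), (2, w)]) ||
        V0M.any fun w => V0M.any fun w' => chk T (fam4 T d u' d') V0M [(2, w), (1, w'), (2, w)])))))

set_option maxRecDepth 100000 in
theorem check4a : ∀ q2 q4 q5 : Bool, check4 (T4 q2 false q4 q5) 8 true = true := by decide +kernel

set_option maxRecDepth 100000 in
theorem check4b : ∀ q2 q3 q5 : Bool, check4 (T4 q2 q3 false q5) 16 false = true := by decide +kernel

end Cfsg.Agent.LargeExtra.Six
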