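import Cfsg.Agent.LargeExtra.SixBasic
import Cfsg.Agent.LargeExtra.SixCheckFour

/-!
# S1762, case II, `|D| = 4` (helper416): no two elements of `O` are non-orthogonal
-/

set_option autoImplicit false

namespace Cfsg.Agent.LargeExtra.Six

variable {V : Type*} [AddCommGroup V] [Module (ZMod 2) V] {q : V → ZMod 2}
  {b : LinearMap.BilinForm (ZMod 2) V} {H : Subgroup (V ≃ₗ[ZMod 2] V)}
  {O : Set V} {D W : V → Submodule (ZMod 2) V}

/-- the shape of `W c` and `D c` relative to a non-orthogonal `d` -/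
structure Dat4 (q : V → ZMod 2) (b : LinearMap.BilinForm (ZMod 2) V) (D W : V → Submodule (ZMod 2) V)
    (c d u δ : V) : Prop where
  uc : b u c = 0
  ud : b u d = 0
  δc : b δ c = 0
  δd : b δ d = 0
  u_ne : u ≠ 0
  δ_ne : δ ≠ 0
  δu : δ ≠ u
  q_δ : q δ = 0
  hW : ∀ v, v ∈ W c ↔ b v c = 0 ∧ b v u = 0
  hD : ∀ v, v ∈ D c ↔ v = 0 ∨ v = c ∨ v = δ ∨ v = δ + c

open SixFam

theorem exists_dat4 (F : SixFam q b H O D W) {a c : V} (ha : a ∈ O) (hac : b a c = 1)
    (h4 : Nat.card (D a) = 4) : ∃ u δ, Dat4 q b D W a c u δ := by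
  have hfin := F.finite
  have hW16 : Nat.card (W a) = 16 := by
    have := F.card_DW a ha
    rw [h4] at this
    omega
  have hWp : Nat.card (b.orthogonal (W a)) = 4 := by
    have := F.card_perp (W a)
    rw [hW16] at this
    omega
  have haW : a ∈ b.orthogonal (W a) := by
    rw [SixFam.mem_perp]
    intro w hw
    rw [F.b_comm]
    exact F.perp_W a ha w hw
  have hca : b c a = 1 := by rw [F.b_comm]; exact hac
  -- the elements of `(W a)^⊥`
  have hcard2 : Nat.card {v : b.orthogonal (W a) // b (v : V) c = 0} = 2 := by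
    have := F.card_eq_two_mul (b.orthogonal (W a)) haW hac
    rw [hWp] at this
    omega
  obtain ⟨x0, y0, hxy0, huniv⟩ := Nat.card_eq_two_iff.1 hcard2
  have hall : ∀ v : {v : b.orthogonal (W a) // b (v : V) c = 0}, v = x0 ∨ v = y0 := by
    intro v
    have : v ∈ ({x0, y0} : Set _) := by rw [huniv]; trivial
    simpa using this
  -- a nonzero element `u`
  obtain ⟨u, hu, hu0⟩ : ∃ u : {v : b.orthogonal (W a) // b (v : V) c = 0}, ((u : b.orthogonal (W a)) : V) ≠ 0 ∧
      ∀ v : {v : b.orthogonal (W a) // b (v : V) c = 0}, ((v : b.orthogonal (W a)) : V) = 0 ∨ v = u := by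
    by_cases hx : ((x0 : b.orthogonal (W a)) : V) = 0
    · refine ⟨y0, fun hy => hxy0 (Subtype.ext (Subtype.ext (hx.trans hy.symm))), fun v => ?_⟩
      rcases hall v with h | h
      · left; rw [h]; exact hx
      · right; exact h
    · refine ⟨x0, hx, fun v => ?_⟩
      rcases hall v with h | h
      · right; exact h
      · left
        -- `0` is one of `x0, y0`
        have h0 : (⟨⟨0, zero_mem _⟩, by
          show b (0 : V) c = 0
          rw [map_zero, LinearMap.zero_apply]⟩ :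
          {v : b.orthogonal (W a) // b (v : V) c = 0}) = y0 := by
          rcases hall ⟨⟨0, zero_mem _⟩, by
            show b (0 : V) c = 0
            rw [map_zero, LinearMap.zero_apply]⟩ with h1 | h1
          · exfalso; apply hx; rw [← h1]
          · exact h1
        rw [h, ← h0]
  -- same for `D a`
  have hcard2' : Nat.card {v : D a // b (v : V) c = 0} = 2 := by
    have := F.card_eq_two_mul (D a) (F.self_D a ha) hac
    rw [h4] at this
    omega
  obtain ⟨x1, y1, hxy1, huniv1⟩ := Nat.card_eq_two_iff.1 hcard2'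
  have hall1 : ∀ v : {v : D a // b (v : V) c = 0}, v = x1 ∨ v = y1 := by
    intro v
    have : v ∈ ({x1, y1} : Set _) := by rw [huniv1]; trivial
    simpa using this
  obtain ⟨δ, hδ, hδ0⟩ : ∃ δ : {v : D a // b (v : V) c = 0}, ((δ : D a) : V) ≠ 0 ∧
      ∀ v : {v : D a // b (v : V) c = 0}, ((v : D a) : V) = 0 ∨ v = δ := by
    by_cases hx : ((x1 : D a) : V) = 0
    · refine ⟨y1, fun hy => hxy1 (Subtype.ext (Subtype.ext (hx.trans hy.symm))), fun v => ?_⟩
      rcases hall1 v with h | h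
      · left; rw [h]; exact hx
      · right; exact h
    · refine ⟨x1, hx, fun v => ?_⟩
      rcases hall1 v with h | h
      · right; exact h
      · left
        have h0 : (⟨⟨0, zero_mem _⟩, by
          show b (0 : V) c = 0
          rw [map_zero, LinearMap.zero_apply]⟩ :
          {v : D a // b (v : V) c = 0}) = y1 := by
          rcases hall1 ⟨⟨0, zero_mem _⟩, by
            show b (0 : V) c = 0
            rw [map_zero, LinearMap.zero_apply]⟩ with h1 | h1
          · exfalso; apply hx; rw [← h1]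
          · exact h1
        rw [h, ← h0]
  have huW := (u : b.orthogonal (W a)).2
  have huW' : ∀ w ∈ W a, b w ((u : b.orthogonal (W a)) : V) = 0 := SixFam.mem_perp.1 huW
  have huc := u.2
  have hδD := (δ : D a).2
  have hδc := δ.2
  refine ⟨((u : b.orthogonal (W a)) : V), ((δ : D a) : V), ?_, huc, ?_, hδc, hu, hδ, ?_, F.q_D a ha _ hδD, ?_, ?_⟩
  · rw [F.b_comm]; exact huW' a (F.self_W a ha)
  · exact F.b_D ha hδD (F.self_D a ha)
  · intro h
    rcases F.cap a ha _ hδD (fun w hw => by rw [h, F.b_comm]; exact huW' w hw) with h1 | h1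
    · exact hδ h1
    · rw [h1, hac] at hδc
      exact absurd hδc (by decide)
  · intro v
    constructor
    · intro hv
      exact ⟨by rw [F.b_comm]; exact F.perp_W a ha v hv, huW' v hv⟩
    · rintro ⟨h1, h2⟩
      apply F.mem_of_perp
      intro w hw
      -- `w ∈ (W a)^⊥ = {0, u, a, u + a}`
      have hwW : w ∈ b.orthogonal (W a) := SixFam.mem_perp.2 hw
      rw [F.b_comm]
      rcases zm (b w c) with h3 | h3
      · rcases hu0 ⟨⟨w, hwW⟩, h3⟩ with h5 | h5
        · have : w = 0 := h5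
          rw [this, map_zero]
        · have : w = ((u : b.orthogonal (W a)) : V) := congrArg (fun t => ((t.1 : b.orthogonal (W a)) : V)) h5
          rw [this, h2]
      · have h6 : b (w + a) c = 0 := by
          rw [map_add, LinearMap.add_apply, h3, hac]; rfl
        rcases hu0 ⟨⟨w + a, Submodule.add_mem _ hwW haW⟩, h6⟩ with h5 | h5
        · have h7 : w = a := eq_of_add h5
          rw [h7, h1]
        · have h8 : w + a = ((u : b.orthogonal (W a)) : V) :=
            congrArg (fun t => ((t.1 : b.orthogonal (W a)) : V)) h5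
          have h7 : w = ((u : b.orthogonal (W a)) : V) + a := by rw [← h8, add_cancel']
          rw [h7, map_add, h2, h1, add_zero]
  · intro v
    constructor
    · intro hv
      rcases zm (b v c) with h3 | h3
      · rcases hδ0 ⟨⟨v, hv⟩, h3⟩ with h5 | h5
        · left; exact h5
        · right; right; left
          exact congrArg (fun t => ((t.1 : D a) : V)) h5
      · have h6 : b (v + a) c = 0 := by
          rw [map_add, LinearMap.add_apply, h3, hac]; rfl
        rcases hδ0 ⟨⟨v + a, (D a).add_mem hv (F.self_D a ha)⟩, h6⟩ with h5 | h5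
        · right; left; exact eq_of_add h5
        · right; right; right
          have h8 : v + a = ((δ : D a) : V) := congrArg (fun t => ((t.1 : D a) : V)) h5
          rw [← h8, add_cancel']
    · rintro (rfl | rfl | rfl | rfl)
      · exact zero_mem _
      · exact F.self_D _ ha
      · exact hδD
      · exact (D a).add_mem hδD (F.self_D a ha)

/-- transport of the data by `H` -/
theorem Dat4.transport (F : SixFam q b H O D W) {a c u δ : V} (ha : a ∈ O) (hac : b a c = 1)
    (d : Dat4 q b D W a c u δ) {a' c' : V} (ha' : a' ∈ O) (hac' : b a' c' = 1) :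
    ∃ u' δ', Dat4 q b D W a' c' u' δ' ∧ q u' = q u ∧ b u' δ' = b u δ := by
  obtain ⟨h, hh, rfl⟩ := F.trans a ha a' ha'
  have hinv : ∀ v, h (h.symm v) = v := h.apply_symm_apply
  have hbs : ∀ v w, b v (h w) = b (h.symm v) w := fun v w => by
    rw [← F.b_H hh (h.symm v) w, hinv]
  have hqa : q a = 0 := F.q_self ha
  have e1 : ∀ (v : V) (t : ZMod 2), h v + t • h a = h (v + t • a) := fun v t => by
    rw [map_add, map_smul]
  have hne : ∀ (v : V) (t : ZMod 2), v ≠ 0 → b v c = 0 → v + t • a ≠ 0 := by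
    intro v t hv hvc h0
    rcases zm t with rfl | rfl
    · rw [zero_smul, add_zero] at h0; exact hv h0
    · rw [one_smul] at h0
      rw [eq_of_add h0, hac] at hvc
      exact absurd hvc (by decide)
  have hqs : ∀ (v : V) (t : ZMod 2), b v a = 0 → q (v + t • a) = q v := by
    intro v t hva
    rcases zm t with rfl | rfl
    · rw [zero_smul, add_zero]
    · rw [one_smul, F.q_add, hva, hqa, add_zero, add_zero]
  generalize ht : b (h u) c' = t
  generalize ht' : b (h δ) c' = t'
  refine ⟨h (u + t • a), h (δ + t' • a), ⟨?_, ?_, ?_, ?_, ?_, ?_, ?_, ?_, ?_, ?_⟩, ?_, ?_⟩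
  · rw [F.b_H hh, map_add, LinearMap.add_apply, map_smul, LinearMap.smul_apply, F.b_self, d.uc, smul_zero,
      add_zero]
  · rw [← e1, map_add, LinearMap.add_apply, map_smul, LinearMap.smul_apply, hac', ht, smul_eq_mul, mul_one, zadd]
  · rw [F.b_H hh, map_add, LinearMap.add_apply, map_smul, LinearMap.smul_apply, F.b_self, d.δc, smul_zero,
      add_zero]
  · rw [← e1, map_add, LinearMap.add_apply, map_smul, LinearMap.smul_apply, hac', ht', smul_eq_mul, mul_one, zadd]
  · intro h0
    rw [h.map_eq_zero_iff] at h0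
    exact hne u t d.u_ne d.ud h0
  · intro h0
    rw [h.map_eq_zero_iff] at h0
    exact hne δ t' d.δ_ne d.δd h0
  · intro h0
    have h1 := h.injective h0
    have h2 : (δ + u) + (t + t') • a = 0 := by
      calc (δ + u) + (t + t') • a = (δ + t' • a) + (u + t • a) := by rw [add_smul]; abel
        _ = 0 := by rw [h1, add_self]
    refine hne (δ + u) (t + t') (fun h3 => d.δu (eq_of_add h3)) ?_ h2
    rw [map_add, LinearMap.add_apply, d.δd, d.ud, add_zero]
  · rw [F.q_H h hh, hqs δ t' d.δc, d.q_δ]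
  · intro v
    have h1 : v ∈ W (h a) ↔ h.symm v ∈ W a := by
      rw [← F.W_map_iff hh ha, hinv]
    rw [h1, d.hW, hbs, hbs, map_add, map_smul]
    constructor
    · rintro ⟨h2, h3⟩
      exact ⟨h2, by rw [h2, h3, smul_zero, add_zero]⟩
    · rintro ⟨h2, h3⟩
      refine ⟨h2, ?_⟩
      rw [h2, smul_zero, add_zero] at h3
      exact h3
  · intro v
    have h1 : v ∈ D (h a) ↔ h.symm v ∈ D a := by
      rw [← F.D_map_iff hh ha, hinv]
    rw [h1, d.hD]
    have h2 : ∀ w, h.symm v = w ↔ v = h w := fun w => h.symm_apply_eq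
    rw [h2, h2, h2, h2, map_zero, map_add, map_add, map_smul]
    rcases zm t' with rfl | rfl
    · rw [zero_smul, add_zero]
    · rw [one_smul, add_cancel']
      tauto
  · rw [F.q_H h hh, hqs u t d.uc]
  · rw [F.b_H hh]
    simp only [map_add, LinearMap.add_apply, map_smul, LinearMap.smul_apply, smul_eq_mul, F.b_self,
      F.b_comm a δ, d.δc, d.uc, mul_zero, add_zero]

/-- the coordinates -/
theorem T4_spec : ∀ q2 q3 q4 q5 : Bool, ∀ x < 64,
    bz (x.testBit 2) * bz q2 + bz (x.testBit 3) * bz q3 + bz (x.testBit 4) * bz q4 +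
      bz (x.testBit 5) * bz q5 + bz (x.testBit 0) * bz (x.testBit 1) +
      bz (x.testBit 2) * bz (x.testBit 3) + bz (x.testBit 4) * bz (x.testBit 5) =
        bz ((T4 q2 q3 q4 q5).testBit x) := by decide +kernel

theorem T4_nondeg : ∀ q2 q3 q4 q5 : Bool, ∀ x < 64, x ≠ 0 → ∃ y < 64, bn (T4 q2 q3 q4 q5) x y = true := by
  decide +kernel

theorem T4_V0M : ∀ q2 q3 q4 q5 : Bool, ∀ x < 64, bn (T4 q2 q3 q4 q5) x 1 = false →
    bn (T4 q2 q3 q4 q5) x 2 = false → x ∈ V0M := by
  decide +kernel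

theorem T4_bit4 : ∀ q2 q3 q4 q5 : Bool, (T4 q2 q3 q4 q5).testBit 4 = q2 := by decide +kernel

/-- coordinates from two orthogonal hyperbolic pairs in `⟨a, c⟩^⊥`. -/
theorem coord4 (F : SixFam q b H O D W) {a c e2 e3 e4 e5 : V} {q2 q3 q4 q5 : Bool} (ha : a ∈ O)
    (hc : c ∈ O) (hac : b a c = 1)
    (h2a : b e2 a = 0) (h2c : b e2 c = 0) (h3a : b e3 a = 0) (h3c : b e3 c = 0)
    (h4a : b e4 a = 0) (h4c : b e4 c = 0) (h5a : b e5 a = 0) (h5c : b e5 c = 0)
    (h23 : b e2 e3 = 1) (h45 : b e4 e5 = 1) (h24 : b e2 e4 = 0) (h25 : b e2 e5 = 0) (h34 : b e3 e4 = 0)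
    (h35 : b e3 e5 = 0) (hq2 : q e2 = bz q2) (hq3 : q e3 = bz q3) (hq4 : q e4 = bz q4) (hq5 : q e5 = bz q5) :
    Coord q ![a, c, e2, e3, e4, e5] (T4 q2 q3 q4 q5) := by
  apply coord_of F
  · intro x hx
    rw [q_ev_eq F, ← T4_spec q2 q3 q4 q5 x hx]
    have e0 : (![a, c, e2, e3, e4, e5] : Fin 6 → V) 0 = a := rfl
    have e1 : (![a, c, e2, e3, e4, e5] : Fin 6 → V) 1 = c := rfl
    have e2' : (![a, c, e2, e3, e4, e5] : Fin 6 → V) 2 = e2 := rfl
    have e3' : (![a, c, e2, e3, e4, e5] : Fin 6 → V) 3 = e3 := rfl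
    have e4' : (![a, c, e2, e3, e4, e5] : Fin 6 → V) 4 = e4 := rfl
    have e5' : (![a, c, e2, e3, e4, e5] : Fin 6 → V) 5 = e5 := rfl
    rw [e0, e1, e2', e3', e4', e5', F.q_self ha, F.q_self hc, hac, F.b_comm a e2, F.b_comm a e3, F.b_comm a e4,
      F.b_comm a e5, F.b_comm c e2, F.b_comm c e3, F.b_comm c e4, F.b_comm c e5, h2a, h3a, h4a, h5a, h2c, h3c,
      h4c, h5c, h23, h45, h24, h25, h34, h35, hq2, hq3, hq4, hq5]
    ring
  · exact T4_nondeg q2 q3 q4 q5

/-- the final contradiction in coordinates -/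
theorem false_of_check4 (F : SixFam q b H O D W) {a c u δ : V} (ha : a ∈ O) (hc : c ∈ O) (hac : b a c = 1)
    (d : Dat4 q b D W a c u δ) {e : Fin 6 → V} {q2 q3 q4 q5 : Bool}
    (C : Coord q e (T4 q2 q3 q4 q5)) (he1 : ev e 1 = a) (he2 : ev e 2 = c) (he4 : ev e 4 = u) {x : ℕ}
    (hx : x < 64) (hex : ev e x = δ) (β : Bool) (hβ : b u δ = bz β)
    (hchk : check4 (T4 q2 q3 q4 q5) x β = true) : False := by
  have hca : b c a = 1 := by rw [F.b_comm]; exact hac
  obtain ⟨u', δ', d', hu', hδ'⟩ := d.transport F ha hac hc hca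
  obtain ⟨y, hy, rfl⟩ := C.surj u'
  obtain ⟨z, hz, rfl⟩ := C.surj δ'
  subst he1 he2 he4 hex
  have hbn : ∀ s < 64, ∀ t < 64, b (ev e s) (ev e t) = bz (bn (T4 q2 q3 q4 q5) s t) := fun s hs t ht =>
    b_ev F C hs ht
  have hbn0 : ∀ s < 64, ∀ t < 64, b (ev e s) (ev e t) = 0 → bn (T4 q2 q3 q4 q5) s t = false :=
    fun s hs t ht h => bz_eq_zero.1 (by rw [← hbn s hs t ht]; exact h)
  have hne : ∀ s < 64, ∀ t < 64, ev e s ≠ ev e t → s ≠ t := fun s _ t _ h h' => h (by rw [h'])
  have hyV : y ∈ V0M := T4_V0M _ _ _ _ y hy (hbn0 y hy 1 (by norm_num) d'.ud) (hbn0 y hy 2 (by norm_num) d'.uc)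
  have hzV : z ∈ V0M := T4_V0M _ _ _ _ z hz (hbn0 z hz 1 (by norm_num) d'.δd) (hbn0 z hz 2 (by norm_num) d'.δc)
  have hqy : (T4 q2 q3 q4 q5).testBit y = (T4 q2 q3 q4 q5).testBit 4 := bz_inj (by
    rw [← C.q_ev y hy, ← C.q_ev 4 (by norm_num)]; exact hu')
  have hqz : (T4 q2 q3 q4 q5).testBit z = false := bz_eq_zero.1 (by rw [← C.q_ev z hz]; exact d'.q_δ)
  have hyz : bn (T4 q2 q3 q4 q5) y z = β := bz_inj (by rw [← hbn y hy z hz, hδ', hβ])
  have hy0 : y ≠ 0 := by
    intro h; apply d'.u_ne; rw [h, ev_zero]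
  have hz0 : z ≠ 0 := by
    intro h; apply d'.δ_ne; rw [h, ev_zero]
  have hzy : z ≠ y := fun h => d'.δu (by rw [h])
  -- the family
  have hM : ∀ E ∈ fam4 (T4 q2 q3 q4 q5) x y z, Means O D W e E := by
    intro E hE
    simp only [fam4, List.mem_cons, List.not_mem_nil, or_false] at hE
    rcases hE with rfl | rfl
    · refine ⟨by norm_num, ha, ?_, ?_⟩
      · intro s hs
        show (!bn _ s 1 && !bn _ s 4) = true ↔ _
        rw [d.hW, hbn s hs 1 (by norm_num), hbn s hs 4 (by norm_num), bz_eq_zero, bz_eq_zero,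
          Bool.and_eq_true, Bool.not_eq_true', Bool.not_eq_true']
      · intro s hs
        show ((s == 0 || s == 1) || (s == x || s == (x ^^^ 1))) = true ↔ _
        rw [d.hD]
        simp only [Bool.or_eq_true, beq_iff_eq]
        have hi : ∀ t < 64, ev e s = ev e t ↔ s = t := fun t ht => ⟨fun h => C.inj s hs t ht h, fun h => by rw [h]⟩
        rw [← ev_xor, hi 1 (by norm_num), hi x hx, hi _ (xor_lt hx (by norm_num)), ← ev_zero e,
          hi 0 (by norm_num)]
        tauto
    · refine ⟨by norm_num, hc, ?_, ?_⟩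
      · intro s hs
        show (!bn _ s 2 && !bn _ s y) = true ↔ _
        rw [d'.hW, hbn s hs 2 (by norm_num), hbn s hs y hy, bz_eq_zero, bz_eq_zero,
          Bool.and_eq_true, Bool.not_eq_true', Bool.not_eq_true']
      · intro s hs
        show ((s == 0 || s == 2) || (s == z || s == (z ^^^ 2))) = true ↔ _
        rw [d'.hD]
        simp only [Bool.or_eq_true, beq_iff_eq]
        have hi : ∀ t < 64, ev e s = ev e t ↔ s = t := fun t ht => ⟨fun h => C.inj s hs t ht h, fun h => by rw [h]⟩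
        rw [← ev_xor, hi 2 (by norm_num), hi z hz, hi _ (xor_lt hz (by norm_num)), ← ev_zero e,
          hi 0 (by norm_num)]
        tauto
  -- the check
  unfold check4 at hchk
  rw [List.all_eq_true] at hchk
  have h1 := hchk y hyV
  simp only [Bool.or_eq_true, beq_iff_eq, bne_iff_ne, ne_eq] at h1
  rcases h1 with h1 | h1 | h1
  · exact hy0 h1
  · exact h1 hqy
  · rw [List.all_eq_true] at h1
    have h2 := h1 z hzV
    simp only [Bool.or_eq_true, beq_iff_eq, bne_iff_ne, ne_eq] at h2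
    rcases h2 with h2 | h2 | h2 | h2 | h2 | h2
    · rw [hqz] at h2; exact absurd h2 (by decide)
    · exact hz0 h2
    · exact hzy h2
    · exact h2 hyz
    · rw [List.any_eq_true] at h2
      obtain ⟨w, -, h3⟩ := h2
      rw [Bool.and_eq_true, sound F C _ hM] at h3
      exact absurd h3.2 (by decide)
    · rw [List.any_eq_true] at h2
      obtain ⟨w, -, h3⟩ := h2
      rw [List.any_eq_true] at h3
      obtain ⟨w', -, h4⟩ := h3
      rw [sound F C _ hM] at h4
      exact absurd h4 (by decide)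

/-- `|D| = 4`: two elements of `O` are orthogonal. -/
theorem perp_of_four (F : SixFam q b H O D W) {a c : V} (ha : a ∈ O) (hc : c ∈ O)
    (h4 : Nat.card (D a) = 4) : b a c = 0 := by
  rcases zm (b a c) with hac | hac
  · exact hac
  exfalso
  obtain ⟨u, δ, d⟩ := exists_dat4 F ha hac h4
  have hca : b c a = 1 := by rw [F.b_comm]; exact hac
  rcases zm (b u δ) with huδ | huδ
  · -- `b u δ = 0`
    obtain ⟨v0, hv1, hv2⟩ := F.exists_dual d.u_ne d.δu.symm
    obtain ⟨w0, hw1, hw2⟩ := F.exists_dual d.δ_ne d.δu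
    set v1 := pj b a c v0 with hv1d
    set w1 := pj b a c w0 with hw1d
    have h1 : b u v1 = 1 := by rw [hv1d, F.pj_of_perp d.uc d.ud, hv1]
    have h2 : b δ v1 = 0 := by rw [hv1d, F.pj_of_perp d.δc d.δd, hv2]
    have h3 : b δ w1 = 1 := by rw [hw1d, F.pj_of_perp d.δc d.δd, hw1]
    have h4 : b u w1 = 0 := by rw [hw1d, F.pj_of_perp d.uc d.ud, hw2]
    have hδu : b δ u = 0 := by rw [F.b_comm]; exact huδ
    -- correct `w1`
    obtain ⟨w2, h5, h6, h7, h8, h9⟩ : ∃ w2, b δ w2 = 1 ∧ b u w2 = 0 ∧ b v1 w2 = 0 ∧ b w2 a = 0 ∧ b w2 c = 0 := by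
      refine ⟨w1 + b v1 w1 • u, ?_, ?_, ?_, ?_, ?_⟩
      · rw [map_add, map_smul, hδu, smul_zero, add_zero, h3]
      · rw [map_add, map_smul, F.b_self, smul_zero, add_zero, h4]
      · rw [map_add, map_smul, F.b_comm v1 u, h1, smul_eq_mul, mul_one, zadd]
      · rw [map_add, LinearMap.add_apply, map_smul, LinearMap.smul_apply, d.uc, smul_zero, add_zero,
          hw1d, F.pj_left hac]
      · rw [map_add, LinearMap.add_apply, map_smul, LinearMap.smul_apply, d.ud, smul_zero, add_zero,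
          hw1d, F.pj_right hac]
    obtain ⟨s2, hs2⟩ := exists_bz (q u)
    obtain ⟨s3, hs3⟩ := exists_bz (q v1)
    obtain ⟨s5, hs5⟩ := exists_bz (q w2)
    have C := coord4 (e2 := u) (e3 := v1) (e4 := δ) (e5 := w2) (q4 := false) F ha hc hac d.uc d.ud
      (F.pj_left hac v0) (F.pj_right hac v0) d.δc d.δd h8 h9 h1 h5 huδ h6 (by rw [F.b_comm]; exact h2) h7 hs2 hs3
      d.q_δ hs5
    exact false_of_check4 F ha hc hac d C (ev_1 _) (ev_2 _) (ev_4 _) (x := 16) (by norm_num) (ev_16 _) false huδ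
      (check4b s2 s3 s5)
  · -- `b u δ = 1`
    have hδu : b δ u = 1 := by rw [F.b_comm]; exact huδ
    -- a nonzero vector orthogonal to `a, c, u, δ`
    obtain ⟨x, hx0, hxa, hxc, hxu, hxδ⟩ : ∃ x, x ≠ 0 ∧ b x a = 0 ∧ b x c = 0 ∧ b x u = 0 ∧ b x δ = 0 := by
      have := F.finite
      by_contra hcon
      push Not at hcon
      have hinj : Function.Injective (fun v : V => (b v a, b v c, b v u, b v δ)) := by
        intro v w hvw
        simp only [Prod.mk.injEq] at hvw
        by_contra hne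
        have hz : ∀ t, b v t = b w t → b (v + w) t = 0 := fun t ht => by
          rw [map_add, LinearMap.add_apply, ht, zadd]
        exact hcon (v + w) (fun h => hne (eq_of_add h)) (hz a hvw.1) (hz c hvw.2.1) (hz u hvw.2.2.1)
          (hz δ hvw.2.2.2)
      have h1 := Nat.card_le_card_of_injective _ hinj
      rw [F.card, Nat.card_prod, Nat.card_prod, Nat.card_prod, Nat.card_zmod] at h1
      omega
    obtain ⟨y0, hy0⟩ := F.exists_one hx0
    -- project `y0`
    obtain ⟨y, hxy, hya, hyc, hyu, hyδ⟩ : ∃ y, b x y = 1 ∧ b y a = 0 ∧ b y c = 0 ∧ b y u = 0 ∧ b y δ = 0 := by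
      refine ⟨y0 + b y0 c • a + b y0 a • c + b y0 δ • u + b y0 u • δ, ?_, ?_, ?_, ?_, ?_⟩
      · simp only [map_add, map_smul, smul_eq_mul, hxa, hxc, hxu, hxδ, mul_zero, add_zero, hy0]
      · simp only [map_add, LinearMap.add_apply, map_smul, LinearMap.smul_apply, smul_eq_mul, F.b_self, hca,
          d.uc, d.δc, mul_zero, mul_one, add_zero, zadd]
      · simp only [map_add, LinearMap.add_apply, map_smul, LinearMap.smul_apply, smul_eq_mul, F.b_self, hac,
          d.ud, d.δd, mul_zero, mul_one, add_zero, zadd]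
      · simp only [map_add, LinearMap.add_apply, map_smul, LinearMap.smul_apply, smul_eq_mul, F.b_self, hδu,
          F.b_comm a u, F.b_comm c u, d.uc, d.ud, mul_zero, mul_one, add_zero, zadd]
      · simp only [map_add, LinearMap.add_apply, map_smul, LinearMap.smul_apply, smul_eq_mul, F.b_self, huδ,
          F.b_comm a δ, F.b_comm c δ, d.δc, d.δd, mul_zero, mul_one, add_zero, zadd]
    obtain ⟨s2, hs2⟩ := exists_bz (q u)
    obtain ⟨s4, hs4⟩ := exists_bz (q x)
    obtain ⟨s5, hs5⟩ := exists_bz (q y)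
    have C := coord4 (e2 := u) (e3 := δ) (e4 := x) (e5 := y) (q3 := false) F ha hc hac d.uc d.ud d.δc d.δd
      hxa hxc hya hyc huδ hxy (by rw [F.b_comm]; exact hxu) (by rw [F.b_comm]; exact hyu)
      (by rw [F.b_comm]; exact hxδ) (by rw [F.b_comm]; exact hyδ) hs2 d.q_δ hs4 hs5
    exact false_of_check4 F ha hc hac d C (ev_1 _) (ev_2 _) (ev_4 _) (x := 8) (by norm_num) (ev_8 _) true huδ
      (check4a s2 s4 s5)

end Cfsg.Agent.LargeExtra.Six
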