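import Cfsg.Agent.LargeExtra.SixPerp

/-!
# S1762, case II, `|D| = 8`, `O` pairwise orthogonal: `H ≅ SL₃(2)` (helper416)
-/

set_option autoImplicit false

namespace Cfsg.Agent.LargeExtra.Six

variable {V : Type*} [AddCommGroup V] [Module (ZMod 2) V] {q : V → ZMod 2}
  {b : LinearMap.BilinForm (ZMod 2) V} {H : Subgroup (V ≃ₗ[ZMod 2] V)}
  {O : Set V} {D W : V → Submodule (ZMod 2) V}

open SixFam

/-- every functional is `b · v` -/
theorem exists_b_eq (F : SixFam q b H O D W) (φ : V →ₗ[ZMod 2] ZMod 2) : ∃ v, ∀ x, b x v = φ x := by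
  have := F.finite
  have : Module.Finite (ZMod 2) V := Module.Finite.of_finite
  refine ⟨(LinearMap.BilinForm.toDual b F.nondegenerate).symm φ, fun x => ?_⟩
  rw [F.b_comm, ← LinearMap.BilinForm.toDual_def (B := b) (b := F.nondegenerate)]
  rw [LinearEquiv.apply_symm_apply]

section

variable (F : SixFam q b H O D W) (hperp : ∀ a ∈ O, ∀ c ∈ O, b a c = 0)

include F hperp in
theorem card_T_eq (hO2 : NoTwo H) {c : V} (hc : c ∈ O) (h8 : Nat.card (D c) = 8) :
    Nat.card (Submodule.span (ZMod 2) O) = 8 := by
  have h1 := card_W_le F hperp hO2 hc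
  have h2 := card_T_le F hperp
  have h3 := F.card_DW c hc
  rw [h8] at h3
  omega

include F hperp in
theorem T_perp (hO2 : NoTwo H) {c : V} (hc : c ∈ O) (h8 : Nat.card (D c) = 8) {v : V}
    (hv : ∀ t ∈ Submodule.span (ZMod 2) O, b t v = 0) : v ∈ Submodule.span (ZMod 2) O := by
  have := F.finite
  have hT8 := card_T_eq F hperp hO2 hc h8
  have h6 := F.card_perp (Submodule.span (ZMod 2) O)
  rw [hT8] at h6
  have hle : Submodule.span (ZMod 2) O ≤ b.orthogonal (Submodule.span (ZMod 2) O) := fun v hv =>
    SixFam.mem_perp.2 fun w hw => T_iso hperp hw hv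
  have : Submodule.span (ZMod 2) O = b.orthogonal (Submodule.span (ZMod 2) O) := by
    apply SetLike.coe_injective
    apply Set.eq_of_subset_of_ncard_le hle _ (Set.toFinite _)
    rw [← Nat.card_coe_set_eq, ← Nat.card_coe_set_eq]
    show Nat.card (b.orthogonal (Submodule.span (ZMod 2) O)) ≤ Nat.card (Submodule.span (ZMod 2) O)
    rw [hT8]; omega
  rw [this]
  exact SixFam.mem_perp.2 hv

include F hperp in
/-- all transvections with centre in `O` -/
theorem exists_transv (hO2 : NoTwo H) {c : V} (hc : c ∈ O) (h8 : Nat.card (D c) = 8) {v : V}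
    (hv : b c v = 0) : ∃ h ∈ H, ∀ x ∈ Submodule.span (ZMod 2) O, h x = x + b x v • c := by
  have := F.finite
  have : Module.Finite (ZMod 2) V := Module.Finite.of_finite
  set T := Submodule.span (ZMod 2) O with hT
  have hT8 := card_T_eq F hperp hO2 hc h8
  have hcT : c ∈ T := Submodule.subset_span hc
  have hW8 : Nat.card (W c) = 8 := by
    have := F.card_DW c hc
    rw [h8] at this; omega
  -- `c^⊥ = W c + T`
  have hfT : Module.finrank (ZMod 2) T = 3 := by
    have h := card_submodule F T
    rw [hT8] at h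
    exact (Nat.pow_right_injective (le_refl 2) (by norm_num; exact h)).symm
  have hfW : Module.finrank (ZMod 2) (W c) = 3 := by
    have h := card_submodule F (W c)
    rw [hW8] at h
    exact (Nat.pow_right_injective (le_refl 2) (by norm_num; exact h)).symm
  have h1 := Submodule.finrank_sup_add_finrank_inf_eq (W c) T
  have h2 : Module.finrank (ZMod 2) ↥(W c ⊓ T) ≤ 1 := by
    have h3 : W c ⊓ T ≤ Submodule.span (ZMod 2) {c} := by
      rintro w ⟨hw1, hw2⟩
      rcases W_cap_T F hperp hO2 hc hw1 (fun t ht => T_iso hperp ht hw2) with h | h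
      · rw [h]; exact zero_mem _
      · rw [h]; exact Submodule.mem_span_singleton_self c
    exact (Submodule.finrank_mono h3).trans (finrank_span_singleton (F.zero c hc)).le
  have h4 : W c ⊔ T ≤ b.orthogonal (Submodule.span (ZMod 2) {c}) := by
    rw [sup_le_iff]
    constructor
    · intro w hw
      rw [SixFam.mem_perp]
      intro v hv
      obtain ⟨t, rfl⟩ := Submodule.mem_span_singleton.1 hv
      rw [map_smul, LinearMap.smul_apply, F.perp_W c hc w hw, smul_zero]
    · intro w hw
      rw [SixFam.mem_perp]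
      intro v hv
      obtain ⟨t, rfl⟩ := Submodule.mem_span_singleton.1 hv
      exact T_iso hperp (T.smul_mem t hcT) hw
  have h7 : Module.finrank (ZMod 2) ↥(b.orthogonal (Submodule.span (ZMod 2) {c})) = 5 := by
    have h6 := F.card_perp (Submodule.span (ZMod 2) {c})
    rw [card_submodule F, card_submodule F, finrank_span_singleton (F.zero c hc)] at h6
    have h8 : 2 ^ Module.finrank (ZMod 2) ↥(b.orthogonal (Submodule.span (ZMod 2) {c})) = 2 ^ 5 := by
      norm_num at h6 ⊢; omega
    exact Nat.pow_right_injective (le_refl 2) h8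
  have h9 : W c ⊔ T = b.orthogonal (Submodule.span (ZMod 2) {c}) :=
    Submodule.eq_of_le_of_finrank_le h4 (by omega)
  have h10 : v ∈ W c ⊔ T := by
    rw [h9, SixFam.mem_perp]
    intro w hw
    obtain ⟨t, rfl⟩ := Submodule.mem_span_singleton.1 hw
    rw [map_smul, LinearMap.smul_apply, hv, smul_zero]
  obtain ⟨w, hw, t, ht, rfl⟩ := Submodule.mem_sup.1 h10
  obtain ⟨h, hh, e⟩ := F.siegel c hc w hw
  refine ⟨h, hh, fun x hx => ?_⟩
  rw [e, sg, T_iso hperp hx hcT, map_add, T_iso hperp hx ht]
  simp only [mul_zero, zero_smul, add_zero]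

include F hperp in
/-- `O = T \ {0}` -/
theorem mem_O (hO2 : NoTwo H) {c : V} (hc : c ∈ O) (h8 : Nat.card (D c) = 8) {v : V}
    (hv : v ∈ Submodule.span (ZMod 2) O) : v = 0 ∨ v ∈ O := by
  induction hv using Submodule.span_induction with
  | mem a ha => exact Or.inr ha
  | zero => exact Or.inl rfl
  | add x y _ _ hx hy =>
    rcases hx with rfl | hx
    · rw [zero_add]; exact hy
    rcases hy with rfl | hy
    · rw [add_zero]; exact Or.inr hx
    by_cases hxy : x = y
    · left; rw [hxy, add_self]
    right
    obtain ⟨v, h1, h2⟩ := F.exists_dual (F.zero x hx) hxy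
    obtain ⟨h, hh, e⟩ := exists_transv F hperp hO2 hy ((F.card_D_eq hy hc).trans h8) h2
    have h3 := e x (Submodule.subset_span hx)
    rw [h1, one_smul] at h3
    rw [← h3]
    exact F.stable h hh x hx
  | smul t x _ hx =>
    rcases zm t with rfl | rfl
    · left; exact zero_smul _ _
    · rw [one_smul]; exact hx

include F hperp in
/-- `|D| = 8`, `O` pairwise orthogonal: `H ≅ SL₃(2)`. -/
theorem iso_of_perp (hO2 : NoTwo H) {c : V} (hc : c ∈ O) (h8 : Nat.card (D c) = 8) :
    Nonempty (H ≃* Matrix.SpecialLinearGroup (Fin 3) (ZMod 2)) := by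
  classical
  have := F.finite
  have : Module.Finite (ZMod 2) V := Module.Finite.of_finite
  set T := Submodule.span (ZMod 2) O with hT
  have hT8 := card_T_eq F hperp hO2 hc h8
  have hfT : Module.finrank (ZMod 2) T = 3 := by
    have h := card_submodule F T
    rw [hT8] at h
    exact (Nat.pow_right_injective (le_refl 2) (by norm_num; exact h)).symm
  let B : Module.Basis (Fin 3) (ZMod 2) T := Module.finBasisOfFinrankEq (ZMod 2) T hfT
  let res : H → (T →ₗ[ZMod 2] T) := fun h =>
    ((h : V ≃ₗ[ZMod 2] V) : V →ₗ[ZMod 2] V).restrict (fun v hv => T_H F h.2 hv)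
  have hres : ∀ (h : H) (x : T), ((res h x : T) : V) = (h : V ≃ₗ[ZMod 2] V) x := fun h x => rfl
  have hres_mul : ∀ h k : H, res (h * k) = res h * res k := by
    intro h k
    apply LinearMap.ext
    intro x
    apply Subtype.ext
    rfl
  have hres_one : res 1 = 1 := by
    apply LinearMap.ext
    intro x
    apply Subtype.ext
    rfl
  let f0 : H → Matrix (Fin 3) (Fin 3) (ZMod 2) := fun h => LinearMap.toMatrix B B (res h)
  have hf0_mul : ∀ h k, f0 (h * k) = f0 h * f0 k := by
    intro h k
    show LinearMap.toMatrix B B (res (h * k)) = _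
    rw [hres_mul, LinearMap.toMatrix_mul]
  have hf0_one : f0 1 = 1 := by
    show LinearMap.toMatrix B B (res 1) = _
    rw [hres_one, LinearMap.toMatrix_one]
  have hdet : ∀ h, (f0 h).det = 1 := by
    intro h
    have h1 : f0 h * f0 h⁻¹ = 1 := by rw [← hf0_mul, mul_inv_cancel, hf0_one]
    have h2 := congrArg Matrix.det h1
    rw [Matrix.det_mul, Matrix.det_one] at h2
    rcases zm (f0 h).det with h3 | h3
    · rw [h3, zero_mul] at h2
      exact absurd h2 (by decide)
    · exact h3
  let f : H →* Matrix.SpecialLinearGroup (Fin 3) (ZMod 2) := MonoidHom.mk' (fun h => ⟨f0 h, hdet h⟩)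
    (fun h k => Subtype.ext (hf0_mul h k))
  have hinj : Function.Injective f := by
    rw [injective_iff_map_eq_one]
    intro h hh
    have h1 : f0 h = 1 := congrArg Subtype.val hh
    have h2 : res h = 1 := by
      apply (LinearMap.toMatrix B B).injective
      rw [LinearMap.toMatrix_one]; exact h1
    have h3 : ∀ v ∈ T, (h : V ≃ₗ[ZMod 2] V) v = v := by
      intro v hv
      have := congrArg (fun g : T →ₗ[ZMod 2] T => ((g ⟨v, hv⟩ : T) : V)) h2
      exact this
    apply Subtype.ext
    apply NT_cap F hO2 T (fun h hh v hv => T_H F hh hv) (fun v hv w hw => T_iso hperp hv hw) h.2 h3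
    intro v hv
    have hvT := T_perp F hperp hO2 hc h8 hv
    rw [h3 v hvT, add_self]
    exact T.zero_mem
  have hsurj : ∀ M : Matrix (Fin 3) (Fin 3) (ZMod 2), M.det ≠ 0 → ∃ h, f0 h = M := by
    intro M hM
    refine Matrix.diagonal_transvection_induction_of_det_ne_zero (fun M => ∃ h, f0 h = M) M hM ?_ ?_ ?_
    · intro d hd
      refine ⟨1, ?_⟩
      rw [hf0_one]
      have h1 : ∀ i, d i = 1 := by
        intro i
        rcases zm (d i) with h2 | h2
        · exfalso; apply hd
          rw [Matrix.det_diagonal]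
          exact Finset.prod_eq_zero (Finset.mem_univ i) h2
        · exact h2
      rw [show d = fun _ => 1 from funext h1, Matrix.diagonal_one]
    · intro t
      rcases zm t.c with h1 | h1
      · refine ⟨1, ?_⟩
        rw [hf0_one, Matrix.TransvectionStruct.toMatrix, h1, Matrix.transvection_zero]
      · -- `x ↦ x + x_j e_i`
        have hBi : ((B t.i : T) : V) ∈ O := by
          rcases mem_O F hperp hO2 hc h8 (B t.i).2 with h2 | h2
          · exfalso
            exact B.ne_zero t.i (Subtype.ext h2)
          · exact h2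
        obtain ⟨φ, hφ⟩ := LinearMap.exists_extend (B.coord t.j)
        obtain ⟨v, hv⟩ := exists_b_eq F φ
        have hvB : ∀ x : T, b (x : V) v = B.coord t.j x := by
          intro x
          rw [hv, ← hφ]; rfl
        obtain ⟨h, hh, e⟩ := exists_transv F hperp hO2 hBi ((F.card_D_eq hBi hc).trans h8) (v := v) (by
          rw [hvB, Module.Basis.coord_apply, Module.Basis.repr_self, Finsupp.single_eq_of_ne (fun h => t.hij h.symm)])
        refine ⟨⟨h, hh⟩, ?_⟩
        apply (LinearMap.toMatrix B B).symm.injective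
        rw [show (LinearMap.toMatrix B B).symm (f0 ⟨h, hh⟩) = res ⟨h, hh⟩ from
          (LinearMap.toMatrix B B).symm_apply_apply _]
        apply B.ext
        intro k
        apply Subtype.ext
        rw [hres]
        show h (B k : V) = _
        rw [e _ (B k).2, hvB, LinearMap.toMatrix_symm, Matrix.toLin_self, Matrix.TransvectionStruct.toMatrix,
          h1, Matrix.transvection]
        simp only [Matrix.add_apply, Matrix.one_apply, Matrix.single_apply]
        rw [Module.Basis.coord_apply, Module.Basis.repr_self]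
        simp only [add_smul, Finset.sum_add_distrib, ite_smul, one_smul, zero_smul, Finset.sum_ite_eq',
          Finset.mem_univ, if_true, ite_and, Submodule.coe_add]
        congr 1
        by_cases hjk : t.j = k
        · subst hjk
          simp
        · simp [hjk, Finsupp.single_eq_of_ne]
    · rintro A A' - - ⟨h, rfl⟩ ⟨k, rfl⟩
      exact ⟨h * k, hf0_mul h k⟩
  refine ⟨MulEquiv.ofBijective f ⟨hinj, fun M => ?_⟩⟩
  obtain ⟨h, hh⟩ := hsurj M (by rw [M.2]; exact one_ne_zero)
  exact ⟨h, Subtype.ext hh⟩

end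

end Cfsg.Agent.LargeExtra.Six
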