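import Cfsg.Agent.LargeExtra.SixAlphaTwo
import Cfsg.Agent.LargeExtra.SixBeta
import Cfsg.Agent.LargeExtra.SixFour
import Cfsg.Agent.LargeExtra.SixPerpEight

/-!
# S1762, case II: the list for `|V| = 64` (helper416)

`six_list`: `|D a| = 2`, or `H ≅ SL₃(2)`, or `H` permutes two disjoint totally singular `3`-spaces `U`, `U'`, moves
them, and induces `GL(U)` on `U`.
-/

set_option autoImplicit false

namespace Cfsg.Agent.LargeExtra.Six

variable {V : Type*} [AddCommGroup V] [Module (ZMod 2) V] {q : V → ZMod 2}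
  {b : LinearMap.BilinForm (ZMod 2) V} {H : Subgroup (V ≃ₗ[ZMod 2] V)}
  {O : Set V} {D W : V → Submodule (ZMod 2) V}

open SixFam

/-- the span of three vectors -/
def sp3m (x y z : V) : Submodule (ZMod 2) V where
  carrier := {v | ∃ r s t : Bool, v = bz r • x + bz s • y + bz t • z}
  zero_mem' := ⟨false, false, false, by simp [bz]⟩
  add_mem' := by
    rintro _ _ ⟨r, s, t, rfl⟩ ⟨r', s', t', rfl⟩
    refine ⟨r ^^ r', s ^^ s', t ^^ t', ?_⟩
    rw [bz_xor, bz_xor, bz_xor, add_smul, add_smul, add_smul]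
    abel
  smul_mem' := by
    rintro k _ ⟨r, s, t, rfl⟩
    rcases zm k with rfl | rfl
    · exact ⟨false, false, false, by simp [bz]⟩
    · exact ⟨r, s, t, by rw [one_smul]⟩

theorem mem_sp3m {x y z v : V} : v ∈ sp3m x y z ↔ ∃ r s t : Bool, v = bz r • x + bz s • y + bz t • z := Iff.rfl

theorem card_sp3m (b : LinearMap.BilinForm (ZMod 2) V) {x y z x' y' z' : V} (h11 : b x x' = 1)
    (h12 : b x y' = 0) (h13 : b x z' = 0) (h21 : b y x' = 0) (h22 : b y y' = 1) (h23 : b y z' = 0)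
    (h31 : b z x' = 0) (h32 : b z y' = 0) (h33 : b z z' = 1) : Nat.card (sp3m x y z) = 8 := by
  let f : Bool × Bool × Bool → sp3m x y z := fun p =>
    ⟨bz p.1 • x + bz p.2.1 • y + bz p.2.2 • z, p.1, p.2.1, p.2.2, rfl⟩
  have hf : Function.Bijective f := by
    constructor
    · rintro ⟨r, s, t⟩ ⟨r', s', t'⟩ h
      have h0 : bz r • x + bz s • y + bz t • z = bz r' • x + bz s' • y + bz t' • z :=
        congrArg Subtype.val h
      have e : ∀ (r s t : Bool) (w : V), b (bz r • x + bz s • y + bz t • z) w =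
          bz r * b x w + bz s * b y w + bz t * b z w := by
        intro r s t w
        simp only [map_add, LinearMap.add_apply, map_smul, LinearMap.smul_apply, smul_eq_mul]
      have h1 := congrArg (fun v => b v x') h0
      have h2 := congrArg (fun v => b v y') h0
      have h3 := congrArg (fun v => b v z') h0
      simp only [e, h11, h12, h13, h21, h22, h23, h31, h32, h33, mul_one, mul_zero, add_zero, zero_add] at h1 h2 h3
      rw [bz_inj h1, bz_inj h2, bz_inj h3]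
    · rintro ⟨v, r, s, t, rfl⟩
      exact ⟨(r, s, t), rfl⟩
  rw [← Nat.card_congr (Equiv.ofBijective f hf)]
  simp

/-- all transvections of `U` give all of `GL(U)`. -/
theorem gl_of_transv (F : SixFam q b H O D W) (U : Submodule (ZMod 2) V) (hU : Nat.card U = 8)
    (htr : ∀ x ∈ U, x ≠ 0 → ∀ z, b x z = 0 → ∃ h ∈ H, ∀ y ∈ U, h y = y + b y z • x)
    (φ : U ≃ₗ[ZMod 2] U) : ∃ h ∈ H, ∀ u : U, h (u : V) = φ u := by
  classical
  have := F.finite
  have : Module.Finite (ZMod 2) V := Module.Finite.of_finite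
  have hfU : Module.finrank (ZMod 2) U = 3 := by
    have h := card_submodule F U
    rw [hU] at h
    exact (Nat.pow_right_injective (le_refl 2) (by norm_num; exact h)).symm
  let B : Module.Basis (Fin 3) (ZMod 2) U := Module.finBasisOfFinrankEq (ZMod 2) U hfU
  have key : ∀ M : Matrix (Fin 3) (Fin 3) (ZMod 2), M.det ≠ 0 →
      ∃ h ∈ H, ∀ u : U, h (u : V) = Matrix.toLin B B M u := by
    intro M hM
    refine Matrix.diagonal_transvection_induction_of_det_ne_zero
      (fun M => ∃ h ∈ H, ∀ u : U, h (u : V) = Matrix.toLin B B M u) M hM ?_ ?_ ?_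
    · intro d hd
      have h1 : ∀ i, d i = 1 := by
        intro i
        rcases zm (d i) with h2 | h2
        · exfalso; apply hd
          rw [Matrix.det_diagonal]
          exact Finset.prod_eq_zero (Finset.mem_univ i) h2
        · exact h2
      refine ⟨1, H.one_mem, fun u => ?_⟩
      rw [show d = fun _ => 1 from funext h1, Matrix.diagonal_one, Matrix.toLin_one]
      rfl
    · intro t
      rcases zm t.c with h1 | h1
      · refine ⟨1, H.one_mem, fun u => ?_⟩
        rw [Matrix.TransvectionStruct.toMatrix, h1, Matrix.transvection_zero, Matrix.toLin_one]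
        rfl
      · obtain ⟨ψ, hψ⟩ := LinearMap.exists_extend (B.coord t.j)
        obtain ⟨v, hv⟩ := exists_b_eq F ψ
        have hvB : ∀ x : U, b (x : V) v = B.coord t.j x := by
          intro x
          rw [hv, ← hψ]; rfl
        obtain ⟨h, hh, e⟩ := htr (B t.i) (B t.i).2 (fun h2 => B.ne_zero t.i (Subtype.ext h2)) v (by
          rw [hvB, Module.Basis.coord_apply, Module.Basis.repr_self,
            Finsupp.single_eq_of_ne (fun h => t.hij h.symm)])
        refine ⟨h, hh, fun u => ?_⟩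
        have hlin : Matrix.toLin B B t.toMatrix = LinearMap.id + (B.coord t.j).smulRight (B t.i) := by
          apply B.ext
          intro k
          rw [Matrix.toLin_self, Matrix.TransvectionStruct.toMatrix, h1, Matrix.transvection]
          simp only [Matrix.add_apply, Matrix.one_apply, Matrix.single_apply, LinearMap.add_apply,
            LinearMap.id_apply, LinearMap.smulRight_apply]
          rw [Module.Basis.coord_apply, Module.Basis.repr_self]
          simp only [add_smul, Finset.sum_add_distrib, ite_smul, one_smul, zero_smul, Finset.sum_ite_eq',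
            Finset.mem_univ, if_true, ite_and]
          congr 1
          by_cases hjk : t.j = k
          · subst hjk
            simp
          · simp [hjk, Finsupp.single_eq_of_ne]
        rw [e _ u.2, hlin, hvB]
        rfl
    · rintro A A' - - ⟨h, hh, e⟩ ⟨k, hk, e'⟩
      refine ⟨h * k, H.mul_mem hh hk, fun u => ?_⟩
      show h (k u) = _
      rw [e', e, Matrix.toLin_mul B B B]
      rfl
  have hdet : (LinearMap.toMatrix B B (φ : U →ₗ[ZMod 2] U)).det ≠ 0 := by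
    have h1 : LinearMap.toMatrix B B (φ : U →ₗ[ZMod 2] U) * LinearMap.toMatrix B B (φ.symm : U →ₗ[ZMod 2] U) = 1 := by
      rw [← LinearMap.toMatrix_comp, LinearEquiv.comp_coe, LinearEquiv.symm_trans_self]
      exact LinearMap.toMatrix_one B
    intro h0
    have h2 := congrArg Matrix.det h1
    rw [Matrix.det_mul, h0, zero_mul, Matrix.det_one] at h2
    exact absurd h2 (by decide)
  obtain ⟨h, hh, e⟩ := key _ hdet
  refine ⟨h, hh, fun u => ?_⟩
  rw [e, Matrix.toLin_toMatrix]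
  rfl

/-- the letters -/
def Lt : List (ℕ × ℕ) := [(1, 4), (1, 8), (1, 12), (2, 16), (2, 32), (2, 48)]

/-- words of length at most two -/
def Ws : List (List (ℕ × ℕ)) := [] :: (Lt.map (fun p => [p]) ++ Lt.flatMap fun p => Lt.map fun p' => [p, p'])

set_option synthInstance.maxSize 1024 in
set_option synthInstance.maxHeartbeats 400000 in
theorem checkO1 : ∀ s < 64, T000.testBit s = false → s ≠ 0 → sp3 1 16 32 s = false → sp3 2 4 8 s = false →
    ∃ ws ∈ Ws, wact T000 ws s ∈ [18, 34, 50, 5, 9, 13] := by decide +kernel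

theorem checkO2 : ∀ s < 64, s ≠ 0 → sp3 1 16 32 s = true → ∃ ws ∈ Ws, wact T000 ws 1 = s := by decide +kernel

theorem checkO3 : ∀ s < 64, s ≠ 0 → sp3 2 4 8 s = true → ∃ ws ∈ Ws, wact T000 ws 2 = s := by decide +kernel

theorem valid_Ws : ∀ ws ∈ Ws, valid [⟨1, sp3 1 4 8, fun _ => true⟩, ⟨2, sp3 2 16 32, fun _ => true⟩] ws = true := by
  decide +kernel

theorem valid_irrel (f g : ℕ → Bool) (ws : List (ℕ × ℕ)) :
    valid [⟨1, sp3 1 4 8, f⟩, ⟨2, sp3 2 16 32, g⟩] ws =
      valid [⟨1, sp3 1 4 8, fun _ => true⟩, ⟨2, sp3 2 16 32, fun _ => true⟩] ws := rfl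

section

variable (F : SixFam q b H O D W)
  (hyp : ∀ a ∈ O, ∀ c ∈ O, b a c = 1 → ∃ w1 w2 t1 t2, Dat8 q b D W a c w1 w2 t1 t2 ∧ q w1 = 0 ∧ q w2 = 0 ∧
    b w1 w2 = 0)

include F hyp in
/-- `O = A# ∪ B#` -/
theorem O_eq {a c w1 w2 v1 v2 : V} (ha : a ∈ O) (hc : c ∈ O) (hac : b a c = 1) (h8 : Nat.card (D a) = 8)
    (d : DatA q b W a c w1 w2 v1 v2) (x : V) :
    x ∈ O ↔ x ≠ 0 ∧ (x ∈ sp3m a v1 v2 ∨ x ∈ sp3m c w1 w2) := by
  classical
  have hca : b c a = 1 := by rw [F.b_comm]; exact hac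
  have h8c : Nat.card (D c) = 8 := (F.card_D_eq hc ha).trans h8
  have C := coordA F ha hc hac d
  have hforb1 : ∀ v ∈ W c, b v a = 0 → v ≠ 0 → c + v ∉ O := fun v h1 h2 h3 =>
    forb F hyp ha hc hac h8 h1 h2 h3
  have hforb2 : ∀ v ∈ W a, b v c = 0 → v ≠ 0 → a + v ∉ O := fun v h1 h2 h3 =>
    forb F hyp hc ha hca h8c h1 h2 h3
  have he1 : ev (![a, c, w1, w2, v1, v2] : Fin 6 → V) 1 = a := ev_1 _
  have he2 : ev (![a, c, w1, w2, v1, v2] : Fin 6 → V) 2 = c := ev_2 _
  have he4 : ev (![a, c, w1, w2, v1, v2] : Fin 6 → V) 4 = w1 := ev_4 _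
  have he8 : ev (![a, c, w1, w2, v1, v2] : Fin 6 → V) 8 = w2 := ev_8 _
  have he16 : ev (![a, c, w1, w2, v1, v2] : Fin 6 → V) 16 = v1 := ev_16 _
  have he32 : ev (![a, c, w1, w2, v1, v2] : Fin 6 → V) 32 = v2 := ev_32 _
  revert C he1 he2 he4 he8 he16 he32
  generalize (![a, c, w1, w2, v1, v2] : Fin 6 → V) = e
  intro C he1 he2 he4 he8 he16 he32
  have hA : ∀ s < 64, sp3 1 16 32 s = true ↔ ev e s ∈ sp3m a v1 v2 := fun s hs => by
    rw [sp3_iff C (by norm_num) (by norm_num) (by norm_num) hs, he1, he16, he32]; rfl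
  have hB : ∀ s < 64, sp3 2 4 8 s = true ↔ ev e s ∈ sp3m c w1 w2 := fun s hs => by
    rw [sp3_iff C (by norm_num) (by norm_num) (by norm_num) hs, he2, he4, he8]; rfl
  have hword : ∀ ws ∈ Ws, ∃ h ∈ H, ∀ x < 64, wact T000 ws x < 64 ∧ h (ev e x) = ev e (wact T000 ws x) := by
    intro ws hws
    apply exists_word F C [⟨1, sp3 1 4 8, fun x => decide (ev e x ∈ D (ev e 1))⟩,
      ⟨2, sp3 2 16 32, fun x => decide (ev e x ∈ D (ev e 2))⟩]
    · intro E hE
      simp only [List.mem_cons, List.not_mem_nil, or_false] at hE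
      rcases hE with rfl | rfl
      · refine ⟨by norm_num, by rw [he1]; exact ha, ?_, ?_⟩
        · intro s hs
          rw [he1, d.hWa, ← he1, ← he4, ← he8]
          exact sp3_iff C (by norm_num) (by norm_num) (by norm_num) hs
        · intro s hs
          exact decide_eq_true_iff
      · refine ⟨by norm_num, by rw [he2]; exact hc, ?_, ?_⟩
        · intro s hs
          rw [he2, d.hWc, ← he2, ← he16, ← he32]
          exact sp3_iff C (by norm_num) (by norm_num) (by norm_num) hs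
        · intro s hs
          exact decide_eq_true_iff
    · rw [valid_irrel]; exact valid_Ws ws hws
  obtain ⟨s, hs, rfl⟩ := C.surj x
  constructor
  · intro hx
    refine ⟨F.zero _ hx, ?_⟩
    by_contra hcon
    push Not at hcon
    have h1 : T000.testBit s = false := bz_eq_zero.1 (by rw [← C.q_ev s hs]; exact F.q_self hx)
    have h2 : s ≠ 0 := fun h => F.zero _ hx (by rw [h, ev_zero])
    have h3 : sp3 1 16 32 s = false := by
      rw [← Bool.not_eq_true, hA s hs]; exact hcon.1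
    have h4 : sp3 2 4 8 s = false := by
      rw [← Bool.not_eq_true, hB s hs]; exact hcon.2
    obtain ⟨ws, hws, h5⟩ := checkO1 s hs h1 h2 h3 h4
    obtain ⟨h, hh, hw⟩ := hword ws hws
    have h6 : ev e (wact T000 ws s) ∈ O := by
      rw [← (hw s hs).2]; exact F.stable h hh _ hx
    have e18 : ev e 18 = c + v1 := by rw [← he2, ← he16, ← ev_xor]; rfl
    have e34 : ev e 34 = c + v2 := by rw [← he2, ← he32, ← ev_xor]; rfl
    have e50 : ev e 50 = c + (v1 + v2) := by rw [← he2, ← he16, ← he32, ← ev_xor, ← ev_xor]; rfl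
    have e5 : ev e 5 = a + w1 := by rw [← he1, ← he4, ← ev_xor]; rfl
    have e9 : ev e 9 = a + w2 := by rw [← he1, ← he8, ← ev_xor]; rfl
    have e13 : ev e 13 = a + (w1 + w2) := by rw [← he1, ← he4, ← he8, ← ev_xor, ← ev_xor]; rfl
    have hne0 : ∀ x y : V, b x y = 1 → x ≠ 0 := fun x y h h' => by
      rw [h', map_zero, LinearMap.zero_apply] at h; exact absurd h (by decide)
    have hv1w1 : b v1 w1 = 1 := by rw [F.b_comm]; exact d.w1v1
    have hv2w2 : b v2 w2 = 1 := by rw [F.b_comm]; exact d.w2v2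
    have hv2w1 : b v2 w1 = 0 := by rw [F.b_comm]; exact d.w1v2
    have hv1W : v1 ∈ W c := (d.hWc _).2 ⟨false, true, false, by simp [bz]⟩
    have hv2W : v2 ∈ W c := (d.hWc _).2 ⟨false, false, true, by simp [bz]⟩
    have hw1W : w1 ∈ W a := (d.hWa _).2 ⟨false, true, false, by simp [bz]⟩
    have hw2W : w2 ∈ W a := (d.hWa _).2 ⟨false, false, true, by simp [bz]⟩
    simp only [List.mem_cons, List.not_mem_nil, or_false] at h5
    rcases h5 with h5 | h5 | h5 | h5 | h5 | h5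
    · rw [h5, e18] at h6
      exact hforb1 v1 hv1W d.v1a (hne0 _ _ hv1w1) h6
    · rw [h5, e34] at h6
      exact hforb1 v2 hv2W d.v2a (hne0 _ _ hv2w2) h6
    · rw [h5, e50] at h6
      refine hforb1 (v1 + v2) ((W c).add_mem hv1W hv2W) ?_ (hne0 _ w1 ?_) h6
      · rw [map_add, LinearMap.add_apply, d.v1a, d.v2a, add_zero]
      · rw [map_add, LinearMap.add_apply, hv1w1, hv2w1, add_zero]
    · rw [h5, e5] at h6
      exact hforb2 w1 hw1W d.w1c (hne0 _ _ d.w1v1) h6
    · rw [h5, e9] at h6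
      exact hforb2 w2 hw2W d.w2c (hne0 _ _ d.w2v2) h6
    · rw [h5, e13] at h6
      refine hforb2 (w1 + w2) ((W a).add_mem hw1W hw2W) ?_ (hne0 _ v1 ?_) h6
      · rw [map_add, LinearMap.add_apply, d.w1c, d.w2c, add_zero]
      · rw [map_add, LinearMap.add_apply, d.w1v1, d.w2v1, add_zero]
  · rintro ⟨h1, h2 | h2⟩
    · obtain ⟨ws, hws, h3⟩ := checkO2 s hs (fun h => h1 (by rw [h, ev_zero])) ((hA s hs).2 h2)
      obtain ⟨h, hh, hw⟩ := hword ws hws
      have h4 := (hw 1 (by norm_num)).2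
      rw [h3] at h4
      rw [← h4, he1]
      exact F.stable h hh a ha
    · obtain ⟨ws, hws, h3⟩ := checkO3 s hs (fun h => h1 (by rw [h, ev_zero])) ((hB s hs).2 h2)
      obtain ⟨h, hh, hw⟩ := hword ws hws
      have h4 := (hw 2 (by norm_num)).2
      rw [h3] at h4
      rw [← h4, he2]
      exact F.stable h hh c hc

include F hyp in
/-- the swapping case -/
theorem alpha_final {a c : V} (ha : a ∈ O) (hc : c ∈ O) (hac : b a c = 1) (h8 : Nat.card (D a) = 8) :
    ∃ U U' : Submodule (ZMod 2) V, Nat.card U = 8 ∧ Nat.card U' = 8 ∧ (∀ v ∈ U, q v = 0) ∧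
      (∀ v ∈ U', q v = 0) ∧ U ⊓ U' = ⊥ ∧
      (∀ h ∈ H, ((∀ v ∈ U, h v ∈ U) ∧ ∀ v ∈ U', h v ∈ U') ∨ ((∀ v ∈ U, h v ∈ U') ∧ ∀ v ∈ U', h v ∈ U)) ∧
      (∃ h ∈ H, (∀ v ∈ U, h v ∈ U') ∧ ∀ v ∈ U', h v ∈ U) ∧
      (∀ φ : U ≃ₗ[ZMod 2] U, ∃ h ∈ H, ∀ u : U, h (u : V) = φ u) := by
  have hca : b c a = 1 := by rw [F.b_comm]; exact hac
  have h8c : Nat.card (D c) = 8 := (F.card_D_eq hc ha).trans h8
  -- coordinates
  obtain ⟨v1, hv1, hv1a, hv10⟩ : ∃ v1 ∈ W c, b v1 a = 0 ∧ v1 ≠ 0 := by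
    obtain ⟨x, y, hx0, hy0, hxy, hxa, hya, hxW, hyW, hall⟩ := exists_basis_W F hc hca h8c
    exact ⟨x, hxW, hxa, hx0⟩
  obtain ⟨w1, w2, v2, d⟩ := exists_datA F hyp ha hc hac h8 hv1 hv1a hv10
  have hO := O_eq F hyp ha hc hac h8 d
  have hv1w1 : b v1 w1 = 1 := by rw [F.b_comm]; exact d.w1v1
  have hv2w2 : b v2 w2 = 1 := by rw [F.b_comm]; exact d.w2v2
  have hv2w1 : b v2 w1 = 0 := by rw [F.b_comm]; exact d.w1v2
  have hv1w2 : b v1 w2 = 0 := by rw [F.b_comm]; exact d.w2v1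
  have haw1 : b a w1 = 0 := by rw [F.b_comm]; exact d.w1a
  have haw2 : b a w2 = 0 := by rw [F.b_comm]; exact d.w2a
  have hcv1 : b c v1 = 0 := by rw [F.b_comm]; exact d.v1c
  have hcv2 : b c v2 = 0 := by rw [F.b_comm]; exact d.v2c
  set A := sp3m a v1 v2 with hAd
  set B := sp3m c w1 w2 with hBd
  have hcA : Nat.card A = 8 := card_sp3m b (x' := c) (y' := w1) (z' := w2) hac haw1 haw2 d.v1c hv1w1 hv1w2 d.v2c
    hv2w1 hv2w2
  have hcB : Nat.card B = 8 := card_sp3m b (x' := a) (y' := v1) (z' := v2) hca hcv1 hcv2 d.w1a d.w1v1 d.w1v2 d.w2a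
    d.w2v1 d.w2v2
  have hqA : ∀ v ∈ A, q v = 0 := fun v hv => by
    by_cases h0 : v = 0
    · rw [h0, F.q_zero]
    · exact F.q_self ((hO v).2 ⟨h0, Or.inl hv⟩)
  have hqB : ∀ v ∈ B, q v = 0 := fun v hv => by
    by_cases h0 : v = 0
    · rw [h0, F.q_zero]
    · exact F.q_self ((hO v).2 ⟨h0, Or.inr hv⟩)
  have hbA : ∀ v ∈ A, ∀ w ∈ A, b v w = 0 := fun v hv w hw => by
    rw [F.b_eq, hqA _ (A.add_mem hv hw), hqA v hv, hqA w hw]; rfl
  have hbB : ∀ v ∈ B, ∀ w ∈ B, b v w = 0 := fun v hv w hw => by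
    rw [F.b_eq, hqB _ (B.add_mem hv hw), hqB v hv, hqB w hw]; rfl
  have haA : a ∈ A := ⟨true, false, false, by simp [bz]⟩
  have hv1A : v1 ∈ A := ⟨false, true, false, by simp [bz]⟩
  have hv2A : v2 ∈ A := ⟨false, false, true, by simp [bz]⟩
  have hcB' : c ∈ B := ⟨true, false, false, by simp [bz]⟩
  have hdis : ∀ v, v ∈ A → v ∈ B → v = 0 := by
    intro v hvA hvB
    obtain ⟨r, s, t, rfl⟩ := hvA
    have e1 : b (bz r • a + bz s • v1 + bz t • v2) c = bz r := by
      simp only [map_add, LinearMap.add_apply, map_smul, LinearMap.smul_apply, smul_eq_mul, hac, d.v1c, d.v2c,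
        mul_one, mul_zero, add_zero]
    have e2 : b (bz r • a + bz s • v1 + bz t • v2) w1 = bz s := by
      simp only [map_add, LinearMap.add_apply, map_smul, LinearMap.smul_apply, smul_eq_mul, haw1, hv1w1, hv2w1,
        mul_one, mul_zero, add_zero, zero_add]
    have e3 : b (bz r • a + bz s • v1 + bz t • v2) w2 = bz t := by
      simp only [map_add, LinearMap.add_apply, map_smul, LinearMap.smul_apply, smul_eq_mul, haw2, hv1w2, hv2w2,
        mul_one, mul_zero, add_zero, zero_add]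
    have hw1B : w1 ∈ B := ⟨false, true, false, by simp [bz]⟩
    have hw2B : w2 ∈ B := ⟨false, false, true, by simp [bz]⟩
    rw [hbB _ hvB c hcB'] at e1
    rw [hbB _ hvB w1 hw1B] at e2
    rw [hbB _ hvB w2 hw2B] at e3
    rw [← e1, ← e2, ← e3]
    simp
  -- where `h` maps `A`
  have hone : ∀ h ∈ H, ∀ X : Submodule (ZMod 2) V, (∀ v ∈ X, v ≠ 0 → v ∈ O) →
      (∀ v ∈ X, h v ∈ A) ∨ (∀ v ∈ X, h v ∈ B) := by
    intro h hh X hX
    by_contra hcon
    push Not at hcon
    obtain ⟨⟨x, hx, hxA⟩, ⟨y, hy, hyB⟩⟩ := hcon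
    have hx0 : x ≠ 0 := fun h0 => hxA (by rw [h0, map_zero]; exact A.zero_mem)
    have hy0 : y ≠ 0 := fun h0 => hyB (by rw [h0, map_zero]; exact B.zero_mem)
    have h1 := (hO _).1 (F.stable h hh x (hX x hx hx0))
    have h2 := (hO _).1 (F.stable h hh y (hX y hy hy0))
    have hxB : h x ∈ B := h1.2.resolve_left hxA
    have hyA : h y ∈ A := h2.2.resolve_right hyB
    have hxy0 : x + y ≠ 0 := fun h0 => by
      have := eq_of_add h0
      rw [this] at hxA
      exact hxA hyA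
    have h3 := (hO _).1 (F.stable h hh _ (hX _ (X.add_mem hx hy) hxy0))
    rw [map_add] at h3
    rcases h3.2 with h4 | h4
    · have h5 : h x ∈ A := by
        have := A.sub_mem h4 hyA
        rwa [add_sub_cancel_right] at this
      exact hxA h5
    · have h5 : h y ∈ B := by
        have := B.sub_mem h4 hxB
        rwa [add_sub_cancel_left] at this
      exact hyB h5
  have hXA : ∀ v ∈ A, v ≠ 0 → v ∈ O := fun v hv h0 => (hO v).2 ⟨h0, Or.inl hv⟩
  have hXB : ∀ v ∈ B, v ≠ 0 → v ∈ O := fun v hv h0 => (hO v).2 ⟨h0, Or.inr hv⟩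
  have hpres : ∀ h ∈ H, ((∀ v ∈ A, h v ∈ A) ∧ ∀ v ∈ B, h v ∈ B) ∨ ((∀ v ∈ A, h v ∈ B) ∧ ∀ v ∈ B, h v ∈ A) := by
    intro h hh
    have hbh : b (h a) (h c) = 1 := by rw [F.b_H hh]; exact hac
    rcases hone h hh A hXA with h1 | h1 <;> rcases hone h hh B hXB with h2 | h2
    · exfalso
      rw [hbA _ (h1 a haA) _ (h2 c hcB')] at hbh
      exact absurd hbh (by decide)
    · exact Or.inl ⟨h1, h2⟩
    · exact Or.inr ⟨h1, h2⟩
    · exfalso
      rw [hbB _ (h1 a haA) _ (h2 c hcB')] at hbh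
      exact absurd hbh (by decide)
  refine ⟨A, B, hcA, hcB, hqA, hqB, ?_, hpres, ?_, ?_⟩
  · rw [eq_bot_iff]
    rintro v ⟨h1, h2⟩
    exact (Submodule.mem_bot _).2 (hdis v h1 h2)
  · obtain ⟨h, hh, hac'⟩ := F.trans a ha c hc
    rcases hpres h hh with h1 | h1
    · exfalso
      have h2 := h1.1 a haA
      rw [hac'] at h2
      exact F.zero c hc (hdis c h2 hcB')
    · exact ⟨h, hh, h1⟩
  · apply gl_of_transv F A hcA
    -- transvections with centre `a`
    have hta : ∀ z, b a z = 0 → ∃ h ∈ H, ∀ y ∈ A, h y = y + b y z • a := by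
      intro z hz
      have hw : b v1 z • w1 + b v2 z • w2 ∈ W a := by
        obtain ⟨s, hs⟩ := exists_bz (b v1 z)
        obtain ⟨t, ht⟩ := exists_bz (b v2 z)
        rw [hs, ht]
        exact (d.hWa _).2 ⟨false, s, t, by simp [bz]⟩
      obtain ⟨h, hh, e⟩ := F.siegel a ha _ hw
      refine ⟨h, hh, fun y hy => ?_⟩
      rw [e, sg, hbA y hy a haA]
      have h1 : b y (b v1 z • w1 + b v2 z • w2) = b y z := by
        obtain ⟨r, s, t, rfl⟩ := hy
        simp only [map_add, LinearMap.add_apply, map_smul, LinearMap.smul_apply, smul_eq_mul, haw1, haw2, hv1w1,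
          hv1w2, hv2w1, hv2w2, hz]
        ring
      rw [h1]
      simp
    intro x hx hx0 z hz
    obtain ⟨k, hk, hkx⟩ := F.trans a ha x (hXA x hx hx0)
    have e : ∀ v, k ((k⁻¹ : V ≃ₗ[ZMod 2] V) v) = v := fun v => k.apply_symm_apply v
    have e' : ∀ v, (k⁻¹ : V ≃ₗ[ZMod 2] V) (k v) = v := fun v => k.symm_apply_apply v
    have hkA : ∀ v ∈ A, (k⁻¹ : V ≃ₗ[ZMod 2] V) v ∈ A := by
      rcases hpres k⁻¹ (H.inv_mem hk) with h1 | h1
      · exact h1.1
      · exfalso
        have h2 := h1.1 x hx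
        rw [← hkx, e'] at h2
        exact F.zero a ha (hdis a haA h2)
    have hz' : b a ((k⁻¹ : V ≃ₗ[ZMod 2] V) z) = 0 := by
      rw [← F.b_H hk, e, hkx]; exact hz
    obtain ⟨h, hh, eh⟩ := hta _ hz'
    refine ⟨k * h * k⁻¹, H.mul_mem (H.mul_mem hk hh) (H.inv_mem hk), fun y hy => ?_⟩
    show k (h ((k⁻¹ : V ≃ₗ[ZMod 2] V) y)) = _
    rw [eh _ (hkA y hy), map_add, map_smul, e, hkx, ← F.b_H hk, e, e]

end

/-- `|D a| ∈ {2, 4, 8}` -/
theorem card_D_cases (F : SixFam q b H O D W) {a : V} (ha : a ∈ O) :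
    Nat.card (D a) = 2 ∨ Nat.card (D a) = 4 ∨ Nat.card (D a) = 8 := by
  have := F.finite
  have h1 := card_submodule F (D a)
  have h6 := F.card_perp (D a)
  have h7 : Nat.card (D a) ≤ Nat.card (b.orthogonal (D a)) := by
    have hle : D a ≤ b.orthogonal (D a) := fun v hv =>
      SixFam.mem_perp.2 fun w hw => F.b_D ha hw hv
    exact Nat.card_le_card_of_injective _ (Submodule.inclusion_injective hle)
  have h8 : Nat.card (D a) ≤ 8 := by nlinarith
  have h9 : 1 < Nat.card (D a) := by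
    rw [Finite.one_lt_card_iff_nontrivial]
    exact ⟨⟨a, F.self_D a ha⟩, 0, fun h => F.zero a ha (congrArg Subtype.val h)⟩
  rw [h1] at h8 h9 ⊢
  have h10 : Module.finrank (ZMod 2) (D a) ≤ 3 := by
    by_contra hcon
    push Not at hcon
    have := Nat.pow_le_pow_right (n := 2) (by norm_num) hcon
    omega
  have h11 : 1 ≤ Module.finrank (ZMod 2) (D a) := by
    by_contra hcon
    have : Module.finrank (ZMod 2) (D a) = 0 := by omega
    rw [this] at h9
    norm_num at h9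
  generalize Module.finrank (ZMod 2) (D a) = n at *
  have : n = 1 ∨ n = 2 ∨ n = 3 := by omega
  rcases this with rfl | rfl | rfl
  · left; norm_num
  · right; left; norm_num
  · right; right; norm_num

/-- THE LIST for `|V| = 64`. -/
theorem six_list (F : SixFam q b H O D W) (hO2 : NoTwo H) (hT1 : ∀ v, (∀ h ∈ H, h v = v) → v = 0) {a : V}
    (ha : a ∈ O) : Nat.card (D a) = 2 ∨ Nonempty (H ≃* Matrix.SpecialLinearGroup (Fin 3) (ZMod 2)) ∨
    ∃ U U' : Submodule (ZMod 2) V, Nat.card U = 8 ∧ Nat.card U' = 8 ∧ (∀ v ∈ U, q v = 0) ∧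
      (∀ v ∈ U', q v = 0) ∧ U ⊓ U' = ⊥ ∧
      (∀ h ∈ H, ((∀ v ∈ U, h v ∈ U) ∧ ∀ v ∈ U', h v ∈ U') ∨ ((∀ v ∈ U, h v ∈ U') ∧ ∀ v ∈ U', h v ∈ U)) ∧
      (∃ h ∈ H, (∀ v ∈ U, h v ∈ U') ∧ ∀ v ∈ U', h v ∈ U) ∧
      (∀ φ : U ≃ₗ[ZMod 2] U, ∃ h ∈ H, ∀ u : U, h (u : V) = φ u) := by
  rcases card_D_cases F ha with h2 | h4 | h8
  · exact Or.inl h2
  · exfalso
    have h1 := eight_le_card_D F (fun x hx y hy => perp_of_four F hx hy ((F.card_D_eq hx ha).trans h4)) hO2 ha
    omega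
  right
  by_cases hperp : ∀ x ∈ O, ∀ y ∈ O, b x y = 0
  · left; exact iso_of_perp F hperp hO2 ha h8
  right
  push Not at hperp
  obtain ⟨x, hx, y, hy, hxy⟩ := hperp
  have hxy1 := ne_zero_iff.1 hxy
  have h8x := (F.card_D_eq hx ha).trans h8
  rcases typ_of_pair F hx hy hxy1 h8x with ⟨w1, w2, t1, t2, d, e1, e2, e3⟩ | ⟨w1, w2, t1, t2, d, e1, e2, e3⟩
  · refine alpha_final F (fun a' ha' c' hc' hac' => ?_) hx hy hxy1 h8x
    obtain ⟨w1', w2', t1', t2', d', f1, f2, f3⟩ := d.transport F hx ha' hac'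
    exact ⟨w1', w2', t1', t2', d', f1.trans e1, f2.trans e2, f3.trans e3⟩
  · exfalso
    obtain ⟨n, hn, hn'⟩ := beta_fixed F (fun a' ha' c' hc' hac' => by
      obtain ⟨w1', w2', t1', t2', d', f1, f2, f3⟩ := d.transport F hx ha' hac'
      exact ⟨w1', w2', t1', t2', d', f1.trans e1, f2.trans e2, f3.trans e3⟩) hx hy hxy1
    exact hn (hT1 n hn')

end Cfsg.Agent.LargeExtra.Six
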