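import Cfsg.Agent.LargeExtra.Local
import Cfsg.Agent.LargeExtra.Transfer
import Cfsg.Agent.LargeExtra.Dickson

/-!
# Lemma R (helper805)

`Large Q z`, `|Q| ≥ 32`, `G` without subgroups of index two: no element of `C_G(z)` induces an orthogonal
transvection on `V = Q / ⟨z⟩`.
-/

set_option autoImplicit false
set_option linter.style.haveILetI false

namespace Cfsg.Agent.LargeExtra.LemmaR

open Cfsg.Agent.Co2Type.Quad Cfsg.Agent.LargeExtra.Base Cfsg.Agent.LargeExtra.Local
open Cfsg.Agent.LargeExtra.TwoCentral Cfsg.Agent.LargeExtra.Transfer Cfsg.Agent.LargeExtra.Dickson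

variable {G : Type*} [Group G] {Q : Subgroup G} {z : G}

/-- An element `c` of `C_G(z)` inducing the reflection with centre `pr u`, `u² = z`, and inverting `u`. -/
structure Refl (h : Large Q z) (u : Q) (c : Subgroup.centralizer ({z} : Set G)) : Prop where
  act : ∀ v, h.act c v = v + h.b (h.pr u) v • h.pr u
  inv : (c : G) * u = u * z * c
  sq : (u : G) * u = z

namespace Refl

variable {h : Large Q z} {u : Q} {c : Subgroup.centralizer ({z} : Set G)}

theorem cz (c : Subgroup.centralizer ({z} : Set G)) : (c : G) * z = z * c :=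
  Subgroup.mem_centralizer_singleton_iff.1 c.2

/-- elements of `Q` commuting with `u` are centralised or multiplied by `z` -/
theorem conj_or (r : Refl h u c) {x : G} (hx : x ∈ Q) (hxu : x * u = u * x) :
    (c : G) * x = x * c ∨ (c : G) * x = x * z * c := by
  have h1 := r.act (h.pr ⟨x, hx⟩)
  have h2 : h.b (h.pr u) (h.pr ⟨x, hx⟩) = 0 := (h.b_pr _ _).2 hxu.symm
  rw [h2, zero_smul, add_zero, h.act_pr, h.pr_eq_pr, h.conjQ_coe] at h1
  rcases h1 with h3 | h3
  · left; rwa [mul_inv_eq_iff_eq_mul] at h3
  · right; rwa [mul_inv_eq_iff_eq_mul] at h3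

/-- an element of `Q` commuting with `c` commutes with `u` -/
theorem comm_of_comm (r : Refl h u c) {x : G} (hx : x ∈ Q) (hxc : x * c = c * x) : x * u = u * x := by
  have h1 := r.act (h.pr ⟨x, hx⟩)
  have h2 : h.act c (h.pr ⟨x, hx⟩) = h.pr ⟨x, hx⟩ := by
    apply Pair.act_pr_coe
    show (c : G) * x * (c : G)⁻¹ = x
    rw [← hxc]; group
  rw [h2] at h1
  have h3 : h.b (h.pr u) (h.pr ⟨x, hx⟩) • h.pr u = 0 := by
    exact (add_eq_left.1 h1.symm)
  have hu : h.pr u ≠ 0 := by
    intro h4
    rcases h.pr_eq_zero.1 h4 with h5 | h5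
    · have := r.sq
      rw [h5, one_mul] at this
      exact h.z_ne this.symm
    · have := r.sq
      rw [h5, h.z_sq] at this
      exact h.z_ne this.symm
  rcases smul_eq_zero.1 h3 with h4 | h4
  · exact ((h.b_pr _ _).1 h4).symm
  · exact absurd h4 hu

theorem u_ne (r : Refl h u c) : h.pr u ≠ 0 := by
  intro h4
  rcases h.pr_eq_zero.1 h4 with h5 | h5
  · have := r.sq
    rw [h5, one_mul] at this
    exact h.z_ne this.symm
  · have := r.sq
    rw [h5, h.z_sq] at this
    exact h.z_ne this.symm

theorem ne_mul_z (h : Large Q z) (g : G) : g ≠ g * z := fun hg => h.z_ne (mul_eq_left.1 hg.symm)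

/-- `c` does not commute with `u`, `u z` -/
theorem not_comm (r : Refl h u c) : (c : G) * u ≠ u * c := by
  rw [r.inv]
  intro h1
  apply ne_mul_z h ((u : G) * c)
  rw [mul_assoc, cz c, ← mul_assoc, h1]

theorem not_comm' (r : Refl h u c) : (c : G) * (u * z) ≠ (u * z) * c := by
  intro h1
  apply r.not_comm
  have h2 : (c : G) * (u * z) * z = (u * z) * c * z := by rw [h1]
  calc (c : G) * u = c * (u * z) * z := by
        rw [mul_assoc, mul_assoc (u : G), h.z_sq, mul_one]
    _ = (u * z) * c * z := h2
    _ = u * (z * c) * z := by group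
    _ = u * (c * z) * z := by rw [cz c]
    _ = u * c * (z * z) := by group
    _ = u * c := by rw [h.z_sq, mul_one]

/-- `x ∈ C_Q(u)` or `x u` commutes with `c` -/
theorem comm_or (r : Refl h u c) {x : G} (hx : x ∈ Q) (hxu : x * u = u * x) :
    x * c = c * x ∨ (x * u) * c = c * (x * u) := by
  rcases r.conj_or hx hxu with h2 | h2
  · exact Or.inl h2.symm
  · right
    have e : (u : G) * c = z * (c * u) := by
      rw [r.inv]
      calc (u : G) * c = (z * z) * (u * c) := by rw [h.z_sq, one_mul]
        _ = z * ((z * u) * c) := by group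
        _ = z * (u * z * c) := by rw [h.comm_z u u.2]
    calc (x * u) * c = x * (u * c) := by group
      _ = x * z * c * u := by rw [e]; group
      _ = c * (x * u) := by rw [← h2]; group

/-- an element of `Q` commuting with `c` and with `C_Q(c)` lies in `⟨z⟩` -/
theorem eq_of_comm (r : Refl h u c) {y : G} (hy : y ∈ Q) (hyc : y * c = c * y)
    (hyR : ∀ x ∈ Q, x * c = c * x → x * y = y * x) : y = 1 ∨ y = z := by
  have hyu := r.comm_of_comm hy hyc
  have h1 : ∀ x ∈ Q, x * u = u * x → x * y = y * x := by
    intro x hx hxu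
    rcases r.comm_or hx hxu with h2 | h3
    · exact hyR x hx h2
    · have h4 := hyR (x * u) (Q.mul_mem hx u.2) h3
      have h5 : x * y * u = y * x * u := by
        calc x * y * u = x * (y * u) := by group
          _ = x * (u * y) := by rw [hyu]
          _ = y * x * u := by rw [← mul_assoc, h4]; group
      exact mul_right_cancel h5
  rcases eq_of_cent h u.2 hy h1 with h2 | h2 | h2 | h2
  · exact Or.inl h2
  · exact Or.inr h2
  · rw [h2] at hyc
    exact absurd hyc.symm r.not_comm
  · rw [h2] at hyc
    exact absurd hyc.symm r.not_comm'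

/-- `c² ∈ ⟨z⟩` -/
theorem sq_eq [Finite Q] (r : Refl h u c) : (c : G) * c = 1 ∨ (c : G) * c = z := by
  have hact : h.act (c * c) = 1 := by
    ext v
    rw [map_mul]
    show h.act c (h.act c v) = v
    rw [r.act, r.act, map_add, map_smul, h.b_self, smul_zero, add_zero, add_assoc, h.add_self, add_zero]
  have hQ : (c : G) * c ∈ Q := h.mem_of_act (c * c) hact
  refine r.eq_of_comm hQ (by group) ?_
  intro x _ hxc
  calc x * (c * c) = (x * c) * c := by group
    _ = (c * x) * c := by rw [hxc]
    _ = c * (x * c) := mul_assoc _ _ _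
    _ = (c * c) * x := by rw [hxc]; group

end Refl

/-- From a reflection to `Refl`. -/
theorem exists_refl (h : Large Q z) {u : Q} (hu : (u : G) * u = z)
    {c : Subgroup.centralizer ({z} : Set G)} (hc : ∀ v, h.act c v = v + h.b (h.pr u) v • h.pr u) :
    ∃ c', Refl h u c' := by
  have h1 := hc (h.pr u)
  rw [h.b_self, zero_smul, add_zero, h.act_pr, h.pr_eq_pr, h.conjQ_coe] at h1
  rcases h1 with h2 | h2
  · have hu1 : (u : G) ≠ 1 := by
      intro h3; rw [h3, one_mul] at hu; exact h.z_ne hu.symm
    have huz : (u : G) ≠ z := by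
      intro h3; rw [h3, h.z_sq] at hu; exact h.z_ne hu.symm
    obtain ⟨w, hw, hwu⟩ := exists_not_comm h u.2 hu1 huz
    have hwC : w ∈ Subgroup.centralizer ({z} : Set G) :=
      Subgroup.mem_centralizer_singleton_iff.2 (h.comm_z w hw)
    refine ⟨c * ⟨w, hwC⟩, ?_, ?_, hu⟩
    · intro v
      rw [map_mul, h.act_mem ⟨w, hwC⟩ hw, mul_one, hc]
    · rw [mul_inv_eq_iff_eq_mul] at h2
      have hcz := Subgroup.mem_centralizer_singleton_iff.1 c.2
      show (c : G) * w * u = u * z * (c * w)
      calc (c : G) * w * u = c * (w * u) := by group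
        _ = (c * u) * w * z := by rw [hwu]; group
        _ = u * c * (w * z) := by rw [h2]; group
        _ = u * c * (z * w) := by rw [h.comm_z w hw]
        _ = u * (c * z) * w := by group
        _ = u * z * (c * w) := by rw [hcz]; group
  · refine ⟨c, hc, ?_, hu⟩
    rw [mul_inv_eq_iff_eq_mul] at h2
    exact h2

/-- An involution inducing the reflection. -/
theorem exists_refl_invol [Finite Q] (h : Large Q z) (h32 : 8 < Nat.card Q) {u : Q} (hu : (u : G) * u = z)
    {c : Subgroup.centralizer ({z} : Set G)} (hc : ∀ v, h.act c v = v + h.b (h.pr u) v • h.pr u) :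
    ∃ s, Refl h u s ∧ (s : G) * s = 1 := by
  classical
  obtain ⟨c', r⟩ := exists_refl h hu hc
  rcases r.sq_eq with h1 | h1
  · exact ⟨c', r, h1⟩
  -- an element of order four in `C_Q(c')`
  have hy : ∃ y ∈ Q, y * c' = c' * y ∧ y * y = z := by
    by_contra hcon
    push Not at hcon
    have hinv : ∀ y ∈ Q, y * c' = c' * y → y * y = 1 := by
      intro y hy hyc
      rcases h.sq y hy with h2 | h2
      · exact h2
      · exact absurd h2 (hcon y hy hyc)
    have hcomm : ∀ y ∈ Q, ∀ y' ∈ Q, y * c' = c' * y → y' * c' = c' * y' → y * y' = y' * y := by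
      intro y hy y' hy' hyc hyc'
      have h2 := hinv y hy hyc
      have h3 := hinv y' hy' hyc'
      have h4 := hinv (y * y') (Q.mul_mem hy hy') (by
        calc y * y' * c' = y * (y' * c') := by group
          _ = (y * c') * y' := by rw [hyc']; group
          _ = c' * (y * y') := by rw [hyc]; group)
      calc y * y' = (y' * y') * (y * y') * (y * y) * ((y * y)⁻¹) := by rw [h3, h2]; group
        _ = y' * ((y' * y) * (y' * y)) * y * (y * y)⁻¹ := by group
        _ = y' * y := by
          have h5 : (y' * y) * (y' * y) = 1 := by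
            have : y' * y = y * (y * y') * (y * y')⁻¹ * y⁻¹ * (y' * y) := by group
            calc (y' * y) * (y' * y) = y' * (y * y') * (y * y') * y'⁻¹ := by group
              _ = 1 := by rw [mul_assoc y', h4]; group
          rw [h5, h2]; group
    -- then `C_Q(u)` is abelian
    have hab : ∀ x ∈ Q, ∀ x' ∈ Q, x * u = u * x → x' * u = u * x' → x * x' = x' * x := by
      intro x hx x' hx' hxu hxu'
      rcases r.comm_or hx hxu with h2 | h2 <;> rcases r.comm_or hx' hxu' with h3 | h3
      · exact hcomm x hx x' hx' h2 h3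
      · have h4 := hcomm x hx (x' * u) (Q.mul_mem hx' u.2) h2 h3
        have h5 : x * x' * u = x' * x * u := by
          calc x * x' * u = x * (x' * u) := by group
            _ = x' * (u * x) := by rw [h4]; group
            _ = x' * x * u := by rw [← hxu]; group
        exact mul_right_cancel h5
      · have h4 := hcomm (x * u) (Q.mul_mem hx u.2) x' hx' h2 h3
        have h5 : x * x' * u = x' * x * u := by
          calc x * x' * u = x * (x' * u) := by group
            _ = x * (u * x') := by rw [hxu']
            _ = (x * u) * x' := by group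
            _ = x' * x * u := by rw [h4]; group
        exact mul_right_cancel h5
      · have h4 := hcomm (x * u) (Q.mul_mem hx u.2) (x' * u) (Q.mul_mem hx' u.2) h2 h3
        have h5 : x * x' * (u * u) = x' * x * (u * u) := by
          calc x * x' * (u * u) = x * (x' * u) * u := by group
            _ = x * (u * x') * u := by rw [hxu']
            _ = (x * u) * (x' * u) := by group
            _ = (x' * u) * (x * u) := h4
            _ = x' * (u * x) * u := by group
            _ = x' * (x * u) * u := by rw [hxu]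
            _ = x' * x * (u * u) := by group
        exact mul_right_cancel h5
    have hu1 : (u : G) ≠ 1 := by
      intro h3; rw [h3, one_mul] at hu; exact h.z_ne hu.symm
    have huz : (u : G) ≠ z := by
      intro h3; rw [h3, h.z_sq] at hu; exact h.z_ne hu.symm
    have hcard := Local.card_centralizer h u.2 hu1 huz
    have hall : ∀ y ∈ Subgroup.centralizer ({(u : G)} : Set G) ⊓ Q,
        y = 1 ∨ y = z ∨ y = u ∨ y = u * z := by
      intro y hy
      obtain ⟨h3, h4⟩ := Subgroup.mem_inf.1 hy
      refine eq_of_cent h u.2 h4 ?_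
      intro x hx hxu
      exact hab x hx y h4 hxu (Subgroup.mem_centralizer_singleton_iff.1 h3)
    have hle : Nat.card ↥(Subgroup.centralizer ({(u : G)} : Set G) ⊓ Q) ≤ 4 := by
      have hinj : Function.Injective (fun t : ↥(Subgroup.centralizer ({(u : G)} : Set G) ⊓ Q) =>
          (⟨t, by
            have h4 := hall t t.2
            simpa using h4⟩ : ({1, z, (u : G), u * z} : Set G))) := by
        intro t t' htt'
        exact Subtype.ext (congrArg (fun t : ({1, z, (u : G), u * z} : Set G) => (t : G)) htt')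
      have h4 := Nat.card_le_card_of_injective _ hinj
      refine h4.trans ?_
      rw [Nat.card_coe_set_eq]
      refine (Set.ncard_insert_le _ _).trans ?_
      have h5 := Set.ncard_insert_le z ({(u : G), u * z} : Set G)
      have h6 := Set.ncard_insert_le (u : G) ({u * z} : Set G)
      rw [Set.ncard_singleton] at h6
      omega
    omega
  obtain ⟨y, hy, hyc, hyy⟩ := hy
  have hyC : y ∈ Subgroup.centralizer ({z} : Set G) :=
    Subgroup.mem_centralizer_singleton_iff.2 (h.comm_z y hy)
  refine ⟨c' * ⟨y, hyC⟩, ⟨?_, ?_, hu⟩, ?_⟩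
  · intro v
    rw [map_mul, h.act_mem ⟨y, hyC⟩ hy, mul_one, r.act]
  · show (c' : G) * y * u = u * z * (c' * y)
    have hyu := r.comm_of_comm hy hyc
    calc (c' : G) * y * u = c' * (y * u) := by group
      _ = (c' * u) * y := by rw [hyu]; group
      _ = u * z * (c' * y) := by rw [r.inv]; group
  · show (c' : G) * y * (c' * y) = 1
    calc (c' : G) * y * (c' * y) = c' * (y * c') * y := by group
      _ = (c' * c') * (y * y) := by rw [hyc]; group
      _ = 1 := by rw [h1, hyy, h.z_sq]

section Main

variable [Finite G] {h : Large Q z} {u : Q} {s : Subgroup.centralizer ({z} : Set G)}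

/-- `C_G(⟨s⟩ C_Q(s)) = ⟨s, z⟩` -/
theorem cent_eq (r : Refl h u s) (hs : (s : G) * s = 1) {y : G} (hys : y * s = s * y)
    (hyR : ∀ x ∈ Q, x * s = s * x → x * y = y * x) : y = 1 ∨ y = z ∨ y = s ∨ y = z * s := by
  have hsz : (s : G) * z = z * s := Refl.cz s
  have hyz : y * z = z * y := (hyR z h.z_mem hsz.symm).symm
  have hyC : y ∈ Subgroup.centralizer ({z} : Set G) := Subgroup.mem_centralizer_singleton_iff.2 hyz
  set y' : Subgroup.centralizer ({z} : Set G) := ⟨y, hyC⟩ with hy'
  have hcomm : y' * s = s * y' := Subtype.ext hys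
  -- `y` fixes `a = pr u`
  have hu1 : h.pr u ≠ 0 := r.u_ne
  obtain ⟨w, hw⟩ : ∃ w, h.b (h.pr u) w ≠ 0 := by
    by_contra hcon
    push Not at hcon
    exact hu1 (h.b_nondeg hcon)
  have hw1 := zmod_two_ne hw
  have hya : h.act y' (h.pr u) = h.pr u := by
    have h1 : h.act y' (h.act s w) = h.act s (h.act y' w) := by
      have := congrArg (fun t => h.act t w) hcomm
      simp only [map_mul] at this
      exact this
    rw [r.act, r.act, hw1, one_smul, map_add] at h1
    have h2 := add_left_cancel h1
    rcases zmod_two (h.b (h.pr u) (h.act y' w)) with h3 | h3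
    · rw [h3, zero_smul] at h2
      exact absurd ((h.act y').map_eq_zero_iff.1 h2) hu1
    · rw [h3, one_smul] at h2
      exact h2
  have hfix : ∀ v, h.b (h.pr u) v = 0 → h.act y' v = v := by
    intro v hv
    obtain ⟨x, rfl⟩ := h.pr_surjective v
    have hxu : (x : G) * u = u * x := ((h.b_pr _ _).1 hv).symm
    rcases r.comm_or x.2 hxu with h1 | h1
    · apply Pair.act_pr_coe
      show y * (x : G) * y⁻¹ = x
      rw [← hyR x x.2 h1]; group
    · have h2 : h.act y' (h.pr (x * u)) = h.pr (x * u) := by
        apply Pair.act_pr_coe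
        show y * ((x * u : Q) : G) * y⁻¹ = (x * u : Q)
        rw [Subgroup.coe_mul, ← hyR (x * u) (Q.mul_mem x.2 u.2) h1]; group
      rw [h.pr_mul, map_add, hya] at h2
      exact add_right_cancel h2
  rcases eq_or_refl_of_fix_perp h (h.act y') (h.b_act y') hfix with h1 | h1
  · have hyQ := h.mem_of_act y' h1
    rcases r.eq_of_comm hyQ hys hyR with h2 | h2
    · exact Or.inl h2
    · exact Or.inr (Or.inl h2)
  · -- `y s` acts trivially
    have h2 : h.act (y' * s) = 1 := by
      ext v
      rw [map_mul]
      show h.act y' (h.act s v) = v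
      rw [r.act, h1, map_add, map_smul, h.b_self, smul_zero, add_zero, add_assoc, h.add_self, add_zero]
    have h3 : y * s ∈ Q := h.mem_of_act (y' * s) h2
    have h4 : y * s = 1 ∨ y * s = z := by
      refine r.eq_of_comm h3 (by
        calc (y * s) * s = (s * y) * s := by rw [hys]
          _ = s * (y * s) := mul_assoc _ _ _) ?_
      intro x hx hxs
      calc x * (y * s) = (x * y) * s := by group
        _ = y * (x * s) := by rw [hyR x hx hxs]; group
        _ = (y * s) * x := by rw [hxs]; group
    rcases h4 with h5 | h5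
    · right; right; left
      rw [eq_inv_of_mul_eq_one_left h5, inv_eq_of_mul_eq_one_left hs]
    · right; right; right
      calc y = y * s * s := by rw [mul_assoc, hs, mul_one]
        _ = z * s := by rw [h5]

omit [Finite G] in
theorem s_notMem (r : Refl h u s) : (s : G) ∉ Q := by
  intro hsQ
  have h1 := h.act_mem s hsQ
  obtain ⟨w, hw⟩ : ∃ w, h.b (h.pr u) w ≠ 0 := by
    by_contra hcon
    push Not at hcon
    exact r.u_ne (h.b_nondeg hcon)
  have h2 := r.act w
  rw [h1, zmod_two_ne hw, one_smul] at h2
  have h3 : w = w + h.pr u := h2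
  exact r.u_ne (add_eq_left.1 h3.symm)

/-- `s` is not conjugate to `z` -/
theorem not_conj (r : Refl h u s) (hs : (s : G) * s = 1) (h32 : 8 < Nat.card Q) (g : G) :
    g * z * g⁻¹ ≠ s := by
  intro hg
  have hsz : (s : G) * z = z * s := Refl.cz s
  have hsQ := s_notMem r
  set A := Q.map (MulAut.conj g).toMonoidHom with hA
  have la : Large A (s : G) := by rw [← hg]; exact h.conj g
  have hs1 : (s : G) ≠ 1 := la.z_ne
  have hne : z ≠ s := by
    intro h1
    exact hsQ (h1 ▸ h.z_mem)
  have hzA : z ∉ A := by
    intro hzA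
    have e : g⁻¹ * (s : G) * (g⁻¹)⁻¹ = z := by rw [← hg]; group
    have p := pair_of_conj la (g := g⁻¹) (by rw [e]; exact hzA) (by rw [e]; exact hne)
    have h1 := p.z_mem
    apply hsQ
    have h2 : A.map (MulAut.conj g⁻¹).toMonoidHom = Q := by
      rw [hA, Subgroup.map_map]
      ext x
      constructor
      · rintro ⟨y, hy, rfl⟩
        have : (((MulAut.conj g⁻¹).toMonoidHom).comp (MulAut.conj g).toMonoidHom) y = y := by
          show g⁻¹ * (g * y * g⁻¹) * (g⁻¹)⁻¹ = y
          group
        rw [this]; exact hy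
      · intro hx
        refine ⟨x, hx, ?_⟩
        show g⁻¹ * (g * x * g⁻¹) * (g⁻¹)⁻¹ = x
        group
    rwa [h2] at h1
  have hszQ : z * (s : G) ∉ Q := by
    intro h1
    apply hsQ
    have := Q.mul_mem h.z_mem h1
    rwa [← mul_assoc, h.z_sq, one_mul] at this
  have hszA : z * (s : G) ∉ A := by
    intro h1
    apply hzA
    have := A.mul_mem h1 la.z_mem
    rwa [mul_assoc, hs, mul_one] at this
  -- `Q ∩ A = 1`
  have hD : ∀ d ∈ Q, d ∈ A → d = 1 := by
    intro d hdQ hdA
    have hds := la.comm_z d hdA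
    have h1 : ∀ x ∈ Q, x * s = s * x → x * d = d * x := by
      intro x hx hxs
      rcases h.comm x hx d hdQ with h2 | h2
      · exact h2
      · exfalso
        apply hzA
        have h3 : x * d * x⁻¹ ∈ A := la.conj_mem x hxs d hdA
        have h4 : x * d * x⁻¹ = d * z := by
          rw [h2, mul_inv_eq_iff_eq_mul, mul_assoc, h.comm_z x hx, mul_assoc]
        have h5 := A.mul_mem (A.inv_mem hdA) h3
        rwa [h4, inv_mul_cancel_left] at h5
    rcases cent_eq r hs hds h1 with h2 | h2 | h2 | h2
    · exact h2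
    · exact absurd (h2 ▸ hdA) hzA
    · exact absurd (h2 ▸ hdQ) hsQ
    · exact absurd (h2 ▸ hdQ) hszQ
  -- `C_A(z) = ⟨s⟩`
  have hX : ∀ x ∈ A, x * z = z * x → x = 1 ∨ x = s := by
    intro x hxA hxz
    have hxs := la.comm_z x hxA
    have h1 : ∀ y ∈ Q, y * s = s * y → y * x = x * y := by
      intro y hy hys
      have h2 : y * x * y⁻¹ * x⁻¹ = 1 := by
        apply hD
        · have h3 := h.conj_mem x hxz _ (Q.inv_mem hy)
          have h4 := Q.mul_mem hy h3
          have e : y * (x * y⁻¹ * x⁻¹) = y * x * y⁻¹ * x⁻¹ := by group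
          rwa [e] at h4
        · exact A.mul_mem (la.conj_mem y hys x hxA) (A.inv_mem hxA)
      rw [mul_inv_eq_one, mul_inv_eq_iff_eq_mul] at h2
      exact h2
    rcases cent_eq r hs hxs h1 with h2 | h2 | h2 | h2
    · exact Or.inl h2
    · exact absurd (h2 ▸ hxA) hzA
    · exact Or.inr h2
    · exact absurd (h2 ▸ hxA) hszA
  -- the action of `z` on `A / ⟨s⟩`
  have hzC : z ∈ Subgroup.centralizer ({(s : G)} : Set G) :=
    Subgroup.mem_centralizer_singleton_iff.2 hsz.symm
  have : FiniteDimensional (ZMod 2) la.V := finiteDim la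
  set τ := la.act ⟨z, hzC⟩ with hτ
  have hττ : ∀ v, τ (τ v) = v := by
    intro v
    have h1 : τ * τ = 1 := by
      rw [hτ, ← map_mul]
      have : (⟨z, hzC⟩ * ⟨z, hzC⟩ : Subgroup.centralizer ({(s : G)} : Set G)) = 1 := Subtype.ext h.z_sq
      rw [this, map_one]
    exact congrArg (fun t : la.V ≃ₗ[ZMod 2] la.V => t v) h1
  let F : la.V →ₗ[ZMod 2] la.V := τ.toLinearMap + LinearMap.id
  have hF : ∀ v, F v = τ v + v := fun v => rfl
  have hrange : LinearMap.range F ≤ LinearMap.ker F := by
    rintro _ ⟨v, rfl⟩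
    rw [LinearMap.mem_ker, hF, hF, map_add, hττ]
    calc v + τ v + (τ v + v) = (v + v) + (τ v + τ v) := by abel
      _ = 0 := by rw [la.add_self, la.add_self, add_zero]
  have hker : ∀ v ∈ LinearMap.ker F, ∀ w ∈ LinearMap.ker F, v ≠ 0 → w ≠ 0 → v = w := by
    intro v hv w hw hv0 hw0
    obtain ⟨x, rfl⟩ := la.pr_surjective v
    obtain ⟨y, rfl⟩ := la.pr_surjective w
    have key : ∀ x : A, la.pr x ∈ LinearMap.ker F → la.pr x ≠ 0 → z * (x : G) * z⁻¹ = x * s := by
      intro x hx hx0
      rw [LinearMap.mem_ker, hF] at hx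
      have h1 : τ (la.pr x) = la.pr x := by
        calc τ (la.pr x) = τ (la.pr x) + la.pr x + la.pr x := by rw [add_assoc, la.add_self, add_zero]
          _ = la.pr x := by rw [hx, zero_add]
      rw [hτ, la.act_pr, la.pr_eq_pr, la.conjQ_coe] at h1
      rcases h1 with h2 | h2
      · exfalso
        apply hx0
        rw [la.pr_eq_zero]
        refine hX x x.2 ?_
        have h2' : z * (x : G) * z⁻¹ = x := h2
        rw [mul_inv_eq_iff_eq_mul] at h2'
        exact h2'.symm
      · exact h2
    have h1 := key x hv hv0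
    have h2 := key y hw hw0
    have h3 : ((x * y : A) : G) = 1 ∨ ((x * y : A) : G) = s := by
      apply hX _ (x * y).2
      have h4 : z * ((x : G) * y) * z⁻¹ = x * y := by
        calc z * ((x : G) * y) * z⁻¹ = (z * x * z⁻¹) * (z * y * z⁻¹) := by group
          _ = x * (s * y) * s := by rw [h1, h2]; group
          _ = x * (y * s) * s := by rw [la.comm_z y y.2]
          _ = x * y * (s * s) := by group
          _ = x * y := by rw [hs, mul_one]
      rw [mul_inv_eq_iff_eq_mul] at h4
      exact h4.symm
    have h4 := la.pr_eq_zero.2 h3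
    rw [la.pr_mul] at h4
    calc la.pr x = la.pr x + la.pr y + la.pr y := by rw [add_assoc, la.add_self, add_zero]
      _ = la.pr y := by rw [h4, zero_add]
  have hk1 : Module.finrank (ZMod 2) (LinearMap.ker F) ≤ 1 := by
    rw [finrank_le_one_iff]
    by_cases hex : ∃ v ∈ LinearMap.ker F, v ≠ 0
    · obtain ⟨v, hv, hv0⟩ := hex
      refine ⟨⟨v, hv⟩, fun w => ?_⟩
      by_cases hw : (w : la.V) = 0
      · exact ⟨0, by rw [zero_smul]; exact (Subtype.ext hw).symm⟩
      · refine ⟨1, ?_⟩
        rw [one_smul]
        exact Subtype.ext (hker v hv w w.2 hv0 hw)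
    · push Not at hex
      exact ⟨0, fun w => ⟨0, by rw [zero_smul]; exact (Subtype.ext (hex w w.2)).symm⟩⟩
  have hrk := LinearMap.finrank_range_add_finrank_ker F
  have hle := Submodule.finrank_mono hrange
  have hV2 : Module.finrank (ZMod 2) la.V ≤ 2 := by omega
  have hcardV : Nat.card la.V ≤ 4 := by
    rw [Module.natCard_eq_pow_finrank (K := ZMod 2), Nat.card_zmod]
    calc 2 ^ Module.finrank (ZMod 2) la.V ≤ 2 ^ 2 := Nat.pow_le_pow_right (by norm_num) hV2
      _ = 4 := by norm_num
  have hAQ : Nat.card A = Nat.card Q :=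
    (Nat.card_congr (Q.equivMapOfInjective _ (MulAut.conj g).injective).toEquiv).symm
  have := la.card_eq
  omega

/-- **Lemma R**: no element of `C_G(z)` induces an orthogonal transvection on `V`. -/
theorem no_reflection (hG : ∀ H : Subgroup G, H.index ≠ 2) (h : Large Q z) (h32 : 8 < Nat.card Q)
    {a : h.V} (ha : h.q a = 1) {c : Subgroup.centralizer ({z} : Set G)}
    (hc : ∀ v, h.act c v = v + h.b a v • a) : False := by
  obtain ⟨u, rfl⟩ := h.pr_surjective a
  have hu : (u : G) * u = z := h.q_eq_one.1 ha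
  obtain ⟨s, r, hs⟩ := exists_refl_invol h h32 hu hc
  have hsz : (s : G) * z = z * s := Refl.cz s
  have hd : dick h s = -1 := dick_refl h r.u_ne r.act
  have hs0 : (s : G) ∉ C0 h := by
    rw [mem_C0, hd]; decide
  -- the group `P = ⟨s⟩ C_Q(s)`
  let P : Subgroup G :=
    { carrier := {x | ∃ y ∈ Q, y * s = s * y ∧ (x = y ∨ x = y * s)}
      one_mem' := ⟨1, Q.one_mem, by group, Or.inl rfl⟩
      mul_mem' := by
        rintro a b ⟨y, hy, hys, ha⟩ ⟨y', hy', hys', hb⟩
        refine ⟨y * y', Q.mul_mem hy hy', ?_, ?_⟩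
        · calc y * y' * s = y * (y' * s) := by group
            _ = (y * s) * y' := by rw [hys']; group
            _ = s * (y * y') := by rw [hys]; group
        · rcases ha with rfl | rfl <;> rcases hb with rfl | rfl
          · exact Or.inl rfl
          · exact Or.inr (by group)
          · right
            calc y * (s : G) * b = y * (s * b) := by group
              _ = y * b * s := by rw [← hys']; group
          · left
            calc y * (s : G) * (y' * s) = y * (s * y') * s := by group
              _ = y * y' * (s * s) := by rw [← hys']; group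
              _ = y * y' := by rw [hs, mul_one]
      inv_mem' := by
        rintro a ⟨y, hy, hys, ha⟩
        have h1 : y⁻¹ * s = s * y⁻¹ := by
          rw [inv_mul_eq_iff_eq_mul, ← mul_assoc, hys, mul_inv_cancel_right]
        refine ⟨y⁻¹, Q.inv_mem hy, h1, ?_⟩
        rcases ha with rfl | rfl
        · exact Or.inl rfl
        · right
          rw [mul_inv_rev, inv_eq_of_mul_eq_one_left hs, h1] }
  have hPs : ∀ p ∈ P, p * s = s * p := by
    rintro p ⟨y, hy, hys, rfl | rfl⟩
    · exact hys
    · calc y * (s : G) * s = (s * y) * s := by rw [hys]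
        _ = s * (y * s) := mul_assoc _ _ _
  have hPz : ∀ p ∈ P, p * z = z * p := by
    rintro p ⟨y, hy, hys, rfl | rfl⟩
    · exact h.comm_z p hy
    · calc y * (s : G) * z = y * (s * z) := by group
        _ = (y * z) * s := by rw [hsz]; group
        _ = z * (y * s) := by rw [h.comm_z y hy]; group
  have hPp : IsPGroup 2 P := by
    have hy4 : ∀ y ∈ Q, y ^ 4 = 1 := by
      intro y hy
      have : y ^ 4 = (y * y) * (y * y) := by simp only [pow_succ, pow_zero, one_mul, mul_assoc]
      rw [this]
      rcases h.sq y hy with h1 | h1 <;> rw [h1]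
      · rw [one_mul]
      · exact h.z_sq
    rintro ⟨p, y, hy, hys, hp⟩
    refine ⟨2, ?_⟩
    apply Subtype.ext
    show p ^ (2 ^ 2) = 1
    rw [show (2 ^ 2 : ℕ) = 4 from rfl]
    rcases hp with rfl | rfl
    · exact hy4 p hy
    · have hc' : Commute y (s : G) := hys
      rw [hc'.mul_pow, hy4 y hy, one_mul]
      have : (s : G) ^ 4 = (s * s) * (s * s) := by simp only [pow_succ, pow_zero, one_mul, mul_assoc]
      rw [this, hs, one_mul]
  obtain ⟨g, hg1, hg2, -, -⟩ := exists_conj hG (odd_index h) (C0_le h) (relIndex_C0 h hd) s hs hsz hs0 P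
    hPp hPs hPz
  set y := g * z * g⁻¹ with hy
  have hys : y * s = s * y := (hg2 s ⟨1, Q.one_mem, by group, Or.inr (by group)⟩).symm
  have hyR : ∀ x ∈ Q, x * s = s * x → x * y = y * x := fun x hx hxs => hg2 x ⟨x, hx, hxs, Or.inl rfl⟩
  rcases cent_eq r hs hys hyR with h1 | h1 | h1 | h1
  · apply h.z_ne
    have : z = g⁻¹ * y * g := by rw [hy]; group
    rw [this, h1]; group
  · exact hg1 h1
  · exact not_conj r hs h32 g h1
  · -- `z s = u⁻¹ s u`
    have h2 : (u : G)⁻¹ * s * u = z * s := by
      calc (u : G)⁻¹ * s * u = (u : G)⁻¹ * (s * u) := by group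
        _ = (u : G)⁻¹ * (u * z * s) := by rw [r.inv]
        _ = z * s := by group
    apply not_conj r hs h32 (u * g)
    calc (u : G) * g * z * (u * g)⁻¹ = u * y * (u : G)⁻¹ := by rw [hy]; group
      _ = u * ((u : G)⁻¹ * s * u) * (u : G)⁻¹ := by rw [h1, h2]
      _ = s := by group

end Main

end Cfsg.Agent.LargeExtra.LemmaR
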