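import Cfsg.Agent.LargeExtra.SiegelOrbit
import Cfsg.Agent.LargeExtra.LemmaR
import Cfsg.Agent.LieClassical.OrthForms
import Cfsg.Agent.LieClassical.OrthSimple

/-!
# Case II with `|D̃| = 2`, `|V| = 64`, minus type: `C_G(z) / Q ≅ Ω₆⁻(2)` (helper73)
-/

set_option autoImplicit false

namespace Cfsg.Agent.LargeExtra.SixMinus

open Cfsg.Agent.Co2Type.Quad Cfsg.Agent.LargeExtra.Base Cfsg.Agent.LargeExtra.TwoCentral
open Cfsg.Agent.LargeExtra.Siegel Cfsg.Agent.LargeExtra.SiegelOrbit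
open Cfsg.Agent.LieClassical.OrthCore Cfsg.Agent.LieClassical.OrthTrans
open Cfsg.Agent.LieClassical.OrthFinite
open QuadraticMap

/-! ### the group between `E Q` and `O Q` without reflections -/

section Abstract

variable {V : Type*} [AddCommGroup V] [Module (ZMod 2) V] {Q : QuadraticForm (ZMod 2) V}

theorem mem_E_or (hG : Good Q) {f : V ≃ₗ[ZMod 2] V} (hf : f ∈ O Q) :
    f ∈ E Q ∨ ∃ (v : V) (hv : Q v ≠ 0), f * refl Q v hv ∈ E Q := by
  have : FiniteDimensional (ZMod 2) V := Module.finite_of_finrank_pos (by have := hG.dim; omega)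
  rw [O_eq_closure hG.nondeg] at hf
  have hrr : ∀ (v w : V) (hv : Q v ≠ 0) (hw : Q w ≠ 0), refl Q v hv * refl Q w hw ∈ E Q := by
    intro v w hv hw
    apply hG.refl_mul_refl_mem
    rw [zmod_two_ne hv, zmod_two_ne hw]
  have hle : Subgroup.closure (reflSet Q ∪ siegelSet Q) = O Q := (O_eq_closure hG.nondeg).symm
  induction hf using Subgroup.closure_induction with
  | mem x hx =>
    rcases hx with ⟨v, hv, rfl⟩ | hx
    · exact Or.inr ⟨v, hv, hrr v v hv hv⟩
    · exact Or.inl (Subgroup.subset_closure hx)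
  | one => exact Or.inl (E Q).one_mem
  | mul x y hx hy ihx ihy =>
    rw [hle] at hx hy
    rcases ihx with ihx | ⟨v, hv, ihx⟩ <;> rcases ihy with ihy | ⟨w, hw, ihy⟩
    · exact Or.inl ((E Q).mul_mem ihx ihy)
    · refine Or.inr ⟨w, hw, ?_⟩
      rw [mul_assoc]
      exact (E Q).mul_mem ihx ihy
    · refine Or.inr ⟨v, hv, ?_⟩
      have : x * y * refl Q v hv = (x * refl Q v hv) * ((refl Q v hv)⁻¹ * y * ((refl Q v hv)⁻¹)⁻¹) := by
        group
      rw [this]
      exact (E Q).mul_mem ihx (conj_mem_E ((O Q).inv_mem (refl_mem_O hv)) ihy)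
    · left
      have : x * y = (x * refl Q v hv) * ((refl Q v hv)⁻¹ * (y * refl Q w hw) *
          ((refl Q v hv)⁻¹)⁻¹) * ((refl Q v hv)⁻¹ * (refl Q w hw)⁻¹) := by group
      rw [this, refl_inv hw]
      refine (E Q).mul_mem ((E Q).mul_mem ihx
        (conj_mem_E ((O Q).inv_mem (refl_mem_O hv)) ihy)) ?_
      rw [refl_inv hv]
      exact hrr v w hv hw
  | inv x hx ih =>
    rw [hle] at hx
    rcases ih with ih | ⟨v, hv, ih⟩
    · exact Or.inl ((E Q).inv_mem ih)
    · refine Or.inr ⟨v, hv, ?_⟩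
      have h1 := (E Q).inv_mem ih
      have h2 := conj_mem_E (refl_mem_O hv) h1
      have : refl Q v hv * (x * refl Q v hv)⁻¹ * (refl Q v hv)⁻¹ = x⁻¹ * (refl Q v hv)⁻¹ := by group
      rw [this, refl_inv hv] at h2
      exact h2

/-- A group between `E Q` and `O Q` containing no reflection is `E Q`. -/
theorem eq_E (hG : Good Q) {H : Subgroup (V ≃ₗ[ZMod 2] V)} (h1 : E Q ≤ H) (h2 : H ≤ O Q)
    (h3 : ∀ (v : V) (hv : Q v ≠ 0), refl Q v hv ∉ H) : H = E Q := by
  apply le_antisymm _ h1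
  intro f hf
  rcases mem_E_or hG (h2 hf) with h4 | ⟨v, hv, h4⟩
  · exact h4
  · exfalso
    apply h3 v hv
    have : refl Q v hv = f⁻¹ * (f * refl Q v hv) := by group
    rw [this]
    exact H.mul_mem (H.inv_mem hf) (h1 h4)

/-! ### the isometry with `quadFormMinus 2 1 1` -/

/-- a span of three singular, pairwise orthogonal, independent vectors -/
theorem exists_three {x1 x2 u y1 y2 v : V} (q1 : Q x1 = 0) (q2 : Q x2 = 0) (qu : Q u = 0)
    (b12 : polar Q x1 x2 = 0) (b1u : polar Q x1 u = 0) (b2u : polar Q x2 u = 0)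
    (c1 : polar Q y1 x1 = 1) (c2 : polar Q y2 x2 = 1) (cu : polar Q v u = 1)
    (d12 : polar Q y1 x2 = 0) (d1u : polar Q y1 u = 0) (d21 : polar Q y2 x1 = 0)
    (d2u : polar Q y2 u = 0) (dv1 : polar Q v x1 = 0) (dv2 : polar Q v x2 = 0) :
    ∃ T : Submodule (ZMod 2) V, Nat.card T = 8 ∧ ∀ v ∈ T, Q v = 0 := by
  let ψ : (ZMod 2 × ZMod 2 × ZMod 2) →ₗ[ZMod 2] V :=
    { toFun := fun c => c.1 • x1 + c.2.1 • x2 + c.2.2 • u
      map_add' := by
        intro c d
        simp only [Prod.fst_add, Prod.snd_add, add_smul]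
        abel
      map_smul' := by
        intro t c
        simp only [Prod.smul_fst, Prod.smul_snd, smul_eq_mul, mul_smul, smul_add, RingHom.id_apply] }
  have hψ : ∀ c, ψ c = c.1 • x1 + c.2.1 • x2 + c.2.2 • u := fun _ => rfl
  have hinj : Function.Injective ψ := by
    rw [← LinearMap.ker_eq_bot, LinearMap.ker_eq_bot']
    rintro ⟨a, b, c⟩ h0
    have e1 : polar Q y1 (ψ (a, b, c)) = a := by
      rw [hψ]
      simp only [polar_add_right, polar_smul_right, c1, d12, d1u, smul_eq_mul]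
      ring
    have e2 : polar Q y2 (ψ (a, b, c)) = b := by
      rw [hψ]
      simp only [polar_add_right, polar_smul_right, d21, c2, d2u, smul_eq_mul]
      ring
    have e3 : polar Q v (ψ (a, b, c)) = c := by
      rw [hψ]
      simp only [polar_add_right, polar_smul_right, dv1, dv2, cu, smul_eq_mul]
      ring
    rw [h0, polar_zero_right] at e1 e2 e3
    rw [← e1, ← e2, ← e3]; rfl
  refine ⟨LinearMap.range ψ, ?_, ?_⟩
  · have h1 : Nat.card (LinearMap.range ψ) = Nat.card (ZMod 2 × ZMod 2 × ZMod 2) :=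
      (Nat.card_congr (LinearEquiv.ofInjective ψ hinj).toEquiv).symm
    rw [h1, Nat.card_prod, Nat.card_prod, Nat.card_zmod]
  · rintro _ ⟨c, rfl⟩
    rw [hψ]
    simp only [Q_add, QuadraticMap.map_smul, polar_add_left, polar_smul_right, polar_smul_left,
      q1, q2, qu, b12, b1u, b2u, smul_eq_mul]
    ring

theorem exists_isometry [Finite V] (hQ : Nondeg Q) (hc : Nat.card V = 64)
    (hm : ¬ ∃ T : Submodule (ZMod 2) V, Nat.card T = 8 ∧ ∀ v ∈ T, Q v = 0) :
    ∃ e : ((Fin 2 ⊕ Fin 2) ⊕ Fin 2 → ZMod 2) ≃ₗ[ZMod 2] V,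
      ∀ c, Q (e c) = Cfsg.quadFormMinus 2 (ZMod 2) 1 1 c := by
  classical
  have hfd : FiniteDimensional (ZMod 2) V := Module.Finite.of_finite
  have hdim : Module.finrank (ZMod 2) V = 6 := by
    have h1 := Module.natCard_eq_pow_finrank (K := ZMod 2) (V := V)
    rw [hc, Nat.card_zmod] at h1
    exact (Nat.pow_right_injective (le_refl 2) (show 2 ^ 6 = 2 ^ _ from h1)).symm
  have hG : Good Q := good_of_finite hQ (by omega)
  obtain ⟨x1, y1, h1⟩ := hG.exists_hyp
  obtain ⟨x2, y2, h2, a1, a2, a3, a4⟩ := hG.exists_hyp2 h1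
  obtain ⟨u, hu0, hu⟩ := exists_perp_ne (Q := Q) ![x1, y1, x2, y2] (by omega)
  have u1 : polar Q x1 u = 0 := hu 0
  have u2 : polar Q y1 u = 0 := hu 1
  have u3 : polar Q x2 u = 0 := hu 2
  have u4 : polar Q y2 u = 0 := hu 3
  obtain ⟨v0, hv0⟩ := hQ.exists_polar_eq hu0 1
  obtain ⟨v, v1, v2, v3, v4, v5⟩ : ∃ v, polar Q x1 v = 0 ∧ polar Q y1 v = 0 ∧ polar Q x2 v = 0 ∧
      polar Q y2 v = 0 ∧ polar Q u v = 1 := by
    have a1' : polar Q x2 x1 = 0 := by rw [polar_comm]; exact a1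
    have a2' : polar Q y2 x1 = 0 := by rw [polar_comm]; exact a2
    have a3' : polar Q x2 y1 = 0 := by rw [polar_comm]; exact a3
    have a4' : polar Q y2 y1 = 0 := by rw [polar_comm]; exact a4
    refine ⟨proj Q x2 y2 (proj Q x1 y1 v0), ?_, ?_, polar_proj_left h2 _, polar_proj_right h2 _, ?_⟩
    · rw [polar_proj_of_perp a1' a2', polar_proj_left h1]
    · rw [polar_proj_of_perp a3' a4', polar_proj_right h1]
    · rw [polar_proj_of_perp u3 u4, polar_proj_of_perp u1 u2]
      exact hv0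
  have pc : ∀ x y : V, polar Q x y = polar Q y x := fun x y => polar_comm _ _ _
  have hQu : Q u = 1 := by
    apply zmod_two_ne
    intro h0
    exact hm (exists_three h1.left h2.left h0 a1 u1 u3 h1.pair' h2.pair' (by rw [pc]; exact v5) a3 u2
      (by rw [pc]; exact a2) u4 (by rw [pc]; exact v1) (by rw [pc]; exact v3))
  have hQv : Q v = 1 := by
    apply zmod_two_ne
    intro h0
    exact hm (exists_three h1.left h2.left h0 a1 v1 v3 h1.pair' h2.pair' v5 a3 v2
      (by rw [pc]; exact a2) v4 (by rw [pc]; exact u1) (by rw [pc]; exact u3))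
  let φ : ((Fin 2 ⊕ Fin 2) ⊕ Fin 2 → ZMod 2) →ₗ[ZMod 2] V :=
    { toFun := fun c => c (.inl (.inl 0)) • x1 + c (.inl (.inr 0)) • y1 + c (.inl (.inl 1)) • x2 +
        c (.inl (.inr 1)) • y2 + c (.inr 0) • u + c (.inr 1) • v
      map_add' := by
        intro c d
        simp only [Pi.add_apply, add_smul]
        abel
      map_smul' := by
        intro t c
        simp only [Pi.smul_apply, smul_eq_mul, mul_smul, smul_add, RingHom.id_apply] }
  have hφ : ∀ c, Q (φ c) = Cfsg.quadFormMinus 2 (ZMod 2) 1 1 c := by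
    intro c
    show Q (c (.inl (.inl 0)) • x1 + c (.inl (.inr 0)) • y1 + c (.inl (.inl 1)) • x2 +
        c (.inl (.inr 1)) • y2 + c (.inr 0) • u + c (.inr 1) • v) = _
    rw [Cfsg.quadFormMinus, Fin.sum_univ_two]
    simp only [Q_add, QuadraticMap.map_smul, polar_add_left, polar_smul_right, polar_smul_left,
      h1.left, h1.right, h2.left, h2.right, h1.pair, h2.pair, a1, a2, a3, a4, u1, u2, u3, u4, v1, v2,
      v3, v4, v5, hQu, hQv, smul_eq_mul]
    ring
  have hnd := Cfsg.Agent.LieClassical.OrthForms.nondeg_minusForm (m := 2) (ZMod 2) 1 1 (by decide)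
  have hinj : Function.Injective φ := by
    rw [← LinearMap.ker_eq_bot, LinearMap.ker_eq_bot']
    intro c hc0
    apply hnd
    intro d
    rw [polar, Cfsg.Agent.LieClassical.OrthForms.coe_minusForm, ← hφ, ← hφ, ← hφ, map_add, hc0,
      zero_add, QuadraticMap.map_zero, sub_zero, sub_self]
  have hcard : Nat.card ((Fin 2 ⊕ Fin 2) ⊕ Fin 2 → ZMod 2) = Nat.card V := by
    rw [hc, Nat.card_eq_fintype_card, Fintype.card_fun, ZMod.card, Fintype.card_sum,
      Fintype.card_sum, Fintype.card_fin]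
    rfl
  have hbij : Function.Bijective φ := (Nat.bijective_iff_injective_and_card φ).2 ⟨hinj, hcard⟩
  exact ⟨LinearEquiv.ofBijective φ hbij, hφ⟩

end Abstract

/-! ### transport of `E Q` along an isometry -/

section Transport

variable {V V' : Type*} [AddCommGroup V] [Module (ZMod 2) V] [AddCommGroup V'] [Module (ZMod 2) V']

/-- conjugation by a linear equivalence -/
def conjE (e : V ≃ₗ[ZMod 2] V') : (V ≃ₗ[ZMod 2] V) ≃* (V' ≃ₗ[ZMod 2] V') where
  toFun f := (e.symm.trans f).trans e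
  invFun f := (e.trans f).trans e.symm
  left_inv f := by ext v; simp
  right_inv f := by ext v; simp
  map_mul' f g := by
    ext v
    show e (f (g (e.symm v))) = e (f (e.symm (e (g (e.symm v)))))
    rw [e.symm_apply_apply]

theorem conjE_apply (e : V ≃ₗ[ZMod 2] V') (f : V ≃ₗ[ZMod 2] V) (v : V') :
    conjE e f v = e (f (e.symm v)) := rfl

theorem map_O {Q : QuadraticForm (ZMod 2) V} {Q' : QuadraticForm (ZMod 2) V'}
    (e : V ≃ₗ[ZMod 2] V') (he : ∀ v, Q' (e v) = Q v) : (O Q).map (conjE e).toMonoidHom = O Q' := by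
  ext g
  constructor
  · rintro ⟨f, hf, rfl⟩ v
    show Q' (e (f (e.symm v))) = Q' v
    rw [he, hf, ← he, e.apply_symm_apply]
  · intro hg
    refine ⟨(conjE e).symm g, ?_, (conjE e).apply_symm_apply g⟩
    intro v
    show Q (e.symm (g (e v))) = Q v
    rw [← he, e.apply_symm_apply, hg, he]

theorem nonempty_equiv {Q : QuadraticForm (ZMod 2) V} {Q' : QuadraticForm (ZMod 2) V'}
    (e : V ≃ₗ[ZMod 2] V') (he : ∀ v, Q' (e v) = Q v) :
    Nonempty (↥(⁅O Q, O Q⁆ : Subgroup (V ≃ₗ[ZMod 2] V)) ≃*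
      ↥(⁅O Q', O Q'⁆ : Subgroup (V' ≃ₗ[ZMod 2] V'))) := by
  have h1 : (⁅O Q, O Q⁆ : Subgroup (V ≃ₗ[ZMod 2] V)).map (conjE e).toMonoidHom = ⁅O Q', O Q'⁆ := by
    rw [Subgroup.map_commutator, map_O e he]
  exact ⟨((conjE e).subgroupMap _).trans (MulEquiv.subgroupCongr h1)⟩

end Transport

/-! ### the conclusion -/

section Final

variable {G : Type*} [Group G] {Q A : Subgroup G} {z a : G}

theorem good_qf [Finite G] (h : Large Q z) (hV : 16 < Nat.card h.V) : Good (qf h) := by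
  apply good_of_finite (nondeg_qf h)
  have hfd : FiniteDimensional (ZMod 2) h.V := Module.Finite.of_finite
  have h1 := Module.natCard_eq_pow_finrank (K := ZMod 2) (V := h.V)
  rw [Nat.card_zmod] at h1
  by_contra hcon
  have h2 : Module.finrank (ZMod 2) h.V ≤ 4 := by omega
  have h3 : 2 ^ Module.finrank (ZMod 2) h.V ≤ 2 ^ 4 := Nat.pow_le_pow_right (by norm_num) h2
  omega

theorem refl_qf (h : Large Q z) {v : h.V} (hv : qf h v ≠ 0) (x : h.V) :
    refl (qf h) v hv x = x + h.b v x • v := by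
  rw [refl_apply, polar_qf, zmod_two_ne hv, inv_one, one_mul, sub_eq]

/-- `H` is generated by the Siegel elements (any `|V| > 16`). -/
theorem H_eq_E [Finite G] (hG : ∀ H : Subgroup G, H.index ≠ 2) (p : Pair Q z A a) (hO : O2 p.lz)
    (hD : Nat.card p.D = 2) (hV : 16 < Nat.card p.lz.V) : p.H = E (qf p.lz) := by
  apply eq_E (good_qf p.lz hV) (E_le_H p hO hD (by omega)) (H_le_O p)
  rintro v hv ⟨c, hc⟩
  have h8 : 8 < Nat.card Q := by rw [p.lz.card_eq]; omega
  refine LemmaR.no_reflection hG p.lz h8 (a := v) (zmod_two_ne hv) (c := c) fun x => ?_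
  rw [hc, refl_qf]

/-- `C / Q' ≅ H` when `Q'` corresponds to `Q`. -/
theorem quotient_equiv [Finite G] (h : Large Q z)
    (Q' : Subgroup (Subgroup.centralizer ({z} : Set G))) [Q'.Normal]
    (hQ' : Q'.map (Subgroup.centralizer ({z} : Set G)).subtype = Q) :
    Nonempty ((Subgroup.centralizer ({z} : Set G)) ⧸ Q' ≃* h.act.range) := by
  have hk : h.act.ker = Q' := by
    ext c
    rw [MonoidHom.mem_ker]
    constructor
    · intro h1
      have h2 := h.mem_of_act c h1
      rw [← hQ'] at h2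
      obtain ⟨d, hd, hdc⟩ := h2
      have : d = c := Subtype.ext hdc
      rwa [← this]
    · intro h1
      apply h.act_mem
      rw [← hQ']
      exact ⟨c, h1, rfl⟩
  exact ⟨(QuotientGroup.quotientMulEquivOfEq hk.symm).trans (QuotientGroup.quotientKerEquivRange _)⟩

/-- **II-d**: `|D̃| = 2`, `|V| = 64`, no totally singular 3-space: `C / Q' ≅ Ω₆⁻(2)`. -/
theorem exists_omega [Finite G] (hG : ∀ H : Subgroup G, H.index ≠ 2) (p : Pair Q z A a)
    (hO : O2 p.lz) (hD : Nat.card p.D = 2) (hV : Nat.card p.lz.V = 64)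
    (hm : ¬ ∃ T : Submodule (ZMod 2) p.lz.V, Nat.card T = 8 ∧ ∀ v ∈ T, p.lz.q v = 0)
    (Q' : Subgroup (Subgroup.centralizer ({z} : Set G))) [Q'.Normal]
    (hQ' : Q'.map (Subgroup.centralizer ({z} : Set G)).subtype = Q) :
    Nonempty ((Subgroup.centralizer ({z} : Set G)) ⧸ Q' ≃*
      Cfsg.Omega (ZMod 2) (Cfsg.quadFormMinus 2 (ZMod 2) 1 1)) := by
  obtain ⟨e1⟩ := quotient_equiv p.lz Q' hQ'
  have h1 : p.lz.act.range = E (qf p.lz) := H_eq_E hG p hO hD (by omega)
  have hgood := good_qf p.lz (by omega)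
  have h2 : p.lz.act.range = ⁅O (qf p.lz), O (qf p.lz)⁆ := by rw [hgood.commutator_eq_E]; exact h1
  obtain ⟨e, he⟩ := exists_isometry (nondeg_qf p.lz) hV hm
  obtain ⟨e2⟩ := nonempty_equiv (Q := qf p.lz)
    (Q' := Cfsg.Agent.LieClassical.OrthForms.minusForm 2 (ZMod 2) 1 1) e.symm (fun v => by
      rw [Cfsg.Agent.LieClassical.OrthForms.coe_minusForm, ← he, e.apply_symm_apply])
  have e3 := omegaEquiv (Cfsg.Agent.LieClassical.OrthForms.minusForm 2 (ZMod 2) 1 1)
  rw [Cfsg.Agent.LieClassical.OrthForms.coe_minusForm] at e3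
  exact ⟨((e1.trans (MulEquiv.subgroupCongr h2)).trans e2).trans e3.symm⟩

/-- the totally singular 3-space as a subgroup of `Q` -/
theorem exists_subgroup [Finite G] (h : Large Q z) {T : Submodule (ZMod 2) h.V}
    (hT : Nat.card T = 8) (hq : ∀ v ∈ T, h.q v = 0) :
    ∃ B : Subgroup G, B ≤ Q ∧ z ∈ B ∧ (∀ x ∈ B, x * x = 1) ∧ Nat.card B = 16 := by
  let B : Subgroup G :=
    { carrier := {x | ∃ hx : x ∈ Q, h.pr ⟨x, hx⟩ ∈ T}
      one_mem' := ⟨Q.one_mem, by rw [show h.pr ⟨1, _⟩ = 0 from h.pr_one]; exact T.zero_mem⟩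
      mul_mem' := by
        rintro x y ⟨hx, hx'⟩ ⟨hy, hy'⟩
        refine ⟨Q.mul_mem hx hy, ?_⟩
        have := T.add_mem hx' hy'
        rw [← h.pr_mul] at this
        exact this
      inv_mem' := by
        rintro x ⟨hx, hx'⟩
        refine ⟨Q.inv_mem hx, ?_⟩
        have := T.neg_mem hx'
        rw [← h.pr_inv] at this
        exact this }
  have hB : ∀ x, x ∈ B ↔ ∃ hx : x ∈ Q, h.pr ⟨x, hx⟩ ∈ T := fun _ => Iff.rfl
  have hBQ : B ≤ Q := fun x hx => hx.1
  have hz : z ∈ B := ⟨h.z_mem, by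
    rw [show h.pr ⟨z, h.z_mem⟩ = 0 from h.pr_eq_zero.2 (Or.inr rfl)]; exact T.zero_mem⟩
  refine ⟨B, hBQ, hz, ?_, ?_⟩
  · rintro x ⟨hx, hx'⟩
    exact h.q_eq_zero.1 (hq _ hx')
  · have h1 := Local.card_sub h hz
    have h2 : Local.sub h B = T := by
      ext v
      constructor
      · rintro ⟨x, ⟨hx, hx'⟩, rfl⟩
        exact hx'
      · intro hv
        obtain ⟨x, rfl⟩ := h.pr_surjective v
        exact ⟨x, ⟨x.2, hv⟩, rfl⟩
    rw [h2, hT, inf_eq_left.2 hBQ] at h1
    exact h1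

end Final

end Cfsg.Agent.LargeExtra.SixMinus
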