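import Cfsg.Agent.LargeExtra.WC8
import Cfsg.Agent.LargeExtra.WCEndPSU

/-!
# S1762, case I: `z` weakly closed in `Q`, `|Q| = 2 ^ 7` (helper888 and helper622)

The join of `WC.geom_of_large` (local analysis) and `WCEnd.psu5_of_geom` (endgame).
-/

set_option autoImplicit false

namespace Cfsg.Agent.LargeExtra.WCEnd

open Cfsg.Agent.Co2Type.Quad

/-- **Case I of S1762.** -/
theorem psu5_of_large {G : Type*} [Group G] [Finite G] [IsSimpleGroup G] (hG : ¬ IsMulCommutative G)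
    {Q₀ : Subgroup G} {z : G} (h : Large Q₀ z) (hcard : Nat.card Q₀ = 2 ^ 7)
    (hwc : ∀ g : G, g * z * g⁻¹ ∈ Q₀ → g * z * g⁻¹ = z) :
    ∃ (F : Type) (_ : Field F) (_ : Fintype F), Fintype.card F = 4 ∧ Nonempty (G ≃* Cfsg.PSU 5 F 2) :=
  psu5_of_geom hG (WC.geom_of_large h hcard hwc) (z := z) ⟨1, by group⟩
    (by rw [WC.Qfam_self h]; exact hcard)

end Cfsg.Agent.LargeExtra.WCEnd
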