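import Cfsg.Prelude.Def_Spor_Mathieu
import Cfsg.Prelude.Def_Spor_Suz
import Cfsg.Agent.LargeExtra.SixMinus
import Cfsg.Agent.LargeExtra.SixList
import Cfsg.Agent.Held.ExtFinal
import Cfsg.Agent.Held.HeldTri
import Cfsg.Agent.LargeExtra.KillPlus
import Cfsg.Agent.LargeExtra.PGLKill
import Cfsg.Agent.LargeExtra.SixInst
import Cfsg.Agent.LargeExtra.WCCaseOne
import Cfsg.Agent.SylowL5.Coords

/-!
# Assembly of S1762 (helper915)
-/

set_option autoImplicit false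

namespace Cfsg.Agent.LargeExtra.AsmSeven

open Cfsg.Agent.Co2Type.Quad Cfsg.Agent.LargeExtra.Base Cfsg.Agent.LargeExtra.SiegelOrbit
open Cfsg.Agent.LargeExtra.SwapBasic

variable {G : Type*} [Group G] [Finite G] {Q A : Subgroup G} {z a : G}

theorem index_ne_two [IsSimpleGroup G] (hG : ¬ IsMulCommutative G) (H : Subgroup G) :
    H.index ≠ 2 := by
  intro h2
  have hn : H.Normal := Subgroup.normal_of_index_eq_two h2
  rcases hn.eq_bot_or_eq_top with h | h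
  · rw [h, Subgroup.index_bot] at h2
    have : Fact (Nat.Prime 2) := ⟨Nat.prime_two⟩
    have hc : IsCyclic G := isCyclic_of_prime_card h2
    exact hG hc.commutative
  · rw [h, Subgroup.index_top] at h2
    exact absurd h2 (by norm_num)

/-- the three possibilities of the list -/
def Three (p : Pair Q z A a) : Prop :=
  Nat.card p.D = 2 ∨ Nonempty (p.H ≃* Matrix.SpecialLinearGroup (Fin 3) (ZMod 2)) ∨
  (∃ U W : Submodule (ZMod 2) p.lz.V, Nat.card U = 8 ∧ Nat.card W = 8 ∧ (∀ v ∈ U, p.lz.q v = 0) ∧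
    (∀ v ∈ W, p.lz.q v = 0) ∧ U ⊓ W = ⊥ ∧
    (∀ f ∈ p.H, ((∀ v ∈ U, f v ∈ U) ∧ (∀ v ∈ W, f v ∈ W)) ∨
      ((∀ v ∈ U, f v ∈ W) ∧ (∀ v ∈ W, f v ∈ U))) ∧
    (∃ f ∈ p.H, (∀ v ∈ U, f v ∈ W) ∧ (∀ v ∈ W, f v ∈ U)) ∧
    (∀ φ : U ≃ₗ[ZMod 2] U, ∃ f ∈ p.H, ∀ u : U, f u = φ u))

/-- helper416's list -/
theorem three (hG : ∀ H : Subgroup G, H.index ≠ 2) (p : Pair Q z A a) (hO : O2 p.lz)
    (hQ : Nat.card Q = 2 ^ 7) : Three p := by
  have hV : Nat.card p.lz.V = 64 := by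
    have h1 := p.lz.card_eq
    rw [hQ] at h1
    omega
  have key := Six.six_list (SixInst.sixFam p hV) (fun N hN hn h2 => by
      rw [eq_bot_iff]
      intro g hg
      rw [Subgroup.mem_bot]
      refine SixInst.o2_H p hO N hN hn (fun k hk => ?_) g hg
      obtain ⟨m, hm⟩ := h2 ⟨k, hk⟩
      exact ⟨m, congrArg Subtype.val hm⟩)
    (fun v hv => SixInst.no_fixed hG p (by rw [hQ]; norm_num) hv) (SixInst.va_mem_orb p)
  rw [SixInst.fam_va p (SixInst.inv_D p)] at key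
  exact key

/-- Case II. -/
theorem caseTwo (hG : ∀ H : Subgroup G, H.index ≠ 2) (p : Pair Q z A a) (hO : O2 p.lz)
    (hQ : Nat.card Q = 2 ^ 7) (h3 : Three p)
    (Q' : Subgroup (Subgroup.centralizer ({z} : Set G))) [Q'.Normal]
    (hQ' : Q'.map (Subgroup.centralizer ({z} : Set G)).subtype = Q) :
    Nonempty ((Subgroup.centralizer ({z} : Set G)) ⧸ Q' ≃*
      Cfsg.Omega (ZMod 2) (Cfsg.quadFormMinus 2 (ZMod 2) 1 1)) ∨
    Nonempty ((Subgroup.centralizer ({z} : Set G)) ⧸ Q' ≃*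
      Matrix.SpecialLinearGroup (Fin 3) (ZMod 2)) := by
  classical
  have hV : Nat.card p.lz.V = 64 := by
    have h1 := p.lz.card_eq
    rw [hQ] at h1
    omega
  rcases h3 with hD | ⟨⟨e⟩⟩ | ⟨U, W, hU, hW, hqU, hqW, hdisj, hKF, ⟨f, ⟨c, rfl⟩, hswap⟩, hgl⟩
  · -- `|D̃| = 2`
    left
    apply SixMinus.exists_omega hG p hO hD hV _ Q' hQ'
    rintro ⟨T, hT, hqT⟩
    obtain ⟨B, hBQ, hzB, hsq, hB⟩ := SixMinus.exists_subgroup p.lz hT hqT
    refine KillPlus.false_of_trans (B := B) p hQ hD ?_ hBQ hzB hsq hB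
    intro x hx hxx hx1 hxz
    exact exists_conj_G p hO hD (by omega) hx hxx hx1 hxz
  · right
    obtain ⟨e1⟩ := SixMinus.quotient_equiv p.lz Q' hQ'
    exact ⟨e1.trans e⟩
  · exfalso
    refine PGLKill.kill hG (h := p.lz) (U := U) (W := W)
      ⟨⟨by rw [hQ]; norm_num, hU, hW, hqU, hqW, ?_⟩, fun c => hKF _ ⟨c, rfl⟩, ⟨c, hswap⟩, ?_⟩
    · intro v hv hv'
      have : v ∈ U ⊓ W := ⟨hv, hv'⟩
      rw [hdisj] at this
      exact this
    · intro φ
      obtain ⟨_, ⟨c, rfl⟩, hf⟩ := hgl φ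
      exact ⟨c, hf⟩

/-- **The reduction of S1762.** -/
theorem reduce [IsSimpleGroup G] (hG : ¬ IsMulCommutative G) (z : G) (hz : orderOf z = 2)
    (hE : Cfsg.IsExtraspecial 2
      ↥(Cfsg.generalizedFittingSubgroup ↥(Subgroup.centralizer ({z} : Set G))))
    (hcard : Nat.card
      ↥(Cfsg.generalizedFittingSubgroup ↥(Subgroup.centralizer ({z} : Set G))) = 2 ^ 7) :
    (∃ (F : Type) (_ : Field F) (_ : Fintype F), Fintype.card F = 4 ∧
      Nonempty (G ≃* Cfsg.PSU 5 F 2)) ∨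
    ((∃ g : G, (∃ hq : g * z * g⁻¹ ∈ Subgroup.centralizer ({z} : Set G),
        (⟨g * z * g⁻¹, hq⟩ : Subgroup.centralizer ({z} : Set G)) ∈
          Cfsg.generalizedFittingSubgroup ↥(Subgroup.centralizer ({z} : Set G))) ∧
        g * z * g⁻¹ ≠ z) ∧
      ∀ (Q' : Subgroup (Subgroup.centralizer ({z} : Set G))) [Q'.Normal],
        Cfsg.generalizedFittingSubgroup ↥(Subgroup.centralizer ({z} : Set G)) = Q' →
        (Nonempty ((Subgroup.centralizer ({z} : Set G)) ⧸ Q' ≃*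
          Cfsg.Omega (ZMod 2) (Cfsg.quadFormMinus 2 (ZMod 2) 1 1)) ∨
        Nonempty ((Subgroup.centralizer ({z} : Set G)) ⧸ Q' ≃*
          Matrix.SpecialLinearGroup (Fin 3) (ZMod 2)))) := by
  classical
  have h := large_of_genFitting z hz hE
  set Q := (Cfsg.generalizedFittingSubgroup ↥(Subgroup.centralizer ({z} : Set G))).map
      (Subgroup.centralizer ({z} : Set G)).subtype with hQdef
  have hQ : Nat.card Q = 2 ^ 7 := by
    rw [← hcard]
    exact Subgroup.card_map_of_injective (Subgroup.subtype_injective _)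
  by_cases hwc : ∀ g : G, g * z * g⁻¹ ∈ Q → g * z * g⁻¹ = z
  · left
    exact WCEnd.psu5_of_large hG h hQ hwc
  · right
    push Not at hwc
    obtain ⟨g, hg, hgz⟩ := hwc
    constructor
    · obtain ⟨x, hx, hxg⟩ := hg
      have hxg' : (x : G) = g * z * g⁻¹ := hxg
      refine ⟨g, ⟨by rw [← hxg']; exact x.2, ?_⟩, hgz⟩
      have : (⟨g * z * g⁻¹, by rw [← hxg']; exact x.2⟩ : Subgroup.centralizer ({z} : Set G)) = x :=
        Subtype.ext hxg'.symm
      rw [this]; exact hx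
    · intro Q' hn hQ'
      have p := pair_of_conj h hg hgz
      have hO : O2 p.lz := o2_of_genFitting p.lz hQdef
      exact caseTwo (index_ne_two hG) p hO hQ (three (index_ne_two hG) p hO hQ) Q' (by rw [← hQ'])

theorem psl_of_sl (h : Nonempty (G ≃* Matrix.SpecialLinearGroup (Fin 5) (ZMod 2))) :
    ∃ (F : Type) (_ : Field F) (_ : Fintype F), Fintype.card F = 2 ∧
      Nonempty (G ≃* Matrix.ProjectiveSpecialLinearGroup (Fin 5) F) := by
  obtain ⟨e⟩ := h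
  exact ⟨ZMod 2, inferInstance, inferInstance, rfl, ⟨e.trans Cfsg.Agent.SylowL5.Coords.pslTwo.symm⟩⟩

/-- **S1762 modulo S1716 and S1719** (for `G`). -/
theorem final_of [IsSimpleGroup G] (hG : ¬ IsMulCommutative G) (z : G) (hz : orderOf z = 2)
    (hE : Cfsg.IsExtraspecial 2
      ↥(Cfsg.generalizedFittingSubgroup ↥(Subgroup.centralizer ({z} : Set G))))
    (hcard : Nat.card
      ↥(Cfsg.generalizedFittingSubgroup ↥(Subgroup.centralizer ({z} : Set G))) = 2 ^ 7)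
    (h1716 : ∀ (s : Matrix.SpecialLinearGroup (Fin 5) (ZMod 2))
      (_ : (s : Matrix (Fin 5) (Fin 5) (ZMod 2)) = Matrix.transvection 0 1 1)
      (_ : (Subgroup.centralizer ({z} : Set G)) ≃*
        Subgroup.centralizer ({s} : Set (Matrix.SpecialLinearGroup (Fin 5) (ZMod 2))))
      (_ : ∃ g : G, (∃ hq : g * z * g⁻¹ ∈ Subgroup.centralizer ({z} : Set G),
        (⟨g * z * g⁻¹, hq⟩ : Subgroup.centralizer ({z} : Set G)) ∈
          Cfsg.pCore 2 (Subgroup.centralizer ({z} : Set G))) ∧ g * z * g⁻¹ ≠ z),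
      Held.HeldTri.Tetra G)
    (h1719 : ∀ (Q : Subgroup (Subgroup.centralizer ({z} : Set G))) [Q.Normal]
      (_ : Cfsg.generalizedFittingSubgroup (Subgroup.centralizer ({z} : Set G)) = Q)
      (_ : Cfsg.IsExtraspecial 2 Q) (_ : Nat.card Q = 2 ^ 7)
      (_ : (Subgroup.centralizer ({z} : Set G)) ⧸ Q ≃*
        Cfsg.Omega (ZMod 2) (Cfsg.quadFormMinus 2 (ZMod 2) 1 1))
      (_ : ∃ g : G, (∃ hq : g * z * g⁻¹ ∈ Subgroup.centralizer ({z} : Set G),
        (⟨g * z * g⁻¹, hq⟩ : Subgroup.centralizer ({z} : Set G)) ∈ Q) ∧ g * z * g⁻¹ ≠ z),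
      Cfsg.Spor.IsoSuz G) :
    (∃ (F : Type) (_ : Field F) (_ : Fintype F), Fintype.card F = 2 ∧
      Nonempty (G ≃* Matrix.ProjectiveSpecialLinearGroup (Fin 5) F)) ∨
    (∃ (F : Type) (_ : Field F) (_ : Fintype F), Fintype.card F = 4 ∧
      Nonempty (G ≃* Cfsg.PSU 5 F 2)) ∨
      Cfsg.Spor.IsoM24 G ∨ Cfsg.Spor.IsoHe G ∨ Cfsg.Spor.IsoSuz G := by
  classical
  have hn := Cfsg.Agent.S1755.gfs_normal (Subgroup.centralizer ({z} : Set G))
  have hcc := Cfsg.Agent.S1313.centralizer_le (Subgroup.centralizer ({z} : Set G))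
  rcases reduce hG z hz hE hcard with h | ⟨hnwc, h⟩
  · right; left; exact h
  · obtain ⟨Q', hQ'⟩ : ∃ Q', Cfsg.generalizedFittingSubgroup
      ↥(Subgroup.centralizer ({z} : Set G)) = Q' := ⟨_, rfl⟩
    rw [hQ'] at hn hcc hE hcard hnwc
    have : Q'.Normal := hn
    rcases h Q' hQ' with ⟨⟨e⟩⟩ | ⟨⟨e⟩⟩
    · right; right; right; right
      exact h1719 Q' hQ' hE hcard e hnwc
    · obtain ⟨s, hs⟩ : ∃ s : Matrix.SpecialLinearGroup (Fin 5) (ZMod 2),
          (s : Matrix (Fin 5) (Fin 5) (ZMod 2)) = Matrix.transvection 0 1 1 :=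
        ⟨⟨Matrix.transvection 0 1 1, Matrix.det_transvection_of_ne _ _ (by decide) _⟩, rfl⟩
      have hna : ∃ a b : G, a * b ≠ b * a := by
        by_contra hcon
        push Not at hcon
        exact hG ⟨⟨hcon⟩⟩
      obtain ⟨e'⟩ := Held.ExtFinal.equiv_of_simple hna z hz Q' hE hcard hcc e s hs
      have hQp : Q' ≤ Cfsg.pCore 2 (Subgroup.centralizer ({z} : Set G)) := by
        have h2 : IsPGroup 2 Q' := IsPGroup.of_card hcard
        exact le_sSup ⟨hn, h2⟩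
      obtain ⟨g, ⟨hq, hg⟩, hgz⟩ := hnwc
      rcases Held.HeldTri.tetra_simple (h1716 s hs e' ⟨g, ⟨hq, hQp hg⟩, hgz⟩) with h1 | h1 | h1
      · left; exact psl_of_sl h1
      · right; right; left; exact h1
      · right; right; right; left; exact h1

end Cfsg.Agent.LargeExtra.AsmSeven
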