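import Cfsg.Agent.LargeExtra.Perp

/-!
# Pairs with `Q ∩ Q_a = ⟨z, a⟩` (helper915)

For `p : Pair Q z A a` with `D̃ = {0, ã}` the group `X` consists of all Siegel elements with centre `ã`:
`X_form`, `X_surj`.  `commute_of_perp`: if all involutions of `Q` give such pairs, then `x ∈ X` of
"singular type" commutes with the elements of `C_Q(a)` it should commute with modulo `z`.
-/

set_option autoImplicit false

namespace Cfsg.Agent.LargeExtra.KillSiegel

open Cfsg.Agent.Co2Type.Quad Cfsg.Agent.LargeExtra.Base Cfsg.Agent.LargeExtra.Local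

variable {G : Type*} [Group G]

theorem zmod2 (c : ZMod 2) : c = 0 ∨ c = 1 := by revert c; decide

section isom

variable {Q : Subgroup G} {z : G}

theorem isom_b (h : Large Q z) {f : h.V ≃ₗ[ZMod 2] h.V} (hf : ∀ v, h.q (f v) = h.q v) (v w : h.V) :
    h.b (f v) (f w) = h.b v w := by
  have h1 := h.q_add' v w
  have h2 := h.q_add' (f v) (f w)
  rw [← map_add, hf, hf, hf, h1] at h2
  exact (add_left_cancel h2).symm

theorem perp_span [Finite Q] (h : Large Q z) {e s : h.V} (hs : ∀ w, h.b e w = 0 → h.b s w = 0) :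
    s = 0 ∨ s = e := by
  have h1 : s ∈ Submodule.span (ZMod 2) ({e} : Set h.V) := by
    apply Perp.mem_of_perp h
    intro w hw
    rw [h.b_comm]
    exact hs w (hw e (Submodule.mem_span_singleton_self e))
  obtain ⟨c, hc⟩ := Submodule.mem_span_singleton.1 h1
  rcases zmod2 c with h2 | h2
  · left; rw [← hc, h2, zero_smul]
  · right; rw [← hc, h2, one_smul]

theorem eq_self_of_perp [Finite Q] (h : Large Q z) {f : h.V ≃ₗ[ZMod 2] h.V}
    (hf : ∀ v, h.q (f v) = h.q v) {e : h.V} (he : h.q e = 0)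
    (hfe : ∀ v, h.b e v = 0 → f v = v) : f = 1 := by
  ext v
  show f v = v
  have h1 : f v + v = 0 ∨ f v + v = e := by
    apply perp_span h
    intro w hw
    rw [map_add, LinearMap.add_apply]
    have h2 := isom_b h hf v w
    rw [hfe w hw] at h2
    rw [h2, CharTwo.add_self_eq_zero]
  rcases h1 with h1 | h1
  · have : f v + v + v = 0 + v := by rw [h1]
    rwa [add_assoc, h.add_self, add_zero, zero_add] at this
  · have h2 : f v = v + e := by
      have : f v + v + v = e + v := by rw [h1]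
      rwa [add_assoc, h.add_self, add_zero, add_comm e] at this
    have h3 := hf v
    rw [h2, h.q_add', he, add_zero] at h3
    have h4 : h.b v e = 0 := by
      have : h.q v + h.b v e = h.q v + 0 := by rw [h3, add_zero]
      exact add_left_cancel this
    exact hfe v (by rw [h.b_comm]; exact h4)

theorem eq_of_perp [Finite Q] (h : Large Q z) {f g : h.V ≃ₗ[ZMod 2] h.V}
    (hf : ∀ v, h.q (f v) = h.q v) (hg : ∀ v, h.q (g v) = h.q v) {e : h.V} (he : h.q e = 0)
    (hfe : ∀ v, h.b e v = 0 → f v = g v) : f = g := by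
  have h1 : g⁻¹ * f = 1 := by
    apply eq_self_of_perp h (e := e) _ he
    · intro v hv
      show g⁻¹ (f v) = v
      rw [hfe v hv]
      exact g.symm_apply_apply v
    · intro v
      show h.q (g⁻¹ (f v)) = h.q v
      have : h.q (g (g⁻¹ (f v))) = h.q (g⁻¹ (f v)) := hg _
      rw [← this, show g (g⁻¹ (f v)) = f v from g.apply_symm_apply _, hf]
  rwa [inv_mul_eq_one, eq_comm] at h1

end isom

variable {Q A : Subgroup G} {z a : G}

theorem X_q (p : Pair Q z A a) {f : p.lz.V ≃ₗ[ZMod 2] p.lz.V} (hf : f ∈ p.X) (v : p.lz.V) :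
    p.lz.q (f v) = p.lz.q v := by
  obtain ⟨c, hc, rfl⟩ := p.mem_X.1 hf
  exact p.lz.q_act c v

theorem H_q (p : Pair Q z A a) {f : p.lz.V ≃ₗ[ZMod 2] p.lz.V} (hf : f ∈ p.H) (v : p.lz.V) :
    p.lz.q (f v) = p.lz.q v := by
  obtain ⟨c, rfl⟩ := hf
  exact p.lz.q_act c v

/-- the elements of `X` are Siegel elements with centre `ã` -/
theorem X_form [Finite G] (p : Pair Q z A a) (hD : ∀ v ∈ p.D, v = 0 ∨ v = p.va)
    {f : p.lz.V ≃ₗ[ZMod 2] p.lz.V} (hf : f ∈ p.X) :
    ∃ w, p.lz.b p.va w = 0 ∧ ∀ v, p.lz.b p.va v = 0 → f v = v + p.lz.b w v • p.va := by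
  obtain ⟨u, hu⟩ : ∃ u, p.lz.b u p.va = 1 := by
    by_contra hcon
    push Not at hcon
    apply p.va_ne
    apply p.lz.b_nondeg
    intro w
    rw [p.lz.b_comm]
    rcases zmod2 (p.lz.b w p.va) with h1 | h1
    · exact h1
    · exact absurd h1 (hcon w)
  obtain ⟨w, hw⟩ := p.lz.exists_b_eq ((p.lz.b u).comp (f.toLinearMap + LinearMap.id))
  have hw' : ∀ v, p.lz.b w v = p.lz.b u (f v + v) := fun v => hw v
  refine ⟨w, ?_, ?_⟩
  · rw [p.lz.b_comm, hw', p.X_va hf, p.lz.add_self, map_zero]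
  · intro v hv
    rcases hD _ (p.X_perp hf hv) with h1 | h1
    · rw [hw', h1, map_zero, zero_smul, add_zero]
      have : f v + v + v = 0 + v := by rw [h1]
      rwa [add_assoc, p.lz.add_self, add_zero, zero_add] at this
    · rw [hw', h1, hu, one_smul]
      have : f v + v + v = p.va + v := by rw [h1]
      rwa [add_assoc, p.lz.add_self, add_zero, add_comm p.va] at this

theorem card_D (p : Pair Q z A a) (hD : ∀ v ∈ p.D, v = 0 ∨ v = p.va) : Nat.card p.D = 2 := by
  rw [Nat.card_eq_two_iff]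
  refine ⟨0, ⟨p.va, p.va_mem_D⟩, ?_, ?_⟩
  · intro h
    exact p.va_ne (congrArg Subtype.val h).symm
  · ext x
    simp only [Set.mem_insert_iff, Set.mem_singleton_iff, Set.mem_univ, iff_true]
    rcases hD _ x.2 with h | h
    · left; exact Subtype.ext h
    · right; exact Subtype.ext h

theorem card_span_va (p : Pair Q z A a) :
    Nat.card (Submodule.span (ZMod 2) ({p.va} : Set p.lz.V)) = 2 := by
  rw [Nat.card_eq_two_iff]
  refine ⟨0, ⟨p.va, Submodule.mem_span_singleton_self _⟩, ?_, ?_⟩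
  · intro h
    exact p.va_ne (congrArg Subtype.val h).symm
  · ext x
    simp only [Set.mem_insert_iff, Set.mem_singleton_iff, Set.mem_univ, iff_true]
    obtain ⟨c, hc⟩ := Submodule.mem_span_singleton.1 x.2
    rcases zmod2 c with h | h
    · left; apply Subtype.ext; rw [← hc, h, zero_smul]; rfl
    · right; apply Subtype.ext; rw [← hc, h, one_smul]

theorem mem_perp_va (p : Pair Q z A a) {v : p.lz.V} :
    v ∈ p.lz.b.orthogonal (Submodule.span (ZMod 2) ({p.va} : Set p.lz.V)) ↔ p.lz.b p.va v = 0 := by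
  rw [Perp.mem_perp]
  constructor
  · intro h; exact h _ (Submodule.mem_span_singleton_self _)
  · intro h w hw
    obtain ⟨c, rfl⟩ := Submodule.mem_span_singleton.1 hw
    rw [map_smul, LinearMap.smul_apply, h, smul_zero]

theorem eq_of_b_eq [Finite G] (p : Pair Q z A a) {w w' : p.lz.V}
    (h : ∀ v, p.lz.b p.va v = 0 → p.lz.b w v = p.lz.b w' v) : w + w' = 0 ∨ w + w' = p.va := by
  apply perp_span
  intro v hv
  rw [map_add, LinearMap.add_apply, h v hv, CharTwo.add_self_eq_zero]

/-- every Siegel element with centre `ã` occurs -/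
theorem X_surj [Finite G] (p : Pair Q z A a) (hD : ∀ v ∈ p.D, v = 0 ∨ v = p.va) {w : p.lz.V}
    (hw : p.lz.b p.va w = 0) :
    ∃ f ∈ p.X, ∀ v, p.lz.b p.va v = 0 → f v = v + p.lz.b w v • p.va := by
  classical
  have hform : ∀ f : p.X, ∃ w, p.lz.b p.va w = 0 ∧
      ∀ v, p.lz.b p.va v = 0 → (f : p.lz.V ≃ₗ[ZMod 2] p.lz.V) v = v + p.lz.b w v • p.va :=
    fun f => X_form p hD f.2
  choose W hW1 hW2 using hform
  set K := p.lz.b.orthogonal (Submodule.span (ZMod 2) ({p.va} : Set p.lz.V)) with hK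
  have hva : p.va ∈ K := (mem_perp_va p).2 (p.lz.b_self _)
  let Φ : p.X × ZMod 2 → K := fun x =>
    ⟨W x.1 + x.2 • p.va, K.add_mem ((mem_perp_va p).2 (hW1 x.1)) (K.smul_mem _ hva)⟩
  have hcv : ∀ (f : p.X) (c : ZMod 2) (v : p.lz.V), p.lz.b p.va v = 0 →
      p.lz.b (W f + c • p.va) v = p.lz.b (W f) v := by
    intro f c v hv
    rw [map_add, LinearMap.add_apply, map_smul, LinearMap.smul_apply, hv, smul_zero, add_zero]
  have hinj : Function.Injective Φ := by
    rintro ⟨f, c⟩ ⟨f', c'⟩ hff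
    have h1 : W f + c • p.va = W f' + c' • p.va := congrArg Subtype.val hff
    have h2 : f = f' := by
      apply Subtype.ext
      apply eq_of_perp p.lz (X_q p f.2) (X_q p f'.2) (p.q_D p.va_mem_D)
      intro v hv
      rw [hW2 f v hv, hW2 f' v hv, ← hcv f c v hv, ← hcv f' c' v hv, h1]
    subst h2
    have h3 : c • p.va = c' • p.va := add_left_cancel h1
    rw [Prod.mk.injEq]
    refine ⟨rfl, ?_⟩
    rcases zmod2 c with h4 | h4 <;> rcases zmod2 c' with h5 | h5 <;> rw [h4, h5] at h3 ⊢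
    · rw [zero_smul, one_smul] at h3; exact absurd h3.symm p.va_ne
    · rw [zero_smul, one_smul] at h3; exact absurd h3 p.va_ne
  have hcard : Nat.card (p.X × ZMod 2) = Nat.card K := by
    have h1 := p.card_X
    have h2 := Perp.card_perp p.lz (Submodule.span (ZMod 2) ({p.va} : Set p.lz.V))
    rw [card_D p hD] at h1
    rw [card_span_va p] at h2
    rw [Nat.card_prod, Nat.card_zmod]
    rw [← h2] at h1
    have : 2 * (Nat.card p.X * 2) = 2 * Nat.card K := by rw [← h1]; ring
    exact Nat.eq_of_mul_eq_mul_left (by norm_num) this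
  have hfinX : Finite p.X := by
    have : Finite (p.lz.V ≃ₗ[ZMod 2] p.lz.V) := by
      have : Finite (p.lz.V → p.lz.V) := inferInstance
      exact Finite.of_injective (fun f => (f : p.lz.V → p.lz.V)) DFunLike.coe_injective
    infer_instance
  have hbij : Function.Bijective Φ := by
    rw [Nat.bijective_iff_injective_and_card]
    exact ⟨hinj, hcard⟩
  obtain ⟨⟨f, c⟩, hfc⟩ := hbij.2 ⟨w, (mem_perp_va p).2 hw⟩
  have h1 : W f + c • p.va = w := congrArg Subtype.val hfc
  refine ⟨f, f.2, fun v hv => ?_⟩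
  rw [hW2 f v hv, ← hcv f c v hv, h1]

end Cfsg.Agent.LargeExtra.KillSiegel
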