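import Cfsg.Agent.SporadicRecognition.CosetCertHyp

/-!
Supplement to the certified coset enumerations of `Cfsg.Agent.SporadicRecognition.CosetCert`: words which fix all
cosets of the certificate lie in all conjugates of the subgroup.
-/

set_option autoImplicit false
set_option linter.unusedSectionVars false

namespace Cfsg.Agent.LargeExtra.CertLoop

open Cfsg.Agent.SporadicRecognition.CosetCert

variable (C : Cert) {G : Type*} [Group G] (H : Subgroup G) (g : Nat → G)

/-- every live node is fixed by the word `w` -/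
noncomputable def loopOK (τ : Nat) (w : List Nat) : Bool :=
  Nat.blt τ C.mask && (w.all fun x => Nat.ble x C.k) &&
  (List.range C.N).all fun i => !(Nat.beq (look C i C.k) C.mask) || Nat.beq (walkS C τ w i) (i + 1)

theorem closure_covered_live (hyp : Hyp C H g) {n : Nat} (hP : Part C 0 C.N n) :
    (∀ i x, i < C.N → x ≤ C.k → look C i x ≠ C.mask → Good C H g (trans C g) i x) ∧
    ∀ a ∈ Subgroup.closure (g '' {x | x < C.k}), ∃ l, l < C.N ∧ look C l C.k = C.mask ∧
      Rel H a (trans C g l) := by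
  obtain ⟨S, hS, hP⟩ := hP
  have ht := trans_isTrans C g
  have hall : ∀ i x, i < C.N → x ≤ C.k → look C i x = C.mask ∨ ∃ q, main C i x q = true := by
    intro i x hi hx
    rcases hP i (Nat.zero_le _) hi with ⟨h, _⟩ | h
    · rcases hx.lt_or_eq with h1 | h1
      · exact Or.inr (h.2 x h1)
      · subst h1; exact Or.inl h.1
    · rcases hx.lt_or_eq with h1 | h1
      · exact h.2.2 x h1
      · subst h1; exact Or.inr h.2.1
  have hgood := good_of_checks C H g (trans C g) hyp ht hall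
  refine ⟨fun i x hi hx hne => ?_, ?_⟩
  · rcases hall i x hi hx with h | h
    · exact absurd h hne
    · exact hgood i x hi hx h
  have hlive : ∀ i, i < C.N → ∃ l, l < C.N ∧ LiveOK C l ∧ Rel H (trans C g i) (trans C g l) := by
    intro i
    induction i using Nat.strong_induction_on with
    | _ i ih =>
      intro hi
      rcases hP i (Nat.zero_le _) hi with ⟨h, _⟩ | h
      · exact ⟨i, hi, h, Rel.refl _⟩
      · obtain ⟨h1, ⟨q, hq⟩, h3⟩ := h
        have hg := hgood i C.k hi le_rfl ⟨q, hq⟩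
        have hq' := hq
        unfold main at hq'
        obtain ⟨j, hj, _⟩ := rec_false_eq hq'
        obtain ⟨h4, h5⟩ := hg j hj
        rw [hyp.hk, mul_one] at h5
        obtain ⟨l, hlN, hl2, hl3⟩ := ih j (by omega) h4
        exact ⟨l, hlN, hl2, h5.trans hl3⟩
  have hmul : ∀ l, l < C.N → LiveOK C l → ∀ x, x < C.k → ∃ l', l' < C.N ∧ LiveOK C l' ∧
      Rel H (trans C g l * g x) (trans C g l') := by
    intro l hl hl2 x hx
    obtain ⟨q, hq⟩ := hl2.2 x hx
    have hg := hgood l x hl hx.le ⟨q, hq⟩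
    have hq' := hq
    unfold main at hq'
    obtain ⟨j, hj, _⟩ := rec_false_eq hq'
    obtain ⟨h4, h5⟩ := hg j hj
    obtain ⟨l', h7, h8, h9⟩ := hlive j h4
    exact ⟨l', h7, h8, h5.trans h9⟩
  intro a ha
  have hmain : ∃ l, l < C.N ∧ LiveOK C l ∧ Rel H a (trans C g l) := by
    refine Subgroup.closure_induction_right (p := fun a _ => ∃ l, l < C.N ∧ LiveOK C l ∧ Rel H a (trans C g l))
      ?_ ?_ ?_ ha
    · obtain ⟨l, h2, h3, h4⟩ := hlive 0 hyp.hN
      rw [ht.1] at h4
      exact ⟨l, h2, h3, h4⟩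
    · rintro a _ b ⟨x, hx, rfl⟩ ⟨l, h2, h3, h4⟩
      obtain ⟨l', h6, h7, h8⟩ := hmul l h2 h3 x hx
      exact ⟨l', h6, h7, (h4.mul _).trans h8⟩
    · rintro a _ b ⟨x, hx, rfl⟩ ⟨l, h2, h3, h4⟩
      obtain ⟨hx1, hx2⟩ := hyp.hinv x hx
      have : (g x)⁻¹ = g (C.inv x) := (eq_inv_of_mul_eq_one_right hx2).symm
      rw [this]
      obtain ⟨l', h6, h7, h8⟩ := hmul l h2 h3 _ hx1
      exact ⟨l', h6, h7, (h4.mul _).trans h8⟩
  obtain ⟨l, h1, h2, h4⟩ := hmain
  exact ⟨l, h1, h2.1, h4⟩

/-- a word fixing all cosets lies in all conjugates of `H` -/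
theorem mem_of_loopOK (hyp : Hyp C H g) {n : Nat} (hP : Part C 0 C.N n) {τ : Nat} {w : List Nat}
    (hw : loopOK C τ w = true) (a : G) (ha : a ∈ Subgroup.closure (g '' {x | x < C.k})) :
    a * ev g w * a⁻¹ ∈ H := by
  obtain ⟨hgood, hcov⟩ := closure_covered_live C H g hyp hP
  obtain ⟨l, hl, hl2, hl3⟩ := hcov a ha
  unfold loopOK at hw
  rw [Bool.and_eq_true, Bool.and_eq_true] at hw
  obtain ⟨⟨h1, h2⟩, h3⟩ := hw
  have h1 : τ < C.mask := Nat.le_of_ble_eq_true h1
  have h4 := List.all_eq_true.mp h3 l (List.mem_range.mpr hl)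
  rw [Bool.or_eq_true, hl2] at h4
  have h5 : walkS C τ w l = l + 1 := by
    rcases h4 with h4 | h4
    · simp at h4
    · exact Nat.eq_of_beq_eq_true h4
  obtain ⟨_, h6⟩ := walkS_sound C H g (trans C g) hyp.hk τ
    (fun i x hi hx hle => hgood i x hi hx (by omega)) w
    (fun x hx => Nat.le_of_ble_eq_true (List.all_eq_true.mp h2 x hx)) l l hl h5
  have h7 : Rel H (a * ev g w) a := ((hl3.mul _).trans h6).trans hl3.symm
  exact h7

/-- if there is only one coset then the generators lie in `H` -/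
theorem mem_of_one (hyp : Hyp C H g) (hP : Part C 0 C.N 1) (a : G)
    (ha : a ∈ Subgroup.closure (g '' {x | x < C.k})) : a ∈ H := by
  obtain ⟨S, hS, hcov⟩ := closure_covered C H g (trans C g) hyp (trans_isTrans C g) hP
  obtain ⟨l, hl, h1⟩ := hcov a ha
  obtain ⟨l', hl', h2⟩ := hcov 1 (Subgroup.one_mem _)
  have h3 : l = l' := Finset.card_le_one.mp hS l hl l' hl'
  subst h3
  have h4 := h1.trans h2.symm
  have h5 : a * (1 : G)⁻¹ ∈ H := h4
  simpa using h5

end Cfsg.Agent.LargeExtra.CertLoop
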