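import Mathlib

/-!
Subgroups generated by four commuting involutions, in coordinates.
-/

set_option autoImplicit false
set_option linter.unusedSectionVars false

namespace Cfsg.Agent.LargeExtra.ElemSixteen

variable {M : Type*} [Group M]

/-- `e` or `1` -/
def bp (e : M) (i : Bool) : M := bif i then e else 1

theorem bp_mul {e : M} (he : e * e = 1) (i j : Bool) : bp e i * bp e j = bp e (xor i j) := by
  cases i <;> cases j <;> simp [bp, he]

theorem bp_comm {e f : M} (h : e * f = f * e) (i j : Bool) : bp e i * bp f j = bp f j * bp e i := by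
  cases i <;> cases j <;> simp [bp, h]

/-- four commuting involutions -/
structure Four (e0 e1 e2 e3 : M) : Prop where
  s0 : e0 * e0 = 1
  s1 : e1 * e1 = 1
  s2 : e2 * e2 = 1
  s3 : e3 * e3 = 1
  c10 : e1 * e0 = e0 * e1
  c20 : e2 * e0 = e0 * e2
  c30 : e3 * e0 = e0 * e3
  c21 : e2 * e1 = e1 * e2
  c31 : e3 * e1 = e1 * e3
  c32 : e3 * e2 = e2 * e3

def E (e0 e1 e2 e3 : M) (n : ℕ) : M :=
  bp e0 (n.testBit 0) * bp e1 (n.testBit 1) * bp e2 (n.testBit 2) * bp e3 (n.testBit 3)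

variable {e0 e1 e2 e3 : M}

theorem Four.E_mul (h : Four e0 e1 e2 e3) (m n : ℕ) :
    E e0 e1 e2 e3 m * E e0 e1 e2 e3 n = E e0 e1 e2 e3 (m ^^^ n) := by
  unfold E
  rw [Nat.testBit_xor, Nat.testBit_xor, Nat.testBit_xor, Nat.testBit_xor,
    ← bp_mul h.s0, ← bp_mul h.s1, ← bp_mul h.s2, ← bp_mul h.s3]
  have k10 := bp_comm h.c10 (m.testBit 1) (n.testBit 0)
  have k20 := bp_comm h.c20 (m.testBit 2) (n.testBit 0)
  have k30 := bp_comm h.c30 (m.testBit 3) (n.testBit 0)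
  have k21 := bp_comm h.c21 (m.testBit 2) (n.testBit 1)
  have k31 := bp_comm h.c31 (m.testBit 3) (n.testBit 1)
  have k32 := bp_comm h.c32 (m.testBit 3) (n.testBit 2)
  generalize bp e0 (m.testBit 0) = a0 at *
  generalize bp e1 (m.testBit 1) = a1 at *
  generalize bp e2 (m.testBit 2) = a2 at *
  generalize bp e3 (m.testBit 3) = a3 at *
  generalize bp e0 (n.testBit 0) = b0 at *
  generalize bp e1 (n.testBit 1) = b1 at *
  generalize bp e2 (n.testBit 2) = b2 at *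
  generalize bp e3 (n.testBit 3) = b3 at *
  calc a0 * a1 * a2 * a3 * (b0 * b1 * b2 * b3) = a0 * a1 * a2 * (a3 * b0) * b1 * b2 * b3 := by group
    _ = a0 * a1 * (a2 * b0) * a3 * b1 * b2 * b3 := by rw [k30]; group
    _ = a0 * (a1 * b0) * a2 * a3 * b1 * b2 * b3 := by rw [k20]; group
    _ = a0 * b0 * a1 * a2 * (a3 * b1) * b2 * b3 := by rw [k10]; group
    _ = a0 * b0 * a1 * (a2 * b1) * a3 * b2 * b3 := by rw [k31]; group
    _ = a0 * b0 * a1 * b1 * a2 * (a3 * b2) * b3 := by rw [k21]; group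
    _ = a0 * b0 * (a1 * b1) * (a2 * b2) * (a3 * b3) := by rw [k32]; group

theorem E_zero : E e0 e1 e2 e3 0 = 1 := by simp [E, bp]
theorem E_one : E e0 e1 e2 e3 1 = e0 := by simp [E, bp, Nat.testBit]
theorem E_two : E e0 e1 e2 e3 2 = e1 := by simp [E, bp, Nat.testBit]
theorem E_four : E e0 e1 e2 e3 4 = e2 := by simp [E, bp, Nat.testBit]
theorem E_eight : E e0 e1 e2 e3 8 = e3 := by simp [E, bp, Nat.testBit]

theorem E_mod (n : ℕ) : E e0 e1 e2 e3 (n % 16) = E e0 e1 e2 e3 n := by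
  unfold E
  have h : ∀ i, i < 4 → (n % 16).testBit i = n.testBit i := by
    intro i hi
    rw [show (16 : ℕ) = 2 ^ 4 by norm_num, Nat.testBit_mod_two_pow]
    simp [hi]
  rw [h 0 (by norm_num), h 1 (by norm_num), h 2 (by norm_num), h 3 (by norm_num)]

/-- the subgroup generated by four commuting involutions -/
def Four.F (h : Four e0 e1 e2 e3) : Subgroup M where
  carrier := {g | ∃ n, n < 16 ∧ g = E e0 e1 e2 e3 n}
  one_mem' := ⟨0, by norm_num, E_zero.symm⟩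
  mul_mem' := by
    rintro a b ⟨m, hm, rfl⟩ ⟨n, hn, rfl⟩
    exact ⟨(m ^^^ n) % 16, Nat.mod_lt _ (by norm_num), by rw [h.E_mul, E_mod]⟩
  inv_mem' := by
    rintro a ⟨m, hm, rfl⟩
    refine ⟨m, hm, inv_eq_of_mul_eq_one_right ?_⟩
    rw [h.E_mul, Nat.xor_self, E_zero]

theorem Four.mem_F (h : Four e0 e1 e2 e3) {g : M} : g ∈ h.F ↔ ∃ n, n < 16 ∧ g = E e0 e1 e2 e3 n := Iff.rfl

theorem Four.E_mem (h : Four e0 e1 e2 e3) (n : ℕ) : E e0 e1 e2 e3 n ∈ h.F :=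
  ⟨n % 16, Nat.mod_lt _ (by norm_num), (E_mod n).symm⟩

theorem Four.sq (h : Four e0 e1 e2 e3) : ∀ s ∈ h.F, s * s = 1 := by
  rintro s ⟨n, hn, rfl⟩
  rw [h.E_mul, Nat.xor_self, E_zero]

/-- linear map given by the images of the basis -/
def lin (c0 c1 c2 c3 n : ℕ) : ℕ :=
  (bif n.testBit 0 then c0 else 0) ^^^ (bif n.testBit 1 then c1 else 0) ^^^
    (bif n.testBit 2 then c2 else 0) ^^^ (bif n.testBit 3 then c3 else 0)

theorem Four.conj_E (h : Four e0 e1 e2 e3) {g : M} {c0 c1 c2 c3 : ℕ}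
    (h0 : g⁻¹ * e0 * g = E e0 e1 e2 e3 c0) (h1 : g⁻¹ * e1 * g = E e0 e1 e2 e3 c1)
    (h2 : g⁻¹ * e2 * g = E e0 e1 e2 e3 c2) (h3 : g⁻¹ * e3 * g = E e0 e1 e2 e3 c3) (n : ℕ) :
    g⁻¹ * E e0 e1 e2 e3 n * g = E e0 e1 e2 e3 (lin c0 c1 c2 c3 n) := by
  have key : ∀ (e : M) (c : ℕ) (i : Bool), g⁻¹ * e * g = E e0 e1 e2 e3 c →
      g⁻¹ * bp e i * g = E e0 e1 e2 e3 (bif i then c else 0) := by
    intro e c i he
    cases i
    · simp [bp, E_zero]
    · simpa [bp] using he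
  have k0 := key e0 c0 (n.testBit 0) h0
  have k1 := key e1 c1 (n.testBit 1) h1
  have k2 := key e2 c2 (n.testBit 2) h2
  have k3 := key e3 c3 (n.testBit 3) h3
  rw [lin, ← h.E_mul, ← h.E_mul, ← h.E_mul, ← k0, ← k1, ← k2, ← k3]
  conv_lhs => rw [E]
  group

/-- independence -/
def Indep (e0 e1 e2 e3 : M) : Prop := ∀ n, n < 16 → E e0 e1 e2 e3 n = 1 → n = 0

theorem Four.E_inj (h : Four e0 e1 e2 e3) (hi : Indep e0 e1 e2 e3) {m n : ℕ} (hm : m < 16) (hn : n < 16)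
    (he : E e0 e1 e2 e3 m = E e0 e1 e2 e3 n) : m = n := by
  have h1 : E e0 e1 e2 e3 (m ^^^ n) = 1 := by
    rw [← h.E_mul, he, h.E_mul, Nat.xor_self, E_zero]
  have h2 := hi _ (Nat.xor_lt_two_pow (n := 4) hm hn) h1
  exact Nat.xor_eq_zero_iff.mp h2

theorem Four.card_F (h : Four e0 e1 e2 e3) (hi : Indep e0 e1 e2 e3) : Nat.card h.F = 16 := by
  let φ : Fin 16 → h.F := fun n => ⟨E e0 e1 e2 e3 n.1, h.E_mem n.1⟩
  have hφ : Function.Bijective φ := by
    constructor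
    · intro m n he
      exact Fin.ext (h.E_inj hi m.2 n.2 (congrArg Subtype.val he))
    · rintro ⟨g, n, hn, rfl⟩
      exact ⟨⟨n, hn⟩, rfl⟩
  rw [← Nat.card_congr (Equiv.ofBijective φ hφ), Nat.card_eq_fintype_card, Fintype.card_fin]

end Cfsg.Agent.LargeExtra.ElemSixteen
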