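import Cfsg.Agent.S0280
import Cfsg.Prelude.Def_SporadicB

/-!
# Endgame of case I of S1762 (helper915)

`fischer_hyps`: the hypotheses of S1614 for a simple group.
`psu5_of_disj`: the conclusion of S1614 together with `128 ∣ |G|` leaves only `PSU(5,2)`.
-/

set_option autoImplicit false

namespace Cfsg.Agent.LargeExtra.EndUFive

universe u

theorem hsol_of_simple {G : Type u} [Group G] [IsSimpleGroup G] (hG : ¬ IsMulCommutative G) :
    ∀ N : Subgroup G, N.Normal → Group.IsSolvable ↥N → N = ⊥ := by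
  intro N hN hs
  rcases IsSimpleGroup.eq_bot_or_eq_top_of_normal N hN with h | h
  · exact h
  · exfalso
    subst h
    have h1 : Group.IsSolvable G := by
      exact Group.isSolvable_of_surjective (f := (Subgroup.topEquiv : (⊤ : Subgroup G) ≃* G).toMonoidHom)
        (Subgroup.topEquiv : (⊤ : Subgroup G) ≃* G).surjective
    apply hG
    have := IsSimpleGroup.comm_iff_isSolvable.2 h1
    exact ⟨⟨this⟩⟩

theorem hperf_of_simple {G : Type u} [Group G] [IsSimpleGroup G] (hG : ¬ IsMulCommutative G) :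
    ⁅commutator G, commutator G⁆ = commutator G := by
  rcases IsSimpleGroup.eq_bot_or_eq_top_of_normal (commutator G) inferInstance with h | h
  · exfalso
    apply hG
    refine ⟨⟨fun a b => ?_⟩⟩
    have h1 := Subgroup.commutator_mem_commutator (Subgroup.mem_top a) (Subgroup.mem_top b)
    have h2 : a * b * a⁻¹ * b⁻¹ ∈ commutator G := h1
    rw [h, Subgroup.mem_bot, mul_inv_eq_one, mul_inv_eq_iff_eq_mul] at h2
    exact h2
  · rw [h]
    exact h

theorem psu5_of_disj {G : Type u} [Group G] [Finite G] (h128 : 128 ∣ Nat.card G)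
    (h : Nonempty (G ≃* Equiv.Perm (Fin 5)) ∨ Nonempty (G ≃* Equiv.Perm (Fin 6)) ∨
      ∃ (F : Type) (_ : Field F) (_ : Fintype F), Fintype.card F = 4 ∧
        (Nonempty (G ≃* Cfsg.PSU 4 F 2) ∨ Nonempty (G ≃* Cfsg.PSU 5 F 2))) :
    ∃ (F : Type) (_ : Field F) (_ : Fintype F), Fintype.card F = 4 ∧ Nonempty (G ≃* Cfsg.PSU 5 F 2) := by
  rcases h with ⟨⟨e⟩⟩ | ⟨⟨e⟩⟩ | ⟨F, i1, i2, hF, ⟨⟨e⟩⟩ | ⟨⟨e⟩⟩⟩
  · exfalso
    rw [Nat.card_congr e.toEquiv, Nat.card_perm, Nat.card_eq_fintype_card, Fintype.card_fin] at h128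
    revert h128
    decide
  · exfalso
    rw [Nat.card_congr e.toEquiv, Nat.card_perm, Nat.card_eq_fintype_card, Fintype.card_fin] at h128
    revert h128
    decide
  · exfalso
    rw [Nat.card_congr e.toEquiv] at h128
    have h1 := Cfsg.Agent.S0280.result (F := F) (q := 2) (by rw [hF]; norm_num) 4 (by norm_num)
    obtain ⟨k, hk⟩ := h128
    rw [hk] at h1
    norm_num [Finset.prod_range_succ, Nat.even_iff] at h1
    omega
  · exact ⟨F, i1, i2, hF, ⟨e⟩⟩

end Cfsg.Agent.LargeExtra.EndUFive
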