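import Cfsg.Agent.LargeExtra.PGLKill

/-!
# Complementary totally singular subspaces `U`, `W` of `V = Q/⟨z⟩`, any dimension (helper805)

Linear algebra for the kill of `S₈ = L₄(2).2` on `4 ⊕ 4*` (S1763, k6).
-/

set_option autoImplicit false
set_option linter.style.haveILetI false

namespace Cfsg.Agent.LargeExtra.FlipBasic

open Cfsg.Agent.Co2Type.Quad Cfsg.Agent.LargeExtra.Base Cfsg.Agent.LargeExtra.TwoCentral
open Cfsg.Agent.LargeExtra.SwapBasic (eq_of_add Keep Flip)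
open Module

variable {G : Type*} [Group G] {Q : Subgroup G} {z : G}

/-- `U`, `W` are complementary totally singular subspaces. -/
structure Lag (h : Large Q z) (U W : Submodule (ZMod 2) h.V) : Prop where
  finQ : Finite Q
  span : ∀ v, ∃ u ∈ U, ∃ w ∈ W, v = u + w
  qU : ∀ v ∈ U, h.q v = 0
  qW : ∀ v ∈ W, h.q v = 0
  disj : ∀ v ∈ U, v ∈ W → v = 0

namespace Lag

variable {h : Large Q z} {U W : Submodule (ZMod 2) h.V}

theorem symm (S : Lag h U W) : Lag h W U where
  finQ := S.finQ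
  span v := by
    obtain ⟨u, hu, w, hw, rfl⟩ := S.span v
    exact ⟨w, hw, u, hu, add_comm _ _⟩
  qU := S.qW
  qW := S.qU
  disj v hv hv' := S.disj v hv' hv

theorem bU (S : Lag h U W) {u v : h.V} (hu : u ∈ U) (hv : v ∈ U) : h.b u v = 0 := by
  have h1 := h.q_add' u v
  rw [S.qU _ (U.add_mem hu hv), S.qU _ hu, S.qU _ hv, add_zero, zero_add] at h1
  exact h1.symm

theorem bW (S : Lag h U W) {u v : h.V} (hu : u ∈ W) (hv : v ∈ W) : h.b u v = 0 := S.symm.bU hu hv

/-- the components of an element of `U + W` are unique -/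
theorem add_inj (S : Lag h U W) {u u' w w' : h.V} (hu : u ∈ U) (hu' : u' ∈ U) (hw : w ∈ W) (hw' : w' ∈ W)
    (H : u + w = u' + w') : u = u' ∧ w = w' := by
  have h2 : u - u' = w' - w := by
    rw [sub_eq_sub_iff_add_eq_add, H, add_comm]
  have h3 : u - u' = 0 := S.disj _ (U.sub_mem hu hu') (h2 ▸ W.sub_mem hw' hw)
  have h4 : w' - w = 0 := h2 ▸ h3
  rw [sub_eq_zero] at h3 h4
  exact ⟨h3, h4.symm⟩

theorem eq_zero_U (S : Lag h U W) {u : h.V} (hu : u ∈ U) (H : ∀ w ∈ W, h.b u w = 0) : u = 0 := by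
  apply h.b_nondeg
  intro v
  obtain ⟨u', hu', w, hw, rfl⟩ := S.span v
  rw [map_add, S.bU hu hu', H w hw, add_zero]

theorem eq_zero_W (S : Lag h U W) {w : h.V} (hw : w ∈ W) (H : ∀ u ∈ U, h.b w u = 0) : w = 0 :=
  S.symm.eq_zero_U hw H

theorem mem_W_of_perp (S : Lag h U W) {v : h.V} (H : ∀ w ∈ W, h.b v w = 0) : v ∈ W := by
  obtain ⟨u, hu, w, hw, rfl⟩ := S.span v
  have h1 : u = 0 := S.eq_zero_U hu fun w' hw' => by
    have := H w' hw'
    rwa [map_add, LinearMap.add_apply, S.bW hw hw', add_zero] at this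
  rw [h1, zero_add]; exact hw

/-- two isometries preserving `U`, `W` and agreeing on `U` are equal -/
theorem keep_ext (S : Lag h U W) {f g : h.V ≃ₗ[ZMod 2] h.V} (hf : ∀ v w, h.b (f v) (f w) = h.b v w)
    (hg : ∀ v w, h.b (g v) (g w) = h.b v w) (hkf : Keep h U W f) (hkg : Keep h U W g)
    (hsurj : ∀ u ∈ U, ∃ u' ∈ U, f u' = u) (H : ∀ u ∈ U, f u = g u) : f = g := by
  ext v
  obtain ⟨u, hu, w, hw, rfl⟩ := S.span v
  rw [map_add, map_add, H u hu]
  congr 1
  apply eq_of_add h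
  apply S.eq_zero_W (W.add_mem (hkf.2 w hw) (hkg.2 w hw))
  intro u' hu'
  obtain ⟨u'', hu'', rfl⟩ := hsurj u' hu'
  rw [map_add, LinearMap.add_apply, hf, H u'' hu'', hg]
  rcases zmod_two (h.b w u'') with h2 | h2 <;> rw [h2] <;> decide

theorem eq_one (S : Lag h U W) {f : h.V ≃ₗ[ZMod 2] h.V} (hf : ∀ v w, h.b (f v) (f w) = h.b v w)
    (hk : Keep h U W f) (H : ∀ u ∈ U, f u = u) : f = 1 :=
  S.keep_ext hf (fun _ _ => rfl) hk ⟨fun _ hv => hv, fun _ hv => hv⟩ (fun u hu => ⟨u, hu, H u hu⟩) H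

/-- functionals on `U` are given by elements of `W` -/
theorem exists_repr (S : Lag h U W) (φ : U →ₗ[ZMod 2] ZMod 2) : ∃ w ∈ W, ∀ u : U, h.b w u = φ u := by
  have := S.finQ
  have : Finite h.V := inferInstance
  have : Module.Finite (ZMod 2) h.V := Module.Finite.of_finite
  obtain ⟨ψ, hψ⟩ := LinearMap.exists_extend φ
  obtain ⟨k, hk⟩ := h.exists_b_eq ψ
  obtain ⟨u, hu, w, hw, rfl⟩ := S.span k
  refine ⟨w, hw, fun u' => ?_⟩
  have h1 := hk u'
  rw [map_add, LinearMap.add_apply, S.bU hu u'.2, zero_add] at h1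
  rw [h1, ← hψ]; rfl

/-- separation of two elements of `W` by an element of `U` -/
theorem sep (S : Lag h U W) {w w' : h.V} (hw : w ∈ W) (hw' : w' ∈ W) (h0 : w' ≠ 0) (h1 : w' ≠ w) :
    ∃ v ∈ U, h.b w v = 0 ∧ h.b w' v = 1 := by
  by_contra hcon
  push Not at hcon
  have key : ∀ v, h.b w v = 0 → h.b w' v = 0 := by
    intro v hv
    obtain ⟨u, hu, w'', hw'', rfl⟩ := S.span v
    rw [map_add, S.bW hw hw'', add_zero] at hv
    rw [map_add, S.bW hw' hw'', add_zero]
    by_contra h2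
    exact hcon u hu hv (zmod_two_ne h2)
  rcases eq_of_perp h key with h2 | h2
  · exact h0 h2
  · exact h1 h2

theorem exists_one (S : Lag h U W) {w : h.V} (hw : w ∈ W) (h0 : w ≠ 0) : ∃ v ∈ U, h.b w v = 1 := by
  obtain ⟨v, hv, -, h1⟩ := S.sep W.zero_mem hw h0 h0
  exact ⟨v, hv, h1⟩

/-- three elements of `U` -/
theorem sep3 (S : Lag h U W) {a c v : h.V} (ha : a ∈ U) (hc : c ∈ U) (hv : v ∈ U)
    (h0 : v ≠ 0) (h1 : v ≠ a) (h2 : v ≠ c) (h3 : v ≠ a + c) :
    ∃ w ∈ W, h.b a w = 0 ∧ h.b c w = 0 ∧ h.b v w = 1 := by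
  have := S.finQ
  have : Finite h.V := inferInstance
  by_contra hcon
  push Not at hcon
  have key : v ∈ Submodule.span (ZMod 2) ({a, c} : Set h.V) := by
    apply Cfsg.Agent.LargeExtra.Perp.mem_of_forall (Cfsg.Agent.LargeExtra.Perp.nondegenerate h)
      (Cfsg.Agent.LargeExtra.Perp.isRefl h)
    intro x hx
    have hax := hx a (Submodule.subset_span (Or.inl rfl))
    have hcx := hx c (Submodule.subset_span (Or.inr rfl))
    obtain ⟨u, hu, w, hw, rfl⟩ := S.span x
    rw [map_add, S.bU ha hu, zero_add] at hax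
    rw [map_add, S.bU hc hu, zero_add] at hcx
    rw [map_add, LinearMap.add_apply, S.bU hu hv, zero_add, h.b_comm]
    by_contra h4
    exact hcon w hw hax hcx (zmod_two_ne h4)
  rw [Submodule.mem_span_pair] at key
  obtain ⟨i, j, hij⟩ := key
  rcases zmod_two i with rfl | rfl <;> rcases zmod_two j with rfl | rfl
  · apply h0; rw [← hij]; simp
  · apply h2; rw [← hij]; simp
  · apply h1; rw [← hij]; simp
  · apply h3; rw [← hij]; simp

end Lag

/-- an involutory isometry swapping `U` and `W` -/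
structure Inv (h : Large Q z) (U W : Submodule (ZMod 2) h.V) (f : h.V ≃ₗ[ZMod 2] h.V) : Prop where
  lag : Lag h U W
  iso : ∀ v w, h.b (f v) (f w) = h.b v w
  flip : Flip h U W f
  inv : ∀ v, f (f v) = v

namespace Inv

variable {h : Large Q z} {U W : Submodule (ZMod 2) h.V} {f : h.V ≃ₗ[ZMod 2] h.V}

theorem symm (I : Inv h U W f) : Inv h W U f where
  lag := I.lag.symm
  iso := I.iso
  flip := ⟨I.flip.2, I.flip.1⟩
  inv := I.inv

theorem shift (I : Inv h U W f) (u v : h.V) : h.b u (f v) = h.b (f u) v := by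
  rw [← I.iso u (f v), I.inv]

/-- `b(u, f v)` is symmetric -/
theorem beta_symm (I : Inv h U W f) (u v : h.V) : h.b u (f v) = h.b v (f u) := by
  rw [← I.iso u (f v), I.inv, h.b_comm]

theorem fixed_iff (I : Inv h U W f) {v : h.V} : f v = v ↔ ∃ u ∈ U, v = u + f u := by
  constructor
  · intro hv
    obtain ⟨u, hu, w, hw, rfl⟩ := I.lag.span v
    refine ⟨u, hu, ?_⟩
    rw [map_add, add_comm] at hv
    have h1 := (I.lag.add_inj (I.flip.2 w hw) hu (I.flip.1 u hu) hw hv).2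
    rw [h1]
  · rintro ⟨u, _, rfl⟩
    rw [map_add, I.inv, add_comm]

theorem graph_inj (I : Inv h U W f) {u v : h.V} (hu : u ∈ U) (hv : v ∈ U) (H : u + f u = v + f v) : u = v :=
  (I.lag.add_inj hu hv (I.flip.1 u hu) (I.flip.1 v hv) H).1

theorem b_graph (I : Inv h U W f) {u v : h.V} (hu : u ∈ U) (hv : v ∈ U) :
    h.b (u + f u) (v + f v) = 0 := by
  rw [map_add, map_add, LinearMap.add_apply, LinearMap.add_apply, I.lag.bU hu hv,
    I.lag.bW (I.flip.1 u hu) (I.flip.1 v hv), I.beta_symm u v, h.b_comm (f u) v, add_zero, zero_add]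
  rcases zmod_two (h.b v (f u)) with h2 | h2 <;> rw [h2] <;> decide

theorem f_inj (I : Inv h U W f) {v : h.V} (hv : f v = 0) : v = 0 := by
  rw [← I.inv v, hv, map_zero]

theorem surj_W (I : Inv h U W f) {w : h.V} (hw : w ∈ W) : ∃ u ∈ U, f u = w :=
  ⟨f w, I.flip.2 w hw, I.inv w⟩

/-- `β` is nondegenerate on `U` -/
theorem beta_nondeg (I : Inv h U W f) {u : h.V} (hu : u ∈ U) (H : ∀ v ∈ U, h.b u (f v) = 0) : u = 0 := by
  apply I.lag.eq_zero_U hu
  intro w hw
  obtain ⟨v, hv, rfl⟩ := I.surj_W hw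
  exact H v hv

theorem finv (I : Inv h U W f) (v : h.V) : f⁻¹ v = f v := by
  show f.symm v = f v
  rw [LinearEquiv.symm_apply_eq, I.inv]

/-- `u ↦ b(u, f u)` is additive on `U` -/
theorem beta_add (I : Inv h U W f) (u v : h.V) :
    h.b (u + v) (f (u + v)) = h.b u (f u) + h.b v (f v) := by
  rw [map_add, map_add, map_add, LinearMap.add_apply, LinearMap.add_apply, I.beta_symm u v]
  have : ∀ a b c : ZMod 2, a + b + (b + c) = a + c := by decide
  exact this _ _ _

end Inv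

/-- `t` is the transvection `T(u, w)`: `v ↦ v + b(w, v) u + b(u, v) w` -/
def IsT (h : Large Q z) (u w : h.V) (t : h.V ≃ₗ[ZMod 2] h.V) : Prop :=
  ∀ v, t v = v + h.b w v • u + h.b u v • w

theorem IsT.symm {h : Large Q z} {u w : h.V} {t : h.V ≃ₗ[ZMod 2] h.V} (ht : IsT h u w t) : IsT h w u t := by
  intro v
  rw [ht v]; abel

theorem IsT.ext {h : Large Q z} {u w : h.V} {t t' : h.V ≃ₗ[ZMod 2] h.V} (ht : IsT h u w t)
    (ht' : IsT h u w t') : t = t' := by
  ext v
  rw [ht v, ht' v]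

/-- `T(u, w)` is an involution -/
theorem IsT.sq {h : Large Q z} {u w : h.V} {t : h.V ≃ₗ[ZMod 2] h.V} (ht : IsT h u w t) (hb : h.b u w = 0)
    (hb' : h.b u u = 0) (hb'' : h.b w w = 0) (v : h.V) : t (t v) = v := by
  rw [ht (t v), ht v]
  simp only [map_add, map_smul, smul_eq_mul, hb, hb', hb'', h.b_comm w u, mul_zero, add_zero]
  calc v + h.b w v • u + h.b u v • w + h.b w v • u + h.b u v • w
      = v + (h.b w v • u + h.b w v • u) + (h.b u v • w + h.b u v • w) := by abel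
    _ = v := by rw [h.add_self, h.add_self, add_zero, add_zero]

end Cfsg.Agent.LargeExtra.FlipBasic
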