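import Mathlib

/-!
# Fixed-point-free action from a multiplicity-free hypothesis (helper751)

`R = A × B` (modulo `V`), `f` of order three maps `A` to `B`, everything commutes with the action of
`C` modulo `R`, and the only vectors of `A` fixed by the stabiliser in `C` of `a0` are `1` and `a0`.
Then `f` acts on `R` (modulo `V`) by `f²(a) = a f(a)`, without fixed points.
-/

set_option autoImplicit false

namespace Cfsg.Agent.LargeExtra.FourGroupFpf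

/-- The abstract form, `V = 1`. -/
theorem abs {W : Type*} [Group W] {A B R C : Subgroup W} {f a0 : W}
    (hAR : A ≤ R) (hBR : B ≤ R) (hcR : ∀ r ∈ R, ∀ s ∈ R, r * s = s * r)
    (hAB : ∀ x ∈ A, x ∈ B → x = 1)
    (hR : ∀ r ∈ R, ∃ a ∈ A, ∃ b ∈ B, r = a * b)
    (hfR : ∀ r ∈ R, f * r * f⁻¹ ∈ R)
    (hfA : ∀ x ∈ A, f * x * f⁻¹ ∈ B) (hfB : ∀ x ∈ B, ∃ a ∈ A, x = f * a * f⁻¹)
    (hf3 : f * f * f = 1)
    (hCA : ∀ c ∈ C, ∀ a ∈ A, c * a * c⁻¹ ∈ A) (hCB : ∀ c ∈ C, ∀ b ∈ B, c * b * c⁻¹ ∈ B)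
    (hCf : ∀ c ∈ C, ∃ ρ ∈ R, c * f = ρ * f * c)
    (ha0 : a0 ∈ A) (ha01 : a0 ≠ 1)
    (h2 : ∀ a ∈ A, (∀ c ∈ C, c * a0 * c⁻¹ = a0 → c * a * c⁻¹ = a) → a = 1 ∨ a = a0)
    (hgen : A ≤ Subgroup.closure {x | ∃ c ∈ C, x = c * a0 * c⁻¹}) :
    (∀ a ∈ A, f * (f * a * f⁻¹) * f⁻¹ = a * (f * a * f⁻¹)) ∧
      ∀ r ∈ R, f * r * f⁻¹ = r → r = 1 := by
  -- conjugation by `c` and by `f` commute on `R`
  have hcomm : ∀ c ∈ C, ∀ x ∈ R, (∀ c ∈ C, ∀ r ∈ R, c * r * c⁻¹ ∈ R) →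
      c * (f * x * f⁻¹) * c⁻¹ = f * (c * x * c⁻¹) * f⁻¹ := by
    intro c hc x hx hCR
    obtain ⟨ρ, hρ, h⟩ := hCf c hc
    have e1 : c * (f * x * f⁻¹) * c⁻¹ = (c * f) * x * (c * f)⁻¹ := by group
    rw [e1, h]
    have e2 : ρ * f * c * x * (ρ * f * c)⁻¹ = ρ * (f * (c * x * c⁻¹) * f⁻¹) * ρ⁻¹ := by group
    rw [e2, hcR ρ hρ _ (hfR _ (hCR c hc x hx))]; group
  have hCR : ∀ c ∈ C, ∀ r ∈ R, c * r * c⁻¹ ∈ R := by
    intro c hc r hr
    obtain ⟨a, ha, b, hb, rfl⟩ := hR r hr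
    have : c * (a * b) * c⁻¹ = (c * a * c⁻¹) * (c * b * c⁻¹) := by group
    rw [this]
    exact R.mul_mem (hAR (hCA c hc a ha)) (hBR (hCB c hc b hb))
  have huniq : ∀ a ∈ A, ∀ b ∈ B, ∀ a' ∈ A, ∀ b' ∈ B, a * b = a' * b' → a = a' ∧ b = b' := by
    intro a ha b hb a' ha' b' hb' h
    have h1 : a'⁻¹ * a = b' * b⁻¹ := by
      have e : a'⁻¹ * (a * b) * b⁻¹ = a'⁻¹ * (a' * b') * b⁻¹ := by rw [h]
      have e1 : a'⁻¹ * (a * b) * b⁻¹ = a'⁻¹ * a := by group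
      have e2 : a'⁻¹ * (a' * b') * b⁻¹ = b' * b⁻¹ := by group
      rw [e1, e2] at e
      exact e
    have h3 : a'⁻¹ * a = 1 := hAB _ (A.mul_mem (A.inv_mem ha') ha)
      (by rw [h1]; exact B.mul_mem hb' (B.inv_mem hb))
    have h4 : b' * b⁻¹ = 1 := by rw [← h1, h3]
    exact ⟨(inv_mul_eq_one.mp h3).symm, (mul_inv_eq_one.mp h4).symm⟩
  have hfinj : ∀ x, f * x * f⁻¹ = 1 → x = 1 := by
    intro x hx
    have : x = f⁻¹ * (f * x * f⁻¹) * f := by group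
    rw [this, hx]; group
  -- the formula for `a0`
  have key : f * (f * a0 * f⁻¹) * f⁻¹ = a0 * (f * a0 * f⁻¹) := by
    obtain ⟨α, hα, β, hβ, h⟩ := hR _ (hfR _ (hfR _ (hAR ha0)))
    obtain ⟨β', hβ', hββ⟩ := hfB β hβ
    have hst : ∀ c ∈ C, c * a0 * c⁻¹ = a0 → c * α * c⁻¹ = α ∧ c * β * c⁻¹ = β := by
      intro c hc hca
      have h5 : c * (α * β) * c⁻¹ = α * β := by
        rw [← h, hcomm c hc _ (hfR _ (hAR ha0)) hCR, hcomm c hc _ (hAR ha0) hCR, hca]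
      have h6 : (c * α * c⁻¹) * (c * β * c⁻¹) = α * β := by rw [← h5]; group
      exact huniq _ (hCA c hc α hα) _ (hCB c hc β hβ) _ hα _ hβ h6
    have hα' := h2 α hα (fun c hc hca => (hst c hc hca).1)
    have hβ'' := h2 β' hβ' (fun c hc hca => by
      have h7 := (hst c hc hca).2
      rw [hββ, hcomm c hc _ (hAR hβ') hCR] at h7
      have h8 : f⁻¹ * (f * (c * β' * c⁻¹) * f⁻¹) * f = f⁻¹ * (f * β' * f⁻¹) * f := by rw [h7]
      have e1 : f⁻¹ * (f * (c * β' * c⁻¹) * f⁻¹) * f = c * β' * c⁻¹ := by group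
      have e2 : f⁻¹ * (f * β' * f⁻¹) * f = β' := by group
      rw [e1, e2] at h8
      exact h8)
    have hα1 : α ≠ 1 := by
      intro hα1
      rw [hα1, one_mul] at h
      -- `f² a0 ∈ B`
      obtain ⟨a, ha, hb⟩ := hfB β hβ
      rw [hb] at h
      have h9 : f⁻¹ * (f * (f * a0 * f⁻¹) * f⁻¹) * f = f⁻¹ * (f * a * f⁻¹) * f := by rw [h]
      have e1 : f⁻¹ * (f * (f * a0 * f⁻¹) * f⁻¹) * f = f * a0 * f⁻¹ := by group
      have e2 : f⁻¹ * (f * a * f⁻¹) * f = a := by group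
      rw [e1, e2] at h9
      have h10 : f * a0 * f⁻¹ = 1 := hAB _ (by rw [h9]; exact ha) (hfA a0 ha0)
      exact ha01 (hfinj _ h10)
    have hβ1 : β' ≠ 1 := by
      intro hβ1
      have hβ2 : β = 1 := by rw [hββ, hβ1]; group
      rw [hβ2, mul_one] at h
      -- `f² a0 ∈ A`, so `a0 = f³ a0 ∈ B`
      have h11 : f * α * f⁻¹ ∈ B := hfA α hα
      rw [← h] at h11
      have e : f * (f * (f * a0 * f⁻¹) * f⁻¹) * f⁻¹ = (f * f * f) * a0 * (f * f * f)⁻¹ := by group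
      rw [e, hf3] at h11
      have : a0 ∈ B := by simpa using h11
      exact ha01 (hAB a0 ha0 this)
    rw [h]
    rcases hα' with h' | h'
    · exact absurd h' hα1
    rcases hβ'' with h'' | h''
    · exact absurd h'' hβ1
    rw [hββ, h', h'']
  -- the formula in general
  have hall : ∀ a ∈ A, f * (f * a * f⁻¹) * f⁻¹ = a * (f * a * f⁻¹) := by
    have hcl : ∀ a ∈ Subgroup.closure {x | ∃ c ∈ C, x = c * a0 * c⁻¹},
        a ∈ A ∧ f * (f * a * f⁻¹) * f⁻¹ = a * (f * a * f⁻¹) := by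
      intro a ha
      induction ha using Subgroup.closure_induction with
      | mem x hx =>
        obtain ⟨c, hc, rfl⟩ := hx
        refine ⟨hCA c hc a0 ha0, ?_⟩
        rw [← hcomm c hc a0 (hAR ha0) hCR, ← hcomm c hc _ (hfR _ (hAR ha0)) hCR, key]
        group
      | one => exact ⟨A.one_mem, by group⟩
      | mul x y _ _ hx hy =>
        refine ⟨A.mul_mem hx.1 hy.1, ?_⟩
        have e : f * (f * (x * y) * f⁻¹) * f⁻¹ =
            (f * (f * x * f⁻¹) * f⁻¹) * (f * (f * y * f⁻¹) * f⁻¹) := by group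
        rw [e, hx.2, hy.2]
        have h1 : (f * x * f⁻¹) * y = y * (f * x * f⁻¹) :=
          hcR _ (hfR _ (hAR hx.1)) _ (hAR hy.1)
        calc x * (f * x * f⁻¹) * (y * (f * y * f⁻¹))
            = x * ((f * x * f⁻¹) * y) * (f * y * f⁻¹) := by group
          _ = x * (y * (f * x * f⁻¹)) * (f * y * f⁻¹) := by rw [h1]
          _ = x * y * (f * (x * y) * f⁻¹) := by group
      | inv x _ hx =>
        refine ⟨A.inv_mem hx.1, ?_⟩
        have e : f * (f * x⁻¹ * f⁻¹) * f⁻¹ = (f * (f * x * f⁻¹) * f⁻¹)⁻¹ := by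
          simp only [mul_inv_rev, inv_inv, mul_assoc]
        rw [e, hx.2, hcR x (hAR hx.1) _ (hfR _ (hAR hx.1))]
        simp only [mul_inv_rev, inv_inv, mul_assoc]
    exact fun a ha => (hcl a (hgen ha)).2
  refine ⟨hall, ?_⟩
  intro r hr hfix
  obtain ⟨a, ha, b, hb, rfl⟩ := hR r hr
  obtain ⟨b', hb', rfl⟩ := hfB b hb
  have h1 : f * (a * (f * b' * f⁻¹)) * f⁻¹ = (f * a * f⁻¹) * (f * (f * b' * f⁻¹) * f⁻¹) := by group
  rw [h1, hall b' hb'] at hfix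
  have h2' : (f * a * f⁻¹) * b' = a := by
    have h3 : (f * a * f⁻¹) * (b' * (f * b' * f⁻¹)) * (f * b' * f⁻¹)⁻¹ =
        a * (f * b' * f⁻¹) * (f * b' * f⁻¹)⁻¹ := by rw [hfix]
    have e1 : (f * a * f⁻¹) * (b' * (f * b' * f⁻¹)) * (f * b' * f⁻¹)⁻¹ = (f * a * f⁻¹) * b' := by group
    have e2 : a * (f * b' * f⁻¹) * (f * b' * f⁻¹)⁻¹ = a := by group
    rw [e1, e2] at h3
    exact h3
  have h4 : f * a * f⁻¹ = a * b'⁻¹ := by rw [eq_mul_inv_iff_mul_eq]; exact h2'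
  have h5 : f * a * f⁻¹ = 1 := hAB _ (by rw [h4]; exact A.mul_mem ha (A.inv_mem hb')) (hfA a ha)
  have h6 : a = 1 := hfinj _ h5
  have h7 : b' = 1 := by
    rw [h5, one_mul, h6] at h2'
    exact h2'
  rw [h6, h7]; group

/-- The ambient form, modulo a subgroup `V` normalised by `R`, `C` and `f`. -/
theorem main {G : Type*} [Group G] {V A B R C : Subgroup G} {f a0 : G}
    (hVA : V ≤ A) (hVB : V ≤ B) (hAR : A ≤ R) (hBR : B ≤ R)
    (hRV : ∀ r ∈ R, ∀ v ∈ V, r * v * r⁻¹ ∈ V) (hCV : ∀ c ∈ C, ∀ v ∈ V, c * v * c⁻¹ ∈ V)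
    (hfV : ∀ v ∈ V, f * v * f⁻¹ ∈ V)
    (hcR : ∀ r ∈ R, ∀ s ∈ R, r * s * r⁻¹ * s⁻¹ ∈ V)
    (hAB : ∀ x ∈ A, x ∈ B → x ∈ V)
    (hR : ∀ r ∈ R, ∃ a ∈ A, ∃ b ∈ B, r = a * b)
    (hfR : ∀ r ∈ R, f * r * f⁻¹ ∈ R)
    (hfA : ∀ x ∈ A, f * x * f⁻¹ ∈ B) (hfB : ∀ x ∈ B, ∃ a ∈ A, x = f * a * f⁻¹)
    (hf3 : f * f * f = 1)
    (hCA : ∀ c ∈ C, ∀ a ∈ A, c * a * c⁻¹ ∈ A) (hCB : ∀ c ∈ C, ∀ b ∈ B, c * b * c⁻¹ ∈ B)
    (hCf : ∀ c ∈ C, ∃ ρ ∈ R, c * f = ρ * f * c)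
    (ha0 : a0 ∈ A) (ha01 : a0 ∉ V)
    (h2 : ∀ a ∈ A, (∀ c ∈ C, c * a0 * c⁻¹ * a0⁻¹ ∈ V → c * a * c⁻¹ * a⁻¹ ∈ V) →
      a ∈ V ∨ a * a0⁻¹ ∈ V)
    (hgen : A ≤ V ⊔ Subgroup.closure {x | ∃ c ∈ C, x = c * a0 * c⁻¹}) :
    (∀ a ∈ A, f * (f * a * f⁻¹) * f⁻¹ * (a * (f * a * f⁻¹))⁻¹ ∈ V) ∧
      ∀ r ∈ R, f * r * f⁻¹ * r⁻¹ ∈ V → r ∈ V := by
  classical
  -- the normaliser of `V` contains everything
  let H : Subgroup G := Subgroup.normalizer (V : Set G)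
  have hmemH : ∀ x : G, (∀ v ∈ V, x * v * x⁻¹ ∈ V) → (∀ v ∈ V, x⁻¹ * v * x ∈ V) → x ∈ H := by
    intro x h1 h2
    rw [Subgroup.mem_normalizer_iff]
    intro v
    constructor
    · exact fun hv => h1 v hv
    · intro hv
      have := h2 _ hv
      have e : x⁻¹ * (x * v * x⁻¹) * x = v := by group
      rwa [e] at this
  have hRH : R ≤ H := fun r hr => hmemH r (hRV r hr) (fun v hv => by
    simpa using hRV r⁻¹ (R.inv_mem hr) v hv)
  have hCH : C ≤ H := fun r hr => hmemH r (hCV r hr) (fun v hv => by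
    simpa using hCV r⁻¹ (C.inv_mem hr) v hv)
  have hfH : f ∈ H := by
    refine hmemH f hfV ?_
    intro v hv
    have h3 : f⁻¹ = f * f := by
      rw [inv_eq_iff_mul_eq_one, ← mul_assoc]; exact hf3
    have h4 : f⁻¹ * v * f = f * (f * v * f⁻¹) * f⁻¹ := by
      have h5 : f = f⁻¹ * f⁻¹ := by
        rw [← mul_inv_rev, ← h3, inv_inv]
      calc f⁻¹ * v * f = f⁻¹ * v * (f⁻¹ * f⁻¹) := by rw [← h5]
        _ = (f * f) * v * (f⁻¹ * f⁻¹) := by rw [← h3]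
        _ = f * (f * v * f⁻¹) * f⁻¹ := by simp only [mul_assoc]
    rw [h4]
    exact hfV _ (hfV v hv)
  have hVH : V ≤ H := hVA.trans (hAR.trans hRH)
  have hAH : A ≤ H := hAR.trans hRH
  have hBH : B ≤ H := hBR.trans hRH
  let N : Subgroup H := V.subgroupOf H
  have hN : N.Normal := by
    constructor
    rintro ⟨v, hvH⟩ hv ⟨g, hg⟩
    rw [Subgroup.mem_subgroupOf] at hv ⊢
    exact (Subgroup.mem_normalizer_iff.mp hg v).mp hv
  let π : H →* H ⧸ N := QuotientGroup.mk' N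
  have hπ1 : ∀ x : H, π x = 1 ↔ (x : G) ∈ V := by
    intro x
    rw [QuotientGroup.mk'_apply, QuotientGroup.eq_one_iff, Subgroup.mem_subgroupOf]
  have hπeq : ∀ x y : H, π x = π y ↔ (x : G) * (y : G)⁻¹ ∈ V := by
    intro x y
    rw [← mul_inv_eq_one, ← map_inv, ← map_mul, hπ1]
    rfl
  let A' := (A.subgroupOf H).map π
  let B' := (B.subgroupOf H).map π
  let R' := (R.subgroupOf H).map π
  let C' := (C.subgroupOf H).map π
  have mem' : ∀ (X : Subgroup G) (x : G) (hx : x ∈ H), x ∈ X → π ⟨x, hx⟩ ∈ (X.subgroupOf H).map π :=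
    fun X x hx h => ⟨⟨x, hx⟩, h, rfl⟩
  have mem_iff : ∀ (X : Subgroup G), V ≤ X → X ≤ H → ∀ (x : H), π x ∈ (X.subgroupOf H).map π →
      (x : G) ∈ X := by
    rintro X hVX hXH x ⟨y, hy, hxy⟩
    have h1 := (hπeq y x).mp hxy
    have h2 : (x : G) = ((y : G) * (x : G)⁻¹)⁻¹ * y := by group
    rw [h2]
    exact X.mul_mem (X.inv_mem (hVX h1)) hy
  have main := abs (A := A') (B := B') (R := R') (C := C') (f := π ⟨f, hfH⟩)
    (a0 := π ⟨a0, hAH ha0⟩)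
    (Subgroup.map_mono (fun x hx => hAR hx)) (Subgroup.map_mono (fun x hx => hBR hx))
    (by
      rintro _ ⟨r, hr, rfl⟩ _ ⟨s, hs, rfl⟩
      rw [← map_mul, ← map_mul, hπeq]
      have := hcR r hr s hs
      have e : ((r * s : H) : G) * ((s * r : H) : G)⁻¹ = (r : G) * s * (r : G)⁻¹ * (s : G)⁻¹ := by
        push_cast; group
      rw [e]; exact this)
    (by
      rintro _ ⟨a, ha, rfl⟩ hB
      have := mem_iff B hVB hBH a hB
      exact (hπ1 a).mpr (hAB a ha this))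
    (by
      rintro _ ⟨r, hr, rfl⟩
      obtain ⟨a, ha, b, hb, h⟩ := hR r hr
      refine ⟨π ⟨a, hAH ha⟩, mem' A a _ ha, π ⟨b, hBH hb⟩, mem' B b _ hb, ?_⟩
      rw [← map_mul]
      congr 1
      exact Subtype.ext h)
    (by
      rintro _ ⟨r, hr, rfl⟩
      rw [← map_mul, ← map_inv, ← map_mul]
      exact ⟨_, hfR r hr, rfl⟩)
    (by
      rintro _ ⟨r, hr, rfl⟩
      rw [← map_mul, ← map_inv, ← map_mul]
      exact ⟨_, hfA r hr, rfl⟩)
    (by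
      rintro _ ⟨b, hb, rfl⟩
      obtain ⟨a, ha, h⟩ := hfB b hb
      refine ⟨π ⟨a, hAH ha⟩, mem' A a _ ha, ?_⟩
      rw [← map_mul, ← map_inv, ← map_mul]
      congr 1
      exact Subtype.ext h)
    (by
      rw [← map_mul, ← map_mul, hπ1]
      have : ((⟨f, hfH⟩ * ⟨f, hfH⟩ * ⟨f, hfH⟩ : H) : G) = 1 := hf3
      rw [this]; exact V.one_mem)
    (by
      rintro _ ⟨c, hc, rfl⟩ _ ⟨a, ha, rfl⟩
      rw [← map_mul, ← map_inv, ← map_mul]
      exact ⟨_, hCA c hc a ha, rfl⟩)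
    (by
      rintro _ ⟨c, hc, rfl⟩ _ ⟨a, ha, rfl⟩
      rw [← map_mul, ← map_inv, ← map_mul]
      exact ⟨_, hCB c hc a ha, rfl⟩)
    (by
      rintro _ ⟨c, hc, rfl⟩
      obtain ⟨ρ, hρ, h⟩ := hCf c hc
      refine ⟨π ⟨ρ, hRH hρ⟩, mem' R ρ _ hρ, ?_⟩
      rw [← map_mul, ← map_mul, ← map_mul]
      congr 1
      exact Subtype.ext h)
    (mem' A a0 _ ha0)
    (by
      intro h
      exact ha01 ((hπ1 _).mp h))
    (by
      rintro _ ⟨a, ha, rfl⟩ hst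
      have := h2 a ha (by
        intro c hc hca
        have h3 := hst (π ⟨c, hCH hc⟩) (mem' C c _ hc) (by
          rw [← map_mul, ← map_inv, ← map_mul, hπeq]
          exact hca)
        rw [← map_mul, ← map_inv, ← map_mul, hπeq] at h3
        exact h3)
      rcases this with h | h
      · exact Or.inl ((hπ1 _).mpr h)
      · exact Or.inr ((hπeq _ _).mpr h))
    (by
      have key : V ⊔ Subgroup.closure {x | ∃ c ∈ C, x = c * a0 * c⁻¹} ≤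
          ((Subgroup.closure {x | ∃ c ∈ C', x = c * (π ⟨a0, hAH ha0⟩) * c⁻¹}).comap π).map
            H.subtype := by
        apply sup_le
        · intro v hv
          refine ⟨⟨v, hVH hv⟩, ?_, rfl⟩
          rw [SetLike.mem_coe, Subgroup.mem_comap, (hπ1 ⟨v, hVH hv⟩).mpr hv]
          exact Subgroup.one_mem _
        · rw [Subgroup.closure_le]
          rintro _ ⟨c, hc, rfl⟩
          refine ⟨⟨c, hCH hc⟩ * ⟨a0, hAH ha0⟩ * ⟨c, hCH hc⟩⁻¹, ?_, rfl⟩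
          rw [SetLike.mem_coe, Subgroup.mem_comap, map_mul, map_mul, map_inv]
          exact Subgroup.subset_closure ⟨π ⟨c, hCH hc⟩, mem' C c _ hc, rfl⟩
      rintro _ ⟨a, ha, rfl⟩
      obtain ⟨t, ht, hta⟩ := key (hgen ha)
      have : t = a := Subtype.ext hta
      rw [← this]
      exact ht)
  obtain ⟨m1, m2⟩ := main
  constructor
  · intro a ha
    have := m1 (π ⟨a, hAH ha⟩) (mem' A a _ ha)
    rw [← map_mul, ← map_inv, ← map_mul, ← map_mul, ← map_mul, ← map_mul, hπeq] at this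
    exact this
  · intro r hr hfix
    have := m2 (π ⟨r, hRH hr⟩) (mem' R r _ hr) (by
      rw [← map_mul, ← map_inv, ← map_mul, hπeq]
      exact hfix)
    exact (hπ1 _).mp this

end Cfsg.Agent.LargeExtra.FourGroupFpf
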