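import Mathlib

/-!
# Complements from a fixed-point-free element of order three (helper751)

Elementary facts used in the analysis of groups with a large extraspecial 2-subgroup: `R` is
normalised by `C` and `K`, `[K, C] ≤ R`, `K ∩ C ≤ R`, and `f ∈ K` acts without fixed points on `R`.
No Sylow theory and no coprime action is needed: conjugating `f` by `R` is a bijection onto `R f`.
-/

set_option autoImplicit false

namespace Cfsg.Agent.LargeExtra.FourGroupFrattini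

variable {G : Type*} [Group G]

/-- The conjugates of `f` under `R` exhaust the coset `R f`, if `f` centralises no nontrivial element
of the finite group `R`, which it normalises. -/
theorem exists_conj_eq [Finite G] {R : Subgroup G} {f : G} (hfR : ∀ r ∈ R, f * r * f⁻¹ ∈ R)
    (hfix : ∀ r ∈ R, f * r * f⁻¹ = r → r = 1) {x : G} (hx : x ∈ R) :
    ∃ r ∈ R, r * f * r⁻¹ = x * f := by
  classical
  have hinj : Function.Injective (fun r : R => (⟨(r : G) * (f * (r : G)⁻¹ * f⁻¹),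
      R.mul_mem r.2 (hfR _ (R.inv_mem r.2))⟩ : R)) := by
    intro r s h
    have h' : (r : G) * (f * (r : G)⁻¹ * f⁻¹) = (s : G) * (f * (s : G)⁻¹ * f⁻¹) :=
      congrArg Subtype.val h
    have hrs : f * ((s : G)⁻¹ * r) * f⁻¹ = (s : G)⁻¹ * r := by
      have h2 : (r : G) * f * (r : G)⁻¹ = (s : G) * f * (s : G)⁻¹ := by
        have := congrArg (· * f) h'
        simpa [mul_assoc] using this
      have h3 : f * ((s : G)⁻¹ * r) = ((s : G)⁻¹ * r) * f := by
        have h4 : (s : G)⁻¹ * ((r : G) * f * (r : G)⁻¹) * r = (s : G)⁻¹ * ((s : G) * f * (s : G)⁻¹) * r := by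
          rw [h2]
        simpa [mul_assoc] using h4.symm
      rw [h3]; group
    have := hfix _ (R.mul_mem (R.inv_mem s.2) r.2) hrs
    apply Subtype.ext
    exact (inv_mul_eq_one.mp this).symm
  have hsurj := Finite.surjective_of_injective hinj
  obtain ⟨r, hr⟩ := hsurj ⟨x, hx⟩
  have hr' : (r : G) * (f * (r : G)⁻¹ * f⁻¹) = x := congrArg Subtype.val hr
  refine ⟨r, r.2, ?_⟩
  rw [← hr']; group

/-- Uniqueness of the conjugating element. -/
theorem eq_of_conj_eq {R : Subgroup G} {f : G}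
    (hfix : ∀ r ∈ R, f * r * f⁻¹ = r → r = 1) {r s : G} (hr : r ∈ R) (hs : s ∈ R)
    (h : r * f * r⁻¹ = s * f * s⁻¹) : r = s := by
  have h3 : f * (s⁻¹ * r) = (s⁻¹ * r) * f := by
    have h4 : s⁻¹ * (r * f * r⁻¹) * r = s⁻¹ * (s * f * s⁻¹) * r := by rw [h]
    simpa [mul_assoc] using h4.symm
  have := hfix _ (R.mul_mem (R.inv_mem hs) hr) (by rw [h3]; group)
  exact (inv_mul_eq_one.mp this).symm

/-- The fixed-point-free hypothesis for `f⁻¹`. -/
theorem fix_inv {R : Subgroup G} {f : G}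
    (hfix : ∀ r ∈ R, f * r * f⁻¹ = r → r = 1) : ∀ r ∈ R, f⁻¹ * r * f⁻¹⁻¹ = r → r = 1 := by
  intro r hr h
  apply hfix r hr
  have h2 : f⁻¹ * r * f = r := by simpa using h
  have : r * f = f * r := by
    have h3 := congrArg (f * ·) h2
    simpa [mul_assoc] using h3
  rw [← this]; group

/-- An element normalised by `f` in the finite subgroup `R` also is normalised by `f⁻¹`. -/
theorem inv_norm [Finite G] {R : Subgroup G} {f : G} (hfR : ∀ r ∈ R, f * r * f⁻¹ ∈ R) :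
    ∀ r ∈ R, f⁻¹ * r * f⁻¹⁻¹ ∈ R := by
  intro r hr
  have hle : R.map (MulAut.conj f).toMonoidHom ≤ R := by
    rintro _ ⟨s, hs, rfl⟩
    simpa using hfR s hs
  have hcard : Nat.card (R.map (MulAut.conj f).toMonoidHom) = Nat.card R :=
    Nat.card_congr (R.equivMapOfInjective _ (MulAut.conj f).injective).symm.toEquiv
  have heq : R.map (MulAut.conj f).toMonoidHom = R :=
    Subgroup.eq_of_le_of_card_ge hle (le_of_eq hcard.symm)
  have hr' : r ∈ R.map (MulAut.conj f).toMonoidHom := by rw [heq]; exact hr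
  obtain ⟨s, hs, hsr⟩ := hr'
  have hsr' : f * s * f⁻¹ = r := by simpa using hsr
  have : f⁻¹ * r * f⁻¹⁻¹ = s := by rw [← hsr']; group
  rw [this]; exact hs

/-- For a fixed-point-free element `f` of order three, `x · x^f · x^(f²) = 1` on `R`. -/
theorem mul_three [Finite G] {R : Subgroup G} {f : G} (hf3 : f * f * f = 1)
    (hfR : ∀ r ∈ R, f * r * f⁻¹ ∈ R)
    (hfix : ∀ r ∈ R, f * r * f⁻¹ = r → r = 1) {x : G} (hx : x ∈ R) :
    x * (f * x * f⁻¹) * (f * f * x * (f * f)⁻¹) = 1 := by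
  obtain ⟨r, hr, h⟩ := exists_conj_eq hfR hfix hx
  have hx' : x = r * f * r⁻¹ * f⁻¹ := by rw [h]; group
  have hf2 : (f * f)⁻¹ = f := by
    rw [inv_eq_iff_mul_eq_one]; simpa [mul_assoc] using hf3
  have hfff : f * (f * f) = 1 := by simpa [mul_assoc] using hf3
  rw [hf2, hx']
  have : r * f * r⁻¹ * f⁻¹ * (f * (r * f * r⁻¹ * f⁻¹) * f⁻¹) * (f * f * (r * f * r⁻¹ * f⁻¹) * f) =
      r * (f * (f * f)) * r⁻¹ := by group
  rw [this, hfff]; group

/-- Second version of `mul_three`, in the opposite order. -/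
theorem mul_three' [Finite G] {R : Subgroup G} {f : G} (hf3 : f * f * f = 1)
    (hfR : ∀ r ∈ R, f * r * f⁻¹ ∈ R)
    (hfix : ∀ r ∈ R, f * r * f⁻¹ = r → r = 1) {x : G} (hx : x ∈ R) :
    (f * f * x * (f * f)⁻¹) * (f * x * f⁻¹) * x = 1 := by
  have h := mul_three hf3 hfR hfix (R.inv_mem hx)
  have e : (f * f * x * (f * f)⁻¹) * (f * x * f⁻¹) * x =
      (x⁻¹ * (f * x⁻¹ * f⁻¹) * (f * f * x⁻¹ * (f * f)⁻¹))⁻¹ := by
    simp only [mul_inv_rev, inv_inv, mul_assoc]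
  rw [e, h, inv_one]

section Complement

variable {R C K : Subgroup G} {f : G}

/-- Every element of `C` is, modulo `R` on the left, an element commuting with `f`. -/
theorem exists_commute [Finite G] (hfR : ∀ r ∈ R, f * r * f⁻¹ ∈ R)
    (hfix : ∀ r ∈ R, f * r * f⁻¹ = r → r = 1)
    {c : G} (hc : c * f * c⁻¹ * f⁻¹ ∈ R) :
    ∃ r ∈ R, (r⁻¹ * c) * f = f * (r⁻¹ * c) := by
  obtain ⟨r, hr, h⟩ := exists_conj_eq hfR hfix hc
  refine ⟨r, hr, ?_⟩
  have h1 : r * f * r⁻¹ = c * f * c⁻¹ := by rw [h]; group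
  have h2 : r⁻¹ * (r * f * r⁻¹) * c = r⁻¹ * (c * f * c⁻¹) * c := by rw [h1]
  have h3 : r⁻¹ * (r * f * r⁻¹) * c = f * (r⁻¹ * c) := by group
  have h4 : r⁻¹ * (c * f * c⁻¹) * c = (r⁻¹ * c) * f := by group
  rw [h3, h4] at h2
  exact h2.symm

/-- Every element inverting `f` modulo `R` is, modulo `R` on the left, an element inverting `f`. -/
theorem exists_invert [Finite G] (hfR : ∀ r ∈ R, f * r * f⁻¹ ∈ R)
    (hfix : ∀ r ∈ R, f * r * f⁻¹ = r → r = 1)
    {k : G} (hk : k * f * k⁻¹ * f ∈ R) :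
    ∃ r ∈ R, (r⁻¹ * k) * f * (r⁻¹ * k)⁻¹ = f⁻¹ := by
  obtain ⟨r, hr, h⟩ := exists_conj_eq (f := f⁻¹) (inv_norm hfR) (fix_inv hfix) hk
  refine ⟨r, hr, ?_⟩
  have h1 : r * f⁻¹ * r⁻¹ = k * f * k⁻¹ := by rw [h]; group
  have : (r⁻¹ * k) * f * (r⁻¹ * k)⁻¹ = r⁻¹ * (k * f * k⁻¹) * r := by group
  rw [this, ← h1]; group

/-- An element of `R` normalising `⟨f⟩` is trivial. -/
theorem eq_one_of_invert (hf3 : f * f * f = 1) (hfR : ∀ r ∈ R, f * r * f⁻¹ ∈ R)
    (hfn : f ∉ R) {r : G} (hr : r ∈ R) (h : r * f * r⁻¹ = f⁻¹) : False := by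
  -- `r f r⁻¹ f⁻¹ ∈ R` equals `f⁻¹ f⁻¹ = f`
  apply hfn
  have h1 : r * (f * r⁻¹ * f⁻¹) ∈ R := R.mul_mem hr (hfR _ (R.inv_mem hr))
  have h2 : r * (f * r⁻¹ * f⁻¹) = f := by
    have : r * (f * r⁻¹ * f⁻¹) = (r * f * r⁻¹) * f⁻¹ := by group
    rw [this, h]
    have hf : f = (f * f * f) * (f⁻¹ * f⁻¹) := by group
    rw [hf3, one_mul] at hf
    exact hf.symm
  rwa [h2] at h1

/-- If `k` commutes with `f` or inverts `f` and `l` commutes with `f`, and the commutator of `k` and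
`l` is in `R`, then `k` and `l` commute. -/
theorem commute_of_mem (hfix : ∀ r ∈ R, f * r * f⁻¹ = r → r = 1)
    {k l : G} (hk : k * f * k⁻¹ = f ∨ k * f * k⁻¹ = f⁻¹) (hl : l * f = f * l)
    (hkl : k * l * k⁻¹ * l⁻¹ ∈ R) : k * l = l * k := by
  have hl' : l * f * l⁻¹ = f := by rw [hl]; group
  have hl'' : l⁻¹ * f * l = f := by
    have : l⁻¹ * (f * l) = f := by rw [← hl]; group
    rw [← mul_assoc] at this; exact this
  have h1 : (k * l * k⁻¹ * l⁻¹) * f * (k * l * k⁻¹ * l⁻¹)⁻¹ = f := by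
    have e : (k * l * k⁻¹ * l⁻¹) * f * (k * l * k⁻¹ * l⁻¹)⁻¹ =
        k * (l * (k⁻¹ * (l⁻¹ * f * l) * k) * l⁻¹) * k⁻¹ := by group
    rw [e, hl'']
    rcases hk with hk | hk
    · have hk' : k⁻¹ * f * k = f := by
        have h : k⁻¹ * (k * f * k⁻¹) * k = k⁻¹ * f * k := by rw [hk]
        rw [← h]; group
      rw [hk', hl', hk]
    · have hk' : k⁻¹ * f * k = f⁻¹ := by
        have h : (k⁻¹ * (k * f * k⁻¹) * k)⁻¹ = (k⁻¹ * f⁻¹ * k)⁻¹ := by rw [hk]
        have e1 : (k⁻¹ * (k * f * k⁻¹) * k)⁻¹ = f⁻¹ := by group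
        have e2 : (k⁻¹ * f⁻¹ * k)⁻¹ = k⁻¹ * f * k := by group
        rw [e1, e2] at h
        exact h.symm
      have hl3 : l * f⁻¹ * l⁻¹ = f⁻¹ := by
        have : l * f⁻¹ * l⁻¹ = (l * f * l⁻¹)⁻¹ := by group
        rw [this, hl']
      have hk3 : k * f⁻¹ * k⁻¹ = f := by
        have : k * f⁻¹ * k⁻¹ = (k * f * k⁻¹)⁻¹ := by group
        rw [this, hk, inv_inv]
      rw [hk', hl3, hk3]
  have h2 := hfix _ hkl (by
    have this : (k * l * k⁻¹ * l⁻¹) * f * (k * l * k⁻¹ * l⁻¹)⁻¹ * (k * l * k⁻¹ * l⁻¹) =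
        f * (k * l * k⁻¹ * l⁻¹) := by rw [h1]
    rw [← this]; group)
  have h3 := congrArg (· * (l * k)) h2
  simp only [one_mul] at h3
  have e : k * l * k⁻¹ * l⁻¹ * (l * k) = k * l := by group
  rw [e] at h3
  exact h3

/-- The square of an element inverting `f` whose square lies in `R` is trivial. -/
theorem sq_eq_one (hfix : ∀ r ∈ R, f * r * f⁻¹ = r → r = 1)
    {t : G} (ht : t * f * t⁻¹ = f⁻¹) (ht2 : t * t ∈ R) : t * t = 1 := by
  apply hfix _ ht2
  have h1 : t * t * f * (t * t)⁻¹ = f := by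
    have : t * t * f * (t * t)⁻¹ = t * (t * f * t⁻¹) * t⁻¹ := by group
    rw [this, ht]
    have : t * f⁻¹ * t⁻¹ = (t * f * t⁻¹)⁻¹ := by group
    rw [this, ht, inv_inv]
  have h2 : t * t * f * (t * t)⁻¹ * (t * t) = f * (t * t) := by rw [h1]
  rw [← h2]; group

/-- The package: the complement `L` of `R` in `C` centralising `f`. -/
theorem complement [Finite G]
    (hfR : ∀ r ∈ R, f * r * f⁻¹ ∈ R) (hfix : ∀ r ∈ R, f * r * f⁻¹ = r → r = 1)
    (hRC : R ≤ C) (hCf : ∀ c ∈ C, c * f * c⁻¹ * f⁻¹ ∈ R) :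
    ∃ L : Subgroup G, L ≤ C ∧ (∀ l ∈ L, l * f = f * l) ∧ (∀ l ∈ L, l ∈ R → l = 1) ∧
      (∀ c ∈ C, ∃ r ∈ R, ∃ l ∈ L, c = r * l) ∧ (∀ c ∈ C, c * f = f * c → c ∈ L) := by
  refine ⟨C ⊓ Subgroup.centralizer {f}, inf_le_left, ?_, ?_, ?_, ?_⟩
  · rintro l ⟨-, hl⟩
    exact (Subgroup.mem_centralizer_singleton_iff.mp hl)
  · rintro l ⟨-, hl⟩ hlR
    apply hfix l hlR
    have := Subgroup.mem_centralizer_singleton_iff.mp hl
    rw [← this]; group
  · intro c hc
    obtain ⟨r, hr, h⟩ := exists_commute hfR hfix (hCf c hc)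
    refine ⟨r, hr, r⁻¹ * c, ⟨C.mul_mem (C.inv_mem (hRC hr)) hc,
      Subgroup.mem_centralizer_singleton_iff.mpr h⟩, by group⟩
  · intro c hc h
    exact ⟨hc, Subgroup.mem_centralizer_singleton_iff.mpr h⟩

/-- `C` is the semidirect product of `R` and `L`, cardinality form. -/
theorem card_complement [Finite G] {L : Subgroup G}
    (hRC : R ≤ C) (hLC : L ≤ C) (hLR : ∀ l ∈ L, l ∈ R → l = 1)
    (hRL : ∀ c ∈ C, ∃ r ∈ R, ∃ l ∈ L, c = r * l) :
    Nat.card C = Nat.card R * Nat.card L := by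
  classical
  have hbij : Function.Bijective (fun p : R × L =>
      (⟨(p.1 : G) * (p.2 : G), C.mul_mem (hRC p.1.2) (hLC p.2.2)⟩ : C)) := by
    constructor
    · rintro ⟨r, l⟩ ⟨r', l'⟩ h
      have h' : (r : G) * l = (r' : G) * l' := congrArg Subtype.val h
      have h1 : (r' : G)⁻¹ * r = l' * (l : G)⁻¹ := by
        have := congrArg (fun t => (r' : G)⁻¹ * t * (l : G)⁻¹) h'
        simpa [mul_assoc] using this
      have h2 : (l' : G) * (l : G)⁻¹ = 1 := by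
        apply hLR _ (L.mul_mem l'.2 (L.inv_mem l.2))
        rw [← h1]
        exact R.mul_mem (R.inv_mem r'.2) r.2
      have h3 : (l' : G) = l := by rwa [mul_inv_eq_one] at h2
      have h4 : (r' : G)⁻¹ * r = 1 := by rw [h1, h2]
      have h5 : (r : G) = r' := (inv_mul_eq_one.mp h4).symm
      exact Prod.ext (Subtype.ext h5) (Subtype.ext h3.symm)
    · rintro ⟨c, hc⟩
      obtain ⟨r, hr, l, hl, h⟩ := hRL c hc
      exact ⟨(⟨r, hr⟩, ⟨l, hl⟩), Subtype.ext h.symm⟩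
  rw [← Nat.card_prod]
  exact (Nat.card_congr (Equiv.ofBijective _ hbij)).symm

end Complement

end Cfsg.Agent.LargeExtra.FourGroupFrattini
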