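import Cfsg.Agent.LargeExtra.GLRecRank

/-!
# Recognition of `GL_{n+1}(2)`: adjacency is an equivalence relation

`D.K`: the subgroup of all `x` with `A ∩ N(x A x⁻¹) ≠ 1` (the stabiliser of the component
containing `A`).
-/

set_option autoImplicit false

namespace Cfsg.Agent.LargeExtra.GLRec

open Module

section Lin2

variable {U : Type*} [AddCommGroup U] [Module (ZMod 2) U]

theorem exists_one {f : Dual (ZMod 2) U} (hf : f ≠ 0) : ∃ u, f u = 1 := by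
  by_contra h
  push Not at h
  apply hf
  ext u
  exact (zne1 _).1 (h u)

theorem exists_both {f g : Dual (ZMod 2) U} (hf : f ≠ 0) (hg : g ≠ 0) :
    ∃ c, f c = 1 ∧ g c = 1 := by
  by_contra h
  push Not at h
  obtain ⟨a, ha⟩ := exists_one hf
  obtain ⟨b, hb⟩ := exists_one hg
  have hga : g a = 0 := (zne1 _).1 (h a ha)
  have hfb : f b = 0 := by
    rw [← zne1]
    intro h2
    exact h b h2 hb
  apply h (a + b)
  · rw [map_add, ha, hfb, add_zero]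
  · rw [map_add, hga, hb, zero_add]

theorem exists_equiv_dual {f g : Dual (ZMod 2) U} (hf : f ≠ 0) (hg : g ≠ 0) :
    ∃ e : U ≃ₗ[ZMod 2] U, ∀ u, g (e u) = f u := by
  by_cases hfg : f = g
  · exact ⟨LinearEquiv.refl _ _, fun u => by rw [hfg]; rfl⟩
  · obtain ⟨c, hfc, hgc⟩ := exists_both hf hg
    have hc : (f + g) c = 0 := by
      rw [LinearMap.add_apply, hfc, hgc]; decide
    refine ⟨LinearEquiv.transvection hc, fun u => ?_⟩
    rw [LinearEquiv.transvection.apply, map_add, map_smul, hgc, LinearMap.add_apply]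
    rcases zcases (f u) with h1 | h1 <;> rcases zcases (g u) with h2 | h2 <;>
      rw [h1, h2] <;> decide

theorem smul_mem_pair (x : ZMod 2) (c : U) : x • c = 0 ∨ x • c = c := by
  rcases zcases x with rfl | rfl
  · left; rw [zero_smul]
  · right; rw [one_smul]

/-- two functionals with nested kernels are equal -/
theorem dual_eq_of_ker_le {f g : Dual (ZMod 2) U} (hg : g ≠ 0)
    (h : ∀ u, f u = 0 → g u = 0) : f = g := by
  obtain ⟨a, ha⟩ := exists_one hg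
  have hfa : f a = 1 := by
    rw [← zne]
    intro h0
    rw [h a h0] at ha
    exact absurd ha (by decide)
  ext u
  rcases zcases (f u) with h1 | h1
  · rw [h1, h u h1]
  · rw [h1]
    have h2 : g (u + a) = 0 := h _ (by rw [map_add, h1, hfa]; decide)
    rw [map_add, ha] at h2
    rcases zcases (g u) with h3 | h3
    · rw [h3] at h2; exact absurd h2 (by decide)
    · exact h3.symm

end Lin2

namespace GLData

variable {G U : Type*} [Group G] [AddCommGroup U] [Module (ZMod 2) U] [Finite U]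

/-- `A ∩ M' = ker f`, adjacent pair. -/
structure Ax (D D' : GLData G U) (f : Dual (ZMod 2) U) : Prop where
  disj : Disj D D'
  ne_bot : D'.fx D ≠ ⊥
  mem_iff : ∀ u, u ∈ D.fx D' ↔ f u = 0

section Ax

variable {D D' D'' : GLData G U} {f : Dual (ZMod 2) U}

theorem Ax.ne_zero (h : Ax D D' f) : f ≠ 0 := by
  rintro rfl
  exact fx_ne_top h.disj h.ne_bot (eq_top_iff.2 fun x _ => (h.mem_iff x).2 rfl)

theorem Ax.nl_eq (h : Ax D D' f) {v : U} (hv : v ∈ D'.fx D) {a : U} (ha : f a = 1) (u : U) :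
    D.nl D' v u = f u • D.nl D' v a := by
  have h1 : D.nl D' v (u + f u • a) = 0 := by
    apply nl_of_mem h.disj hv
    rw [h.mem_iff, map_add, map_smul, ha]
    rcases zcases (f u) with h1 | h1 <;> rw [h1] <;> decide
  rw [map_add, map_smul] at h1
  exact eq_of_add h1

theorem Ax.exists_cen (h : Ax D D' f) {c : U} (hc : f c = 0) :
    ∃ v ∈ D'.fx D, ∀ u, D.nl D' v u = f u • c := by
  obtain ⟨a, ha⟩ := exists_one h.ne_zero
  have ha' : a ∉ D.fx D' := by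
    rw [h.mem_iff, ha]; decide
  obtain ⟨v, hv, hva⟩ := exists_nl_eq h.disj h.ne_bot ha' ((h.mem_iff c).2 hc)
  exact ⟨v, hv, fun u => by rw [h.nl_eq hv ha, hva]⟩

theorem Ax.v_ne_zero (h : Ax D D' f) {v c : U} (hc0 : c ≠ 0)
    (hvc : ∀ u, D.nl D' v u = f u • c) : v ≠ 0 := by
  rintro rfl
  obtain ⟨a, ha⟩ := exists_one h.ne_zero
  have := hvc a
  rw [nl_zero, ha, one_smul] at this
  exact hc0 this.symm

theorem Ax.fc (h : Ax D D' f) {v c : U} (hv : v ∈ D'.fx D)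
    (hvc : ∀ u, D.nl D' v u = f u • c) : f c = 0 := by
  obtain ⟨a, ha⟩ := exists_one h.ne_zero
  have h1 := nl_mem h.disj hv a
  rw [hvc a, ha, one_smul, h.mem_iff] at h1
  exact h1

theorem Ax.act_eq (_ : Ax D D' f) {v c : U}
    (hvc : ∀ u, D.nl D' v u = f u • c) (u : U) : D.act (D'.i v) u = f u • c + u := by
  rw [act_eq_nl, hvc]

omit [Finite U] in
theorem Dl.unique {p t : G} {δ ε : U} (h1 : D.Dl p t δ) (h2 : D.Dl p t ε) : δ = ε := by
  unfold Dl at *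
  exact D.inj (mul_left_cancel (h1.symm.trans h2))

omit [Finite U] in
theorem act_tv {p : G} {ψ : Dual (ZMod 2) U} {b : U}
    (hψ : ψ b = 0) (h : ∀ u, D.act p u = LinearEquiv.transvection hψ u) (u : U) :
    D.act p u = u + ψ u • b := by
  rw [h, LinearEquiv.transvection.apply]

theorem exists_lift_tv (D : GLData G U) {ψ : Dual (ZMod 2) U} {b : U} (hψ : ψ b = 0) :
    ∃ p ∈ D.M, ∀ u, D.act p u = u + ψ u • b := by
  obtain ⟨p, hp, h⟩ := D.exists_lift (LinearEquiv.transvection hψ)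
  exact ⟨p, hp, act_tv hψ h⟩

theorem act_tv_inv {p : G} (hp : p ∈ D.M) {ψ : Dual (ZMod 2) U} {b : U}
    (hψ : ψ b = 0) (h : ∀ u, D.act p u = u + ψ u • b) (u : U) :
    D.act p⁻¹ u = u + ψ u • b := by
  apply act_inv_of_invol hp h
  intro u
  rw [map_add, map_smul, hψ, smul_zero, add_zero, addd_right]

theorem exists_dl_tv {p : G} (hp : p ∈ D.M) {ψ : Dual (ZMod 2) U} {b c : U}
    (h : ∀ u, D.act p u = u + ψ u • b) (hψc : ψ c = 0) {t : G} (ht : t ∈ D.M)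
    {f : Dual (ZMod 2) U} (hta : ∀ u, D.act t u = f u • c + u) (hfb : f b = 0) :
    ∃ δ, D.Dl p t δ := by
  apply exists_dl hp ht
  intro u
  rw [h, hta, hta, h, map_add, map_add, map_smul, map_smul, hψc, hfb, smul_zero, smul_zero,
    zero_add, add_zero]
  abel

/-- (3): the conjugate of `t` (centre `b`) under a lift of a transvection with centre `b`. -/
theorem Ax.dl_cen (h5 : 5 ≤ finrank (ZMod 2) U) (h : Ax D D' f) {v b : U} (hv : v ∈ D'.fx D)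
    (hvb : ∀ u, D.nl D' v u = f u • b) (hb0 : b ≠ 0) {ψ : Dual (ZMod 2) U} (hψ : ψ b = 0)
    {p : G} (hp : p ∈ D.M) (hpa : ∀ u, D.act p u = u + ψ u • b) {δ : U}
    (hδ : D.Dl p (D'.i v) δ) : δ = 0 ∨ δ = b := by
  by_contra hcon
  push Not at hcon
  obtain ⟨hδ0, hδb⟩ := hcon
  have hv0 := h.v_ne_zero hb0 hvb
  have hfb := h.fc hv hvb
  have hfδ : f δ = 0 := (h.mem_iff δ).1 (dl_mem hv0 hδ)
  obtain ⟨b₁, hfb₁, hψb₁, hb₁0, hb₁b, hb₁δ, hb₁⟩ := exists_vec h5 f ψ b δ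
  have hne : δ ≠ b + b₁ := by
    intro h
    apply hb₁
    rw [h, addd_left]
  obtain ⟨ψ₁, hψ₁δ, hψ₁b, hψ₁b₁⟩ := exists_dual2 hδ0 hδb hb₁δ.symm hne
  obtain ⟨q, hq, hqa⟩ := exists_lift_tv D hψ₁b₁
  have hqi := act_tv_inv hq hψ₁b₁ hqa
  have ht : D'.i v ∈ D.M := hv
  obtain ⟨δ₂, hδ₂⟩ := exists_dl_tv hq hqa hψ₁b ht (h.act_eq hvb) hfb₁
  have hpq := mul_mem hp hq
  have hqpq := mul_mem (inv_mem hq) hpq
  have hconj : ∀ u, D.act (q⁻¹ * (p * q)) u = D.act p u := by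
    intro u
    rw [D.act_mul (inv_mem hq) hpq, D.act_mul hp hq, hqa, hpa, hpa, hqi, map_add, map_add,
      map_smul, map_smul, hψb₁, smul_zero, add_zero, map_add, map_smul, hψ₁b₁, hψ₁b,
      smul_zero, smul_zero, add_zero, add_zero]
    have : u + ψ₁ u • b₁ + ψ u • b + ψ₁ u • b₁ = u + ψ u • b + (ψ₁ u • b₁ + ψ₁ u • b₁) := by abel
    rw [this, addd, add_zero]
  obtain ⟨a', ha'⟩ := D.eq_mul_i hqpq hp hconj
  have h1 := (hδ₂.inv hq).mul (inv_mem hq) (hδ.mul hp hδ₂)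
  rw [ha'] at h1
  have h2 := hδ.mul hp (dl_i hv a')
  have h3 := h1.unique h2
  rw [hvb, hpa (f a' • b), map_smul, hψ, smul_zero, zero_smul, add_zero, hpa δ₂, hqi, hqi,
    map_add, map_add, map_smul, hψ₁b, hψ₁δ, smul_zero, add_zero] at h3
  have h4 : δ₂ + ψ₁ δ₂ • b₁ + (δ + (δ₂ + ψ δ₂ • b) + (1 + ψ₁ δ₂) • b₁) =
      (δ₂ + δ₂) + (ψ₁ δ₂ • b₁ + ψ₁ δ₂ • b₁) + (δ + (ψ δ₂ • b + b₁)) := by
    rw [add_smul, one_smul]; abel
  rw [h4, addd, addd, zero_add, zero_add] at h3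
  have h5 := add_left_cancel h3
  have h6 : b₁ = f a' • b + ψ δ₂ • b := by
    rw [← h5]
    have : ψ δ₂ • b + b₁ + ψ δ₂ • b = b₁ + (ψ δ₂ • b + ψ δ₂ • b) := by abel
    rw [this, addd, add_zero]
  rw [← add_smul] at h6
  rcases smul_mem_pair (f a' + ψ δ₂) b with h7 | h7
  · exact hb₁0 (h6.trans h7)
  · exact hb₁b (h6.trans h7)

/-- (3''): the same for elements of `A'_0` with arbitrary centre. -/
theorem Ax.dl_cen' (h5 : 5 ≤ finrank (ZMod 2) U) (h : Ax D D' f) {v c : U} (hv : v ∈ D'.fx D)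
    (hvc : ∀ u, D.nl D' v u = f u • c) {b : U} (hfb : f b = 0) {ψ : Dual (ZMod 2) U}
    (hψ : ψ b = 0) (hψc : ψ c = 0)
    {p : G} (hp : p ∈ D.M) (hpa : ∀ u, D.act p u = u + ψ u • b) {δ : U}
    (hδ : D.Dl p (D'.i v) δ) : δ = 0 ∨ δ = c := by
  -- it suffices to find a
  suffices hs : ∃ a, D.Dl p (D'.i v) (D.nl D' v a) by
    obtain ⟨a, ha⟩ := hs
    rw [hδ.unique ha, hvc]
    exact smul_mem_pair _ _
  by_cases hb0 : b = 0
  · obtain ⟨a, rfl⟩ := D.eq_i_of_act hp (fun u => by rw [hpa, hb0, smul_zero, add_zero])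
    exact ⟨a, dl_i hv a⟩
  · obtain ⟨v₀, hv₀, hv₀b⟩ := h.exists_cen hfb
    have hv₀0 := h.v_ne_zero hb0 hv₀b
    have ht : D'.i v₀ ∈ D.M := hv₀
    obtain ⟨δ₀, hδ₀⟩ := exists_dl_tv hp hpa hψ ht (h.act_eq hv₀b) hfb
    obtain ⟨a, ha⟩ : ∃ a, δ₀ = D.nl D' v₀ a := by
      rcases h.dl_cen h5 hv₀ hv₀b hb0 hψ hp hpa hδ₀ with h1 | h1
      · exact ⟨0, by rw [map_zero, h1]⟩
      · obtain ⟨a, ha⟩ := exists_one h.ne_zero
        exact ⟨a, by rw [hv₀b, ha, one_smul, h1]⟩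
    rw [ha] at hδ₀
    obtain ⟨q, hq, hq', hqact, hqc, hqp⟩ := adm D' hv₀ hv₀0 hp hδ₀
    obtain ⟨hy, hxy⟩ := adm_conj hq hq' hv
    set y := D'.act q v with hydef
    have hyv : y = v := by
      obtain ⟨a₀, ha₀⟩ := exists_one h.ne_zero
      have ha₀' : a₀ ∉ D.fx D' := by
        rw [h.mem_iff, ha₀]; decide
      apply nl_inj h.disj hy hv ha₀'
      have h1 := hxy a₀
      rw [hqact, hqact, hpa, hpa, hvc, map_smul ψ, hψc, smul_zero, zero_smul, add_zero, map_add,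
        map_smul, nl_of_mem h.disj hy ((h.mem_iff b).2 hfb), smul_zero, add_zero] at h1
      rw [h1, hvc]
    have h1 : D'.i v = q * D'.i v * q⁻¹ := by
      rw [← D'.i_act hq', ← hydef, hyv]
    have h2 : D.Dl q (D'.i v) 0 := by
      unfold Dl
      rw [D.i_zero, mul_one, ← h1]
    have h3 : p = D.i a * q := by
      rw [hqp, ← mul_assoc, D.i_sq, one_mul]
    refine ⟨a, ?_⟩
    have h4 := (dl_i hv a).mul (D.i_mem a) h2
    rw [map_zero, add_zero, ← h3] at h4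
    exact h4

/-- (4): elements of different adjacent members with the same action. -/
theorem Ax.same_center (h5 : 5 ≤ finrank (ZMod 2) U) (h' : Ax D D' f) (h'' : Ax D D'' f)
    {v₁ v₂ c : U} (hv₁ : v₁ ∈ D'.fx D) (hv₂ : v₂ ∈ D''.fx D)
    (h1 : ∀ u, D.nl D' v₁ u = f u • c) (h2 : ∀ u, D.nl D'' v₂ u = f u • c) (hc : c ≠ 0) :
    D''.i v₂ = D'.i v₁ ∨ D''.i v₂ = D'.i v₁ * D.i c := by
  have ht₁ : D'.i v₁ ∈ D.M := hv₁
  have ht₂ : D''.i v₂ ∈ D.M := hv₂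
  have hv₁0 := h'.v_ne_zero hc h1
  obtain ⟨w, hw⟩ := D.eq_mul_i ht₂ ht₁ (fun u => by rw [h''.act_eq h2, h'.act_eq h1])
  suffices hs : w = 0 ∨ w = c by
    rcases hs with rfl | rfl
    · left; rw [hw, D.i_zero, mul_one]
    · right; exact hw
  by_contra hcon
  push Not at hcon
  obtain ⟨hw0, hwc⟩ := hcon
  obtain ⟨b, hfb, -, hb0, hbc, hbw, hb⟩ := exists_vec h5 f f c w
  have hne : w ≠ b + c := by
    intro h
    apply hb
    rw [h, add_comm b c, addd_left]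
  obtain ⟨ψ, hψw, hψb, hψc⟩ := exists_dual2 hw0 hbw.symm hwc hne
  obtain ⟨p, hp, hpa⟩ := exists_lift_tv D hψb
  obtain ⟨δ, hδ⟩ := exists_dl_tv hp hpa hψc ht₁ (h'.act_eq h1) hfb
  obtain ⟨ε, hε⟩ := exists_dl_tv hp hpa hψc ht₂ (h''.act_eq h2) hfb
  have hδc := h'.dl_cen' h5 hv₁ h1 hfb hψb hψc hp hpa hδ
  have hεc := h''.dl_cen' h5 hv₂ h2 hfb hψb hψc hp hpa hε
  have h3 : D'.i v₁ * D.i (w + ε) = D'.i v₁ * D.i (δ + (w + b)) := by
    unfold Dl at hδ hε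
    calc D'.i v₁ * D.i (w + ε) = D''.i v₂ * D.i ε := by rw [D.add, ← mul_assoc, ← hw]
      _ = p * D''.i v₂ * p⁻¹ := hε.symm
      _ = (p * D'.i v₁ * p⁻¹) * (p * D.i w * p⁻¹) := by rw [hw]; group
      _ = D'.i v₁ * D.i δ * D.i (D.act p w) := by rw [hδ, D.i_act hp]
      _ = D'.i v₁ * D.i (δ + (w + b)) := by
        rw [hpa, hψw, one_smul, mul_assoc, ← D.add]
  have h4 := D.inj (mul_left_cancel h3)
  have h5 : b = δ + ε := by
    have : δ + (w + b) = w + (δ + b) := by abel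
    rw [this] at h4
    have h6 := add_left_cancel h4
    rw [h6, addd_left]
  rcases hδc with rfl | rfl <;> rcases hεc with rfl | rfl
  · exact hb0 (by rw [h5, add_zero])
  · exact hbc (by rw [h5, zero_add])
  · exact hbc (by rw [h5, add_zero])
  · exact hb0 (by rw [h5, addd])

/-- The product of elements of two adjacent members with the same centre. -/
theorem commute_of_center (h5 : 5 ≤ finrank (ZMod 2) U) {D₁ D₂ D₃ : GLData G U}
    {f g : Dual (ZMod 2) U}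
    (A₁ : Ax D D₁ f) (A₂ : Ax D D₂ g) (A₃ : Ax D D₃ (f + g)) {c v₁ v₂ v₃ : U} (hc : c ≠ 0)
    (hv₁ : v₁ ∈ D₁.fx D) (hv₂ : v₂ ∈ D₂.fx D) (hv₃ : v₃ ∈ D₃.fx D)
    (h1 : ∀ u, D.nl D₁ v₁ u = f u • c) (h2 : ∀ u, D.nl D₂ v₂ u = g u • c)
    (h3 : ∀ u, D.nl D₃ v₃ u = (f + g) u • c) :
    D₁.i v₁ * D₂.i v₂ = D₂.i v₂ * D₁.i v₁ := by
  have ht₁ : D₁.i v₁ ∈ D.M := hv₁
  have ht₂ : D₂.i v₂ ∈ D.M := hv₂
  have ht₃ : D₃.i v₃ ∈ D.M := hv₃
  have hfc := A₁.fc hv₁ h1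
  have hgc := A₂.fc hv₂ h2
  have hc₂ : D.i c * D₂.i v₂ = D₂.i v₂ * D.i c := by
    apply comm_fx A₂.disj _ hv₂
    exact (A₂.mem_iff c).2 hgc
  have hc₃ : D.i c * D₃.i v₃ = D₃.i v₃ * D.i c := by
    apply comm_fx A₃.disj _ hv₃
    exact (A₃.mem_iff c).2 (by rw [LinearMap.add_apply, hfc, hgc, add_zero])
  obtain ⟨w, hw⟩ := D.eq_mul_i (mul_mem ht₁ ht₂) ht₃ (fun u => by
    rw [D.act_mul ht₁ ht₂, A₁.act_eq h1, A₂.act_eq h2, A₃.act_eq h3, map_add, map_smul, hfc,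
      smul_zero, zero_add, LinearMap.add_apply, add_smul, add_assoc])
  have hwc : w = 0 ∨ w = c := by
    by_contra hcon
    push Not at hcon
    obtain ⟨hw0, hwc⟩ := hcon
    obtain ⟨b, hfb, hgb, hb0, hbc, hbw, hb⟩ := exists_vec h5 f g c w
    have hne : w ≠ b + c := by
      intro h
      apply hb
      rw [h, add_comm b c, addd_left]
    obtain ⟨ψ, hψw, hψb, hψc⟩ := exists_dual2 hw0 hbw.symm hwc hne
    obtain ⟨p, hp, hpa⟩ := exists_lift_tv D hψb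
    have hfgb : (f + g) b = 0 := by rw [LinearMap.add_apply, hfb, hgb, add_zero]
    obtain ⟨δ₁, hδ₁⟩ := exists_dl_tv hp hpa hψc ht₁ (A₁.act_eq h1) hfb
    obtain ⟨δ₂, hδ₂⟩ := exists_dl_tv hp hpa hψc ht₂ (A₂.act_eq h2) hgb
    obtain ⟨δ₃, hδ₃⟩ := exists_dl_tv hp hpa hψc ht₃ (A₃.act_eq h3) hfgb
    have hδ₁c := A₁.dl_cen' h5 hv₁ h1 hfb hψb hψc hp hpa hδ₁
    have hδ₂c := A₂.dl_cen' h5 hv₂ h2 hgb hψb hψc hp hpa hδ₂
    have hδ₃c := A₃.dl_cen' h5 hv₃ h3 hfgb hψb hψc hp hpa hδ₃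
    have hδ₁comm : D.i δ₁ * D₂.i v₂ = D₂.i v₂ * D.i δ₁ := by
      rcases hδ₁c with rfl | rfl
      · rw [D.i_zero, one_mul, mul_one]
      · exact hc₂
    have h4 : D₁.i v₁ * D₂.i v₂ * D.i (δ₁ + δ₂) = D₁.i v₁ * D₂.i v₂ * D.i (w + (δ₃ + (w + b))) := by
      unfold Dl at hδ₁ hδ₂ hδ₃
      have e1 : p * (D₁.i v₁ * D₂.i v₂) * p⁻¹ = D₁.i v₁ * D₂.i v₂ * D.i (δ₁ + δ₂) := by
        calc p * (D₁.i v₁ * D₂.i v₂) * p⁻¹ = (p * D₁.i v₁ * p⁻¹) * (p * D₂.i v₂ * p⁻¹) := by group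
          _ = D₁.i v₁ * (D.i δ₁ * D₂.i v₂) * D.i δ₂ := by rw [hδ₁, hδ₂]; group
          _ = _ := by rw [hδ₁comm, D.add]; group
      have e2 : p * (D₁.i v₁ * D₂.i v₂) * p⁻¹ =
          D₁.i v₁ * D₂.i v₂ * D.i (w + (δ₃ + (w + b))) := by
        calc p * (D₁.i v₁ * D₂.i v₂) * p⁻¹ = (p * D₃.i v₃ * p⁻¹) * (p * D.i w * p⁻¹) := by
              rw [hw]; group
          _ = D₃.i v₃ * D.i (δ₃ + (w + b)) := by
              rw [hδ₃, ← D.i_act hp, hpa, hψw, one_smul, mul_assoc, ← D.add]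
          _ = (D₁.i v₁ * D₂.i v₂ * D.i w) * D.i (δ₃ + (w + b)) := by
              rw [hw, mul_assoc (D₃.i v₃), D.i_sq, mul_one]
          _ = _ := by rw [D.add w]; group
      exact e1.symm.trans e2
    have h5 := D.inj (mul_left_cancel h4)
    have h6 : b = δ₁ + δ₂ + δ₃ := by
      rw [h5]
      have : w + (δ₃ + (w + b)) + δ₃ = (w + w) + (δ₃ + δ₃) + b := by abel
      rw [this, addd, addd, zero_add, zero_add]
    rcases hδ₁c with rfl | rfl <;> rcases hδ₂c with rfl | rfl <;> rcases hδ₃c with rfl | rfl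
    · exact hb0 (by rw [h6]; simp)
    · exact hbc (by rw [h6]; simp)
    · exact hbc (by rw [h6]; simp)
    · exact hb0 (by rw [h6]; simp [addd])
    · exact hbc (by rw [h6]; simp)
    · exact hb0 (by rw [h6]; simp [addd])
    · exact hb0 (by rw [h6]; simp [addd])
    · exact hbc (by rw [h6]; simp [addd])
  have hwcomm : D.i w * D₃.i v₃ = D₃.i v₃ * D.i w := by
    rcases hwc with rfl | rfl
    · rw [D.i_zero, one_mul, mul_one]
    · exact hc₃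
  have hsq : (D₁.i v₁ * D₂.i v₂) * (D₁.i v₁ * D₂.i v₂) = 1 := by
    rw [hw]
    calc D₃.i v₃ * D.i w * (D₃.i v₃ * D.i w) = D₃.i v₃ * (D.i w * D₃.i v₃) * D.i w := by group
      _ = (D₃.i v₃ * D₃.i v₃) * (D.i w * D.i w) := by rw [hwcomm]; group
      _ = 1 := by rw [D.i_sq, D₃.i_sq, mul_one]
  have hinv : (D₁.i v₁ * D₂.i v₂)⁻¹ = D₁.i v₁ * D₂.i v₂ := inv_eq_of_mul_eq_one_right hsq
  rw [mul_inv_rev, D₁.i_inv, D₂.i_inv] at hinv
  exact hinv.symm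

end Ax

end GLData

end Cfsg.Agent.LargeExtra.GLRec
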