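import Cfsg.Agent.LargeExtra.GLRecLin

/-!
# Recognition of `GL_{n+1}(2)`: the basic data

`GLData G U`: an embedding `i : U → G` of an `F_2`-space `U` as a self-centralising subgroup `A`
of the finite group `G`, whose normaliser `M` induces all of `GL(U)`, with `C_G(a) ≤ M` for
`a ∈ A^#`.
-/

set_option autoImplicit false

namespace Cfsg.Agent.LargeExtra.GLRec

open Module

/-- The basic data for the recognition of `GL_{n+1}(2)`. -/
structure GLData (G U : Type*) [Group G] [AddCommGroup U] [Module (ZMod 2) U] where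
  /-- the embedding -/
  i : U → G
  add : ∀ u v, i (u + v) = i u * i v
  inj : Function.Injective i
  full : ∀ e : U ≃ₗ[ZMod 2] U, ∃ m : G, ∀ u, m * i u * m⁻¹ = i (e u)
  cent : ∀ g : G, (∀ u, g * i u = i u * g) → ∃ u, g = i u
  centx : ∀ u, u ≠ 0 → ∀ g : G, g * i u = i u * g → ∀ v, ∃ w, g * i v * g⁻¹ = i w

namespace GLData

variable {G U : Type*} [Group G] [AddCommGroup U] [Module (ZMod 2) U]

section Basic

variable (D : GLData G U)

theorem i_zero : D.i 0 = 1 := by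
  have h := D.add 0 0
  rw [add_zero] at h
  exact (mul_eq_left.1 h.symm)

theorem i_comm (u v : U) : D.i u * D.i v = D.i v * D.i u := by
  rw [← D.add, ← D.add, add_comm]

theorem i_sq (u : U) : D.i u * D.i u = 1 := by
  rw [← D.add, addd, D.i_zero]

theorem i_inv (u : U) : (D.i u)⁻¹ = D.i u := inv_eq_of_mul_eq_one_right (D.i_sq u)

theorem i_eq_one {u : U} : D.i u = 1 ↔ u = 0 :=
  ⟨fun h => D.inj (by rw [h, D.i_zero]), fun h => by rw [h, D.i_zero]⟩

variable [Finite U]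

/-- The normaliser of the image. -/
def M : Subgroup G where
  carrier := {g | ∀ v, ∃ w, g * D.i v * g⁻¹ = D.i w}
  mul_mem' := by
    intro a b ha hb v
    obtain ⟨w, hw⟩ := hb v
    obtain ⟨w', hw'⟩ := ha w
    exact ⟨w', by rw [← hw', ← hw]; group⟩
  one_mem' := fun v => ⟨v, by group⟩
  inv_mem' := by
    intro g hg v
    choose f hf using hg
    have hinj : Function.Injective f := by
      intro a b hab
      have h1 := hf a
      rw [hab, ← hf b] at h1
      exact D.inj (mul_left_cancel (mul_right_cancel h1))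
    obtain ⟨w, hw⟩ := Finite.surjective_of_injective hinj v
    refine ⟨w, ?_⟩
    rw [← hw, ← hf w]
    group

theorem mem_M {g : G} : g ∈ D.M ↔ ∀ v, ∃ w, g * D.i v * g⁻¹ = D.i w := Iff.rfl

theorem i_mem (u : U) : D.i u ∈ D.M := fun v => ⟨v, by rw [D.i_comm]; group⟩

theorem exists_act {g : G} (hg : g ∈ D.M) :
    ∃ f : U →ₗ[ZMod 2] U, ∀ v, D.i (f v) = g * D.i v * g⁻¹ := by
  choose f hf using hg
  refine ⟨AddMonoidHom.toZModLinearMap 2 (AddMonoidHom.mk' f ?_), fun v => ?_⟩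
  · intro a b
    apply D.inj
    rw [D.add, ← hf, ← hf, ← hf, D.add]
    group
  · exact (hf v).symm

open Classical in
/-- The action of the normaliser on `U` (junk value `0` outside the normaliser). -/
noncomputable def act (g : G) : U →ₗ[ZMod 2] U :=
  if h : ∃ f : U →ₗ[ZMod 2] U, ∀ v, D.i (f v) = g * D.i v * g⁻¹ then h.choose else 0

theorem i_act {g : G} (hg : g ∈ D.M) (v : U) : D.i (D.act g v) = g * D.i v * g⁻¹ := by
  have h := D.exists_act hg
  unfold act
  rw [dif_pos h]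
  exact h.choose_spec v

theorem act_eq {g : G} (hg : g ∈ D.M) {v w : U} (h : g * D.i v * g⁻¹ = D.i w) :
    D.act g v = w := D.inj (by rw [D.i_act hg, h])

theorem act_mul {g h : G} (hg : g ∈ D.M) (hh : h ∈ D.M) (v : U) :
    D.act (g * h) v = D.act g (D.act h v) := by
  apply D.act_eq (mul_mem hg hh)
  rw [D.i_act hg, D.i_act hh]
  group

theorem act_one (v : U) : D.act 1 v = v := D.act_eq (one_mem _) (by group)

theorem act_i (u v : U) : D.act (D.i u) v = v :=
  D.act_eq (D.i_mem u) (by rw [D.i_comm]; group)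

theorem act_inv_act {g : G} (hg : g ∈ D.M) (v : U) : D.act g⁻¹ (D.act g v) = v := by
  rw [← D.act_mul (inv_mem hg) hg, inv_mul_cancel, act_one]

theorem act_act_inv {g : G} (hg : g ∈ D.M) (v : U) : D.act g (D.act g⁻¹ v) = v := by
  rw [← D.act_mul hg (inv_mem hg), mul_inv_cancel, act_one]

theorem act_inj {g : G} (hg : g ∈ D.M) {v w : U} (h : D.act g v = D.act g w) : v = w := by
  rw [← D.act_inv_act hg v, h, D.act_inv_act hg]

theorem exists_lift (e : U ≃ₗ[ZMod 2] U) : ∃ m ∈ D.M, ∀ u, D.act m u = e u := by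
  obtain ⟨m, hm⟩ := D.full e
  have hmM : m ∈ D.M := fun v => ⟨_, hm v⟩
  exact ⟨m, hmM, fun u => D.act_eq hmM (hm u)⟩

theorem eq_i_of_act {g : G} (hg : g ∈ D.M) (h : ∀ u, D.act g u = u) : ∃ u, g = D.i u := by
  apply D.cent
  intro u
  have := D.i_act hg u
  rw [h u] at this
  exact (eq_mul_inv_iff_mul_eq.1 this).symm

theorem eq_mul_i {g h : G} (hg : g ∈ D.M) (hh : h ∈ D.M) (hgh : ∀ u, D.act g u = D.act h u) :
    ∃ u, g = h * D.i u := by
  obtain ⟨u, hu⟩ := D.eq_i_of_act (mul_mem (inv_mem hh) hg) (fun u => by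
    rw [D.act_mul (inv_mem hh) hg, hgh, D.act_inv_act hh])
  exact ⟨u, by rw [← hu]; group⟩

theorem mul_i_eq {g : G} (hg : g ∈ D.M) (u : U) : g * D.i u = D.i (D.act g u) * g := by
  rw [D.i_act hg]; group

theorem i_mul_eq {g : G} (hg : g ∈ D.M) (u : U) : D.i u * g = g * D.i (D.act g⁻¹ u) := by
  rw [D.i_act (inv_mem hg)]; group

theorem centx' {u : U} (hu : u ≠ 0) {g : G} (h : g * D.i u = D.i u * g) : g ∈ D.M :=
  D.centx u hu g h

/-- The subgroup is a TI subgroup. -/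
theorem ti {u : U} (hu : u ≠ 0) {x : G} {w : U} (h : x * D.i u * x⁻¹ = D.i w) : x ∈ D.M := by
  have hw : w ≠ 0 := by
    rintro rfl
    rw [D.i_zero] at h
    apply hu
    rw [← D.i_eq_one]
    have : D.i u = x⁻¹ * (x * D.i u * x⁻¹) * x := by group
    rw [this, h]; group
  obtain ⟨e, he⟩ := exists_equiv hu hw
  obtain ⟨m, hm, hme⟩ := D.exists_lift e
  have h1 : m * D.i u * m⁻¹ = D.i w := by rw [← D.i_act hm, hme, he]
  have h2 : m⁻¹ * x ∈ D.M := by
    apply D.centx' hu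
    have h3 : x * D.i u * x⁻¹ = m * D.i u * m⁻¹ := by rw [h, h1]
    calc m⁻¹ * x * D.i u = m⁻¹ * (x * D.i u * x⁻¹) * x := by group
      _ = m⁻¹ * (m * D.i u * m⁻¹) * x := by rw [h3]
      _ = D.i u * (m⁻¹ * x) := by group
  have := mul_mem hm h2
  rwa [mul_inv_cancel_left] at this

omit [Finite U] in
/-- conjugate data -/
def conj (x : G) : GLData G U where
  i := fun u => x * D.i u * x⁻¹
  add := fun u v => by
    show x * D.i (u + v) * x⁻¹ = x * D.i u * x⁻¹ * (x * D.i v * x⁻¹)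
    rw [D.add]; group
  inj := fun u v h => D.inj (mul_left_cancel (mul_right_cancel h))
  full := fun e => by
    obtain ⟨m, hm⟩ := D.full e
    refine ⟨x * m * x⁻¹, fun u => ?_⟩
    show x * m * x⁻¹ * (x * D.i u * x⁻¹) * (x * m * x⁻¹)⁻¹ = x * D.i (e u) * x⁻¹
    rw [← hm]; group
  cent := fun g hg => by
    obtain ⟨u, hu⟩ := D.cent (x⁻¹ * g * x) (fun u => by
      have h : g * (x * D.i u * x⁻¹) = x * D.i u * x⁻¹ * g := hg u
      calc x⁻¹ * g * x * D.i u = x⁻¹ * (g * (x * D.i u * x⁻¹)) * x := by group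
        _ = x⁻¹ * (x * D.i u * x⁻¹ * g) * x := by rw [h]
        _ = D.i u * (x⁻¹ * g * x) := by group)
    refine ⟨u, ?_⟩
    show g = x * D.i u * x⁻¹
    rw [← hu]; group
  centx := fun u hu g hg v => by
    obtain ⟨w, hw⟩ := D.centx u hu (x⁻¹ * g * x) (by
      have h : g * (x * D.i u * x⁻¹) = x * D.i u * x⁻¹ * g := hg
      calc x⁻¹ * g * x * D.i u = x⁻¹ * (g * (x * D.i u * x⁻¹)) * x := by group
        _ = x⁻¹ * (x * D.i u * x⁻¹ * g) * x := by rw [h]
        _ = D.i u * (x⁻¹ * g * x) := by group) v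
    refine ⟨w, ?_⟩
    show g * (x * D.i v * x⁻¹) * g⁻¹ = x * D.i w * x⁻¹
    rw [← hw]; group

omit [Finite U] in
@[simp] theorem conj_i (x : G) (u : U) : (D.conj x).i u = x * D.i u * x⁻¹ := rfl

theorem mem_conj_M {x g : G} : g ∈ (D.conj x).M ↔ x⁻¹ * g * x ∈ D.M := by
  constructor
  · intro h v
    obtain ⟨w, hw⟩ := h v
    rw [conj_i, conj_i] at hw
    refine ⟨w, ?_⟩
    have : D.i w = x⁻¹ * (x * D.i w * x⁻¹) * x := by group
    rw [this, ← hw]; group
  · intro h v
    obtain ⟨w, hw⟩ := h v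
    refine ⟨w, ?_⟩
    rw [conj_i, conj_i, ← hw]; group

omit [Finite U] in
theorem i_ne_one {u : U} (hu : u ≠ 0) : D.i u ≠ 1 := fun h => hu (D.i_eq_one.1 h)

end Basic

section Pair

variable [Finite U]

/-- trivial intersection -/
def Disj (D D' : GLData G U) : Prop := ∀ u v, D.i u = D'.i v → u = 0

omit [Finite U] in
theorem Disj.symm {D D' : GLData G U} (h : Disj D D') : Disj D' D := by
  intro u v huv
  have hv := h v u huv.symm
  rw [hv, D.i_zero] at huv
  exact D'.i_eq_one.1 huv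

theorem disj_conj (D : GLData G U) {x : G} (hx : x ∉ D.M) : Disj D (D.conj x) := by
  intro u v h
  by_contra hu
  have hv : v ≠ 0 := by
    rintro rfl
    rw [conj_i, D.i_zero] at h
    apply hu
    rw [← D.i_eq_one, h]; group
  exact hx (D.ti hv h.symm)

variable (D D' : GLData G U)

/-- `{u | i u ∈ M'}` -/
def fx : Submodule (ZMod 2) U where
  carrier := {u | D.i u ∈ D'.M}
  add_mem' := by
    intro a b ha hb
    show D.i (a + b) ∈ D'.M
    rw [D.add]
    exact mul_mem ha hb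
  zero_mem' := by
    show D.i 0 ∈ D'.M
    rw [D.i_zero]; exact one_mem _
  smul_mem' := by
    intro c x hx
    rcases zcases c with rfl | rfl
    · rw [zero_smul]; show D.i 0 ∈ D'.M
      rw [D.i_zero]; exact one_mem _
    · rw [one_smul]; exact hx

theorem mem_fx {u : U} : u ∈ D.fx D' ↔ D.i u ∈ D'.M := Iff.rfl

variable {D D'}

theorem comm_fx (hd : Disj D D') {u v : U} (hu : u ∈ D.fx D') (hv : v ∈ D'.fx D) :
    D.i u * D'.i v = D'.i v * D.i u := by
  rw [mem_fx] at hu hv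
  have h1 : D.i u * D'.i v * (D.i u)⁻¹ * (D'.i v)⁻¹ = D'.i (D'.act (D.i u) v + v) := by
    rw [D'.add, D'.i_act hu, D'.i_inv]
  have h2 : D.i u * D'.i v * (D.i u)⁻¹ * (D'.i v)⁻¹ = D.i (u + D.act (D'.i v) u) := by
    rw [D.add, D.i_act hv, D.i_inv]
    group
  have h3 := hd _ _ (h2.symm.trans h1)
  rw [h3, D.i_zero] at h2
  have := congrArg (fun z => z * (D'.i v * D.i u)) h2
  simp only [one_mul] at this
  rw [← this]
  group

theorem mem_fx_of_comm {u v : U} (hv : v ≠ 0) (h : D.i u * D'.i v = D'.i v * D.i u) :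
    u ∈ D.fx D' := D'.centx' hv h

variable (D D')

/-- the nilpotent part of the action of `i' v` on `U`. -/
noncomputable def nl (v : U) : U →ₗ[ZMod 2] U := D.act (D'.i v) + LinearMap.id

omit [Finite U] in
theorem nl_apply (v u : U) : D.nl D' v u = D.act (D'.i v) u + u := rfl

omit [Finite U] in
theorem act_eq_nl (v u : U) : D.act (D'.i v) u = D.nl D' v u + u := by
  rw [nl_apply, addd_right]

variable {D D'}

theorem nl_eq_zero_iff (hd : Disj D D') {v u : U} (hv : v ∈ D'.fx D) (hv0 : v ≠ 0) :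
    D.nl D' v u = 0 ↔ u ∈ D.fx D' := by
  rw [nl_apply, add_eq_zero']
  constructor
  · intro h
    apply mem_fx_of_comm hv0
    rw [mem_fx] at hv
    have h1 := D.i_act hv u
    rw [h] at h1
    calc D.i u * D'.i v = D'.i v * D.i u * (D'.i v)⁻¹ * D'.i v := by rw [← h1]
      _ = D'.i v * D.i u := by group
  · intro h
    have h1 := comm_fx hd h hv
    apply D.act_eq hv
    rw [← h1]; group

theorem nl_sq {v : U} (hv : v ∈ D'.fx D) (u : U) : D.nl D' v (D.nl D' v u) = 0 := by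
  rw [mem_fx] at hv
  rw [nl_apply, nl_apply, map_add, ← D.act_mul hv hv, D'.i_sq, D.act_one, add_comm u, addd]

theorem nl_zero (u : U) : D.nl D' 0 u = 0 := by
  rw [nl_apply, D'.i_zero, D.act_one, addd]

theorem nl_mem (hd : Disj D D') {v : U} (hv : v ∈ D'.fx D) (u : U) : D.nl D' v u ∈ D.fx D' := by
  by_cases hv0 : v = 0
  · rw [hv0, nl_zero]; exact zero_mem _
  · rw [← nl_eq_zero_iff hd hv hv0, nl_sq hv]

theorem nl_of_mem (hd : Disj D D') {v u : U} (hv : v ∈ D'.fx D) (hu : u ∈ D.fx D') :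
    D.nl D' v u = 0 := by
  by_cases hv0 : v = 0
  · rw [hv0, nl_zero]
  · rwa [nl_eq_zero_iff hd hv hv0]

theorem nl_nl (hd : Disj D D') {v w : U} (hv : v ∈ D'.fx D) (hw : w ∈ D'.fx D) (u : U) :
    D.nl D' v (D.nl D' w u) = 0 := nl_of_mem hd hv (nl_mem hd hw u)

theorem nl_add (hd : Disj D D') {v w : U} (hv : v ∈ D'.fx D) (hw : w ∈ D'.fx D) (u : U) :
    D.nl D' (v + w) u = D.nl D' v u + D.nl D' w u := by
  have h := nl_nl hd hv hw u
  rw [nl_apply, D'.add, D.act_mul hv hw, act_eq_nl, act_eq_nl D D' w, map_add, h, zero_add]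
  rw [add_assoc, addd_right]

theorem nl_inj (hd : Disj D D') {v w a : U} (hv : v ∈ D'.fx D) (hw : w ∈ D'.fx D)
    (ha : a ∉ D.fx D') (h : D.nl D' v a = D.nl D' w a) : v = w := by
  by_contra hne
  apply ha
  have h0 : v + w ≠ 0 := fun h => hne (eq_of_add h)
  rw [← nl_eq_zero_iff hd (add_mem hv hw) h0, nl_add hd hv hw, h, addd]

theorem fx_ne_top (hd : Disj D D') (h : D'.fx D ≠ ⊥) : D.fx D' ≠ ⊤ := by
  intro htop
  obtain ⟨v, hv, hv0⟩ := (Submodule.ne_bot_iff _).1 h
  obtain ⟨u, hu⟩ := D.cent (D'.i v) (fun u => by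
    rw [comm_fx hd (by rw [htop]; trivial : u ∈ D.fx D') hv])
  exact hv0 (hd.symm _ _ hu)

theorem fx_ne_bot (h : D'.fx D ≠ ⊥) : D.fx D' ≠ ⊥ := by
  intro hbot
  obtain ⟨v, hv, hv0⟩ := (Submodule.ne_bot_iff _).1 h
  have hk : ∀ u, D.nl D' v u = 0 → u = 0 := by
    intro u hu
    rw [nl_apply, add_eq_zero'] at hu
    have : u ∈ D.fx D' := by
      apply mem_fx_of_comm hv0
      rw [mem_fx] at hv
      have h1 := D.i_act hv u
      rw [hu] at h1
      calc D.i u * D'.i v = D'.i v * D.i u * (D'.i v)⁻¹ * D'.i v := by rw [← h1]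
        _ = D'.i v * D.i u := by group
    rw [hbot] at this
    exact (Submodule.mem_bot _).1 this
  exact hv0 (hk v (hk _ (nl_sq hv v)))

theorem fx_ne_bot_iff : D.fx D' ≠ ⊥ ↔ D'.fx D ≠ ⊥ := ⟨fx_ne_bot, fx_ne_bot⟩

theorem card_fx_le (hd : Disj D D') (h : D'.fx D ≠ ⊥) :
    Nat.card (D'.fx D) ≤ Nat.card (D.fx D') := by
  obtain ⟨a, ha⟩ : ∃ a, a ∉ D.fx D' := by
    by_contra hcon
    push Not at hcon
    exact fx_ne_top hd h (eq_top_iff.2 fun x _ => hcon x)
  refine Nat.card_le_card_of_injective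
    (fun v : D'.fx D => (⟨D.nl D' v a, nl_mem hd v.2 a⟩ : D.fx D')) ?_
  intro v w hvw
  exact Subtype.ext (nl_inj hd v.2 w.2 ha (congrArg Subtype.val hvw))

theorem exists_nl_eq (hd : Disj D D') (h : D'.fx D ≠ ⊥) {a : U} (ha : a ∉ D.fx D') {w : U}
    (hw : w ∈ D.fx D') : ∃ v ∈ D'.fx D, D.nl D' v a = w := by
  have hc : Nat.card (D'.fx D) = Nat.card (D.fx D') :=
    le_antisymm (card_fx_le hd h) (card_fx_le hd.symm (fx_ne_bot h))
  let f : D'.fx D → D.fx D' := fun v => ⟨D.nl D' v a, nl_mem hd v.2 a⟩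
  have hf : Function.Injective f := by
    intro v w hvw
    exact Subtype.ext (nl_inj hd v.2 w.2 ha (congrArg Subtype.val hvw))
  have hb : Function.Bijective f := (Nat.bijective_iff_injective_and_card f).2 ⟨hf, hc⟩
  obtain ⟨v, hv⟩ := hb.2 ⟨w, hw⟩
  exact ⟨v, v.2, congrArg Subtype.val hv⟩

end Pair

end GLData

end Cfsg.Agent.LargeExtra.GLRec
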