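import Cfsg.Agent.LargeExtra.GLRecLin

/-!
# Recognition of `GL_{n+1}(2)`: a subgroup `K ≅ GL(V)`, `dim V ≥ 5`, whose transvections lie in no
other conjugate of `K`, is the whole group.
-/

set_option autoImplicit false
set_option linter.unusedSectionVars false

namespace Cfsg.Agent.LargeExtra.GLRec

open Module

/-- `e` is the transvection with functional `f` and centre `c`. -/
def IsTv {V : Type*} [AddCommGroup V] [Module (ZMod 2) V] (e : V ≃ₗ[ZMod 2] V)
    (f : Dual (ZMod 2) V) (c : V) : Prop :=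
  f ≠ 0 ∧ c ≠ 0 ∧ f c = 0 ∧ ∀ v, e v = v + f v • c

section LinV

variable {V : Type*} [AddCommGroup V] [Module (ZMod 2) V]

theorem exists_one' {f : Dual (ZMod 2) V} (hf : f ≠ 0) : ∃ u, f u = 1 := by
  by_contra h
  push Not at h
  apply hf
  ext u
  exact (zne1 _).1 (h u)

theorem smul_eq_smul_dual {f g : Dual (ZMod 2) V} {c d : V} (hf : f ≠ 0) (hc : c ≠ 0)
    (h : ∀ v, f v • c = g v • d) : f = g ∧ c = d := by
  obtain ⟨v, hv⟩ := exists_one' hf
  have h1 := h v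
  rw [hv, one_smul] at h1
  have hcd : c = d := by
    rcases zcases (g v) with h2 | h2
    · rw [h2, zero_smul] at h1; exact absurd h1 hc
    · rw [h2, one_smul] at h1; exact h1
  refine ⟨?_, hcd⟩
  ext w
  have h2 := h w
  rw [← hcd] at h2
  rcases zcases (f w) with h3 | h3 <;> rcases zcases (g w) with h4 | h4 <;>
    rw [h3, h4] at h2 ⊢
  · rw [zero_smul, one_smul] at h2; exact absurd h2.symm hc
  · rw [zero_smul, one_smul] at h2; exact absurd h2 hc

theorem IsTv.unique {e : V ≃ₗ[ZMod 2] V} {f g : Dual (ZMod 2) V} {c d : V} (h : IsTv e f c)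
    (h' : IsTv e g d) : f = g ∧ c = d := by
  apply smul_eq_smul_dual h.1 h.2.1
  intro v
  exact add_left_cancel ((h.2.2.2 v).symm.trans (h'.2.2.2 v))

theorem IsTv.ext {e e' : V ≃ₗ[ZMod 2] V} {f : Dual (ZMod 2) V} {c : V} (h : IsTv e f c)
    (h' : IsTv e' f c) : e = e' := by
  ext v : 1
  rw [h.2.2.2, h'.2.2.2]

theorem IsTv.conj {e : V ≃ₗ[ZMod 2] V} {f : Dual (ZMod 2) V} {c : V} (h : IsTv e f c)
    (a : V ≃ₗ[ZMod 2] V) : IsTv (a * e * a⁻¹) (f.comp (a⁻¹ : V ≃ₗ[ZMod 2] V).toLinearMap) (a c) := by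
  have ha : ∀ v, a (a⁻¹ v) = v := fun v => by
    rw [← LinearEquiv.mul_apply, mul_inv_cancel]; rfl
  have ha' : ∀ v, a⁻¹ (a v) = v := fun v => by
    rw [← LinearEquiv.mul_apply, inv_mul_cancel]; rfl
  refine ⟨?_, ?_, ?_, ?_⟩
  · intro h0
    apply h.1
    ext v
    have := congrArg (fun k : Dual (ZMod 2) V => k (a v)) h0
    simp only [LinearMap.comp_apply, LinearEquiv.coe_coe, ha', LinearMap.zero_apply] at this
    exact this
  · intro h0
    exact h.2.1 ((LinearEquiv.map_eq_zero_iff _).1 h0)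
  · rw [LinearMap.comp_apply, LinearEquiv.coe_coe, ha']
    exact h.2.2.1
  · intro v
    rw [LinearEquiv.mul_apply, LinearEquiv.mul_apply, h.2.2.2, map_add, ha, map_smul]
    rfl

/-- the elements `1 + f₁ ⊗ c₁ + f₂ ⊗ c₂` of rank two and square one -/
structure Rk2 (e : V ≃ₗ[ZMod 2] V) (f₁ f₂ : Dual (ZMod 2) V) (c₁ c₂ : V) : Prop where
  f₁0 : f₁ ≠ 0
  f₂0 : f₂ ≠ 0
  f12 : f₁ ≠ f₂
  c₁0 : c₁ ≠ 0
  c₂0 : c₂ ≠ 0
  c12 : c₁ ≠ c₂
  e11 : f₁ c₁ = 0
  e12 : f₁ c₂ = 0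
  e21 : f₂ c₁ = 0
  e22 : f₂ c₂ = 0
  eq : ∀ v, e v = v + f₁ v • c₁ + f₂ v • c₂

end LinV

section Parity

theorem parity {α : Type*} [Finite α] (f g : α → α) (hf : ∀ a, f (f a) = a)
    (hg : ∀ a, g (g a) = a) {a₀ : α} (h0 : f a₀ = a₀) (h1 : ∀ a, f a = a → a = a₀) :
    ∃ a, g a = a := by
  classical
  have : Fintype α := Fintype.ofFinite α
  let F : Function.End α := f
  let H : Function.End α := g
  have hf' : F ^ 2 ^ 1 = 1 := by
    rw [pow_one, pow_two]; funext a; exact hf a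
  have hg' : H ^ 2 ^ 1 = 1 := by
    rw [pow_one, pow_two]; funext a; exact hg a
  have e1 : Fintype.card α ≡ Fintype.card (Function.fixedPoints f) [MOD 2] :=
    Equiv.Perm.card_fixedPoints_modEq (p := 2) (n := 1) hf'
  have e2 : Fintype.card α ≡ Fintype.card (Function.fixedPoints g) [MOD 2] :=
    Equiv.Perm.card_fixedPoints_modEq (p := 2) (n := 1) hg'
  have e3 : Fintype.card (Function.fixedPoints f) = 1 := by
    rw [Fintype.card_eq_one_iff]
    exact ⟨⟨a₀, h0⟩, fun y => Subtype.ext (h1 _ y.2)⟩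
  by_contra hcon
  push Not at hcon
  have e4 : Fintype.card (Function.fixedPoints g) = 0 := by
    rw [Fintype.card_eq_zero_iff]
    exact ⟨fun y => hcon _ y.2⟩
  have e5 : Fintype.card (Function.fixedPoints f) ≡ Fintype.card (Function.fixedPoints g) [MOD 2] :=
    e1.symm.trans e2
  rw [e3, e4] at e5
  exact absurd e5 (by decide)

end Parity

section Close

variable {G : Type*} [Group G] [Finite G] {K : Subgroup G}
  {V : Type*} [AddCommGroup V] [Module (ZMod 2) V] [Finite V]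

/-- hypothesis of the closing theorem -/
structure Emb (ρ : K ≃* (V ≃ₗ[ZMod 2] V)) : Prop where
  h5 : 5 ≤ finrank (ZMod 2) V
  fix : ∀ (t : K) (f : Dual (ZMod 2) V) (c : V), IsTv (ρ t) f c →
    ∀ g : G, g * (t : G) * g⁻¹ ∈ K → g ∈ K

variable {ρ : K ≃* (V ≃ₗ[ZMod 2] V)} (E : Emb ρ)

theorem exists_isTv (ρ : K ≃* (V ≃ₗ[ZMod 2] V)) {f : Dual (ZMod 2) V} {c : V} (hf : f ≠ 0)
    (hc : c ≠ 0) (hfc : f c = 0) : ∃ t : K, IsTv (ρ t) f c := by
  refine ⟨ρ.symm (LinearEquiv.transvection hfc), hf, hc, hfc, fun v => ?_⟩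
  rw [ρ.apply_symm_apply, LinearEquiv.transvection.apply]

theorem ρ_ext {s t : K} (h : ∀ v, ρ s v = ρ t v) : s = t := by
  apply ρ.injective
  ext v : 1
  exact h v

theorem ρ_mul_apply (s t : K) (v : V) : ρ (s * t) v = ρ s (ρ t v) := by
  rw [map_mul]; rfl

theorem ρ_one_apply (v : V) : ρ 1 v = v := by
  rw [map_one]; rfl

theorem IsTv.sq {t : K} {f : Dual (ZMod 2) V} {c : V} (h : IsTv (ρ t) f c) : t * t = 1 := by
  apply ρ_ext (ρ := ρ)
  intro v
  rw [ρ_mul_apply, ρ_one_apply, h.2.2.2, h.2.2.2, map_add, map_smul, h.2.2.1, smul_zero,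
    add_zero, addd_right]

theorem IsTv.eq_of {s t : K} {f : Dual (ZMod 2) V} {c : V} (h : IsTv (ρ s) f c)
    (h' : IsTv (ρ t) f c) : s = t := ρ.injective (h.ext h')

theorem IsTv.conj' {t : K} {f : Dual (ZMod 2) V} {c : V} (h : IsTv (ρ t) f c) (g : K) :
    IsTv (ρ (g * t * g⁻¹)) (f.comp ((ρ g)⁻¹ : V ≃ₗ[ZMod 2] V).toLinearMap) (ρ g c) := by
  rw [map_mul, map_mul, map_inv]
  exact h.conj _

include E in
theorem exists_comm_T {u : K} (hu : u * u = 1) :
    ∃ (t : K) (f : Dual (ZMod 2) V) (c : V), IsTv (ρ t) f c ∧ t * u = u * t := by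
  by_cases h1 : ∀ a, ρ u a = a
  · obtain ⟨c, -, -, hc0, -⟩ := exists_vec E.h5 (0 : Dual (ZMod 2) V) 0 0 0
    obtain ⟨b, -, -, hb0, hbc, -⟩ := exists_vec E.h5 (0 : Dual (ZMod 2) V) 0 c 0
    obtain ⟨f, hfb, hfc⟩ := exists_dual1 hb0 hbc
    have hf0 : f ≠ 0 := by
      rintro rfl
      exact absurd hfb (by simp)
    obtain ⟨t, ht⟩ := exists_isTv ρ hf0 hc0 hfc
    refine ⟨t, f, c, ht, ?_⟩
    apply ρ_ext (ρ := ρ)
    intro v
    rw [ρ_mul_apply, ρ_mul_apply, h1, h1]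
  · push Not at h1
    obtain ⟨a, ha⟩ := h1
    have huu : ∀ v, ρ u (ρ u v) = v := fun v => by rw [← ρ_mul_apply, hu, ρ_one_apply]
    have hc0 : ρ u a + a ≠ 0 := fun h => ha (eq_of_add h)
    obtain ⟨g, hg⟩ := exists_dual0 hc0
    set c := ρ u a + a with hc
    have huc : ρ u c = c := by rw [hc, map_add, huu, add_comm]
    let f : Dual (ZMod 2) V := g.comp ((ρ u).toLinearMap + LinearMap.id)
    have hfv : ∀ v, f v = g (ρ u v + v) := fun v => rfl
    have hfc : f c = 0 := by rw [hfv, huc, addd, map_zero]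
    have hf0 : f ≠ 0 := by
      intro h
      have := hfv a
      rw [h, ← hc, hg] at this
      exact absurd this (by simp)
    obtain ⟨t, ht⟩ := exists_isTv ρ hf0 hc0 hfc
    refine ⟨t, f, c, ht, ?_⟩
    apply ρ_ext (ρ := ρ)
    intro v
    rw [ρ_mul_apply, ρ_mul_apply, ht.2.2.2, ht.2.2.2, map_add, map_smul, huc, hfv, hfv, huu,
      add_comm v]

include E in
theorem trans_fix {L : Subgroup G} {x : G} {t t' : K} {f f' : Dual (ZMod 2) V} {c c' : V}
    (ht : IsTv (ρ t) f c) (ht' : IsTv (ρ t') f' c') (htL : (t : G) ∈ L)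
    (ht'L : x * (t' : G) * x⁻¹ ∈ L) : ∃ l ∈ L, l⁻¹ * x ∈ K := by
  have htt : (t : G) * t = 1 := by
    have := congrArg (Subtype.val) ht.sq
    simpa using this
  have htt' : (t' : G) * t' = 1 := by
    have := congrArg (Subtype.val) ht'.sq
    simpa using this
  let s : L := ⟨t, htL⟩
  let s' : L := ⟨x * (t' : G) * x⁻¹, ht'L⟩
  have hs : s * s = 1 := Subtype.ext htt
  have hs' : s' * s' = 1 := by
    apply Subtype.ext
    show x * (t' : G) * x⁻¹ * (x * (t' : G) * x⁻¹) = 1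
    calc x * (t' : G) * x⁻¹ * (x * (t' : G) * x⁻¹) = x * ((t' : G) * t') * x⁻¹ := by group
      _ = 1 := by rw [htt']; group
  have hfixx : s' • ((x : G) : G ⧸ K) = (x : G ⧸ K) := by
    show (((x * (t' : G) * x⁻¹) * x : G) : G ⧸ K) = (x : G ⧸ K)
    rw [QuotientGroup.eq]
    have : (x * (t' : G) * x⁻¹ * x)⁻¹ * x = (t' : G)⁻¹ := by group
    rw [this]
    exact inv_mem t'.2
  have hx0 : (x : G ⧸ K) ∈ MulAction.orbit L (x : G ⧸ K) := MulAction.mem_orbit_self _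
  obtain ⟨⟨y, l, hl⟩, hy⟩ := parity (α := MulAction.orbit L (x : G ⧸ K)) (fun y => s' • y)
    (fun y => s • y) (fun y => by rw [smul_smul, hs', one_smul])
    (fun y => by rw [smul_smul, hs, one_smul]) (a₀ := ⟨x, hx0⟩) (Subtype.ext hfixx) (by
      rintro ⟨y, l, hl⟩ hy
      apply Subtype.ext
      have h1 : s' • y = y := congrArg Subtype.val hy
      have hl' : (((l : G) * x : G) : G ⧸ K) = y := hl
      show y = (x : G ⧸ K)
      rw [← hl'] at h1 ⊢
      have h2 : ((x * (t' : G) * x⁻¹ * (l * x) : G) : G ⧸ K) = ((l * x : G) : G ⧸ K) := h1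
      rw [QuotientGroup.eq] at h2 ⊢
      apply E.fix t' f' c' ht'
      have := inv_mem h2
      have e : ((x * (t' : G) * x⁻¹ * (l * x))⁻¹ * (l * x))⁻¹ =
        (l * x)⁻¹ * x * (t' : G) * ((l * x)⁻¹ * x)⁻¹ := by group
      rwa [e] at this)
  have h1 : s • y = y := congrArg Subtype.val hy
  have hl' : (((l : G) * x : G) : G ⧸ K) = y := hl
  rw [← hl'] at h1
  have h2 : (((t : G) * (l * x) : G) : G ⧸ K) = ((l * x : G) : G ⧸ K) := h1
  rw [QuotientGroup.eq] at h2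
  refine ⟨l⁻¹, inv_mem l.2, ?_⟩
  rw [inv_inv]
  have h3 : ((l : G) * x)⁻¹ ∈ K := by
    apply E.fix t f c ht
    have := inv_mem h2
    have e : ((t : G) * (l * x))⁻¹ * (l * x) = ((l * x)⁻¹ * t * ((l * x)⁻¹)⁻¹)⁻¹ := by group
    rw [e, inv_inv] at this
    exact this
  simpa using inv_mem h3

end Close

end Cfsg.Agent.LargeExtra.GLRec
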