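import Cfsg.Agent.LargeExtra.GLRecExist

/-!
# Recognition of `GL_{n+1}(2)`: the natural module of a clique
-/

set_option autoImplicit false

namespace Cfsg.Agent.LargeExtra.GLRec

open Module

section Lin3

variable {U : Type*} [AddCommGroup U] [Module (ZMod 2) U]

theorem dual_ext_ker {f g : Dual (ZMod 2) U} (h : ∀ u, f u = 0 ↔ g u = 0) : f = g := by
  ext u
  rcases zcases (f u) with h1 | h1
  · rw [h1, (h u).1 h1]
  · rcases zcases (g u) with h2 | h2
    · rw [(h u).2 h2] at h1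
      exact absurd h1 (by decide)
    · rw [h1, h2]

theorem dual_add_ne_zero {f g : Dual (ZMod 2) U} (hfg : f ≠ g) : f + g ≠ 0 := by
  intro h
  apply hfg
  ext u
  have := congrArg (fun k : Dual (ZMod 2) U => k u) h
  simp only [LinearMap.add_apply, LinearMap.zero_apply] at this
  exact eq_of_add this

/-- a functional vanishing on `ker f ⊓ ker g` -/
theorem dual_eq_add {f g k : Dual (ZMod 2) U} (hf : f ≠ 0) (hg : g ≠ 0) (hfg : f ≠ g)
    (h : ∀ u, f u = 0 → g u = 0 → k u = 0) (hk0 : k ≠ 0) (hkf : k ≠ f) (hkg : k ≠ g) :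
    k = f + g := by
  obtain ⟨a, hfa, hga⟩ := exists_both hf (dual_add_ne_zero hfg)
  obtain ⟨b, hgb, hfb⟩ := exists_both hg (dual_add_ne_zero hfg)
  rw [LinearMap.add_apply, hfa] at hga
  rw [LinearMap.add_apply, hgb] at hfb
  have hga' : g a = 0 := by
    rcases zcases (g a) with h | h
    · exact h
    · rw [h] at hga; exact absurd hga (by decide)
  have hfb' : f b = 0 := by
    rcases zcases (f b) with h | h
    · exact h
    · rw [h] at hfb; exact absurd hfb (by decide)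
  have key : ∀ u, k u = f u * k a + g u * k b := by
    intro u
    have h1 : k (u + (f u • a + g u • b)) = 0 := by
      apply h
      · rw [map_add, map_add, map_smul, map_smul, hfa, hfb']
        rcases zcases (f u) with h | h <;> rw [h] <;> simp [CharTwo.add_self_eq_zero]
      · rw [map_add, map_add, map_smul, map_smul, hgb, hga']
        rcases zcases (g u) with h | h <;> rw [h] <;> simp [CharTwo.add_self_eq_zero]
    rw [map_add, map_add, map_smul, map_smul] at h1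
    exact eq_of_add h1
  rcases zcases (k a) with h1 | h1 <;> rcases zcases (k b) with h2 | h2
  · exfalso; apply hk0; ext u; rw [key, h1, h2]; simp
  · exfalso; apply hkg; ext u; rw [key, h1, h2]; simp
  · exfalso; apply hkf; ext u; rw [key, h1, h2]; simp
  · ext u; rw [key, h1, h2]; simp

end Lin3

namespace GLData

variable {G U : Type*} [Group G] [AddCommGroup U] [Module (ZMod 2) U] [Finite U]

/-- Clique hypothesis. -/
structure Clq (D : GLData G U) : Prop where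
  h5 : 5 ≤ finrank (ZMod 2) U
  hK : ∀ x, D.hx x ≠ ⊥
  hM : D.M ≠ ⊤

variable {D : GLData G U} (C : D.Clq)

include C

theorem Clq.exists_F (x : G) : ∃ f : Dual (ZMod 2) U, ∀ u, u ∈ D.hx x ↔ f u = 0 := by
  by_cases hx : x ∈ D.M
  · refine ⟨0, fun u => ?_⟩
    rw [hx_of_mem hx]; simp
  · obtain ⟨f, hf⟩ := exists_ax C.h5 hx (C.hK x)
    exact ⟨f, fun u => hf.mem_hx⟩

/-- the axis functional -/
noncomputable def Clq.F (x : G) : Dual (ZMod 2) U := (C.exists_F x).choose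

theorem Clq.mem_hx {x : G} {u : U} : u ∈ D.hx x ↔ C.F x u = 0 := (C.exists_F x).choose_spec u

theorem Clq.F_eq_zero {x : G} : C.F x = 0 ↔ x ∈ D.M := by
  constructor
  · intro h
    apply mem_of_hx _ (nontrivial_of C.h5)
    rw [eq_top_iff]
    intro u _
    rw [C.mem_hx, h]; rfl
  · intro h
    ext u
    have : u ∈ D.hx x := by rw [hx_of_mem h]; trivial
    rw [C.mem_hx] at this
    rw [this]; rfl

theorem Clq.ax {x : G} (hx : x ∉ D.M) : Ax D (D.conj x) (C.F x) := by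
  obtain ⟨f, hf⟩ := exists_ax C.h5 hx (C.hK x)
  have : f = C.F x := dual_ext_ker fun u => by rw [← hf.mem_hx, C.mem_hx]
  rwa [← this]

theorem Clq.F_mul_right {x m : G} (hm : m ∈ D.M) : C.F (x * m) = C.F x :=
  dual_ext_ker fun u => by rw [← C.mem_hx, ← C.mem_hx, hx_mul_right hm]

theorem Clq.F_congr {x y : G} (h : x⁻¹ * y ∈ D.M) : C.F x = C.F y := by
  have := C.F_mul_right (x := x) h
  rw [mul_inv_cancel_left] at this
  exact this.symm

theorem Clq.F_mul_left {x m : G} (hm : m ∈ D.M) (u : U) :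
    C.F (m * x) (D.act m u) = C.F x u := by
  have h := mem_hx_mul_left (D := D) (x := x) hm (u := u)
  rw [C.mem_hx, C.mem_hx] at h
  rcases zcases (C.F x u) with h1 | h1
  · rw [h1, h.2 h1]
  · rcases zcases (C.F (m * x) (D.act m u)) with h2 | h2
    · rw [h.1 h2] at h1; exact absurd h1 (by decide)
    · rw [h1, h2]

theorem Clq.F_i_mul (x : G) (a : U) : C.F (D.i a * x) = C.F x := by
  ext u
  have := C.F_mul_left (x := x) (D.i_mem a) u
  rwa [D.act_i] at this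

theorem Clq.line {x : G} {a b : U} (ha : C.F x a = 1) (hb : C.F x⁻¹ b = 1) :
    C.F (x * D.i b * x⁻¹) = C.F x ∧ (D.i a * x)⁻¹ * (x * D.i b * x⁻¹) ∈ D.M := by
  have hx : x ∉ D.M := by
    intro h
    rw [C.F_eq_zero.2 h] at ha
    exact absurd ha (by simp)
  have hb' : b ∉ D.hx x⁻¹ := by
    rw [C.mem_hx, hb]; decide
  obtain ⟨h1, h2⟩ := (C.ax hx).line C.h5 ha hb'
  exact ⟨((C.ax h1.notMem).unique h1), h2⟩

theorem Clq.F_line {x : G} (hx : x ∉ D.M) {b : U} (hb : C.F x⁻¹ b = 1) :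
    C.F (x * D.i b * x⁻¹) = C.F x := by
  obtain ⟨a, ha⟩ := exists_one (fun h => hx (C.F_eq_zero.1 h))
  exact (C.line ha hb).1

omit C in
theorem inv_notMem {x : G} (hx : x ∉ D.M) : x⁻¹ ∉ D.M := fun h => hx (by simpa using inv_mem h)

/-- elements of `g i(b) g⁻¹ M` outside `M` have the same axis as `g`. -/
theorem Clq.F_of_mem {g h : G} {b : U} (hg : g ∉ D.M) (hh : h ∉ D.M)
    (hgh : (g * D.i b * g⁻¹)⁻¹ * h ∈ D.M) : C.F g = C.F h := by
  rw [← C.F_congr hgh]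
  rcases zcases (C.F g⁻¹ b) with h1 | h1
  · exfalso
    apply hh
    have h2 : g * D.i b * g⁻¹ ∈ D.M := by
      have := C.mem_hx.2 h1
      rwa [mem_hx_inv] at this
    have := mul_mem h2 hgh
    rwa [mul_inv_cancel_left] at this
  · exact (C.F_line hg h1).symm

theorem Clq.third_ne {g h : G} {a : U} (hg : g ∉ D.M) (hh : h ∉ D.M) (hgh : g⁻¹ * h ∉ D.M)
    (hF : C.F g ≠ C.F h) : C.F (g * D.i a * g⁻¹ * h) ≠ C.F g := by
  intro hs
  set s := g * D.i a * g⁻¹ * h with hsdef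
  have hsM : s ∉ D.M := fun h => by
    rw [C.F_eq_zero.2 h] at hs
    exact hg (C.F_eq_zero.1 hs.symm)
  have A1 := C.ax hg
  have A2 := C.ax hsM
  rw [hs] at A2
  rcases A1.two C.h5 A2 with h1 | h1
  · -- g⁻¹ s = i a g⁻¹ h
    apply hgh
    have e : g⁻¹ * s = D.i a * (g⁻¹ * h) := by rw [hsdef]; group
    rw [e] at h1
    exact (mul_mem_cancel_left (D.i_mem a)).1 h1
  · obtain ⟨a', ha'⟩ := exists_one A1.ne_zero
    obtain ⟨b', hb'⟩ := exists_one (fun h => inv_notMem hg (C.F_eq_zero.1 h))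
    have h2 := h1 a' ha'
    obtain ⟨-, h3⟩ := C.line ha' hb'
    -- (g i b' g⁻¹)⁻¹ s ∈ M
    have h4 : (g * D.i b' * g⁻¹)⁻¹ * s ∈ D.M := by
      have := mul_mem (inv_mem h3) h2
      have e : ((D.i a' * g)⁻¹ * (g * D.i b' * g⁻¹))⁻¹ * ((D.i a' * g)⁻¹ * s) =
        (g * D.i b' * g⁻¹)⁻¹ * s := by group
      rwa [e] at this
    apply hF
    apply C.F_of_mem hg hh (b := b' + a)
    have e : (g * D.i (b' + a) * g⁻¹)⁻¹ * h = (g * D.i b' * g⁻¹)⁻¹ * s := by
      rw [hsdef, D.add]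
      have : (D.i a)⁻¹ = D.i a := D.i_inv a
      calc (g * (D.i b' * D.i a) * g⁻¹)⁻¹ * h = g * (D.i a)⁻¹ * (D.i b')⁻¹ * g⁻¹ * h := by group
        _ = g * (D.i b')⁻¹ * D.i a * g⁻¹ * h := by
          rw [this, D.i_inv, mul_assoc g, D.i_comm a b']; group
        _ = _ := by group
    rw [e]; exact h4

theorem Clq.third_swap {g h : G} {a b : U} (ha : C.F (g⁻¹ * h) a = 1) (hb : C.F (h⁻¹ * g) b = 1) :
    (g * D.i a * g⁻¹ * h)⁻¹ * (h * D.i b * h⁻¹ * g) ∈ D.M := by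
  have hb' : C.F (g⁻¹ * h)⁻¹ b = 1 := by
    have : (g⁻¹ * h)⁻¹ = h⁻¹ * g := by group
    rw [this]; exact hb
  obtain ⟨-, h1⟩ := C.line ha hb'
  have e : (g * D.i a * g⁻¹ * h)⁻¹ * (h * D.i b * h⁻¹ * g) =
      (D.i a * (g⁻¹ * h))⁻¹ * (g⁻¹ * h * D.i b * (g⁻¹ * h)⁻¹) := by group
  rw [e]; exact h1

theorem Clq.ker_le_third {g h : G} {a : U} {u : U}
    (hg : C.F g u = 0) (hh : C.F h u = 0) : C.F (g * D.i a * g⁻¹ * h) u = 0 := by
  rw [← C.mem_hx, GLData.mem_hx] at hg hh ⊢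
  set m := g⁻¹ * D.i u * g with hm
  have hxm : (g⁻¹ * h)⁻¹ * m * (g⁻¹ * h) ∈ D.M := by
    have : (g⁻¹ * h)⁻¹ * m * (g⁻¹ * h) = h⁻¹ * D.i u * h := by rw [hm]; group
    rw [this]; exact hh
  have e1 : (g * D.i a * g⁻¹ * h)⁻¹ * D.i u * (g * D.i a * g⁻¹ * h) =
      ((g⁻¹ * h)⁻¹ * m * (g⁻¹ * h)) * ((g⁻¹ * h)⁻¹ * D.i (D.act m⁻¹ a + a) * (g⁻¹ * h)) := by
    rw [D.add, D.i_act (inv_mem hg), hm]
    have h1 : (D.i a)⁻¹ = D.i a := D.i_inv a
    calc (g * D.i a * g⁻¹ * h)⁻¹ * D.i u * (g * D.i a * g⁻¹ * h) =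
        h⁻¹ * g * (D.i a)⁻¹ * (g⁻¹ * D.i u * g) * D.i a * g⁻¹ * h := by group
      _ = h⁻¹ * g * D.i a * (g⁻¹ * D.i u * g) * D.i a * g⁻¹ * h := by rw [h1]
      _ = _ := by group
  rw [e1]
  apply mul_mem hxm
  rw [← GLData.mem_hx, C.mem_hx, map_add]
  have h2 : C.F (g⁻¹ * h) (D.act m⁻¹ a) = C.F (g⁻¹ * h) a := by
    have h3 := C.F_mul_left (x := g⁻¹ * h) hg (D.act m⁻¹ a)
    rw [D.act_act_inv hg] at h3
    rw [← h3]
    congr 1
    refine (C.F_congr ?_).symm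
    have : (g⁻¹ * h)⁻¹ * (m * (g⁻¹ * h)) = (g⁻¹ * h)⁻¹ * m * (g⁻¹ * h) := by group
    rw [this]; exact hxm
  rw [h2]
  exact CharTwo.add_self_eq_zero _

/-- **Additivity of the axis functional**. -/
theorem Clq.F_add {g h : G} {a : U} (ha : C.F (g⁻¹ * h) a = 1) :
    C.F (g * D.i a * g⁻¹ * h) = C.F g + C.F h := by
  have hgh : g⁻¹ * h ∉ D.M := by
    intro h1
    rw [C.F_eq_zero.2 h1] at ha
    exact absurd ha (by simp)
  have hhg : h⁻¹ * g ∉ D.M := by
    intro h1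
    apply hgh
    have := inv_mem h1
    rwa [mul_inv_rev, inv_inv] at this
  obtain ⟨b, hb⟩ := exists_one (fun h => hhg (C.F_eq_zero.1 h))
  have hsw := C.third_swap ha hb
  by_cases hg : g ∈ D.M
  · rw [C.F_eq_zero.2 hg, zero_add, ← D.i_act hg, C.F_i_mul]
  by_cases hh : h ∈ D.M
  · rw [C.F_eq_zero.2 hh, add_zero, C.F_congr hsw, ← D.i_act hh, C.F_i_mul]
  by_cases hF : C.F g = C.F h
  · -- the third point is the base point
    have hsum : C.F g + C.F h = 0 := by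
      rw [hF]
      ext u
      exact CharTwo.add_self_eq_zero _
    rw [hsum, C.F_eq_zero]
    have A1 := C.ax hg
    have A2 := C.ax hh
    rw [← hF] at A2
    rcases A1.two C.h5 A2 with h1 | h1
    · exact absurd h1 hgh
    · obtain ⟨a', ha'⟩ := exists_one A1.ne_zero
      obtain ⟨b', hb'⟩ := exists_one (fun h => inv_notMem hg (C.F_eq_zero.1 h))
      have h2 := h1 a' ha'
      obtain ⟨-, h3⟩ := C.line ha' hb'
      have h4 : (g * D.i b' * g⁻¹)⁻¹ * h ∈ D.M := by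
        have := mul_mem (inv_mem h3) h2
        have e : ((D.i a' * g)⁻¹ * (g * D.i b' * g⁻¹))⁻¹ * ((D.i a' * g)⁻¹ * h) =
          (g * D.i b' * g⁻¹)⁻¹ * h := by group
        rwa [e] at this
      -- F g⁻¹ a = 1
      have h5 : C.F g⁻¹ a = 1 := by
        rw [← ha, ← C.F_i_mul g⁻¹ b']
        congr 1
        apply C.F_congr
        have e : (D.i b' * g⁻¹)⁻¹ * (g⁻¹ * h) = (g * D.i b' * g⁻¹)⁻¹ * h := by group
        rw [e]; exact h4
      have h6 : g * D.i (a + b') * g⁻¹ ∈ D.M := by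
        rw [← mem_hx_inv, C.mem_hx, map_add, h5, hb']
        decide
      have e : g * D.i a * g⁻¹ * h =
          (g * D.i (a + b') * g⁻¹) * ((g * D.i b' * g⁻¹)⁻¹ * h) := by
        rw [D.add]
        group
      rw [e]
      exact mul_mem h6 h4
  · have hs0 : C.F (g * D.i a * g⁻¹ * h) ≠ 0 := by
      intro h0
      rw [C.F_eq_zero] at h0
      apply hF
      apply C.F_of_mem hg hh (b := a)
      have e : (g * D.i a * g⁻¹)⁻¹ * h = g * D.i a * g⁻¹ * h := by
        have : (g * D.i a * g⁻¹)⁻¹ = g * D.i a * g⁻¹ := by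
          calc (g * D.i a * g⁻¹)⁻¹ = g * (D.i a)⁻¹ * g⁻¹ := by group
            _ = _ := by rw [D.i_inv]
        rw [this]
      rw [e]; exact h0
    have h1 : C.F (g * D.i a * g⁻¹ * h) ≠ C.F g := C.third_ne hg hh hgh hF
    have h2 : C.F (g * D.i a * g⁻¹ * h) ≠ C.F h := by
      rw [C.F_congr hsw]
      exact C.third_ne hh hg hhg (fun h => hF h.symm)
    exact dual_eq_add (fun h => hg (C.F_eq_zero.1 h)) (fun h => hh (C.F_eq_zero.1 h)) hF
      (fun u hu1 hu2 => C.ker_le_third hu1 hu2) hs0 h1 h2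

end GLData

end Cfsg.Agent.LargeExtra.GLRec
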