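import Cfsg.Agent.LargeExtra.GLRecClose
import Cfsg.Agent.LargeExtra.GLRecV

/-!
# Recognition of `GL_{n+1}(2)`: the closing theorem
-/

set_option autoImplicit false
set_option linter.unusedSectionVars false

namespace Cfsg.Agent.LargeExtra.GLRec

open Module

section Close

variable {G : Type*} [Group G] [Finite G] {K : Subgroup G}
  {V : Type*} [AddCommGroup V] [Module (ZMod 2) V] [Finite V]
  {ρ : K ≃* (V ≃ₗ[ZMod 2] V)} (E : Emb ρ)

theorem exists_sep {f g : Dual (ZMod 2) V} (hf : f ≠ 0) (hfg : f ≠ g) :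
    ∃ v, f v = 1 ∧ g v = 0 := by
  obtain ⟨a, hfa, hga⟩ := exists_both hf (dual_add_ne_zero hfg)
  refine ⟨a, hfa, ?_⟩
  rw [LinearMap.add_apply, hfa] at hga
  rcases zcases (g a) with h | h
  · exact h
  · rw [h] at hga; exact absurd hga (by decide)

theorem IsTv.comm {s t : K} {f g : Dual (ZMod 2) V} {c d : V} (hs : IsTv (ρ s) f c)
    (ht : IsTv (ρ t) g d) (h1 : f d = 0) (h2 : g c = 0) : s * t = t * s := by
  apply ρ_ext (ρ := ρ)
  intro v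
  rw [ρ_mul_apply, ρ_mul_apply, ht.2.2.2, hs.2.2.2, hs.2.2.2, ht.2.2.2, map_add, map_add,
    map_smul, map_smul, h1, h2, smul_zero, smul_zero, add_zero, add_zero]
  abel

theorem IsTv.of_comm {s t : K} {f g : Dual (ZMod 2) V} {c d : V} (hs : IsTv (ρ s) f c)
    (ht : IsTv (ρ t) g d) (hfg : f ≠ g) (h : s * t = t * s) : f d = 0 ∧ g c = 0 := by
  have key : ∀ v, (g v * f d) • c = (f v * g c) • d := by
    intro v
    have h1 : ρ (s * t) v = ρ (t * s) v := by rw [h]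
    rw [ρ_mul_apply, ρ_mul_apply, ht.2.2.2, hs.2.2.2, hs.2.2.2, ht.2.2.2, map_add, map_add,
      map_smul, map_smul, smul_eq_mul, smul_eq_mul, add_smul, add_smul] at h1
    have h2 : v + g v • d + (f v • c + (g v * f d) • c) =
      (v + g v • d + f v • c) + (g v * f d) • c := by abel
    have h3 : v + f v • c + (g v • d + (f v * g c) • d) =
      (v + g v • d + f v • c) + (f v * g c) • d := by abel
    rw [h2, h3] at h1
    exact add_left_cancel h1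
  constructor
  · obtain ⟨v, hv1, hv2⟩ := exists_sep ht.1 hfg.symm
    have h1 := key v
    rw [hv1, hv2, one_mul, zero_mul, zero_smul] at h1
    rcases smul_eq_zero.1 h1 with h2 | h2
    · exact h2
    · exact absurd h2 hs.2.1
  · obtain ⟨v, hv1, hv2⟩ := exists_sep hs.1 hfg
    have h1 := key v
    rw [hv1, hv2, one_mul, zero_mul, zero_smul] at h1
    rcases smul_eq_zero.1 h1.symm with h2 | h2
    · exact h2
    · exact absurd h2 ht.2.1

/-- the three transvections of the "zero" class below a rank two involution -/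
def Nu (ρ : K ≃* (V ≃ₗ[ZMod 2] V)) (f₁ f₂ : Dual (ZMod 2) V) (c₁ c₂ : V) (d : K) : Prop :=
  IsTv (ρ d) f₁ c₂ ∨ IsTv (ρ d) f₂ c₁ ∨ IsTv (ρ d) (f₁ + f₂) (c₁ + c₂)

/-- `ρ u + 1` -/
def nn (ρ : K ≃* (V ≃ₗ[ZMod 2] V)) (u : K) : V →ₗ[ZMod 2] V := (ρ u).toLinearMap + LinearMap.id

theorem nn_apply (u : K) (v : V) : nn ρ u v = ρ u v + v := rfl

theorem nn_nn {u : K} (hu : u * u = 1) (v : V) : nn ρ u (nn ρ u v) = 0 := by
  rw [nn_apply, nn_apply, map_add, ← ρ_mul_apply, hu, ρ_one_apply, add_comm v, addd]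

theorem nn_comm {u g : K} (h : g * u = u * g) (v : V) : nn ρ u (ρ g v) = ρ g (nn ρ u v) := by
  rw [nn_apply, nn_apply, map_add, ← ρ_mul_apply, ← ρ_mul_apply, h]

variable {f₁ f₂ : Dual (ZMod 2) V} {c₁ c₂ : V} {u : K}

theorem Rk2.nn_eq (hR : Rk2 (ρ u) f₁ f₂ c₁ c₂) (v : V) :
    nn ρ u v = f₁ v • c₁ + f₂ v • c₂ := by
  rw [nn_apply, hR.eq]
  have : v + f₁ v • c₁ + f₂ v • c₂ + v = (v + v) + (f₁ v • c₁ + f₂ v • c₂) := by abel
  rw [this, addd, zero_add]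

theorem Rk2.sq (hR : Rk2 (ρ u) f₁ f₂ c₁ c₂) : u * u = 1 := by
  apply ρ_ext (ρ := ρ)
  intro v
  have h1 : f₁ (ρ u v) = f₁ v := by
    rw [hR.eq, map_add, map_add, map_smul, map_smul, hR.e11, hR.e12]; simp
  have h2 : f₂ (ρ u v) = f₂ v := by
    rw [hR.eq, map_add, map_add, map_smul, map_smul, hR.e21, hR.e22]; simp
  rw [ρ_mul_apply, ρ_one_apply, hR.eq (ρ u v), h1, h2, hR.eq]
  have : v + f₁ v • c₁ + f₂ v • c₂ + f₁ v • c₁ + f₂ v • c₂ =
    v + (f₁ v • c₁ + f₁ v • c₁) + (f₂ v • c₂ + f₂ v • c₂) := by abel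
  rw [this, addd, addd, add_zero, add_zero]

theorem Rk2.nu_iff (hR : Rk2 (ρ u) f₁ f₂ c₁ c₂) (d : K) :
    Nu ρ f₁ f₂ c₁ c₂ d ↔ ∃ (a : V) (h : Dual (ZMod 2) V),
      IsTv (ρ d) (h.comp (nn ρ u)) (nn ρ u a) ∧ h (nn ρ u a) = 0 := by
  obtain ⟨v₁, h11, h21⟩ := exists_sep hR.f₁0 hR.f12
  obtain ⟨v₂, h22, h12⟩ := exists_sep hR.f₂0 hR.f12.symm
  have hc12 : c₁ + c₂ ≠ 0 := fun h => hR.c12 (eq_of_add h)
  constructor
  · rintro (h | h | h)
    · obtain ⟨k, hk1, hk2⟩ := exists_dual1 hR.c₁0 hR.c12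
      have e1 : nn ρ u v₂ = c₂ := by rw [hR.nn_eq, h12, h22]; simp
      have e2 : k.comp (nn ρ u) = f₁ := by
        ext v; rw [LinearMap.comp_apply, hR.nn_eq, map_add, map_smul, map_smul, hk1, hk2]; simp
      exact ⟨v₂, k, by rw [e1, e2]; exact h, by rw [e1]; exact hk2⟩
    · obtain ⟨k, hk1, hk2⟩ := exists_dual1 hR.c₂0 hR.c12.symm
      have e1 : nn ρ u v₁ = c₁ := by rw [hR.nn_eq, h11, h21]; simp
      have e2 : k.comp (nn ρ u) = f₂ := by
        ext v; rw [LinearMap.comp_apply, hR.nn_eq, map_add, map_smul, map_smul, hk1, hk2]; simp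
      exact ⟨v₁, k, by rw [e1, e2]; exact h, by rw [e1]; exact hk2⟩
    · obtain ⟨k, hk1, hk2⟩ := exists_dual1 (x := c₁) (b := c₁ + c₂) hR.c₁0 (fun h => by
        apply hR.c₂0
        have : c₁ + 0 = c₁ + c₂ := by rw [add_zero]; exact h
        exact (add_left_cancel this).symm)
      have hk3 : k c₂ = 1 := by
        rw [map_add, hk1] at hk2
        rcases zcases (k c₂) with h | h
        · rw [h] at hk2; exact absurd hk2 (by decide)
        · exact h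
      have e1 : nn ρ u (v₁ + v₂) = c₁ + c₂ := by
        rw [hR.nn_eq, map_add, map_add, h11, h21, h12, h22]; simp
      have e2 : k.comp (nn ρ u) = f₁ + f₂ := by
        ext v; rw [LinearMap.comp_apply, hR.nn_eq, map_add, map_smul, map_smul, hk1, hk3]; simp
      exact ⟨v₁ + v₂, k, by rw [e1, e2]; exact h, by rw [e1]; exact hk2⟩
  · rintro ⟨a, k, h, hk⟩
    have e2 : k.comp (nn ρ u) = k c₁ • f₁ + k c₂ • f₂ := by
      ext v; rw [LinearMap.comp_apply, hR.nn_eq, map_add, map_smul, map_smul]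
      simp [mul_comm]
    rcases zcases (f₁ a) with h1 | h1 <;> rcases zcases (f₂ a) with h2 | h2
    · exfalso
      apply h.2.1
      rw [hR.nn_eq, h1, h2]; simp
    · have e1 : nn ρ u a = c₂ := by rw [hR.nn_eq, h1, h2]; simp
      rw [e1] at h hk
      rw [e2, hk, zero_smul, add_zero] at h
      rcases zcases (k c₁) with h3 | h3
      · exfalso; apply h.1; rw [h3, zero_smul]
      · rw [h3, one_smul] at h; exact Or.inl h
    · have e1 : nn ρ u a = c₁ := by rw [hR.nn_eq, h1, h2]; simp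
      rw [e1] at h hk
      rw [e2, hk, zero_smul, zero_add] at h
      rcases zcases (k c₂) with h3 | h3
      · exfalso; apply h.1; rw [h3, zero_smul]
      · rw [h3, one_smul] at h; exact Or.inr (Or.inl h)
    · have e1 : nn ρ u a = c₁ + c₂ := by rw [hR.nn_eq, h1, h2]; simp
      rw [e1] at h hk
      rw [e2] at h
      rw [map_add] at hk
      have hk' : k c₁ = k c₂ := eq_of_add hk
      rcases zcases (k c₂) with h3 | h3
      · exfalso; apply h.1; rw [hk', h3, zero_smul, zero_smul, add_zero]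
      · rw [hk', h3, one_smul, one_smul] at h; exact Or.inr (Or.inr h)

theorem Nu.exists_isTv {d : K} (h : Nu ρ f₁ f₂ c₁ c₂ d) : ∃ f c, IsTv (ρ d) f c := by
  rcases h with h | h | h
  exacts [⟨_, _, h⟩, ⟨_, _, h⟩, ⟨_, _, h⟩]

theorem Rk2.nu_conj (hR : Rk2 (ρ u) f₁ f₂ c₁ c₂) {d g : K} (hg : g * u = u * g)
    (h : Nu ρ f₁ f₂ c₁ c₂ d) : Nu ρ f₁ f₂ c₁ c₂ (g * d * g⁻¹) := by
  rw [hR.nu_iff] at h ⊢
  obtain ⟨a, k, h1, h2⟩ := h
  have hgi : g⁻¹ * u = u * g⁻¹ := by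
    rw [inv_mul_eq_iff_eq_mul, ← mul_assoc, hg]; group
  have hi : ∀ v, (ρ g)⁻¹ (ρ g v) = v := fun v => by
    rw [← LinearEquiv.mul_apply, inv_mul_cancel]; rfl
  refine ⟨ρ g a, k.comp ((ρ g)⁻¹ : V ≃ₗ[ZMod 2] V).toLinearMap, ?_, ?_⟩
  · have h3 := h1.conj' g
    rw [nn_comm hg]
    convert h3 using 1
    ext v
    simp only [LinearMap.comp_apply, LinearEquiv.coe_coe]
    rw [← map_inv, nn_comm hgi]
  · rw [nn_comm hg, LinearMap.comp_apply, LinearEquiv.coe_coe, hi, h2]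

include E in
/-- (A1) -/
theorem Rk2.nu_mem (hR : Rk2 (ρ u) f₁ f₂ c₁ c₂) {d : K} (h : Nu ρ f₁ f₂ c₁ c₂ d) {g : G}
    (hg : g * u = u * g) (hgd : g * d * g⁻¹ ∈ K) :
    ∃ d' : K, Nu ρ f₁ f₂ c₁ c₂ d' ∧ (d' : G) = g * d * g⁻¹ := by
  obtain ⟨f, c, hfc⟩ := h.exists_isTv
  have hgK := E.fix d f c hfc g hgd
  exact ⟨⟨g, hgK⟩ * d * ⟨g, hgK⟩⁻¹, hR.nu_conj (Subtype.ext hg) h, rfl⟩

theorem Rk2.prod12 (hR : Rk2 (ρ u) f₁ f₂ c₁ c₂) {d₁ d₂ d₃ : K} (h₁ : IsTv (ρ d₁) f₁ c₂)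
    (h₂ : IsTv (ρ d₂) f₂ c₁) (h₃ : IsTv (ρ d₃) (f₁ + f₂) (c₁ + c₂)) : d₁ * d₂ = d₃ * u := by
  apply ρ_ext (ρ := ρ)
  intro v
  rw [ρ_mul_apply, ρ_mul_apply, h₂.2.2.2, h₁.2.2.2, hR.eq, h₃.2.2.2]
  simp only [map_add, map_smul, LinearMap.add_apply, hR.e11, hR.e12, hR.e21, hR.e22, smul_zero,
    add_zero, add_smul, smul_add]
  have : v + f₁ v • c₁ + f₂ v • c₂ + (f₁ v • c₁ + f₂ v • c₁ + (f₁ v • c₂ + f₂ v • c₂)) =
    v + (f₁ v • c₁ + f₁ v • c₁) + (f₂ v • c₂ + f₂ v • c₂) + (f₂ v • c₁ + f₁ v • c₂) := by abel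
  rw [this, addd, addd, add_zero, add_zero, add_assoc]

theorem Rk2.prod13 (hR : Rk2 (ρ u) f₁ f₂ c₁ c₂) {d₁ d₂ d₃ : K} (h₁ : IsTv (ρ d₁) f₁ c₂)
    (h₂ : IsTv (ρ d₂) f₂ c₁) (h₃ : IsTv (ρ d₃) (f₁ + f₂) (c₁ + c₂)) : d₁ * d₃ = d₂ * u := by
  apply ρ_ext (ρ := ρ)
  intro v
  rw [ρ_mul_apply, ρ_mul_apply, h₃.2.2.2, h₁.2.2.2, hR.eq, h₂.2.2.2]
  simp only [map_add, map_smul, LinearMap.add_apply, hR.e11, hR.e12, hR.e21, hR.e22, smul_zero,
    add_zero, add_smul, smul_add]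
  have : v + (f₁ v • c₁ + f₂ v • c₁ + (f₁ v • c₂ + f₂ v • c₂)) + f₁ v • c₂ =
    v + f₁ v • c₁ + f₂ v • c₂ + f₂ v • c₁ + (f₁ v • c₂ + f₁ v • c₂) := by abel
  rw [this, addd, add_zero]

theorem coe_comm {s t : K} (h : s * t = t * s) : (s : G) * t = t * s := congrArg Subtype.val h

include E in
/-- (A2) -/
theorem Rk2.dich (hR : Rk2 (ρ u) f₁ f₂ c₁ c₂) {l : G} (hl : l * u = u * l) (hlK : l ∉ K)
    {r : K} {f : Dual (ZMod 2) V} {c : V} (hr : IsTv (ρ r) f c) (hru : r * u = u * r) :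
    Nu ρ f₁ f₂ c₁ c₂ r ∨ ∃ d : K, Nu ρ f₁ f₂ c₁ c₂ d ∧ l⁻¹ * ((r : G) * d) * l ∈ K := by
  obtain ⟨n₁, h₁⟩ := exists_isTv ρ hR.f₁0 hR.c₂0 hR.e12
  obtain ⟨n₂, h₂⟩ := exists_isTv ρ hR.f₂0 hR.c₁0 hR.e21
  have hf3 : f₁ + f₂ ≠ 0 := dual_add_ne_zero hR.f12
  have hc3 : c₁ + c₂ ≠ 0 := fun h => hR.c12 (eq_of_add h)
  obtain ⟨n₃, h₃⟩ := exists_isTv ρ hf3 hc3 (by
    rw [LinearMap.add_apply, map_add, map_add, hR.e11, hR.e12, hR.e21, hR.e22]; simp)
  set e : G := l * n₁ * l⁻¹ with he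
  have hrr : (r : G) * r = 1 := by
    have := congrArg Subtype.val hr.sq
    simpa using this
  have hnn : (n₁ : G) * n₁ = 1 := by
    have := congrArg Subtype.val h₁.sq
    simpa using this
  have hee : e * e = 1 := by
    calc e * e = l * ((n₁ : G) * n₁) * l⁻¹ := by rw [he]; group
      _ = 1 := by rw [hnn]; group
  have hu₁ : (n₁ : G) * u = u * n₁ := by
    apply coe_comm
    apply ρ_ext (ρ := ρ)
    intro v
    rw [ρ_mul_apply, ρ_mul_apply, hR.eq v, h₁.2.2.2, h₁.2.2.2, hR.eq]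
    simp only [map_add, map_smul, hR.e11, hR.e12, hR.e22, smul_zero, add_zero]
    abel
  have hlu : l⁻¹ * u = u * l⁻¹ := by
    rw [inv_mul_eq_iff_eq_mul, ← mul_assoc, hl]; group
  have heu : e * u = u * e := by
    calc e * u = l * n₁ * (l⁻¹ * u) := by rw [he]; group
      _ = l * ((n₁ : G) * u) * l⁻¹ := by rw [hlu]; group
      _ = (l * u) * n₁ * l⁻¹ := by rw [hu₁]; group
      _ = u * e := by rw [hl, he]; group
  have hru' : (r : G) * u = u * r := coe_comm hru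
  have hN₁ : Nu ρ f₁ f₂ c₁ c₂ n₁ := Or.inl h₁
  rcases dihedral_cases (r : G) e hrr hee with ⟨j, hj, hjr⟩ | ⟨w, -, hw1, hww, hwr, hwe, h⟩
  · left
    have hju := GLData.closure_comm hru' heu hj
    have hjlu : (j⁻¹ * l) * u = u * (j⁻¹ * l) := by
      have : j⁻¹ * u = u * j⁻¹ := by
        rw [inv_mul_eq_iff_eq_mul, ← mul_assoc, hju]; group
      rw [mul_assoc, hl, ← mul_assoc, this, mul_assoc]
    have hconj : j⁻¹ * l * n₁ * (j⁻¹ * l)⁻¹ = r := by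
      calc j⁻¹ * l * n₁ * (j⁻¹ * l)⁻¹ = j⁻¹ * e * j := by rw [he]; group
        _ = r := by rw [← hjr]; group
    obtain ⟨d', hd', hd'e⟩ := hR.nu_mem E hN₁ hjlu (by rw [hconj]; exact r.2)
    rw [hconj] at hd'e
    rwa [Subtype.ext hd'e] at hd'
  · have hwK : w ∈ K := by
      apply E.fix r f c hr
      rw [hwr]
      have : (r : G) * w * w⁻¹ = r := by group
      rw [this]; exact r.2
    have hwK' : l⁻¹ * w * l ∈ K := by
      apply E.fix n₁ _ _ h₁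
      have : l⁻¹ * w * l * n₁ * (l⁻¹ * w * l)⁻¹ = l⁻¹ * (w * e) * w⁻¹ * l := by rw [he]; group
      rw [this, hwe]
      have : l⁻¹ * (e * w) * w⁻¹ * l = n₁ := by rw [he]; group
      rw [this]; exact n₁.2
    have contra : ∀ n : K, Nu ρ f₁ f₂ c₁ c₂ n → (l⁻¹ * w * l : G) = n * u → False := by
      intro n hn hnw
      obtain ⟨f', c', hfc⟩ := hn.exists_isTv
      apply hlK
      apply E.fix n f' c' hfc
      have : l * n * l⁻¹ = w * (u : G)⁻¹ := by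
        calc l * n * l⁻¹ = l * (n * u) * ((u : G)⁻¹ * l⁻¹) := by group
          _ = l * (l⁻¹ * w * l) * ((u : G)⁻¹ * l⁻¹) := by rw [hnw]
          _ = w * (l * (u : G)⁻¹ * l⁻¹) := by group
          _ = w * (u : G)⁻¹ := by
            have hC : Commute l (u : G) := hl
            rw [hC.inv_right.eq]; group
      rw [this]
      exact mul_mem hwK (inv_mem u.2)
    rcases h with ⟨j, hj, h1, h2⟩ | ⟨j, hj, h1, h2⟩
    · exfalso
      have hju := GLData.closure_comm hru' heu hj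
      have hgu : (l⁻¹ * j * l) * u = u * (l⁻¹ * j * l) := by
        calc (l⁻¹ * j * l) * u = l⁻¹ * j * (l * u) := by group
          _ = l⁻¹ * (j * u) * l := by rw [hl]; group
          _ = (l⁻¹ * u) * j * l := by rw [hju]; group
          _ = _ := by rw [hlu]; group
      have hconj : l⁻¹ * j * l * n₁ * (l⁻¹ * j * l)⁻¹ = n₁ * (l⁻¹ * w * l) := by
        calc l⁻¹ * j * l * n₁ * (l⁻¹ * j * l)⁻¹ = l⁻¹ * (j * e * j⁻¹) * l := by rw [he]; group
          _ = l⁻¹ * (e * w) * l := by rw [h2]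
          _ = _ := by rw [he]; group
      obtain ⟨d', hd', hd'e⟩ := hR.nu_mem E hN₁ hgu (by
        rw [hconj]; exact mul_mem n₁.2 hwK')
      rw [hconj] at hd'e
      have hlw : (l⁻¹ * w * l : G) = n₁ * d' := by
        rw [hd'e, ← mul_assoc, hnn, one_mul]
      rcases hd' with h | h | h
      · have h4 : d' = n₁ := h.eq_of h₁
        rw [h4, hnn] at hlw
        apply hw1
        have : w = l * (l⁻¹ * w * l) * l⁻¹ := by group
        rw [this, hlw]; group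
      · have h4 : d' = n₂ := h.eq_of h₂
        apply contra n₃ (Or.inr (Or.inr h₃))
        rw [hlw, h4]
        exact congrArg Subtype.val (hR.prod12 h₁ h₂ h₃)
      · have h4 : d' = n₃ := h.eq_of h₃
        apply contra n₂ (Or.inr (Or.inl h₂))
        rw [hlw, h4]
        exact congrArg Subtype.val (hR.prod13 h₁ h₂ h₃)
    · right
      have hju := GLData.closure_comm hru' heu hj
      have hjlu : (j⁻¹ * l) * u = u * (j⁻¹ * l) := by
        have : j⁻¹ * u = u * j⁻¹ := by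
          rw [inv_mul_eq_iff_eq_mul, ← mul_assoc, hju]; group
        rw [mul_assoc, hl, ← mul_assoc, this, mul_assoc]
      have hconj : j⁻¹ * l * n₁ * (j⁻¹ * l)⁻¹ = r * w := by
        rw [← h2, he]; group
      obtain ⟨d', hd', hd'e⟩ := hR.nu_mem E hN₁ hjlu (by
        rw [hconj]; exact mul_mem r.2 hwK)
      rw [hconj] at hd'e
      refine ⟨d', hd', ?_⟩
      rw [hd'e, ← mul_assoc (r : G), hrr, one_mul]
      exact hwK'

theorem Nu.comm_of {d : K} (h : Nu ρ f₁ f₂ c₁ c₂ d) {r : K} {f : Dual (ZMod 2) V} {c : V}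
    (hr : IsTv (ρ r) f c) (h1 : f c₁ = 0) (h2 : f c₂ = 0) (h3 : f₁ c = 0) (h4 : f₂ c = 0) :
    r * d = d * r := by
  rcases h with h | h | h
  · exact hr.comm h h2 h3
  · exact hr.comm h h1 h4
  · exact hr.comm h (by rw [map_add, h1, h2, add_zero])
      (by rw [LinearMap.add_apply, h3, h4, add_zero])

theorem Rk2.comm_T (hR : Rk2 (ρ u) f₁ f₂ c₁ c₂) {r : K} {f : Dual (ZMod 2) V} {c : V}
    (hr : IsTv (ρ r) f c) (h1 : f c₁ = 0) (h2 : f c₂ = 0) (h3 : f₁ c = 0) (h4 : f₂ c = 0) :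
    r * u = u * r := by
  apply ρ_ext (ρ := ρ)
  intro v
  rw [ρ_mul_apply, ρ_mul_apply, hR.eq v, hr.2.2.2, hr.2.2.2, hR.eq]
  simp only [map_add, map_smul, h1, h2, h3, h4, smul_zero, add_zero]
  abel

include E in
/-- Step A: rank two involutions of `K` lie in no other conjugate of `K`. -/
theorem Rk2.fix (hR : Rk2 (ρ u) f₁ f₂ c₁ c₂) {x : G} (hx : x⁻¹ * u * x ∈ K) : x ∈ K := by
  by_contra hxK
  obtain ⟨t, f, c, ht, htu⟩ := exists_comm_T E hR.sq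
  have huu : (u : G) * u = 1 := by
    have := congrArg Subtype.val hR.sq
    simpa using this
  obtain ⟨t', f', c', ht', htu'⟩ := exists_comm_T E (u := ⟨x⁻¹ * u * x, hx⟩) (by
    apply Subtype.ext
    show x⁻¹ * u * x * (x⁻¹ * u * x) = 1
    calc x⁻¹ * u * x * (x⁻¹ * u * x) = x⁻¹ * ((u : G) * u) * x := by group
      _ = 1 := by rw [huu]; group)
  have htu'' : (t' : G) * (x⁻¹ * u * x) = x⁻¹ * u * x * t' := congrArg Subtype.val htu'
  obtain ⟨l, hlL, hlx⟩ := trans_fix E (L := Subgroup.centralizer {(u : G)}) (x := x) ht ht'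
    (by rw [Subgroup.mem_centralizer_singleton_iff]; exact coe_comm htu)
    (by
      rw [Subgroup.mem_centralizer_singleton_iff]
      calc x * t' * x⁻¹ * u = x * (t' * (x⁻¹ * u * x)) * x⁻¹ := by group
        _ = u * (x * t' * x⁻¹) := by rw [htu'']; group)
  rw [Subgroup.mem_centralizer_singleton_iff] at hlL
  have hlK : l ∉ K := fun h => hxK (by simpa using mul_mem h hlx)
  -- the two extra transvections
  obtain ⟨b, h1b, h2b, hb0, hbc1, hbc2, hb⟩ := exists_vec E.h5 f₁ f₂ c₁ c₂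
  obtain ⟨g, hgb, hg1, hg2⟩ := exists_dual2 hb0 hbc1 hbc2 hb
  have hg0 : g ≠ 0 := by
    rintro rfl
    exact absurd hgb (by simp)
  obtain ⟨r₁, hr₁⟩ := exists_isTv ρ hR.f₁0 hb0 h1b
  obtain ⟨r₂, hr₂⟩ := exists_isTv ρ hg0 hR.c₂0 hg2
  have hr₁N : ¬ Nu ρ f₁ f₂ c₁ c₂ r₁ := by
    rintro (h | h | h)
    · exact hbc2 (hr₁.unique h).2
    · exact hbc1 (hr₁.unique h).2
    · exact hb (hr₁.unique h).2
  have hr₂N : ¬ Nu ρ f₁ f₂ c₁ c₂ r₂ := by
    rintro (h | h | h)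
    · have := (hr₂.unique h).1
      rw [this, h1b] at hgb; exact absurd hgb (by decide)
    · have := (hr₂.unique h).1
      rw [this, h2b] at hgb; exact absurd hgb (by decide)
    · have := (hr₂.unique h).1
      rw [this, LinearMap.add_apply, h1b, h2b] at hgb; exact absurd hgb (by decide)
  obtain ⟨d₁, hd₁, hd₁K⟩ := (hR.dich E hlL hlK hr₁
    (hR.comm_T hr₁ hR.e11 hR.e12 h1b h2b)).resolve_left hr₁N
  obtain ⟨d₂, hd₂, hd₂K⟩ := (hR.dich E hlL hlK hr₂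
    (hR.comm_T hr₂ hg1 hg2 hR.e12 hR.e22)).resolve_left hr₂N
  -- commutations
  have k11 : r₁ * d₁ = d₁ * r₁ := hd₁.comm_of hr₁ hR.e11 hR.e12 h1b h2b
  have k12 : r₁ * d₂ = d₂ * r₁ := hd₂.comm_of hr₁ hR.e11 hR.e12 h1b h2b
  have k21 : r₂ * d₁ = d₁ * r₂ := hd₁.comm_of hr₂ hg1 hg2 hR.e12 hR.e22
  have k22 : r₂ * d₂ = d₂ * r₂ := hd₂.comm_of hr₂ hg1 hg2 hR.e12 hR.e22
  have kd : d₁ * d₂ = d₂ * d₁ := by
    rcases hd₁ with h | h | h
    · exact hd₂.comm_of h hR.e11 hR.e12 hR.e12 hR.e22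
    · exact hd₂.comm_of h hR.e21 hR.e22 hR.e11 hR.e21
    · refine hd₂.comm_of h ?_ ?_ ?_ ?_
      · rw [LinearMap.add_apply, hR.e11, hR.e21, add_zero]
      · rw [LinearMap.add_apply, hR.e12, hR.e22, add_zero]
      · rw [map_add, hR.e11, hR.e12, add_zero]
      · rw [map_add, hR.e21, hR.e22, add_zero]
  obtain ⟨_, _, hd₁T⟩ := hd₁.exists_isTv
  obtain ⟨_, _, hd₂T⟩ := hd₂.exists_isTv
  have hprod : (r₁ * d₁) * (r₂ * d₂) * (r₁ * d₁) * (r₂ * d₂) = r₁ * r₂ * r₁ * r₂ := by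
    have C11 : Commute r₁ d₁ := k11
    have C12 : Commute r₁ d₂ := k12
    have C21 : Commute r₂ d₁ := k21
    have C22 : Commute r₂ d₂ := k22
    have Cd : Commute d₁ d₂ := kd
    have e1 : (r₁ * d₁) * (r₂ * d₂) = (r₁ * r₂) * (d₁ * d₂) := by
      rw [mul_assoc, ← mul_assoc d₁, ← k21]; group
    have C : Commute (r₁ * r₂) (d₁ * d₂) :=
      (C11.mul_left C21).mul_right (C12.mul_left C22)
    have e2 : (r₁ * d₁) * (r₂ * d₂) * (r₁ * d₁) * (r₂ * d₂) =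
        (r₁ * r₂) * (d₁ * d₂) * ((r₁ * r₂) * (d₁ * d₂)) := by
      rw [← e1]; group
    rw [e2]
    have e3 : (r₁ * r₂) * (d₁ * d₂) * ((r₁ * r₂) * (d₁ * d₂)) =
        (r₁ * r₂) * ((d₁ * d₂) * (r₁ * r₂)) * (d₁ * d₂) := by group
    rw [e3, ← C.eq]
    have e4 : (d₁ * d₂) * (d₁ * d₂) = 1 := by
      calc (d₁ * d₂) * (d₁ * d₂) = d₁ * (d₂ * d₁) * d₂ := by group
        _ = (d₁ * d₁) * (d₂ * d₂) := by rw [← kd]; group
        _ = 1 := by rw [hd₁T.sq, hd₂T.sq, one_mul]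
    calc r₁ * r₂ * (r₁ * r₂ * (d₁ * d₂)) * (d₁ * d₂) =
        r₁ * r₂ * (r₁ * r₂) * ((d₁ * d₂) * (d₁ * d₂)) := by group
      _ = r₁ * r₂ * r₁ * r₂ := by rw [e4]; group
  have hT : IsTv (ρ (r₁ * r₂ * r₁ * r₂)) f₁ c₂ := by
    refine ⟨hR.f₁0, hR.c₂0, hR.e12, fun v => ?_⟩
    rw [ρ_mul_apply, ρ_mul_apply, ρ_mul_apply, hr₂.2.2.2 v, hr₁.2.2.2, hr₂.2.2.2, hr₁.2.2.2]
    simp only [map_add, map_smul, hg2, hgb, hR.e12, h1b, smul_eq_mul, mul_one, mul_zero, add_zero,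
      add_smul]
    have : v + g v • c₂ + f₁ v • b + (g v • c₂ + f₁ v • c₂) + f₁ v • b =
      v + (g v • c₂ + g v • c₂) + (f₁ v • b + f₁ v • b) + f₁ v • c₂ := by abel
    rw [this, addd, addd, add_zero, add_zero]
  apply hlK
  have hl' : l⁻¹ ∈ K := by
    apply E.fix _ _ _ hT
    have h1 : ((r₁ * r₂ * r₁ * r₂ : K) : G) =
        ((r₁ : G) * d₁) * (r₂ * d₂) * (r₁ * d₁) * (r₂ * d₂) := by
      rw [← hprod]; rfl
    have h2 : l⁻¹ * ((r₁ * r₂ * r₁ * r₂ : K) : G) * l⁻¹⁻¹ =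
        (l⁻¹ * ((r₁ : G) * d₁) * l) * (l⁻¹ * ((r₂ : G) * d₂) * l) *
        (l⁻¹ * ((r₁ : G) * d₁) * l) * (l⁻¹ * ((r₂ : G) * d₂) * l) := by
      rw [h1]; group
    rw [h2]
    exact mul_mem (mul_mem (mul_mem hd₁K hd₂K) hd₁K) hd₂K
  simpa using inv_mem hl'

end Close

end Cfsg.Agent.LargeExtra.GLRec
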