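import Cfsg.Agent.LargeExtra.GLRecClose2

/-!
# Recognition of `GL_{n+1}(2)`: the closing theorem, conclusion
-/

set_option autoImplicit false
set_option linter.unusedSectionVars false

namespace Cfsg.Agent.LargeExtra.GLRec

open Module

section Close

variable {G : Type*} [Group G] [Finite G] {K : Subgroup G}
  {V : Type*} [AddCommGroup V] [Module (ZMod 2) V] [Finite V]
  {ρ : K ≃* (V ≃ₗ[ZMod 2] V)} (E : Emb ρ)

/-- a product of two commuting transvections is `1`, a transvection or of rank two. -/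
theorem tv_mul {s t : K} {f g : Dual (ZMod 2) V} {c d : V} (hs : IsTv (ρ s) f c)
    (ht : IsTv (ρ t) g d) (h : s * t = t * s) :
    s * t = 1 ∨ (∃ f' c', IsTv (ρ (s * t)) f' c') ∨ ∃ f₁ f₂ c₁ c₂, Rk2 (ρ (s * t)) f₁ f₂ c₁ c₂ := by
  by_cases hfg : f = g
  · subst hfg
    by_cases hcd : c = d
    · subst hcd
      left
      rw [ht.eq_of hs, hs.sq]
    · right; left
      refine ⟨f, c + d, hs.1, fun h => hcd (eq_of_add h), ?_, fun v => ?_⟩
      · rw [map_add, hs.2.2.1, ht.2.2.1, add_zero]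
      · rw [ρ_mul_apply, ht.2.2.2, hs.2.2.2, map_add, map_smul, ht.2.2.1, smul_zero, add_zero,
          smul_add]
        abel
  · obtain ⟨h1, h2⟩ := hs.of_comm ht hfg h
    by_cases hcd : c = d
    · subst hcd
      right; left
      refine ⟨f + g, c, dual_add_ne_zero hfg, hs.2.1, ?_, fun v => ?_⟩
      · rw [LinearMap.add_apply, hs.2.2.1, ht.2.2.1, add_zero]
      · rw [ρ_mul_apply, ht.2.2.2, hs.2.2.2, map_add, map_smul, h1, smul_zero, add_zero,
          LinearMap.add_apply, add_smul]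
        abel
    · right; right
      refine ⟨f, g, c, d, hs.1, ht.1, hfg, hs.2.1, ht.2.1, hcd, hs.2.2.1, h1, h2, ht.2.2.1,
        fun v => ?_⟩
      rw [ρ_mul_apply, ht.2.2.2, hs.2.2.2, map_add, map_smul, h1, smul_zero, add_zero]
      abel

theorem comm_of_nn {w : K} (hw : w * w = 1) {t : K} {k : Dual (ZMod 2) V} {a : V}
    (ht : IsTv (ρ t) (k.comp (nn ρ w)) (nn ρ w a)) : t * w = w * t := by
  apply ρ_ext (ρ := ρ)
  intro v
  have hww : ∀ v, ρ w (ρ w v) = v := fun v => by rw [← ρ_mul_apply, hw, ρ_one_apply]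
  have h1 : nn ρ w (ρ w v) = nn ρ w v := by
    rw [nn_apply, nn_apply, hww, add_comm]
  have h2 : ρ w (nn ρ w a) = nn ρ w a := by
    rw [nn_apply, map_add, hww, add_comm]
  rw [ρ_mul_apply, ρ_mul_apply, ht.2.2.2, ht.2.2.2, map_add, map_smul, h2, LinearMap.comp_apply,
    LinearMap.comp_apply, h1]

include E in
/-- Step B: involutions of `K` lie in no other conjugate of `K`. -/
theorem Emb.fixB {w : K} (hw : w * w = 1) (hw1 : w ≠ 1) {x : G} (hx : x⁻¹ * w * x ∈ K) :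
    x ∈ K := by
  by_contra hxK
  have hx' : x⁻¹ ∉ K := fun h => hxK (by simpa using inv_mem h)
  have noT : ∀ (y : K), (∃ f c, IsTv (ρ y) f c) → x⁻¹ * y * x ∈ K → False := by
    rintro y ⟨f, c, hy⟩ h
    apply hx'
    apply E.fix y f c hy
    rwa [inv_inv]
  have hww : (w : G) * w = 1 := by
    have := congrArg Subtype.val hw
    simpa using this
  have hnn := nn_nn (ρ := ρ) hw
  obtain ⟨a₁, ha₁⟩ : ∃ a, nn ρ w a ≠ 0 := by
    by_contra hcon
    push Not at hcon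
    apply hw1
    apply ρ_ext (ρ := ρ)
    intro v
    rw [ρ_one_apply]
    exact eq_of_add (hcon v)
  obtain ⟨a₂, ha₂, ha₂'⟩ : ∃ a, nn ρ w a ≠ 0 ∧ nn ρ w a ≠ nn ρ w a₁ := by
    by_contra hcon
    push Not at hcon
    apply noT w _ hx
    obtain ⟨g, hg⟩ := exists_dual0 ha₁
    refine ⟨g.comp (nn ρ w), nn ρ w a₁, ?_, ha₁, ?_, fun v => ?_⟩
    · intro h
      have : g.comp (nn ρ w) a₁ = 0 := by rw [h]; rfl
      rw [LinearMap.comp_apply, hg] at this
      exact absurd this (by decide)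
    · rw [LinearMap.comp_apply, hnn, map_zero]
    · have h1 : ρ w v = v + nn ρ w v := by
        rw [nn_apply, add_comm (ρ w v), addd_left]
      rw [h1, LinearMap.comp_apply]
      by_cases h2 : nn ρ w v = 0
      · rw [h2, map_zero, zero_smul]
      · rw [hcon v h2, hg, one_smul]
  obtain ⟨t', f', c', ht', htw'⟩ := exists_comm_T E (u := ⟨x⁻¹ * w * x, hx⟩) (by
    apply Subtype.ext
    show x⁻¹ * w * x * (x⁻¹ * w * x) = 1
    calc x⁻¹ * w * x * (x⁻¹ * w * x) = x⁻¹ * ((w : G) * w) * x := by group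
      _ = 1 := by rw [hww]; group)
  have htw'' : (t' : G) * (x⁻¹ * w * x) = x⁻¹ * w * x * t' := congrArg Subtype.val htw'
  set s : G := x * t' * x⁻¹ with hs
  have hsw : s * w = w * s := by
    calc x * t' * x⁻¹ * w = x * (t' * (x⁻¹ * w * x)) * x⁻¹ := by group
      _ = w * (x * t' * x⁻¹) := by rw [htw'']; group
  have htt' : (t' : G) * t' = 1 := by
    have := congrArg Subtype.val ht'.sq
    simpa using this
  have hss : s * s = 1 := by
    calc s * s = x * ((t' : G) * t') * x⁻¹ := by rw [hs]; group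
      _ = 1 := by rw [htt']; group
  -- claim
  have claim : ∀ (t : K) (f : Dual (ZMod 2) V) (c : V), IsTv (ρ t) f c → t * w = w * t →
      ∃ j : G, j * w = w * j ∧ j * t * j⁻¹ = s := by
    intro t f c ht htw
    have htt : (t : G) * t = 1 := by
      have := congrArg Subtype.val ht.sq
      simpa using this
    have htw2 : (t : G) * w = w * t := coe_comm htw
    rcases dihedral_cases (t : G) s htt hss with ⟨j, hj, hjt⟩ | ⟨v, -, hv1, hvv, hvt, hvs, h⟩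
    · exact ⟨j, GLData.closure_comm htw2 hsw hj, hjt⟩
    exfalso
    have hvK : v ∈ K := by
      apply E.fix t f c ht
      rw [hvt]
      have : (t : G) * v * v⁻¹ = t := by group
      rw [this]; exact t.2
    have hvK' : x⁻¹ * v * x ∈ K := by
      apply E.fix t' _ _ ht'
      have : x⁻¹ * v * x * t' * (x⁻¹ * v * x)⁻¹ = x⁻¹ * (v * s) * v⁻¹ * x := by rw [hs]; group
      rw [this, hvs]
      have : x⁻¹ * (s * v) * v⁻¹ * x = t' := by rw [hs]; group
      rw [this]; exact t'.2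
    -- t v is a transvection
    have hy : ∃ (g : G) (t₀ : K) (f₀ : Dual (ZMod 2) V) (c₀ : V), IsTv (ρ t₀) f₀ c₀ ∧
        (t : G) * v = g * t₀ * g⁻¹ := by
      rcases h with ⟨j, -, h1, h2⟩ | ⟨j, -, h1, h2⟩
      · exact ⟨j, t, f, c, ht, h1.symm⟩
      · exact ⟨j⁻¹ * x, t', f', c', ht', by rw [← h2, hs]; group⟩
    obtain ⟨g, t₀, f₀, c₀, ht₀, hg⟩ := hy
    have hgK : g ∈ K := by
      apply E.fix t₀ f₀ c₀ ht₀
      rw [← hg]
      exact mul_mem t.2 hvK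
    have hyT := ht₀.conj' ⟨g, hgK⟩
    set y : K := ⟨g, hgK⟩ * t₀ * ⟨g, hgK⟩⁻¹ with hydef
    have hyv : (y : G) = t * v := by rw [hg]; rfl
    have hprod : t * y = ⟨v, hvK⟩ := by
      apply Subtype.ext
      show (t : G) * y = v
      rw [hyv, ← mul_assoc, htt, one_mul]
    have hcomm : t * y = y * t := by
      apply Subtype.ext
      show (t : G) * y = y * t
      rw [hyv]
      rw [mul_assoc (t : G), hvt]
    rcases tv_mul ht hyT hcomm with h1 | h1 | ⟨f₁, f₂, c₁, c₂, h1⟩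
    · apply hv1
      rw [hprod] at h1
      exact congrArg Subtype.val h1
    · rw [hprod] at h1
      exact noT _ h1 hvK'
    · rw [hprod] at h1
      exact hxK (h1.fix E hvK')
  -- two transvections
  obtain ⟨k, hk2, hk1⟩ := exists_dual1 ha₂ ha₂'
  obtain ⟨k', hk1'⟩ := exists_dual0 ha₁
  have hne : k.comp (nn ρ w) ≠ 0 := by
    intro h
    have : k.comp (nn ρ w) a₂ = 0 := by rw [h]; rfl
    rw [LinearMap.comp_apply, hk2] at this
    exact absurd this (by decide)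
  have hne' : k'.comp (nn ρ w) ≠ 0 := by
    intro h
    have : k'.comp (nn ρ w) a₁ = 0 := by rw [h]; rfl
    rw [LinearMap.comp_apply, hk1'] at this
    exact absurd this (by decide)
  obtain ⟨t₁, ht₁⟩ := exists_isTv ρ hne ha₁ (by rw [LinearMap.comp_apply, hnn, map_zero])
  obtain ⟨t₂, ht₂⟩ := exists_isTv ρ hne' ha₁ (by rw [LinearMap.comp_apply, hnn, map_zero])
  obtain ⟨j₁, hj₁, hj₁t⟩ := claim t₁ _ _ ht₁ (comm_of_nn hw ht₁)
  obtain ⟨j₂, hj₂, hj₂t⟩ := claim t₂ _ _ ht₂ (comm_of_nn hw ht₂)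
  have hconj : j₂⁻¹ * j₁ * t₁ * (j₂⁻¹ * j₁)⁻¹ = t₂ := by
    calc j₂⁻¹ * j₁ * t₁ * (j₂⁻¹ * j₁)⁻¹ = j₂⁻¹ * (j₁ * t₁ * j₁⁻¹) * j₂ := by group
      _ = j₂⁻¹ * (j₂ * t₂ * j₂⁻¹) * j₂ := by rw [hj₁t, hj₂t]
      _ = t₂ := by group
  have hjK : j₂⁻¹ * j₁ ∈ K := by
    apply E.fix t₁ _ _ ht₁
    rw [hconj]; exact t₂.2
  have hjw : j₂⁻¹ * j₁ * w = w * (j₂⁻¹ * j₁) := by
    have h1 : Commute j₁ (w : G) := hj₁
    have h2 : Commute j₂ (w : G) := hj₂
    exact (h2.inv_left.mul_left h1).eq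
  set j : K := ⟨j₂⁻¹ * j₁, hjK⟩ with hj
  have hjw' : j * w = w * j := Subtype.ext hjw
  have hjt : j * t₁ * j⁻¹ = t₂ := Subtype.ext hconj
  have h3 := ht₁.conj' j
  rw [hjt] at h3
  obtain ⟨h4, h5⟩ := h3.unique ht₂
  have h6 : (k.comp (nn ρ w)) ((ρ j)⁻¹ a₁) = 1 := by
    have := congrArg (fun z : Dual (ZMod 2) V => z a₁) h4
    simp only [LinearMap.comp_apply, LinearEquiv.coe_coe] at this
    rw [LinearMap.comp_apply, this, hk1']
  have hji : j⁻¹ * w = w * j⁻¹ := by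
    have h1 : Commute j w := hjw'
    exact h1.inv_left.eq
  rw [LinearMap.comp_apply, ← map_inv, nn_comm hji] at h6
  have h7 : ρ j⁻¹ (nn ρ w a₁) = nn ρ w a₁ := by
    have : ρ j⁻¹ (ρ j (nn ρ w a₁)) = nn ρ w a₁ := by
      rw [← ρ_mul_apply, inv_mul_cancel, ρ_one_apply]
    rwa [h5] at this
  rw [h7, hk1] at h6
  exact absurd h6 (by decide)

include E in
/-- **Closing theorem.** -/
theorem Emb.eq_top : K = ⊤ := by
  by_contra hK
  obtain ⟨g₀, hg₀⟩ : ∃ g, g ∉ K := by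
    by_contra h
    push Not at h
    exact hK (eq_top_iff.2 fun x _ => h x)
  obtain ⟨c₁, -, -, hc₁, -⟩ := exists_vec E.h5 (0 : Dual (ZMod 2) V) 0 0 0
  obtain ⟨c₂, -, -, hc₂, hc₂₁, -⟩ := exists_vec E.h5 (0 : Dual (ZMod 2) V) 0 c₁ 0
  obtain ⟨b, -, -, hb0, hb1, hb2, hb3⟩ := exists_vec E.h5 (0 : Dual (ZMod 2) V) 0 c₁ c₂
  obtain ⟨f₁, hf₁b, h11, h12⟩ := exists_dual2 hb0 hb1 hb2 hb3
  obtain ⟨b', hb', -, hb0', hb1', hb2', hb3'⟩ := exists_vec E.h5 f₁ f₁ c₁ c₂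
  obtain ⟨f₂, hf₂b, h21, h22⟩ := exists_dual2 hb0' hb1' hb2' hb3'
  have hf₁ : f₁ ≠ 0 := by rintro rfl; exact absurd hf₁b (by simp)
  have hf₂ : f₂ ≠ 0 := by rintro rfl; exact absurd hf₂b (by simp)
  have hf₁₂ : f₁ ≠ f₂ := by
    intro h
    rw [h, hf₂b] at hb'
    exact absurd hb' (by decide)
  obtain ⟨t, ht⟩ := exists_isTv ρ hf₁ hc₁ h11
  obtain ⟨t₂, ht₂⟩ := exists_isTv ρ hf₂ hc₂ h22
  have hR : Rk2 (ρ (t * t₂)) f₁ f₂ c₁ c₂ := by
    refine ⟨hf₁, hf₂, hf₁₂, hc₁, hc₂, hc₂₁.symm, h11, h12, h21, h22, fun v => ?_⟩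
    rw [ρ_mul_apply, ht₂.2.2.2, ht.2.2.2, map_add, map_smul, h12, smul_zero, add_zero]
    abel
  set u := t * t₂
  have htt : (t : G) * t = 1 := by
    have := congrArg Subtype.val ht.sq
    simpa using this
  have huu : (u : G) * u = 1 := by
    have := congrArg Subtype.val hR.sq
    simpa using this
  set u' : G := g₀ * u * g₀⁻¹ with hu'
  have huu' : u' * u' = 1 := by
    calc u' * u' = g₀ * ((u : G) * u) * g₀⁻¹ := by rw [hu']; group
      _ = 1 := by rw [huu]; group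
  rcases dihedral_cases (t : G) u' htt huu' with ⟨j, -, hjt⟩ | ⟨v, -, hv1, hvv, hvt, hvu, -⟩
  · have h1 : (g₀⁻¹ * j) * t * (g₀⁻¹ * j)⁻¹ = u := by
      calc (g₀⁻¹ * j) * t * (g₀⁻¹ * j)⁻¹ = g₀⁻¹ * (j * t * j⁻¹) * g₀ := by group
        _ = u := by rw [hjt, hu']; group
    have h2 : g₀⁻¹ * j ∈ K := by
      apply E.fix t _ _ ht
      rw [h1]; exact u.2
    have h3 := ht.conj' ⟨g₀⁻¹ * j, h2⟩
    have h4 : (⟨g₀⁻¹ * j, h2⟩ * t * ⟨g₀⁻¹ * j, h2⟩⁻¹ : K) = u := Subtype.ext h1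
    rw [h4] at h3
    -- u is not a transvection
    obtain ⟨v₁, h5, h6⟩ := exists_sep hf₁ hf₁₂
    obtain ⟨v₂, h7, h8⟩ := exists_sep hf₂ hf₁₂.symm
    generalize f₁.comp ((ρ ⟨g₀⁻¹ * j, h2⟩)⁻¹ : V ≃ₗ[ZMod 2] V).toLinearMap = F at h3
    generalize ρ ⟨g₀⁻¹ * j, h2⟩ c₁ = c at h3
    have e1 := h3.2.2.2 v₁
    rw [hR.eq, h5, h6, one_smul, zero_smul, add_zero] at e1
    have e2 := h3.2.2.2 v₂
    rw [hR.eq, h7, h8, one_smul, zero_smul, add_zero] at e2
    have e1' := add_left_cancel e1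
    have e2' := add_left_cancel e2
    rcases smul_mem_pair (F v₁) c with h9 | h9
    · rw [h9] at e1'; exact hc₁ e1'
    · rcases smul_mem_pair (F v₂) c with h10 | h10
      · rw [h10] at e2'; exact hc₂ e2'
      · exact hc₂₁ (by rw [e1', e2', h9, h10])
  · have hvK : v ∈ K := by
      apply E.fix t _ _ ht
      rw [hvt]
      have : (t : G) * v * v⁻¹ = t := by group
      rw [this]; exact t.2
    have hvK' : g₀⁻¹ * v * g₀ ∈ K := by
      have h1 : (g₀⁻¹ * v * g₀)⁻¹ ∈ K := by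
        apply hR.fix E
        have : (g₀⁻¹ * v * g₀)⁻¹⁻¹ * u * (g₀⁻¹ * v * g₀)⁻¹ = g₀⁻¹ * (v * u') * v⁻¹ * g₀ := by
          rw [hu']; group
        rw [this, hvu]
        have : g₀⁻¹ * (u' * v) * v⁻¹ * g₀ = u := by rw [hu']; group
        rw [this]; exact u.2
      simpa using inv_mem h1
    apply hg₀
    exact E.fixB (w := ⟨v, hvK⟩) (Subtype.ext hvv) (fun h => hv1 (congrArg Subtype.val h)) hvK'

end Close

end Cfsg.Agent.LargeExtra.GLRec
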