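import Cfsg.Agent.LargeExtra.GLRecK

/-!
# Recognition of `GL_{n+1}(2)`: existence of adjacent members
-/

set_option autoImplicit false

namespace Cfsg.Agent.LargeExtra.GLRec

open Module

namespace GLData

variable {G U : Type*} [Group G] [AddCommGroup U] [Module (ZMod 2) U] [Finite U]
  {D : GLData G U}

/-- Some involution of `M` acts on `A` as a transvection. -/
theorem exists_tv (h5 : 5 ≤ finrank (ZMod 2) U) :
    ∃ t ∈ D.M, ∃ (φ : Dual (ZMod 2) U) (c : U), t * t = 1 ∧ φ ≠ 0 ∧ c ≠ 0 ∧ φ c = 0 ∧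
      ∀ u, D.act t u = u + φ u • c := by
  obtain ⟨c, -, -, hc0, -⟩ := exists_vec h5 (0 : Dual (ZMod 2) U) 0 0 0
  obtain ⟨b, -, -, hb0, hbc, -⟩ := exists_vec h5 (0 : Dual (ZMod 2) U) 0 c 0
  obtain ⟨φ, hφb, hφc⟩ := exists_dual1 hb0 hbc
  have hφ0 : φ ≠ 0 := by
    rintro rfl
    exact absurd hφb (by simp)
  obtain ⟨g, hg, hga⟩ := exists_lift_tv D hφc
  have hgi := act_tv_inv hg hφc hga
  have hgg : ∀ u, D.act (g * g) u = u := by
    intro u
    rw [D.act_mul hg hg, hga u, map_add, map_smul, hga, hga, hφc, zero_smul, add_zero, addd_right]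
  obtain ⟨w, hw⟩ := D.eq_i_of_act (mul_mem hg hg) hgg
  have hwc : w = 0 ∨ w = c := by
    by_contra hcon
    push Not at hcon
    obtain ⟨hw0, hwc⟩ := hcon
    obtain ⟨b, hfb, -, hb0, hbc, hbw, hb⟩ := exists_vec h5 φ φ c w
    have hne : w ≠ b + c := by
      intro h
      apply hb
      rw [h, add_comm b c, addd_left]
    obtain ⟨ψ, hψw, hψb, hψc⟩ := exists_dual2 hw0 hbw.symm hwc hne
    obtain ⟨p, hp, hpa⟩ := exists_lift_tv D hψb
    obtain ⟨δ, hδ⟩ := exists_dl_tv hp hpa hψc hg (f := φ) (fun u => by rw [hga, add_comm]) hfb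
    unfold Dl at hδ
    have e1 : p * (g * g) * p⁻¹ = D.i (w + b) := by
      rw [hw, ← D.i_act hp, hpa, hψw, one_smul]
    have e2 : p * (g * g) * p⁻¹ = D.i (w + φ δ • c) := by
      calc p * (g * g) * p⁻¹ = (p * g * p⁻¹) * (p * g * p⁻¹) := by group
        _ = g * g * (g⁻¹ * D.i δ * g⁻¹⁻¹) * D.i δ := by rw [hδ]; group
        _ = D.i w * D.i (δ + φ δ • c) * D.i δ := by rw [hw, ← D.i_act (inv_mem hg), hgi]
        _ = D.i (w + φ δ • c) := by
          rw [← D.add, ← D.add]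
          congr 1
          have : w + (δ + φ δ • c) + δ = w + φ δ • c + (δ + δ) := by abel
          rw [this, addd, add_zero]
    have e3 := add_left_cancel (D.inj (e1.symm.trans e2))
    rcases smul_mem_pair (φ δ) c with h | h
    · exact hb0 (e3.trans h)
    · exact hbc (e3.trans h)
  rcases hwc with rfl | rfl
  · exact ⟨g, hg, φ, c, by rw [hw, D.i_zero], hφ0, hc0, hφc, hga⟩
  · refine ⟨g * D.i b, mul_mem hg (D.i_mem b), φ, w, ?_, hφ0, hc0, hφc, fun u => ?_⟩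
    · calc g * D.i b * (g * D.i b) = g * g * (g⁻¹ * D.i b * g⁻¹⁻¹) * D.i b := by group
        _ = D.i w * D.i (b + φ b • w) * D.i b := by rw [hw, ← D.i_act (inv_mem hg), hgi]
        _ = D.i 0 := by
          rw [← D.add, ← D.add, hφb, one_smul]
          congr 1
          have : w + (b + w) + b = (w + w) + (b + b) := by abel
          rw [this, addd, addd, add_zero]
        _ = 1 := D.i_zero
    · rw [D.act_mul hg (D.i_mem b), D.act_i, hga]

theorem exists_fixed {v : G} (hU : Nontrivial U) (hv : v ∈ D.M) (hvv : v * v = 1) :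
    ∃ y, y ≠ 0 ∧ D.i y * v = v * D.i y := by
  suffices h : ∃ y, y ≠ 0 ∧ D.act v y = y by
    obtain ⟨y, hy0, hy⟩ := h
    refine ⟨y, hy0, ?_⟩
    have := D.i_act hv y
    rw [hy] at this
    exact eq_mul_inv_iff_mul_eq.1 this
  obtain ⟨u, hu⟩ := exists_ne (0 : U)
  by_cases h : D.act v u = u
  · exact ⟨u, hu, h⟩
  · refine ⟨D.act v u + u, fun h2 => h (eq_of_add h2), ?_⟩
    rw [map_add, ← D.act_mul hv hv, hvv, D.act_one, add_comm]

variable [Finite G]

/-- In the absence of adjacency, elements of different members have odd product. -/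
theorem odd_pair (S0 : ∀ (x : G) (u : U), u ≠ 0 → x * D.i u * x⁻¹ ∈ D.M → x ∈ D.M)
    {x : G} (hx : x ∉ D.M) {u y : U} (hu : u ≠ 0) (hy : y ≠ 0) :
    ∃ j ∈ Subgroup.closure ({D.i u, x * D.i y * x⁻¹} : Set G),
      j * D.i u * j⁻¹ = x * D.i y * x⁻¹ := by
  have hsq : x * D.i y * x⁻¹ * (x * D.i y * x⁻¹) = 1 := by
    calc x * D.i y * x⁻¹ * (x * D.i y * x⁻¹) = x * (D.i y * D.i y) * x⁻¹ := by group
      _ = 1 := by rw [D.i_sq]; group
  rcases dihedral_cases (D.i u) (x * D.i y * x⁻¹) (D.i_sq u) hsq with h | ⟨w, -, hw1, hww, hwu, hwy, h⟩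
  · exact h
  exfalso
  have hwM : w ∈ D.M := D.centx' hu hwu
  have hwM' : x⁻¹ * w * x ∈ D.M := by
    have : w ∈ (D.conj x).M := (D.conj x).centx' hy hwy
    rwa [mem_conj_M] at this
  -- the products are conjugates of members
  have key : ∃ (a b : G) (s t : U), s ≠ 0 ∧ t ≠ 0 ∧ D.i u * w = a * D.i s * a⁻¹ ∧
      x * D.i y * x⁻¹ * w = b * D.i t * b⁻¹ := by
    rcases h with ⟨j, -, h1, h2⟩ | ⟨j, -, h1, h2⟩
    · exact ⟨j, j * x, u, y, hu, hy, h1.symm, by rw [← h2]; group⟩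
    · exact ⟨j⁻¹ * x, j, y, u, hy, hu, by rw [← h2]; group, by rw [← h1]⟩
  obtain ⟨a, b, s, t, hs, ht, h1, h2⟩ := key
  have ha : a ∈ D.M := S0 a s hs (by rw [← h1]; exact mul_mem (D.i_mem u) hwM)
  have hb : x⁻¹ * b ∈ D.M := by
    apply S0 _ t ht
    have : x⁻¹ * b * D.i t * (x⁻¹ * b)⁻¹ = D.i y * (x⁻¹ * w * x) := by
      calc x⁻¹ * b * D.i t * (x⁻¹ * b)⁻¹ = x⁻¹ * (b * D.i t * b⁻¹) * x := by group
        _ = x⁻¹ * (x * D.i y * x⁻¹ * w) * x := by rw [h2]
        _ = _ := by group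
    rw [this]
    exact mul_mem (D.i_mem y) hwM'
  have hw1' : w = D.i (u + D.act a s) := by
    rw [D.add, D.i_act ha, ← h1, ← mul_assoc, D.i_sq, one_mul]
  have hw2' : w = (D.conj x).i (y + D.act (x⁻¹ * b) t) := by
    rw [(D.conj x).add, conj_i, conj_i, D.i_act hb]
    calc w = 1 * w := by group
      _ = (x * D.i y * x⁻¹) * (x * D.i y * x⁻¹ * w) := by rw [← hsq]; group
      _ = (x * D.i y * x⁻¹) * (b * D.i t * b⁻¹) := by rw [h2]
      _ = _ := by group
  have := D.disj_conj hx _ _ (hw1'.symm.trans hw2')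
  apply hw1
  rw [hw1', this, D.i_zero]

omit [Finite G] in
theorem closure_comm {a b v j : G} (ha : a * v = v * a) (hb : b * v = v * b)
    (hj : j ∈ Subgroup.closure ({a, b} : Set G)) : j * v = v * j := by
  have hle : Subgroup.closure ({a, b} : Set G) ≤ Subgroup.centralizer ({v} : Set G) := by
    rw [Subgroup.closure_le]
    rintro z (rfl | rfl)
    · rw [SetLike.mem_coe, Subgroup.mem_centralizer_singleton_iff]; exact ha
    · rw [SetLike.mem_coe, Subgroup.mem_centralizer_singleton_iff]; exact hb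
  exact Subgroup.mem_centralizer_singleton_iff.1 (hle hj)

/-- transvection involutions fix only one member. -/
theorem tv_fix (h5 : 5 ≤ finrank (ZMod 2) U)
    (S0 : ∀ (x : G) (u : U), u ≠ 0 → x * D.i u * x⁻¹ ∈ D.M → x ∈ D.M)
    {v : G} (hv : v ∈ D.M) (hvv : v * v = 1) {φ : Dual (ZMod 2) U} {c : U} (hφ : φ ≠ 0)
    (hc : c ≠ 0) (hφc : φ c = 0) (hva : ∀ u, D.act v u = u + φ u • c) {x : G}
    (hx : x⁻¹ * v * x ∈ D.M) : x ∈ D.M := by
  by_contra hxM
  have hU := nontrivial_of h5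
  obtain ⟨b, hφb, -, hb0, hbc, -⟩ := exists_vec h5 φ φ c 0
  have hvx : v ∈ (D.conj x).M := mem_conj_M (D := D).2 hx
  obtain ⟨y, hy0, hy⟩ := exists_fixed (D := D.conj x) hU hvx hvv
  have hcomm : ∀ z, φ z = 0 → D.i z * v = v * D.i z := by
    intro z hz
    have h1 := D.i_act hv z
    rw [hva, hz, zero_smul, add_zero] at h1
    exact eq_mul_inv_iff_mul_eq.1 h1
  obtain ⟨j, hj, hjc⟩ := odd_pair S0 hxM hc hy0
  obtain ⟨k, hk, hkb⟩ := odd_pair S0 hxM hb0 hy0
  have hjv := closure_comm (hcomm c hφc) hy hj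
  have hkv := closure_comm (hcomm b hφb) hy hk
  have hm : j⁻¹ * k * D.i b * (j⁻¹ * k)⁻¹ = D.i c := by
    calc j⁻¹ * k * D.i b * (j⁻¹ * k)⁻¹ = j⁻¹ * (k * D.i b * k⁻¹) * j := by group
      _ = j⁻¹ * (j * D.i c * j⁻¹) * j := by rw [hkb, hjc]
      _ = D.i c := by group
  have hmM : j⁻¹ * k ∈ D.M := D.ti hb0 hm
  have hmb : D.act (j⁻¹ * k) b = c := D.act_eq hmM hm
  have hmv : j⁻¹ * k * v = v * (j⁻¹ * k) := by
    have h1 : j⁻¹ * v = v * j⁻¹ := by
      rw [inv_mul_eq_iff_eq_mul, ← mul_assoc, hjv]; group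
    rw [mul_assoc, hkv, ← mul_assoc, h1, mul_assoc]
  obtain ⟨u, hu⟩ := exists_one hφ
  have h1 : D.act (j⁻¹ * k) (D.act v u) = D.act v (D.act (j⁻¹ * k) u) := by
    rw [← D.act_mul hmM hv, hmv, D.act_mul hv hmM]
  rw [hva, hva, hu, one_smul, map_add] at h1
  have h2 := add_left_cancel h1
  rcases smul_mem_pair (φ (D.act (j⁻¹ * k) u)) c with h3 | h3
  · rw [h3] at h2
    exact hc (D.act_inj hmM (by rw [h2, map_zero]))
  · rw [h3, ← hmb] at h2
    exact hbc ((D.act_inj hmM h2).symm.trans hmb)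

/-- **Existence of adjacent members**. -/
theorem exists_adj (h5 : 5 ≤ finrank (ZMod 2) U) (hM : D.M ≠ ⊤) :
    ∃ x, x ∉ D.M ∧ D.hx x ≠ ⊥ := by
  by_contra hcon
  push Not at hcon
  have S0 : ∀ (x : G) (u : U), u ≠ 0 → x * D.i u * x⁻¹ ∈ D.M → x ∈ D.M := by
    intro x u hu hxu
    by_contra hx
    have h1 := hcon x⁻¹ (fun h => hx (by simpa using inv_mem h))
    have h2 : u ∈ D.hx x⁻¹ := mem_hx_inv.2 hxu
    rw [h1] at h2
    exact hu ((Submodule.mem_bot _).1 h2)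
  obtain ⟨x, hx⟩ : ∃ x, x ∉ D.M := by
    by_contra h
    push Not at h
    exact hM (eq_top_iff.2 fun x _ => h x)
  obtain ⟨t, ht, φ, c, htt, hφ, hc, hφc, hta⟩ := exists_tv (D := D) h5
  have hU := nontrivial_of h5
  obtain ⟨u, hu⟩ := exists_ne (0 : U)
  have hsq : x * D.i u * x⁻¹ * (x * D.i u * x⁻¹) = 1 := by
    calc x * D.i u * x⁻¹ * (x * D.i u * x⁻¹) = x * (D.i u * D.i u) * x⁻¹ := by group
      _ = 1 := by rw [D.i_sq]; group
  have htA : ∀ s, t ≠ D.i s := by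
    intro s hs
    obtain ⟨a, ha⟩ := exists_one hφ
    have h1 := hta a
    rw [hs, D.act_i, ha, one_smul] at h1
    exact hc (left_eq_add.1 h1)
  rcases dihedral_cases (x * D.i u * x⁻¹) t hsq htt with
    ⟨j, -, hj⟩ | ⟨w, -, hw1, hww, hwx, hwt, h⟩
  · have hj' : j * x * D.i u * (j * x)⁻¹ = t := by rw [← hj]; group
    have h1 : j * x ∈ D.M := S0 _ u hu (by rw [hj']; exact ht)
    exact htA _ (by rw [← hj', D.i_act h1])
  · have hwM : w ∈ D.M := by
      have h1 : w⁻¹ ∈ D.M := by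
        apply tv_fix h5 S0 ht htt hφ hc hφc hta (x := w⁻¹)
        have : w⁻¹⁻¹ * t * w⁻¹ = t := by rw [inv_inv, hwt]; group
        rw [this]; exact ht
      simpa using inv_mem h1
    have hwM' : x⁻¹ * w * x ∈ D.M := by
      have : w ∈ (D.conj x).M := (D.conj x).centx' hu hwx
      rwa [mem_conj_M] at this
    rcases h with ⟨j, -, h1, h2⟩ | ⟨j, -, h1, h2⟩
    · have e1 : x⁻¹ * j * x * D.i u * (x⁻¹ * j * x)⁻¹ = D.i u * (x⁻¹ * w * x) := by
        calc x⁻¹ * j * x * D.i u * (x⁻¹ * j * x)⁻¹ = x⁻¹ * (j * (x * D.i u * x⁻¹) * j⁻¹) * x := by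
              group
          _ = x⁻¹ * (x * D.i u * x⁻¹ * w) * x := by rw [h1]
          _ = _ := by group
      have h3 : x⁻¹ * j * x ∈ D.M := S0 _ u hu (by rw [e1]; exact mul_mem (D.i_mem u) hwM')
      rw [← D.i_act h3] at e1
      -- x⁻¹ w x ∈ A
      have h4 : x⁻¹ * w * x = D.i (u + D.act (x⁻¹ * j * x) u) := by
        rw [D.add, e1, ← mul_assoc, D.i_sq, one_mul]
      have h5' : u + D.act (x⁻¹ * j * x) u ≠ 0 := by
        intro h
        rw [h, D.i_zero] at h4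
        apply hw1
        have : w = x * (x⁻¹ * w * x) * x⁻¹ := by group
        rw [this, h4]; group
      apply hx
      apply S0 x _ h5'
      rw [← h4]
      have : x * (x⁻¹ * w * x) * x⁻¹ = w := by group
      rw [this]; exact hwM
    · have e1 : j * x * D.i u * (j * x)⁻¹ = t * w := by rw [← h1]; group
      have h3 : j * x ∈ D.M := S0 _ u hu (by rw [e1]; exact mul_mem ht hwM)
      rw [← D.i_act h3] at e1
      have hw2 : w = t * D.i (D.act (j * x) u) := by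
        rw [e1, ← mul_assoc, htt, one_mul]
      apply hx
      apply tv_fix h5 S0 hwM hww hφ hc hφc (x := x) _ hwM'
      intro z
      rw [hw2, D.act_mul ht (D.i_mem _), D.act_i, hta]

end GLData

end Cfsg.Agent.LargeExtra.GLRec
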