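import Cfsg.Agent.LargeExtra.GLRecLin

/-!
# `GL(V)` over `ZMod 2` is generated by transvections
-/

set_option autoImplicit false

namespace Cfsg.Agent.LargeExtra.GLRec

open Module
open scoped Pointwise

theorem mem_of_transvections {V : Type*} [AddCommGroup V] [Module (ZMod 2) V] [Finite V]
    (H : Subgroup (V ≃ₗ[ZMod 2] V))
    (hH : ∀ (f : Dual (ZMod 2) V) (c : V) (h : f c = 0), LinearEquiv.transvection h ∈ H)
    (e : V ≃ₗ[ZMod 2] V) : e ∈ H := by
  have hex : ¬ e.IsExceptional := by
    rintro ⟨h1, h2, a, ha⟩
    rcases zcases a with rfl | rfl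
    · have h3 : Nontrivial (V ⧸ e.fixedSubmodule) := by
        apply Module.nontrivial_of_finrank_pos (R := ZMod 2)
        omega
      obtain ⟨x, hx⟩ := exists_ne (0 : V ⧸ e.fixedSubmodule)
      have := ha x
      rw [zero_smul] at this
      apply hx
      exact (LinearEquiv.map_eq_zero_iff _).1 this
    · apply h2
      ext x
      simp only [ha, one_smul]
      rfl
  have h := LinearEquiv.mem_transvections_pow_mul_dilatransvections_of_not_isExceptional hex
  have hT : ∀ t ∈ LinearEquiv.transvections (ZMod 2) V, t ∈ H := by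
    rintro t ⟨f, v, hfv, rfl⟩
    exact hH f v hfv
  have hTk : ∀ (k : ℕ), ∀ t ∈ LinearEquiv.transvections (ZMod 2) V ^ k, t ∈ H := by
    intro k
    induction k with
    | zero =>
      intro t ht
      rw [pow_zero, Set.mem_one] at ht
      rw [ht]; exact one_mem _
    | succ k ih =>
      intro t ht
      rw [pow_succ, Set.mem_mul] at ht
      obtain ⟨a, ha, b, hb, rfl⟩ := ht
      exact mul_mem (ih a ha) (hT b hb)
  rw [Set.mem_mul] at h
  obtain ⟨t, ht, d, hd, rfl⟩ := h
  refine mul_mem (hTk _ t ht) ?_
  obtain ⟨f, v, hfv⟩ := hd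
  have hd' : ∀ x, d x = x + f x • v := fun x => by
    have := congrArg (fun k : V →ₗ[ZMod 2] V => k x) hfv
    simp only [LinearMap.transvection.apply] at this
    exact this
  have hfv0 : f v = 0 := by
    rcases zcases (f v) with h | h
    · exact h
    · exfalso
      have h1 := hd' v
      rw [h, one_smul, addd] at h1
      have h2 : v = 0 := (LinearEquiv.map_eq_zero_iff _).1 h1
      rw [h2, map_zero] at h
      exact absurd h (by decide)
  have : d = LinearEquiv.transvection hfv0 := by
    ext x
    rw [hd', LinearEquiv.transvection.apply]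
  rw [this]
  exact hH f v hfv0

end Cfsg.Agent.LargeExtra.GLRec
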