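import Cfsg.Agent.LargeExtra.GLRecAxis

/-!
# Recognition of `GL_{n+1}(2)`: the component subgroup `K`
-/

set_option autoImplicit false

namespace Cfsg.Agent.LargeExtra.GLRec

open Module

namespace GLData

variable {G U : Type*} [Group G] [AddCommGroup U] [Module (ZMod 2) U] [Finite U]

/-- `{u | i u` normalises `x A x⁻¹}` -/
def hx (D : GLData G U) (x : G) : Submodule (ZMod 2) U := D.fx (D.conj x)

variable {D : GLData G U} {f g : Dual (ZMod 2) U} {x y : G}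

theorem mem_hx {u : U} : u ∈ D.hx x ↔ x⁻¹ * D.i u * x ∈ D.M := by
  unfold hx
  rw [mem_fx, mem_conj_M]

theorem mem_hx_inv {u : U} : u ∈ D.hx x⁻¹ ↔ x * D.i u * x⁻¹ ∈ D.M := by
  rw [mem_hx, inv_inv]

theorem mem_conj_fx {u : U} : u ∈ (D.conj x).fx D ↔ x * D.i u * x⁻¹ ∈ D.M := by
  rw [mem_fx, conj_i]

theorem hx_inv : (D.conj x).fx D = D.hx x⁻¹ := by
  ext u
  rw [mem_conj_fx, mem_hx_inv]

theorem hx_of_mem (hx' : x ∈ D.M) : D.hx x = ⊤ := by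
  rw [eq_top_iff]
  intro u _
  rw [mem_hx]
  exact mul_mem (mul_mem (inv_mem hx') (D.i_mem u)) hx'

theorem mem_of_hx (h : D.hx x = ⊤) (_hU : Nontrivial U) : x ∈ D.M := by
  by_contra hxM
  have hd := D.disj_conj hxM
  have h1 : D.fx (D.conj x) ≠ ⊥ := by
    show D.hx x ≠ ⊥
    rw [h]; exact top_ne_bot
  exact fx_ne_top hd (fx_ne_bot h1) h

theorem hx_inv_ne_bot (h : D.hx x ≠ ⊥) : D.hx x⁻¹ ≠ ⊥ := by
  rw [← hx_inv]
  exact fx_ne_bot h

theorem hx_mul_right {m : G} (hm : m ∈ D.M) : D.hx (x * m) = D.hx x := by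
  ext u
  rw [mem_hx, mem_hx]
  have : (x * m)⁻¹ * D.i u * (x * m) = m⁻¹ * (x⁻¹ * D.i u * x) * m := by group
  rw [this]
  constructor
  · intro h
    have := mul_mem (mul_mem hm h) (inv_mem hm)
    have e : m * (m⁻¹ * (x⁻¹ * D.i u * x) * m) * m⁻¹ = x⁻¹ * D.i u * x := by group
    rwa [e] at this
  · intro h
    exact mul_mem (mul_mem (inv_mem hm) h) hm

theorem mem_hx_mul_left {m : G} (hm : m ∈ D.M) {u : U} :
    D.act m u ∈ D.hx (m * x) ↔ u ∈ D.hx x := by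
  rw [mem_hx, mem_hx, D.i_act hm]
  have : (m * x)⁻¹ * (m * D.i u * m⁻¹) * (m * x) = x⁻¹ * D.i u * x := by group
  rw [this]

theorem exists_ax (h5 : 5 ≤ finrank (ZMod 2) U) (hxM : x ∉ D.M) (h : D.hx x ≠ ⊥) :
    ∃ f, Ax D (D.conj x) f := by
  have hd := D.disj_conj hxM
  have hb : (D.conj x).fx D ≠ ⊥ := fx_ne_bot h
  obtain ⟨f, hf⟩ := exists_axis h5 hd hb
  exact ⟨f, hd, hb, hf⟩

theorem Ax.mem_hx (h : Ax D (D.conj x) f) {u : U} : u ∈ D.hx x ↔ f u = 0 := h.mem_iff u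

theorem Ax.hx_ne_bot (h : Ax D (D.conj x) f) : D.hx x ≠ ⊥ := fx_ne_bot h.ne_bot

theorem Ax.notMem (h : Ax D (D.conj x) f) : x ∉ D.M := by
  intro hx'
  have h1 := hx_of_mem hx'
  apply h.ne_zero
  ext u
  have : u ∈ D.hx x := by rw [h1]; trivial
  exact h.mem_hx.1 this

theorem Ax.unique (h : Ax D (D.conj x) f) (h' : Ax D (D.conj x) g) : f = g :=
  dual_eq_of_ker_le h'.ne_zero (fun u hu => h'.mem_hx.1 (h.mem_hx.2 hu))

/-- (4') at most two adjacent members per axis. -/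
theorem Ax.two (h5 : 5 ≤ finrank (ZMod 2) U) (hx' : Ax D (D.conj x) f) (hy : Ax D (D.conj y) f) :
    x⁻¹ * y ∈ D.M ∨ ∀ a, f a = 1 → (D.i a * x)⁻¹ * y ∈ D.M := by
  obtain ⟨c, hfc, -, hc0, -⟩ := exists_vec h5 f f 0 0
  obtain ⟨v₁, hv₁, h1⟩ := hx'.exists_cen hfc
  obtain ⟨v₂, hv₂, h2⟩ := hy.exists_cen hfc
  have hv₁0 := hx'.v_ne_zero hc0 h1
  have hv₂0 := hy.v_ne_zero hc0 h2
  rcases hx'.same_center h5 hy hv₁ hv₂ h1 h2 hc0 with h3 | h3
  · left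
    rw [conj_i, conj_i] at h3
    apply D.ti hv₂0 (w := v₁)
    calc x⁻¹ * y * D.i v₂ * (x⁻¹ * y)⁻¹ = x⁻¹ * (y * D.i v₂ * y⁻¹) * x := by group
      _ = x⁻¹ * (x * D.i v₁ * x⁻¹) * x := by rw [h3]
      _ = D.i v₁ := by group
  · right
    intro a ha
    have h4 := dl_i hv₁ a
    unfold Dl at h4
    rw [h1, ha, one_smul, ← h3, conj_i, conj_i] at h4
    apply D.ti hv₂0 (w := v₁)
    calc (D.i a * x)⁻¹ * y * D.i v₂ * ((D.i a * x)⁻¹ * y)⁻¹ =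
        (D.i a * x)⁻¹ * (y * D.i v₂ * y⁻¹) * (D.i a * x) := by group
      _ = (D.i a * x)⁻¹ * (D.i a * (x * D.i v₁ * x⁻¹) * (D.i a)⁻¹) * (D.i a * x) := by rw [h4]
      _ = D.i v₁ := by group

theorem hx_le_line {b : U} : D.hx x ≤ D.hx (x * D.i b * x⁻¹) ∨ x ∈ D.M := by
  by_cases hxM : x ∈ D.M
  · right; exact hxM
  left
  have hd := (D.disj_conj hxM)
  intro u hu
  have hu' : u ∈ D.fx (D.conj x) := hu
  have h1 := nl_mem (D := D.conj x) (D' := D) hd.symm hu' b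
  rw [mem_fx, nl_apply, (D.conj x).add, (D.conj x).i_act hu', conj_i] at h1
  rw [mem_hx]
  have h2 : (x * D.i b * x⁻¹)⁻¹ * D.i u * (x * D.i b * x⁻¹) =
      D.i u * (D.i u * (x * D.i b * x⁻¹) * (D.i u)⁻¹ * (x * D.i b * x⁻¹)) := by
    have e1 : (x * D.i b * x⁻¹)⁻¹ = x * D.i b * x⁻¹ := by
      calc (x * D.i b * x⁻¹)⁻¹ = x * (D.i b)⁻¹ * x⁻¹ := by group
        _ = _ := by rw [D.i_inv]
    rw [e1, D.i_inv]
    calc x * D.i b * x⁻¹ * D.i u * (x * D.i b * x⁻¹) =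
        1 * (x * D.i b * x⁻¹) * D.i u * (x * D.i b * x⁻¹) := by group
      _ = _ := by rw [← D.i_sq u]; group
  rw [h2]
  exact mul_mem (D.i_mem u) h1

/-- (5) the third point of a line does not depend on the side. -/
theorem Ax.line (h5 : 5 ≤ finrank (ZMod 2) U) (hx' : Ax D (D.conj x) f) {a b : U} (ha : f a = 1)
    (hb : b ∉ D.hx x⁻¹) :
    Ax D (D.conj (x * D.i b * x⁻¹)) f ∧ (D.i a * x)⁻¹ * (x * D.i b * x⁻¹) ∈ D.M := by
  have hyM : x * D.i b * x⁻¹ ∉ D.M := fun h => hb (mem_hx_inv.2 h)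
  have hle : D.hx x ≤ D.hx (x * D.i b * x⁻¹) := by
    rcases hx_le_line (D := D) (x := x) (b := b) with h | h
    · exact h
    · exact absurd h hx'.notMem
  have hyb : D.hx (x * D.i b * x⁻¹) ≠ ⊥ := by
    intro h
    rw [h] at hle
    exact hx'.hx_ne_bot (le_bot_iff.1 hle)
  obtain ⟨g, hy⟩ := exists_ax h5 hyM hyb
  have hfg : f = g := dual_eq_of_ker_le hy.ne_zero
    (fun u hu => hy.mem_hx.1 (hle (hx'.mem_hx.2 hu)))
  subst hfg
  refine ⟨hy, ?_⟩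
  rcases hx'.two h5 hy with h | h
  · exfalso
    have e : x⁻¹ * (x * D.i b * x⁻¹) = D.i b * x⁻¹ := by group
    rw [e] at h
    apply hx'.notMem
    have h1 := mul_mem (inv_mem h) (D.i_mem b)
    have e2 : (D.i b * x⁻¹)⁻¹ * D.i b = x := by group
    rwa [e2] at h1
  · exact h a ha

theorem Ax.of_mul_left {m : G} (hm : m ∈ D.M) (h : Ax D (D.conj x) f)
    (hg : ∀ u, g (D.act m u) = f u) (hg0 : g ≠ 0) : Ax D (D.conj (m * x)) g := by
  have hmxM : m * x ∉ D.M := fun h' => h.notMem ((mul_mem_cancel_left hm).1 h')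
  have hd := D.disj_conj hmxM
  have hmem : ∀ u, u ∈ D.hx (m * x) ↔ g u = 0 := by
    intro u
    have h1 := mem_hx_mul_left (D := D) (x := x) hm (u := D.act m⁻¹ u)
    rw [D.act_act_inv hm] at h1
    rw [h1, h.mem_hx, ← hg, D.act_act_inv hm]
  refine ⟨hd, ?_, hmem⟩
  apply fx_ne_bot
  show D.hx (m * x) ≠ ⊥
  intro hb
  apply h.hx_ne_bot
  rw [eq_bot_iff]
  intro u hu
  have h1 := (mem_hx_mul_left (D := D) (x := x) hm (u := u)).2 hu
  rw [hb, Submodule.mem_bot] at h1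
  rw [Submodule.mem_bot]
  apply D.act_inj hm
  rw [h1, map_zero]

/-- every nonzero functional is an axis. -/
theorem Ax.exists_of (h : Ax D (D.conj x) f) (hg0 : g ≠ 0) :
    ∃ m ∈ D.M, Ax D (D.conj (m * x)) g := by
  obtain ⟨e, he⟩ := exists_equiv_dual h.ne_zero hg0
  obtain ⟨m, hm, hme⟩ := D.exists_lift e
  exact ⟨m, hm, h.of_mul_left hm (fun u => by rw [hme, he]) hg0⟩

/-- (6) members with different axes are adjacent. -/
theorem Ax.adj (h5 : 5 ≤ finrank (ZMod 2) U) (hx' : Ax D (D.conj x) f) (hy : Ax D (D.conj y) g)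
    (hfg : f ≠ g) : D.hx (x⁻¹ * y) ≠ ⊥ := by
  have hfg0 : f + g ≠ 0 := by
    intro h
    apply hfg
    ext u
    have := congrArg (fun k : Dual (ZMod 2) U => k u) h
    simp only [LinearMap.add_apply, LinearMap.zero_apply] at this
    exact eq_of_add this
  obtain ⟨m, hm, hz⟩ := hx'.exists_of hfg0
  obtain ⟨c, hfc, hgc, hc0, -⟩ := exists_vec h5 f g 0 0
  have hfgc : (f + g) c = 0 := by rw [LinearMap.add_apply, hfc, hgc, add_zero]
  obtain ⟨v₁, hv₁, h1⟩ := hx'.exists_cen hfc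
  obtain ⟨v₂, hv₂, h2⟩ := hy.exists_cen hgc
  obtain ⟨v₃, hv₃, h3⟩ := hz.exists_cen hfgc
  have hcomm := commute_of_center h5 hx' hy hz hc0 hv₁ hv₂ hv₃ h1 h2 h3
  have hv₁0 := hx'.v_ne_zero hc0 h1
  have hv₂0 := hy.v_ne_zero hc0 h2
  have h4 : (D.conj x).i v₁ ∈ (D.conj y).M := (D.conj y).centx' hv₂0 hcomm
  rw [mem_conj_M, conj_i] at h4
  rw [Submodule.ne_bot_iff]
  refine ⟨v₁, ?_, hv₁0⟩
  rw [GLData.mem_hx]
  have : (x⁻¹ * y)⁻¹ * D.i v₁ * (x⁻¹ * y) = y⁻¹ * (x * D.i v₁ * x⁻¹) * y := by group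
  rw [this]
  exact h4

theorem hx_inv_mul_ne_bot (h5 : 5 ≤ finrank (ZMod 2) U) (hx' : D.hx x ≠ ⊥) (hy' : D.hx y ≠ ⊥) :
    D.hx (x⁻¹ * y) ≠ ⊥ := by
  by_cases hxM : x ∈ D.M
  · obtain ⟨u, hu, hu0⟩ := (Submodule.ne_bot_iff _).1 hy'
    rw [Submodule.ne_bot_iff]
    refine ⟨D.act x⁻¹ u, (mem_hx_mul_left (inv_mem hxM)).2 hu, fun h => hu0 ?_⟩
    apply D.act_inj (inv_mem hxM)
    rw [h, map_zero]
  by_cases hyM : y ∈ D.M
  · rw [hx_mul_right hyM]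
    exact hx_inv_ne_bot hx'
  obtain ⟨f, hf⟩ := exists_ax h5 hxM hx'
  obtain ⟨g, hg⟩ := exists_ax h5 hyM hy'
  by_cases hfg : f = g
  · subst hfg
    have hU : Nontrivial U := by
      obtain ⟨c, -, -, hc0, -⟩ := exists_vec h5 f f 0 0
      exact ⟨c, 0, hc0⟩
    have htop : (⊤ : Submodule (ZMod 2) U) ≠ ⊥ := top_ne_bot
    rcases hf.two h5 hg with h | h
    · rw [hx_of_mem h]; exact htop
    · obtain ⟨a, ha⟩ := exists_one hf.ne_zero
      obtain ⟨b, hb⟩ : ∃ b, b ∉ D.hx x⁻¹ := by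
        by_contra hcon
        push Not at hcon
        have h1 : D.hx x⁻¹ = ⊤ := eq_top_iff.2 fun u _ => hcon u
        exact hxM (by simpa using inv_mem (mem_of_hx h1 hU))
      obtain ⟨-, hl⟩ := hf.line h5 ha hb
      -- y ∈ x i b x⁻¹ M
      have h2 : (x * D.i b * x⁻¹)⁻¹ * y ∈ D.M := by
        have h3 := mul_mem (inv_mem hl) (h a ha)
        have e : ((D.i a * x)⁻¹ * (x * D.i b * x⁻¹))⁻¹ * ((D.i a * x)⁻¹ * y) =
          (x * D.i b * x⁻¹)⁻¹ * y := by group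
        rwa [e] at h3
      have h4 : x⁻¹ * y = (D.i b * x⁻¹) * ((x * D.i b * x⁻¹)⁻¹ * y) := by group
      rw [h4, hx_mul_right h2]
      obtain ⟨u, hu, hu0⟩ := (Submodule.ne_bot_iff _).1 (hx_inv_ne_bot hx')
      rw [Submodule.ne_bot_iff]
      refine ⟨D.act (D.i b) u, (mem_hx_mul_left (D.i_mem b)).2 hu, ?_⟩
      rw [D.act_i]; exact hu0
  · exact hf.adj h5 hg hfg

/-- the component subgroup -/
def K (D : GLData G U) (h5 : 5 ≤ finrank (ZMod 2) U) : Subgroup G where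
  carrier := {x | D.hx x ≠ ⊥}
  one_mem' := by
    have hU : Nontrivial U := by
      obtain ⟨c, -, -, hc0, -⟩ := exists_vec h5 0 0 0 0
      exact ⟨c, 0, hc0⟩
    show D.hx 1 ≠ ⊥
    rw [hx_of_mem (one_mem _)]
    exact top_ne_bot
  inv_mem' := fun h => hx_inv_ne_bot h
  mul_mem' := by
    intro x y hx' hy'
    show D.hx (x * y) ≠ ⊥
    have h1 : D.hx x⁻¹ ≠ ⊥ := hx_inv_ne_bot hx'
    have h2 := hx_inv_mul_ne_bot h5 h1 hy'
    rwa [inv_inv] at h2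

theorem mem_K (h5 : 5 ≤ finrank (ZMod 2) U) : x ∈ D.K h5 ↔ D.hx x ≠ ⊥ := Iff.rfl

theorem nontrivial_of (h5 : 5 ≤ finrank (ZMod 2) U) : Nontrivial U := by
  obtain ⟨c, -, -, hc0, -⟩ := exists_vec h5 (0 : Dual (ZMod 2) U) 0 0 0
  exact ⟨c, 0, hc0⟩

theorem M_le_K (h5 : 5 ≤ finrank (ZMod 2) U) : D.M ≤ D.K h5 := by
  intro x hx'
  have := nontrivial_of h5
  rw [mem_K, hx_of_mem hx']
  exact top_ne_bot

end GLData

end Cfsg.Agent.LargeExtra.GLRec
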