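import Mathlib

/-!
# Linear algebra over `ZMod 2` for the recognition of `GL_{n+1}(2)`

Existence of functionals and vectors with prescribed values, transvections, dihedral pairs of
involutions.  Used by the `GLRec*` files (identification of `GL_{n+1}(2)` from the normaliser of
an elementary abelian subgroup of order `2^n`).
-/

set_option autoImplicit false

namespace Cfsg.Agent.LargeExtra.GLRec

open Module

section Lin

variable {U : Type*} [AddCommGroup U] [Module (ZMod 2) U]

theorem zcases (x : ZMod 2) : x = 0 ∨ x = 1 := by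
  revert x; decide

theorem zne (x : ZMod 2) : x ≠ 0 ↔ x = 1 := by
  revert x; decide

theorem zne1 (x : ZMod 2) : x ≠ 1 ↔ x = 0 := by
  revert x; decide

theorem addd (u : U) : u + u = 0 := ZModModule.add_self u

theorem eq_of_add {u v : U} (h : u + v = 0) : u = v := by
  have := addd v
  have h2 : u + v = v + v := by rw [h, this]
  exact add_right_cancel h2

theorem add_eq_zero' {u v : U} : u + v = 0 ↔ u = v := ⟨eq_of_add, fun h => by rw [h, addd]⟩

theorem addd_left (u v : U) : u + (u + v) = v := by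
  rw [← add_assoc, addd, zero_add]

theorem addd_right (u v : U) : u + v + v = u := by
  rw [add_assoc, addd, add_zero]

theorem exists_dual (S : Submodule (ZMod 2) U) {x : U} (hx : x ∉ S) :
    ∃ f : Dual (ZMod 2) U, f x = 1 ∧ ∀ s ∈ S, f s = 0 := by
  obtain ⟨f, hf, hS⟩ := Submodule.exists_le_ker_of_notMem hx
  exact ⟨f, (zne _).1 hf, fun s hs => by simpa using hS hs⟩

theorem exists_dual1 {x b : U} (h0 : x ≠ 0) (hb : x ≠ b) :
    ∃ f : Dual (ZMod 2) U, f x = 1 ∧ f b = 0 := by
  have hx : x ∉ Submodule.span (ZMod 2) {b} := by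
    rw [Submodule.mem_span_singleton]
    rintro ⟨a, ha⟩
    rcases zcases a with rfl | rfl
    · exact h0 (by rw [← ha, zero_smul])
    · exact hb (by rw [← ha, one_smul])
  obtain ⟨f, hf, hS⟩ := exists_dual _ hx
  exact ⟨f, hf, hS b (Submodule.mem_span_singleton_self b)⟩

theorem exists_dual0 {x : U} (h0 : x ≠ 0) : ∃ f : Dual (ZMod 2) U, f x = 1 := by
  obtain ⟨f, hf, -⟩ := exists_dual1 (b := (0 : U)) h0 h0
  exact ⟨f, hf⟩

theorem mem_span_pair' {x b c : U} (h : x ∈ Submodule.span (ZMod 2) {b, c}) :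
    x = 0 ∨ x = b ∨ x = c ∨ x = b + c := by
  rw [Submodule.mem_span_pair] at h
  obtain ⟨s, t, h⟩ := h
  rcases zcases s with rfl | rfl <;> rcases zcases t with rfl | rfl
  · left; simpa using h.symm
  · right; right; left; simpa using h.symm
  · right; left; simpa using h.symm
  · right; right; right; simpa using h.symm

theorem exists_dual2 {x b c : U} (h0 : x ≠ 0) (hb : x ≠ b) (hc : x ≠ c) (hbc : x ≠ b + c) :
    ∃ f : Dual (ZMod 2) U, f x = 1 ∧ f b = 0 ∧ f c = 0 := by
  have hx : x ∉ Submodule.span (ZMod 2) {b, c} := by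
    intro h
    rcases mem_span_pair' h with h | h | h | h
    exacts [h0 h, hb h, hc h, hbc h]
  obtain ⟨f, hf, hS⟩ := exists_dual _ hx
  exact ⟨f, hf, hS b (Submodule.subset_span (by simp)), hS c (Submodule.subset_span (by simp))⟩

variable [Finite U]

theorem finrank_ker_inf (f g : Dual (ZMod 2) U) :
    finrank (ZMod 2) U ≤ finrank (ZMod 2) (LinearMap.ker f ⊓ LinearMap.ker g :
      Submodule (ZMod 2) U) + 2 := by
  have h := LinearMap.finrank_range_add_finrank_ker (f.prod g)
  rw [LinearMap.ker_prod] at h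
  have h2 : finrank (ZMod 2) (LinearMap.range (f.prod g)) ≤ 2 := by
    calc finrank (ZMod 2) (LinearMap.range (f.prod g)) ≤ finrank (ZMod 2) (ZMod 2 × ZMod 2) :=
          Submodule.finrank_le _
      _ = 2 := by simp
  omega

omit [Finite U] in
theorem finrank_span_pair (x y : U) :
    finrank (ZMod 2) (Submodule.span (ZMod 2) {x, y} : Submodule (ZMod 2) U) ≤ 2 := by
  classical
  have := finrank_span_finset_le_card (R := ZMod 2) ({x, y} : Finset U)
  rw [Finset.coe_insert, Finset.coe_singleton] at this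
  refine this.trans ?_
  exact Finset.card_le_two

theorem exists_vec (h : 5 ≤ finrank (ZMod 2) U) (f g : Dual (ZMod 2) U) (x y : U) :
    ∃ b : U, f b = 0 ∧ g b = 0 ∧ b ≠ 0 ∧ b ≠ x ∧ b ≠ y ∧ b ≠ x + y := by
  by_contra hcon
  push Not at hcon
  have hle : (LinearMap.ker f ⊓ LinearMap.ker g : Submodule (ZMod 2) U) ≤
      Submodule.span (ZMod 2) {x, y} := by
    rintro b ⟨hb1, hb2⟩
    by_contra hb
    refine hb ?_
    have hx : x ∈ Submodule.span (ZMod 2) {x, y} := Submodule.subset_span (by simp)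
    have hy : y ∈ Submodule.span (ZMod 2) {x, y} := Submodule.subset_span (by simp)
    rw [hcon b hb1 hb2 (fun h => hb (by rw [h]; exact zero_mem _)) (fun h => hb (by rw [h]; exact hx))
      (fun h => hb (by rw [h]; exact hy))]
    exact add_mem hx hy
  have h1 := Submodule.finrank_mono hle
  have h2 := finrank_ker_inf f g
  have h3 := finrank_span_pair x y
  omega

omit [Finite U] in
theorem exists_equiv {u w : U} (hu : u ≠ 0) (hw : w ≠ 0) : ∃ e : U ≃ₗ[ZMod 2] U, e u = w := by
  by_cases huw : u = w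
  · exact ⟨LinearEquiv.refl _ _, by simpa using huw⟩
  · have h1 : u ≠ u + w := by
      intro h
      apply hw
      have : u + 0 = u + w := by rw [add_zero]; exact h
      exact (add_left_cancel this).symm
    obtain ⟨f, hf, hf2⟩ := exists_dual1 hu h1
    refine ⟨LinearEquiv.transvection hf2, ?_⟩
    rw [LinearEquiv.transvection.apply, hf, one_smul, addd_left]

omit [Finite U] in
/-- A subgroup-like submodule of index two is a hyperplane. -/
theorem exists_ker_eq {W : Submodule (ZMod 2) U} (h1 : W ≠ ⊤)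
    (h2 : ∀ a b, a ∉ W → b ∉ W → a + b ∈ W) :
    ∃ f : Dual (ZMod 2) U, ∀ u, u ∈ W ↔ f u = 0 := by
  classical
  obtain ⟨a, ha⟩ : ∃ a, a ∉ W := by
    by_contra h
    push Not at h
    exact h1 (eq_top_iff.2 fun x _ => h x)
  obtain ⟨f, hf, hW⟩ := exists_dual W ha
  refine ⟨f, fun u => ⟨hW u, fun hu => ?_⟩⟩
  by_contra huW
  have := hW _ (h2 a u ha huW)
  rw [map_add, hf, hu] at this
  exact absurd this (by decide)

end Lin

section Dihedral

variable {G : Type*} [Group G] [Finite G]

/-- The dihedral dichotomy for two elements of square one. -/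
theorem dihedral_cases (x y : G) (hx : x * x = 1) (hy : y * y = 1) :
    (∃ j ∈ Subgroup.closure ({x, y} : Set G), j * x * j⁻¹ = y) ∨
    (∃ v ∈ Subgroup.closure ({x, y} : Set G), v ≠ 1 ∧ v * v = 1 ∧ v * x = x * v ∧ v * y = y * v ∧
      ((∃ j ∈ Subgroup.closure ({x, y} : Set G), j * x * j⁻¹ = x * v ∧ j * y * j⁻¹ = y * v) ∨
       (∃ j ∈ Subgroup.closure ({x, y} : Set G), j * x * j⁻¹ = y * v ∧ j⁻¹ * y * j = x * v))) := by
  have hxC : x ∈ Subgroup.closure ({x, y} : Set G) := Subgroup.subset_closure (by simp)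
  have hyC : y ∈ Subgroup.closure ({x, y} : Set G) := Subgroup.subset_closure (by simp)
  set r := x * y with hr
  have hrC : r ∈ Subgroup.closure ({x, y} : Set G) := mul_mem hxC hyC
  have hxi : x⁻¹ = x := inv_eq_of_mul_eq_one_right hx
  have hyi : y⁻¹ = y := inv_eq_of_mul_eq_one_right hy
  have hri : r⁻¹ = y * x := by rw [hr, mul_inv_rev, hxi, hyi]
  have h1 : SemiconjBy x r⁻¹ r := by
    show x * r⁻¹ = r * x
    rw [hri, hr, mul_assoc]
  have h2 : SemiconjBy y r⁻¹ r := by
    show y * r⁻¹ = r * y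
    rw [hri, hr, ← mul_assoc, hy, one_mul, mul_assoc, hy, mul_one]
  have hxk : ∀ k : ℕ, x * (r ^ k)⁻¹ = r ^ k * x := fun k => by
    have := (h1.pow_right k).eq
    rwa [inv_pow] at this
  have hyk : ∀ k : ℕ, y * (r ^ k)⁻¹ = r ^ k * y := fun k => by
    have := (h2.pow_right k).eq
    rwa [inv_pow] at this
  have hrx : r⁻¹ * x = y := by rw [hri, mul_assoc, hx, mul_one]
  have hxr : x * r = y := by rw [hr, ← mul_assoc, hx, one_mul]
  rcases Nat.even_or_odd' (orderOf r) with ⟨k, hk | hk⟩
  · right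
    have hpos : 0 < orderOf r := orderOf_pos r
    have hk0 : 0 < k := by omega
    have hvv : r ^ k * r ^ k = 1 := by rw [← pow_add, ← two_mul, ← hk, pow_orderOf_eq_one]
    have hvi : (r ^ k)⁻¹ = r ^ k := inv_eq_of_mul_eq_one_right hvv
    have hvx : r ^ k * x = x * r ^ k := by rw [← hxk, hvi]
    have hvy : r ^ k * y = y * r ^ k := by rw [← hyk, hvi]
    refine ⟨r ^ k, pow_mem hrC k, ?_, hvv, hvx, hvy, ?_⟩
    · intro h
      have := orderOf_dvd_of_pow_eq_one h
      have := Nat.le_of_dvd hk0 this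
      omega
    · rcases Nat.even_or_odd' k with ⟨l, hl | hl⟩
      · left
        refine ⟨r ^ l, pow_mem hrC l, ?_, ?_⟩
        · rw [mul_assoc, hxk, ← mul_assoc, ← pow_add, ← two_mul, ← hl, hvx]
        · rw [mul_assoc, hyk, ← mul_assoc, ← pow_add, ← two_mul, ← hl, hvy]
      · right
        have hconj : r ^ l * x * (r ^ l)⁻¹ = y * r ^ k := by
          rw [← hvy, mul_assoc, hxk, ← mul_assoc, ← pow_add, ← two_mul, hl, pow_succ, ← hrx]
          group
        refine ⟨r ^ l, pow_mem hrC l, hconj, ?_⟩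
        have h3 : r ^ l * (x * r ^ k) * (r ^ l)⁻¹ = y := by
          have : r ^ l * (x * r ^ k) * (r ^ l)⁻¹ = (r ^ l * x * (r ^ l)⁻¹) * r ^ k := by
            have hc : r ^ k * (r ^ l)⁻¹ = (r ^ l)⁻¹ * r ^ k :=
              ((Commute.refl r).pow_pow k l).inv_right.eq
            rw [mul_assoc (r ^ l), mul_assoc x, hc]
            group
          rw [this, hconj, mul_assoc, hvv, mul_one]
        conv_lhs => rw [← h3]
        group
  · left
    refine ⟨r ^ k, pow_mem hrC k, ?_⟩
    rw [mul_assoc, hxk, ← mul_assoc, ← pow_add, ← two_mul]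
    have : r ^ (2 * k) = r⁻¹ := by
      rw [eq_inv_iff_mul_eq_one, ← pow_succ, ← hk, pow_orderOf_eq_one]
    rw [this, hrx]

end Dihedral

end Cfsg.Agent.LargeExtra.GLRec
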