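import Cfsg.Agent.LargeExtra.GLRecRho
import Cfsg.Agent.LargeExtra.GLRecClose3

/-!
# Recognition of `GL_{n+1}(2)`, `n ≥ 5`: main theorem

`glrec`: let `A` be an elementary abelian subgroup of order `2 ^ n`, `n ≥ 5`, of a finite group `G`,
with `C_G(A) = A`, `N_G(A) ≠ G`, `N_G(A)` inducing all automorphisms of `A` and `C_G(a) ≤ N_G(A)` for
all `a ∈ A^#`.  Then `G ≃* PSL (Fin (n + 1)) (ZMod 2)`.
-/

set_option autoImplicit false

namespace Cfsg.Agent.LargeExtra.GLRec

open Module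

namespace GLData

variable {G U : Type*} [Group G] [AddCommGroup U] [Module (ZMod 2) U] [Finite U]

/-- restriction to a subgroup containing the normaliser -/
def res (D : GLData G U) (H : Subgroup G) (hH : D.M ≤ H) : GLData H U where
  i := fun u => ⟨D.i u, hH (D.i_mem u)⟩
  add := fun u v => Subtype.ext (D.add u v)
  inj := fun u v h => D.inj (congrArg Subtype.val h)
  full := fun e => by
    obtain ⟨m, hm, hme⟩ := D.exists_lift e
    have h1 : ∀ u, m * D.i u * m⁻¹ = D.i (e u) := fun u => by rw [← hme, D.i_act hm]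
    exact ⟨⟨m, hH hm⟩, fun u => Subtype.ext (h1 u)⟩
  cent := fun g hg => by
    obtain ⟨u, hu⟩ := D.cent g (fun u => congrArg Subtype.val (hg u))
    exact ⟨u, Subtype.ext hu⟩
  centx := fun u hu g hg v => by
    obtain ⟨w, hw⟩ := D.centx u hu g (congrArg Subtype.val hg) v
    exact ⟨w, Subtype.ext hw⟩

variable {D : GLData G U} {H : Subgroup G} {hH : D.M ≤ H}

theorem res_i (u : U) : (((D.res H hH).i u : H) : G) = D.i u := rfl

theorem mem_res_M {g : H} : g ∈ (D.res H hH).M ↔ (g : G) ∈ D.M := by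
  constructor
  · intro h v
    obtain ⟨w, hw⟩ := h v
    exact ⟨w, congrArg Subtype.val hw⟩
  · intro h v
    obtain ⟨w, hw⟩ := h v
    exact ⟨w, Subtype.ext hw⟩

theorem mem_res_hx {x : H} {u : U} : u ∈ (D.res H hH).hx x ↔ u ∈ D.hx (x : G) := by
  rw [mem_hx, mem_hx, mem_res_M]
  rfl

variable [Finite G]

theorem clq_K (D : GLData G U) (h5 : 5 ≤ finrank (ZMod 2) U) (hM : D.M ≠ ⊤) :
    (D.res (D.K h5) (M_le_K h5)).Clq where
  h5 := h5
  hK := by
    intro x hx
    apply (mem_K h5).1 x.2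
    rw [eq_bot_iff] at hx ⊢
    intro u hu
    exact hx (mem_res_hx.2 hu)
  hM := by
    intro h
    obtain ⟨x, hx, hxb⟩ := exists_adj (D := D) h5 hM
    have h1 : (⟨x, (mem_K h5).2 hxb⟩ : D.K h5) ∈ (D.res (D.K h5) (M_le_K h5)).M := by
      rw [h]; trivial
    exact hx (mem_res_M.1 h1)

theorem emb_K {h5 : 5 ≤ finrank (ZMod 2) U} (C : (D.res (D.K h5) (M_le_K h5)).Clq) :
    Emb C.iso where
  h5 := by
    rw [C.finrank_V]; omega
  fix := by
    intro t f c ht g hg
    obtain ⟨k, u, rfl, hku⟩ := C.exists_tv f ht.2.1 ht.2.2.1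
    have h1 : t = k * (D.res (D.K h5) (M_le_K h5)).i u * k⁻¹ := by
      apply C.ρ_inj
      ext v : 1
      rw [C.ρ_tv, hku]
      exact ht.2.2.2 v
    have hu0 : u ≠ 0 := by
      rintro rfl
      apply ht.1
      ext v
      rw [← hku, map_zero]; rfl
    set s : D.K h5 := ⟨g * (t : G) * g⁻¹, hg⟩ with hs
    have htt : (t : G) * t = 1 := by
      have := congrArg Subtype.val ht.sq
      simpa using this
    have hss : s * s = 1 := by
      apply Subtype.ext
      show g * (t : G) * g⁻¹ * (g * (t : G) * g⁻¹) = 1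
      calc g * (t : G) * g⁻¹ * (g * (t : G) * g⁻¹) = g * ((t : G) * t) * g⁻¹ := by group
        _ = 1 := by rw [htt]; group
    obtain ⟨y, hy⟩ := C.exists_fix hss
    rw [mem_res_M] at hy
    have hy' : (y : G)⁻¹ * (g * (t : G) * g⁻¹) * y ∈ D.M := hy
    have ht' : (t : G) = k * D.i u * (k : G)⁻¹ := by rw [h1]; rfl
    rw [ht'] at hy'
    have hx : (g * k)⁻¹ * (y : G) ∈ D.K h5 := by
      rw [mem_K, Submodule.ne_bot_iff]
      refine ⟨u, ?_, hu0⟩
      rw [mem_hx]
      have : ((g * k)⁻¹ * (y : G))⁻¹ * D.i u * ((g * k)⁻¹ * (y : G)) =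
        (y : G)⁻¹ * (g * (k * D.i u * (k : G)⁻¹) * g⁻¹) * y := by group
      rw [this]; exact hy'
    have h2 := mul_mem (mul_mem y.2 (inv_mem hx)) (inv_mem k.2)
    have h3 : (y : G) * ((g * k)⁻¹ * (y : G))⁻¹ * (k : G)⁻¹ = g := by group
    rwa [h3] at h2

/-- **Recognition of `GL_{n+1}(2)`** for `GLData`. -/
theorem K_eq_top (h5 : 5 ≤ finrank (ZMod 2) U) (hM : D.M ≠ ⊤) : D.K h5 = ⊤ :=
  (emb_K (D.clq_K h5 hM)).eq_top

theorem exists_iso (h5 : 5 ≤ finrank (ZMod 2) U) (hM : D.M ≠ ⊤) :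
    Nonempty (G ≃* ((D.clq_K h5 hM).V ≃ₗ[ZMod 2] (D.clq_K h5 hM).V)) :=
  ⟨(Subgroup.topEquiv.symm.trans (MulEquiv.subgroupCongr (K_eq_top h5 hM).symm)).trans
    (D.clq_K h5 hM).iso⟩

end GLData

section PSL

theorem units_zmod2 (m : ℕ) (M : Matrix (Fin m) (Fin m) (ZMod 2)) (h : IsUnit M.det) :
    M.det = 1 := by
  rcases zcases M.det with h1 | h1
  · rw [h1] at h
    exact absurd h (by simp)
  · exact h1

theorem sl_gl (m : ℕ) : Nonempty (Matrix.SpecialLinearGroup (Fin m) (ZMod 2) ≃*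
    Matrix.GeneralLinearGroup (Fin m) (ZMod 2)) := by
  refine ⟨MulEquiv.ofBijective Matrix.SpecialLinearGroup.toGL ⟨?_, ?_⟩⟩
  · intro a b h
    apply Subtype.ext
    exact congrArg Units.val h
  · intro g
    have h1 : IsUnit (g.val).det := (Matrix.isUnit_iff_isUnit_det _).1 g.isUnit
    refine ⟨⟨g.val, units_zmod2 m _ h1⟩, ?_⟩
    apply Units.ext
    rfl

theorem sl_psl (m : ℕ) : Nonempty (Matrix.SpecialLinearGroup (Fin (m + 1)) (ZMod 2) ≃*
    Matrix.ProjectiveSpecialLinearGroup (Fin (m + 1)) (ZMod 2)) := by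
  have h : Subgroup.center (Matrix.SpecialLinearGroup (Fin (m + 1)) (ZMod 2)) = ⊥ := by
    rw [eq_bot_iff]
    intro a ha
    rw [Matrix.SpecialLinearGroup.mem_center_iff] at ha
    obtain ⟨r, hr, hra⟩ := ha
    rw [Subgroup.mem_bot]
    apply Subtype.ext
    rw [← hra]
    rcases zcases r with rfl | rfl
    · rw [Fintype.card_fin, zero_pow (Nat.succ_ne_zero m)] at hr
      exact absurd hr (by decide)
    · simp
  exact ⟨((QuotientGroup.quotientMulEquivOfEq h).trans QuotientGroup.quotientBot).symm⟩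

theorem glv_psl (m : ℕ) {V : Type*} [AddCommGroup V] [Module (ZMod 2) V] [Finite V]
    (hV : finrank (ZMod 2) V = m + 1) :
    Nonempty ((V ≃ₗ[ZMod 2] V) ≃* Matrix.ProjectiveSpecialLinearGroup (Fin (m + 1)) (ZMod 2)) := by
  obtain ⟨e₁⟩ := sl_gl (m + 1)
  obtain ⟨e₂⟩ := sl_psl m
  let b := Module.finBasisOfFinrankEq (ZMod 2) V hV
  let e₃ : (V →ₗ[ZMod 2] V)ˣ ≃* (Matrix (Fin (m + 1)) (Fin (m + 1)) (ZMod 2))ˣ :=
    Units.mapEquiv (LinearMap.toMatrixAlgEquiv b).toMulEquiv
  exact ⟨(LinearMap.GeneralLinearGroup.generalLinearEquiv (ZMod 2) V).symm.trans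
    (e₃.trans (e₁.symm.trans e₂))⟩

end PSL

/-- **Recognition of `GL_{n+1}(2)`**, `n ≥ 5`. -/
theorem glrec {G : Type*} [Group G] [Finite G] (A : Subgroup G) (n : ℕ) (hn : 5 ≤ n)
    (hcard : Nat.card A = 2 ^ n) (hel : ∀ a ∈ A, a * a = 1)
    (hC : ∀ g : G, (∀ a ∈ A, g * a = a * g) → g ∈ A)
    (hN : Subgroup.normalizer (A : Set G) ≠ ⊤)
    (hx : ∀ a ∈ A, a ≠ 1 → ∀ g : G, g * a = a * g → g ∈ Subgroup.normalizer (A : Set G))
    (hfull : ∀ e : A ≃* A, ∃ m : G, ∀ a : A, m * a * m⁻¹ = (e a : G)) :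
    Nonempty (G ≃* Matrix.ProjectiveSpecialLinearGroup (Fin (n + 1)) (ZMod 2)) := by
  let hcomm : CommGroup A :=
    { (inferInstance : Group A) with
      mul_comm := by
        intro a b
        apply Subtype.ext
        show (a : G) * b = b * a
        have ha := hel a a.2
        have hb := hel b b.2
        have hab := hel (a * b) (mul_mem a.2 b.2)
        have h1 : (a : G)⁻¹ = a := inv_eq_of_mul_eq_one_right ha
        have h2 : (b : G)⁻¹ = b := inv_eq_of_mul_eq_one_right hb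
        have h3 : ((a : G) * b)⁻¹ = a * b := inv_eq_of_mul_eq_one_right hab
        rw [mul_inv_rev, h1, h2] at h3
        exact h3.symm }
  let U := Additive A
  let _ : AddCommGroup U := Additive.addCommGroup
  let _ : Module (ZMod 2) U := AddCommGroup.zmodModule (n := 2) (by
    intro u
    rw [two_nsmul]
    apply Additive.toMul.injective
    apply Subtype.ext
    exact hel _ (Additive.toMul u).2)
  have hUcard : Nat.card U = 2 ^ n := hcard
  have hfin : finrank (ZMod 2) U = n := by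
    have h1 := Module.natCard_eq_pow_finrank (K := ZMod 2) (V := U)
    rw [hUcard, Nat.card_zmod] at h1
    exact (Nat.pow_right_injective (le_refl 2) h1).symm
  have hnorm : ∀ g : G, g ∈ Subgroup.normalizer (A : Set G) → ∀ v : A, g * v * g⁻¹ ∈ A := by
    intro g hg v
    exact (Subgroup.mem_normalizer_iff.1 hg v).1 v.2
  let D : GLData G U :=
    { i := fun u => (Additive.toMul u : A)
      add := fun u v => rfl
      inj := fun u v h => Additive.toMul.injective (Subtype.ext h)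
      full := fun e => by
        let e' : A ≃* A := MulEquiv.toAdditive.symm e.toAddEquiv
        obtain ⟨m, hm⟩ := hfull e'
        exact ⟨m, fun u => hm (Additive.toMul u)⟩
      cent := fun g hg => ⟨Additive.ofMul ⟨g, hC g (fun a ha => hg (Additive.ofMul ⟨a, ha⟩))⟩, rfl⟩
      centx := fun u hu g hg v => by
        have h1 := hx (Additive.toMul u : A) (Additive.toMul u).2 (fun h => hu (by
          apply Additive.toMul.injective
          apply Subtype.ext
          exact h)) g hg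
        exact ⟨Additive.ofMul ⟨g * (Additive.toMul v : A) * g⁻¹, hnorm g h1 _⟩, rfl⟩ }
  have hMD : D.M ≠ ⊤ := by
    intro h
    apply hN
    rw [eq_top_iff]
    intro g _
    have hg : g ∈ D.M := by rw [h]; trivial
    have hg' := inv_mem hg
    rw [Subgroup.mem_normalizer_iff]
    intro a
    constructor
    · intro ha
      obtain ⟨w, hw⟩ := hg (Additive.ofMul ⟨a, ha⟩)
      have : g * a * g⁻¹ = (Additive.toMul w : A) := hw
      rw [this]; exact (Additive.toMul w).2
    · intro ha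
      obtain ⟨w, hw⟩ := hg' (Additive.ofMul ⟨g * a * g⁻¹, ha⟩)
      have h1 : g⁻¹ * (g * a * g⁻¹) * g⁻¹⁻¹ = (Additive.toMul w : A) := hw
      have h2 : g⁻¹ * (g * a * g⁻¹) * g⁻¹⁻¹ = a := by group
      rw [← h2, h1]; exact (Additive.toMul w).2
  have h5 : 5 ≤ finrank (ZMod 2) U := by rw [hfin]; exact hn
  obtain ⟨e⟩ := GLData.exists_iso (D := D) h5 hMD
  obtain ⟨e'⟩ := glv_psl n (V := (D.clq_K h5 hMD).V) (by
    rw [(D.clq_K h5 hMD).finrank_V, hfin])
  exact ⟨e.trans e'⟩

end Cfsg.Agent.LargeExtra.GLRec
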