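import Cfsg.Agent.LargeExtra.GLRecBase

/-!
# Recognition of `GL_{n+1}(2)`: adjacent members act as transvections

If `D`, `D'` are disjoint data and `A ∩ M' ≠ 1` then `A ∩ M'` is a hyperplane of `A`
(`exists_axis`), for `dim U ≥ 5`.
-/

set_option autoImplicit false

namespace Cfsg.Agent.LargeExtra.GLRec

open Module

namespace GLData

variable {G U : Type*} [Group G] [AddCommGroup U] [Module (ZMod 2) U]

/-- `p t p⁻¹ = t * i δ`. -/
def Dl (D : GLData G U) (p t : G) (δ : U) : Prop := p * t * p⁻¹ = t * D.i δ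

section Dl

variable [Finite U] {D : GLData G U}

theorem Dl.mul {p q t : G} {δ ε : U} (hp : p ∈ D.M) (h1 : D.Dl p t δ) (h2 : D.Dl q t ε) :
    D.Dl (p * q) t (δ + D.act p ε) := by
  unfold Dl at *
  rw [D.add, D.i_act hp]
  calc p * q * t * (p * q)⁻¹ = p * (q * t * q⁻¹) * p⁻¹ := by group
    _ = p * (t * D.i ε) * p⁻¹ := by rw [h2]
    _ = (p * t * p⁻¹) * (p * D.i ε * p⁻¹) := by group
    _ = t * (D.i δ * (p * D.i ε * p⁻¹)) := by rw [h1, mul_assoc]

theorem Dl.inv {p t : G} {δ : U} (hp : p ∈ D.M) (h : D.Dl p t δ) :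
    D.Dl p⁻¹ t (D.act p⁻¹ δ) := by
  unfold Dl at *
  have h1 : t = (p⁻¹ * t * p) * D.i (D.act p⁻¹ δ) := by
    rw [D.i_act (inv_mem hp)]
    calc t = p⁻¹ * (p * t * p⁻¹) * p := by group
      _ = p⁻¹ * (t * D.i δ) * p := by rw [h]
      _ = _ := by group
  have h2 : p⁻¹ * t * p = t * (D.i (D.act p⁻¹ δ))⁻¹ := by
    rw [eq_mul_inv_iff_mul_eq]; exact h1.symm
  rw [inv_inv, h2, D.i_inv]

theorem exists_dl {p t : G} (hp : p ∈ D.M) (ht : t ∈ D.M)
    (h : ∀ u, D.act p (D.act t u) = D.act t (D.act p u)) : ∃ δ, D.Dl p t δ := by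
  apply D.eq_mul_i (mul_mem (mul_mem hp ht) (inv_mem hp)) ht
  intro u
  rw [D.act_mul (mul_mem hp ht) (inv_mem hp), D.act_mul hp ht, h, D.act_act_inv hp]

theorem dl_i {D' : GLData G U} {v : U} (hv : v ∈ D'.fx D) (a : U) :
    D.Dl (D.i a) (D'.i v) (D.nl D' v a) := by
  unfold Dl
  rw [mem_fx] at hv
  rw [nl_apply, D.add, D.i_act hv, D'.i_inv, D.i_inv]
  calc D.i a * D'.i v * D.i a = 1 * D.i a * D'.i v * D.i a := by group
    _ = _ := by rw [← D'.i_sq v]; group

theorem dl_mem {D' : GLData G U} {v : U} (hv : v ≠ 0) {p : G} {δ : U}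
    (h : D.Dl p (D'.i v) δ) : δ ∈ D.fx D' := by
  apply mem_fx_of_comm hv
  unfold Dl at h
  have h1 : (D'.i v * D.i δ) * (D'.i v * D.i δ) = 1 := by
    rw [← h]
    calc p * D'.i v * p⁻¹ * (p * D'.i v * p⁻¹) = p * (D'.i v * D'.i v) * p⁻¹ := by group
      _ = 1 := by rw [D'.i_sq]; group
  have h2 : (D'.i v * D.i δ)⁻¹ = D'.i v * D.i δ := inv_eq_of_mul_eq_one_right h1
  rw [mul_inv_rev, D.i_inv, D'.i_inv] at h2
  exact h2

theorem adm (D' : GLData G U) {v : U} (hv : v ∈ D'.fx D) (hv0 : v ≠ 0) {p : G} (hp : p ∈ D.M)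
    {a : U} (h : D.Dl p (D'.i v) (D.nl D' v a)) :
    ∃ q ∈ D.M, q ∈ D'.M ∧ (∀ u, D.act q u = D.act p u) ∧ q * D'.i v = D'.i v * q ∧
      q = D.i a * p := by
  have h1 := (dl_i hv a).mul (D.i_mem a) h
  rw [D.act_i, addd] at h1
  have hc : D.i a * p * D'.i v = D'.i v * (D.i a * p) := by
    unfold Dl at h1
    rw [D.i_zero, mul_one] at h1
    exact mul_inv_eq_iff_eq_mul.1 h1
  refine ⟨D.i a * p, mul_mem (D.i_mem a) hp, D'.centx' hv0 hc, fun u => ?_, hc, rfl⟩
  rw [D.act_mul (D.i_mem a) hp, D.act_i]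

theorem adm_conj {D' : GLData G U} {q : G} (hq : q ∈ D.M) (hq' : q ∈ D'.M) {w : U}
    (hw : w ∈ D'.fx D) : D'.act q w ∈ D'.fx D ∧
      ∀ u, D.nl D' (D'.act q w) (D.act q u) = D.act q (D.nl D' w u) := by
  rw [mem_fx] at hw
  have h1 : D'.i (D'.act q w) = q * D'.i w * q⁻¹ := D'.i_act hq' w
  have h2 : D'.act q w ∈ D'.fx D := by
    rw [mem_fx, h1]
    exact mul_mem (mul_mem hq hw) (inv_mem hq)
  refine ⟨h2, fun u => ?_⟩
  rw [nl_apply, nl_apply, map_add, h1, D.act_mul (mul_mem hq hw) (inv_mem hq), D.act_mul hq hw,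
    D.act_inv_act hq]

end Dl

section GMap

variable (N : U →ₗ[ZMod 2] U) (θ : Dual (ZMod 2) U) (a : U)

/-- `1 + θ ⊗ N a + (θ ∘ N) ⊗ a`. -/
def gmap : U →ₗ[ZMod 2] U :=
  LinearMap.id + θ.smulRight (N a) + (θ.comp N).smulRight a

theorem gmap_apply (u : U) : gmap N θ a u = u + θ u • N a + θ (N u) • a := rfl

variable {N θ a}

theorem gmap_gmap (hN : ∀ u, N (N u) = 0) (h1 : θ a = 0) (h2 : θ (N a) = 0) (u : U) :
    gmap N θ a (gmap N θ a u) = u := by
  have e1 : θ (gmap N θ a u) = θ u := by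
    rw [gmap_apply, map_add, map_add, map_smul, map_smul, h1, h2]; simp
  have e2 : N (gmap N θ a u) = N u + θ (N u) • N a := by
    rw [gmap_apply, map_add, map_add, map_smul, map_smul, hN]; simp
  rw [gmap_apply N θ a (gmap N θ a u), e1, e2, map_add, map_smul, h2, smul_zero, add_zero,
    gmap_apply]
  have : u + θ u • N a + θ (N u) • a + θ u • N a + θ (N u) • a =
      u + (θ u • N a + θ u • N a) + (θ (N u) • a + θ (N u) • a) := by abel
  rw [this, addd, addd, add_zero, add_zero]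

theorem N_gmap (hN : ∀ u, N (N u) = 0) (u : U) : N (gmap N θ a u) = gmap N θ a (N u) := by
  rw [gmap_apply, gmap_apply, map_add, map_add, map_smul, map_smul, hN, hN]; simp

/-- the linear equivalence `gmap`. -/
def gequiv (hN : ∀ u, N (N u) = 0) (h1 : θ a = 0) (h2 : θ (N a) = 0) : U ≃ₗ[ZMod 2] U :=
  LinearEquiv.ofLinearMap (gmap N θ a) (gmap N θ a)
    (LinearMap.ext fun u => gmap_gmap hN h1 h2 u) (LinearMap.ext fun u => gmap_gmap hN h1 h2 u)

theorem gequiv_apply (hN : ∀ u, N (N u) = 0) (h1 : θ a = 0) (h2 : θ (N a) = 0) (u : U) :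
    gequiv hN h1 h2 u = gmap N θ a u := rfl

end GMap

section Rank

variable [Finite U] {D D' : GLData G U}

theorem act_inv_of_invol {p : G} (hp : p ∈ D.M) {f : U → U} (h : ∀ u, D.act p u = f u)
    (hf : ∀ u, f (f u) = u) (u : U) : D.act p⁻¹ u = f u := by
  apply D.act_inj hp
  rw [D.act_act_inv hp, h, hf]

/-- If `W = A ∩ M'` is not a hyperplane then every functional killing `[A, t]` kills `W`. -/
theorem rank_aux1 (hd : Disj D D') (hb : D'.fx D ≠ ⊥)
    (hH : ¬ ∃ f : Dual (ZMod 2) U, ∀ u, u ∈ D.fx D' ↔ f u = 0)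
    {a b : U} (ha : a ∉ D.fx D') (hb' : b ∉ D.fx D') (hab : a + b ∉ D.fx D')
    {v : U} (hv : v ∈ D'.fx D) (hv0 : v ≠ 0) {φ : Dual (ZMod 2) U}
    (hφ : ∀ u, φ (D.nl D' v u) = 0) {w : U} (hw : w ∈ D.fx D') : φ w = 0 := by
  by_contra hφw
  rw [← ne_eq, zne] at hφw
  set N := D.nl D' v with hNdef
  have hNN : ∀ u, N (N u) = 0 := fun u => nl_sq hv u
  have hNW : ∀ u ∈ D.fx D', N u = 0 := fun u hu => nl_of_mem hd hv hu
  have hNm : ∀ u, N u ∈ D.fx D' := fun u => nl_mem hd hv u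
  have hN0 : ∀ u, N u = 0 → u ∈ D.fx D' := fun u hu => (nl_eq_zero_iff hd hv hv0).1 hu
  -- choose a' with φ a' = 0
  obtain ⟨a', ha', hφa', hNa'⟩ : ∃ a', a' ∉ D.fx D' ∧ φ a' = 0 ∧ N a' = N a := by
    rcases zcases (φ a) with h | h
    · exact ⟨a, ha, h, rfl⟩
    · refine ⟨a + w, fun h1 => ha ?_, ?_, ?_⟩
      · have := add_mem h1 hw
        rwa [addd_right] at this
      · rw [map_add, h, hφw]; decide
      · rw [map_add, hNW w hw, add_zero]
  set e := N a' with he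
  set e' := N b with he'
  have he0 : e ≠ 0 := fun h => ha' (hN0 _ h)
  have he0' : e' ≠ 0 := fun h => hb' (hN0 _ h)
  have hee : e' ≠ e := by
    intro h
    apply hab
    apply hN0
    rw [map_add, ← hNa', add_eq_zero', ← he']
    exact h.symm
  have heW : e ∈ D.fx D' := hNm _
  have heW' : e' ∈ D.fx D' := hNm _
  have h3 : e' ≠ a' := fun h => ha' (h ▸ heW')
  have h4 : e' ≠ a' + e := by
    intro h
    apply ha'
    have := add_mem heW' heW
    rwa [h, addd_right] at this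
  obtain ⟨θ, hθ1, hθa, hθe⟩ := exists_dual2 he0' h3 hee h4
  have hφe : φ e = 0 := hφ a'
  have hφe' : φ e' = 0 := hφ b
  -- the two lifts
  obtain ⟨g, hg, hgact⟩ := D.exists_lift (gequiv hNN hθa hθe)
  have hgact' : ∀ u, D.act g u = u + θ u • e + θ (N u) • a' := fun u => hgact u
  have hginv : ∀ u, D.act g⁻¹ u = gmap N θ a' u :=
    act_inv_of_invol hg hgact (gmap_gmap hNN hθa hθe)
  obtain ⟨h, hh, hhact⟩ := D.exists_lift (LinearEquiv.transvection hφe')
  have hhact' : ∀ u, D.act h u = u + φ u • e' := fun u => by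
    rw [hhact, LinearEquiv.transvection.apply]
  have hhinv : ∀ u, D.act h⁻¹ u = u + φ u • e' := by
    apply act_inv_of_invol hh hhact'
    intro u
    rw [map_add, map_smul, hφe', smul_zero, add_zero, addd_right]
  have ht : D'.i v ∈ D.M := hv
  obtain ⟨δ₁, hδ₁⟩ := exists_dl (D := D) hg ht (fun u => by
    rw [act_eq_nl, act_eq_nl, map_add, ← hNdef, hgact, hgact, gequiv_apply, gequiv_apply,
      N_gmap hNN])
  obtain ⟨δ₂, hδ₂⟩ := exists_dl (D := D) hh ht (fun u => by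
    rw [act_eq_nl, act_eq_nl, map_add, ← hNdef, hhact', hhact', hφ, map_add, map_smul,
      hNW _ heW']
    simp)
  have hδ₁W : δ₁ ∈ D.fx D' := dl_mem hv0 hδ₁
  have hδ₂W : δ₂ ∈ D.fx D' := dl_mem hv0 hδ₂
  have hge' : D.act g e' = e' + e := by
    rw [hgact', hθ1, hNN]; simp
  have hge : D.act g e = e := by
    rw [hgact', hθe, hNN]; simp
  have hgW : ∀ u ∈ D.fx D', D.act g u = u + θ u • e := fun u hu => by
    rw [hgact', hNW u hu]; simp
  have hφg : ∀ u, φ (D.act g u) = φ u := fun u => by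
    rw [hgact', map_add, map_add, map_smul, map_smul, hφe, hφa']; simp
  have hgg : ∀ u, D.act g (D.act g u) = u := fun u => by
    rw [hgact, hgact, gequiv_apply, gequiv_apply]; exact gmap_gmap hNN hθa hθe u
  have hgi : ∀ u, D.act g⁻¹ u = D.act g u := fun u => by rw [hginv, hgact]; rfl
  have hhi : ∀ u, D.act h⁻¹ u = D.act h u := fun u => by rw [hhinv, hhact']
  -- the commutator
  set p := g * h * g⁻¹ * h⁻¹ with hp
  have hgh := mul_mem hg hh
  have hghg := mul_mem hgh (inv_mem hg)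
  have hpM : p ∈ D.M := mul_mem hghg (inv_mem hh)
  have hpact : ∀ u, D.act p u = u + φ u • e := by
    intro u
    have e1 : D.act g (D.act h (D.act g (D.act h u))) = u + φ u • e := by
      rw [hhact' (D.act g (D.act h u)), hφg, hhact' u, map_add (D.act g), map_smul (D.act g),
        hge', map_add φ, map_smul φ, hφe', smul_zero, add_zero, map_add (D.act g),
        map_add (D.act g), map_smul (D.act g), map_smul (D.act g), hgg, hgg]
      rcases zcases (φ u) with h | h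
      · rw [h]; simp
      · rw [h]; simp only [one_smul]
        have : u + e' + (e' + e) = u + (e' + e') + e := by abel
        rw [this, addd]; simp
    rw [hp, D.act_mul hghg (inv_mem hh), D.act_mul hgh (inv_mem hg), D.act_mul hg hh, hgi, hhi]
    exact e1
  have hdl := (((hδ₁.mul hg hδ₂).mul hgh (hδ₁.inv hg)).mul hghg (hδ₂.inv hh))
  have hval : δ₁ + D.act g δ₂ + D.act (g * h) (D.act g⁻¹ δ₁) +
      D.act (g * h * g⁻¹) (D.act h⁻¹ δ₂) =
      N (θ δ₂ • a' + φ δ₁ • (b + a') + φ δ₂ • a') := by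
    have e1 : D.act (g * h * g⁻¹) (D.act h⁻¹ δ₂) = δ₂ + φ δ₂ • e := by
      rw [← D.act_mul hghg (inv_mem hh)]; exact hpact _
    have e2 : D.act (g * h) (D.act g⁻¹ δ₁) = δ₁ + φ δ₁ • (e' + e) := by
      rw [hgi, D.act_mul hg hh, hhact' (D.act g δ₁), hφg, map_add, hgg, map_smul, hge']
    rw [e1, e2, hgW _ hδ₂W, map_add, map_add, map_smul, map_smul, map_smul, map_add,
      ← he, ← he']
    have : δ₁ + (δ₂ + θ δ₂ • e) + (δ₁ + φ δ₁ • (e' + e)) + (δ₂ + φ δ₂ • e) =
      (δ₁ + δ₁) + (δ₂ + δ₂) + (θ δ₂ • e + φ δ₁ • (e' + e) + φ δ₂ • e) := by abel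
    rw [this, addd, addd, zero_add, zero_add]
  rw [hval] at hdl
  obtain ⟨q, hq, hq', hqact, -⟩ := adm D' hv hv0 hpM hdl
  -- conclusion
  have key : ∀ x ∈ D'.fx D, ∀ u, φ (D.nl D' x u) = 0 := by
    intro x hx
    obtain ⟨hy, hxy⟩ := adm_conj hq hq' hx
    set y := D'.act q x
    have hsum : ∀ u, D.nl D' (y + x) u = φ (D.nl D' x u) • e := by
      intro u
      have h1 := hxy u
      rw [hqact, hqact, hpact, hpact, map_add, map_smul, nl_of_mem hd hy heW, smul_zero,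
        add_zero] at h1
      rw [nl_add hd hy hx, h1, add_comm (D.nl D' x u), addd_right]
    by_contra hcon
    push Not at hcon
    obtain ⟨u₀, hu₀⟩ := hcon
    have hyx : y + x ≠ 0 := by
      intro h0
      have h1 := hsum u₀
      rw [h0, nl_zero] at h1
      rcases smul_eq_zero.1 h1.symm with h | h
      · exact hu₀ h
      · exact he0 h
    apply hH
    refine ⟨φ.comp (D.nl D' x), fun u => ?_⟩
    rw [← nl_eq_zero_iff hd (add_mem hy hx) hyx, hsum, LinearMap.comp_apply]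
    constructor
    · intro h
      rcases smul_eq_zero.1 h with h | h
      · exact h
      · exact absurd h he0
    · intro h; rw [h, zero_smul]
  obtain ⟨x, hx, hxa⟩ := exists_nl_eq hd hb ha hw
  have := key x hx a
  rw [hxa, hφw] at this
  exact absurd this (by decide)

/-- **Adjacent members act as transvections**: `A ∩ M'` is a hyperplane of `A`. -/
theorem exists_axis (h5 : 5 ≤ finrank (ZMod 2) U) (hd : Disj D D') (hb : D'.fx D ≠ ⊥) :
    ∃ f : Dual (ZMod 2) U, ∀ u, u ∈ D.fx D' ↔ f u = 0 := by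
  by_contra hH
  obtain ⟨a, b, ha, hb', hab⟩ : ∃ a b, a ∉ D.fx D' ∧ b ∉ D.fx D' ∧ a + b ∉ D.fx D' := by
    by_contra hcon
    push Not at hcon
    exact hH (exists_ker_eq (fx_ne_top hd hb) hcon)
  obtain ⟨v, hv, hv0⟩ := (Submodule.ne_bot_iff _).1 hb
  set N := D.nl D' v with hNdef
  have hNN : ∀ u, N (N u) = 0 := fun u => nl_sq hv u
  have hNW : ∀ u ∈ D.fx D', N u = 0 := fun u hu => nl_of_mem hd hv hu
  have hNm : ∀ u, N u ∈ D.fx D' := fun u => nl_mem hd hv u
  have hN0 : ∀ u, N u = 0 → u ∈ D.fx D' := fun u hu => (nl_eq_zero_iff hd hv hv0).1 hu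
  have hker : LinearMap.ker N = D.fx D' := by
    ext u
    rw [LinearMap.mem_ker]
    exact nl_eq_zero_iff hd hv hv0
  have hrange : D.fx D' = LinearMap.range N := by
    apply le_antisymm
    · intro w hw
      by_contra hwr
      obtain ⟨φ, hφ1, hφ0⟩ := exists_dual _ hwr
      have := rank_aux1 hd hb hH ha hb' hab hv hv0 (φ := φ)
        (fun u => hφ0 _ (LinearMap.mem_range_self N u)) hw
      rw [hφ1] at this
      exact absurd this (by decide)
    · rintro _ ⟨u, rfl⟩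
      exact hNm u
  have hdim := LinearMap.finrank_range_add_finrank_ker N
  rw [hker, ← hrange] at hdim
  -- second element
  have hw0 : N b ≠ 0 := fun h => hb' (hN0 _ h)
  obtain ⟨v₂, hv₂, hv₂a⟩ := exists_nl_eq hd hb ha (hNm b)
  have h1 : N b ≠ a := fun h => ha (h ▸ hNm b)
  have h2 : N b ≠ N a := by
    intro h
    apply hab
    apply hN0
    rw [map_add, add_eq_zero', h]
  have h3 : N b ≠ a + N a := by
    intro h
    apply ha
    have := add_mem (hNm b) (hNm a)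
    rwa [h, addd_right] at this
  obtain ⟨θ, hθ1, hθa, hθe⟩ := exists_dual2 hw0 h1 h2 h3
  obtain ⟨g, hg, hgact⟩ := D.exists_lift (gequiv hNN hθa hθe)
  have hgact' : ∀ u, D.act g u = u + θ u • N a + θ (N u) • a := fun u => hgact u
  obtain ⟨δ, hδ⟩ := exists_dl (D := D) hg hv (fun u => by
    rw [act_eq_nl, act_eq_nl, map_add, ← hNdef, hgact, hgact, gequiv_apply, gequiv_apply,
      N_gmap hNN])
  have hδW : δ ∈ D.fx D' := dl_mem hv0 hδ
  rw [hrange] at hδW
  obtain ⟨c, rfl⟩ := hδW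
  obtain ⟨q, hq, hq', hqact, -⟩ := adm D' hv hv0 hg hδ
  obtain ⟨hy, hxy⟩ := adm_conj hq hq' hv₂
  set y := D'.act q v₂
  have hsum : ∀ u, D.nl D' (y + v₂) u = θ (N u) • D.nl D' y a + θ (D.nl D' v₂ u) • N a := by
    intro u
    have h1 := hxy u
    rw [hqact, hqact, hgact', hgact', map_add, map_add, map_smul, map_smul,
      nl_of_mem hd hy (hNm a), smul_zero, add_zero, hNW _ (nl_mem hd hv₂ u), map_zero, zero_smul,
      add_zero] at h1
    rw [nl_add hd hy hv₂]
    have h2 : D.nl D' y u = D.nl D' v₂ u + θ (D.nl D' v₂ u) • N a + θ (N u) • D.nl D' y a := by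
      rw [← h1, addd_right]
    rw [h2]
    have : D.nl D' v₂ u + θ (D.nl D' v₂ u) • N a + θ (N u) • D.nl D' y a + D.nl D' v₂ u =
      (D.nl D' v₂ u + D.nl D' v₂ u) + (θ (N u) • D.nl D' y a + θ (D.nl D' v₂ u) • N a) := by abel
    rw [this, addd, zero_add]
  have hne : y + v₂ ≠ 0 := by
    intro h0
    have h1 := hsum a
    rw [h0, nl_zero, hv₂a, hθ1, hθe] at h1
    simp only [zero_smul, one_smul, zero_add] at h1
    exact ha (hN0 _ h1.symm)
  have hle : (LinearMap.ker (θ.comp N) ⊓ LinearMap.ker (θ.comp (D.nl D' v₂)) :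
      Submodule (ZMod 2) U) ≤ D.fx D' := by
    rintro u ⟨hu1, hu2⟩
    rw [← nl_eq_zero_iff hd (add_mem hy hv₂) hne, hsum]
    have e1 : θ (N u) = 0 := hu1
    have e2 : θ (D.nl D' v₂ u) = 0 := hu2
    rw [e1, e2, zero_smul, zero_smul, add_zero]
  have h6 := Submodule.finrank_mono hle
  have h7 := finrank_ker_inf (θ.comp N) (θ.comp (D.nl D' v₂))
  omega

end Rank

end GLData

end Cfsg.Agent.LargeExtra.GLRec
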