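import Cfsg.Agent.LargeExtra.GLRecV
import Cfsg.Agent.LargeExtra.GLRecGen

/-!
# Recognition of `GL_{n+1}(2)`: the representation on the natural module
-/

set_option autoImplicit false

namespace Cfsg.Agent.LargeExtra.GLRec

open Module

namespace GLData

variable {G U : Type*} [Group G] [AddCommGroup U] [Module (ZMod 2) U] [Finite U]
variable {D : GLData G U} (C : D.Clq)

/-- the vector of a point -/
noncomputable def Clq.Φ (h : G) : G → Dual (ZMod 2) U := fun g => C.F (g⁻¹ * h)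

theorem Clq.Φ_apply (h g : G) : C.Φ h g = C.F (g⁻¹ * h) := rfl

theorem Clq.Φ_congr {x y : G} (h : x⁻¹ * y ∈ D.M) : C.Φ x = C.Φ y := by
  funext g
  rw [C.Φ_apply, C.Φ_apply]
  apply C.F_congr
  have : (g⁻¹ * x)⁻¹ * (g⁻¹ * y) = x⁻¹ * y := by group
  rw [this]; exact h

theorem Clq.Φ_add {g h : G} {a : U} (ha : C.F (g⁻¹ * h) a = 1) :
    C.Φ (g * D.i a * g⁻¹ * h) = C.Φ g + C.Φ h := by
  funext k
  rw [Pi.add_apply, C.Φ_apply, C.Φ_apply, C.Φ_apply, ← C.F_add (a := a)]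
  · congr 1; group
  · rw [← ha]; congr 2; group

theorem Clq.Φ_eq_iff {x y : G} : C.Φ x = C.Φ y ↔ x⁻¹ * y ∈ D.M := by
  refine ⟨fun h => ?_, C.Φ_congr⟩
  have h1 := congrFun h x
  rw [C.Φ_apply, C.Φ_apply, inv_mul_cancel, C.F_eq_zero.2 (one_mem _)] at h1
  exact C.F_eq_zero.1 h1.symm

include C in
theorem Clq.exists_notMem : ∃ z, z ∉ D.M := by
  by_contra h
  push Not at h
  exact C.hM (eq_top_iff.2 fun x _ => h x)

theorem Clq.Φ_ne_zero (x : G) : C.Φ x ≠ 0 := by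
  intro h
  obtain ⟨z, hz⟩ := C.exists_notMem
  have h1 := congrFun h (x * z⁻¹)
  rw [C.Φ_apply, Pi.zero_apply, C.F_eq_zero] at h1
  apply hz
  have : (x * z⁻¹)⁻¹ * x = z := by group
  rwa [this] at h1

/-- the natural module -/
noncomputable def Clq.V : Submodule (ZMod 2) (G → Dual (ZMod 2) U) where
  carrier := {v | v = 0 ∨ ∃ h, v = C.Φ h}
  zero_mem' := Or.inl rfl
  add_mem' := by
    rintro a b (rfl | ⟨g, rfl⟩) (rfl | ⟨h, rfl⟩)
    · left; simp
    · right; exact ⟨h, by simp⟩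
    · right; exact ⟨g, by simp⟩
    · by_cases hgh : g⁻¹ * h ∈ D.M
      · left
        rw [C.Φ_congr hgh, addd]
      · right
        obtain ⟨a, ha⟩ := exists_one (fun h => hgh (C.F_eq_zero.1 h))
        exact ⟨_, (C.Φ_add ha).symm⟩
  smul_mem' := by
    intro c x hx
    rcases zcases c with rfl | rfl
    · left; rw [zero_smul]
    · rw [one_smul]; exact hx

theorem Clq.mem_V {v : G → Dual (ZMod 2) U} : v ∈ C.V ↔ v = 0 ∨ ∃ h, v = C.Φ h := Iff.rfl

/-- the vector of a point -/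
noncomputable def Clq.vec (h : G) : C.V := ⟨C.Φ h, Or.inr ⟨h, rfl⟩⟩

theorem Clq.vec_val (h : G) : (C.vec h).1 = C.Φ h := rfl

theorem Clq.cases_V (v : C.V) : v = 0 ∨ ∃ h, v = C.vec h := by
  rcases v.2 with h | ⟨h, hv⟩
  · left; exact Subtype.ext h
  · right; exact ⟨h, Subtype.ext hv⟩

theorem Clq.vec_eq_iff {x y : G} : C.vec x = C.vec y ↔ x⁻¹ * y ∈ D.M := by
  rw [← C.Φ_eq_iff]
  exact ⟨fun h => congrArg Subtype.val h, fun h => Subtype.ext h⟩

theorem Clq.vec_ne_zero (x : G) : C.vec x ≠ 0 :=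
  fun h => C.Φ_ne_zero x (congrArg Subtype.val h)

theorem Clq.vec_add {g h : G} {a : U} (ha : C.F (g⁻¹ * h) a = 1) :
    C.vec (g * D.i a * g⁻¹ * h) = C.vec g + C.vec h := Subtype.ext (C.Φ_add ha)

theorem Clq.shift_mem (k : G) {v : G → Dual (ZMod 2) U} (hv : v ∈ C.V) :
    (fun g => v (k⁻¹ * g)) ∈ C.V := by
  rcases hv with rfl | ⟨h, rfl⟩
  · left; rfl
  · right
    refine ⟨k * h, ?_⟩
    funext g
    rw [C.Φ_apply, C.Φ_apply]
    congr 1; group

/-- the action of `k` -/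
noncomputable def Clq.rl (k : G) : C.V →ₗ[ZMod 2] C.V where
  toFun v := ⟨fun g => v.1 (k⁻¹ * g), C.shift_mem k v.2⟩
  map_add' _ _ := rfl
  map_smul' _ _ := rfl

theorem Clq.rl_val (k : G) (v : C.V) (g : G) : (C.rl k v).1 g = v.1 (k⁻¹ * g) := rfl

theorem Clq.rl_mul (k l : G) (v : C.V) : C.rl (k * l) v = C.rl k (C.rl l v) := by
  apply Subtype.ext
  funext g
  rw [C.rl_val, C.rl_val, C.rl_val, mul_inv_rev, mul_assoc]

theorem Clq.rl_one (v : C.V) : C.rl 1 v = v := by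
  apply Subtype.ext
  funext g
  rw [C.rl_val, inv_one, one_mul]

/-- The natural representation. -/
noncomputable def Clq.ρ : G →* (C.V ≃ₗ[ZMod 2] C.V) where
  toFun k := LinearEquiv.ofLinearMap (C.rl k) (C.rl k⁻¹)
    (LinearMap.ext fun v => by
      rw [LinearMap.comp_apply, ← C.rl_mul, mul_inv_cancel, C.rl_one]; rfl)
    (LinearMap.ext fun v => by
      rw [LinearMap.comp_apply, ← C.rl_mul, inv_mul_cancel, C.rl_one]; rfl)
  map_one' := by
    ext v : 1
    exact C.rl_one v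
  map_mul' k l := by
    ext v : 1
    exact C.rl_mul k l v

theorem Clq.ρ_apply (k : G) (v : C.V) : C.ρ k v = C.rl k v := rfl

theorem Clq.ρ_val (k : G) (v : C.V) (g : G) : (C.ρ k v).1 g = v.1 (k⁻¹ * g) := rfl

theorem Clq.ρ_vec (k h : G) : C.ρ k (C.vec h) = C.vec (k * h) := by
  apply Subtype.ext
  funext g
  rw [C.ρ_val, C.vec_val, C.vec_val, C.Φ_apply, C.Φ_apply]
  congr 1; group

/-- evaluation -/
noncomputable def Clq.ev (k : G) : C.V →ₗ[ZMod 2] Dual (ZMod 2) U where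
  toFun v := v.1 k
  map_add' _ _ := rfl
  map_smul' _ _ := rfl

theorem Clq.ev_apply (k : G) (v : C.V) : C.ev k v = v.1 k := rfl

theorem Clq.ev_vec (k h : G) : C.ev k (C.vec h) = C.F (k⁻¹ * h) := rfl

theorem Clq.ev_eq_zero {k : G} {v : C.V} (h : C.ev k v = 0) : v = 0 ∨ v = C.vec k := by
  rcases C.cases_V v with rfl | ⟨x, rfl⟩
  · left; rfl
  · right
    rw [C.ev_vec, C.F_eq_zero] at h
    exact (C.vec_eq_iff.2 h).symm

theorem Clq.ev_surj (k : G) (f : Dual (ZMod 2) U) : ∃ v, C.ev k v = f := by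
  by_cases hf : f = 0
  · exact ⟨0, by rw [map_zero, hf]⟩
  · obtain ⟨z, hz⟩ := C.exists_notMem
    obtain ⟨m, hm, h⟩ := (C.ax hz).exists_of hf
    refine ⟨C.vec (k * (m * z)), ?_⟩
    rw [C.ev_vec, inv_mul_cancel_left]
    exact (C.ax h.notMem).unique h

theorem Clq.ev_self (k : G) : C.ev k (C.vec k) = 0 := by
  rw [C.ev_vec, inv_mul_cancel, C.F_eq_zero]
  exact one_mem _

theorem Clq.ρ_tv (k : G) (u : U) (v : C.V) :
    C.ρ (k * D.i u * k⁻¹) v = v + (C.ev k v u) • C.vec k := by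
  rcases C.cases_V v with rfl | ⟨h, rfl⟩
  · simp
  · rw [C.ρ_vec, C.ev_vec]
    rcases zcases (C.F (k⁻¹ * h) u) with h1 | h1
    · rw [h1, zero_smul, add_zero, C.vec_eq_iff]
      rw [← C.mem_hx, GLData.mem_hx] at h1
      have h2 := inv_mem h1
      have e : (k⁻¹ * h)⁻¹ * D.i u * (k⁻¹ * h) = (h⁻¹ * (k * D.i u * k⁻¹ * h)) := by group
      rw [e] at h2
      have e2 : (k * D.i u * k⁻¹ * h)⁻¹ * h = (h⁻¹ * (k * D.i u * k⁻¹ * h))⁻¹ := by group
      rw [e2]; exact h2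
    · rw [h1, one_smul, C.vec_add h1, add_comm]

theorem Clq.exists_tv (f : Dual (ZMod 2) C.V) {c : C.V} (hc : c ≠ 0) (hfc : f c = 0) :
    ∃ (k : G) (u : U), c = C.vec k ∧ ∀ v, C.ev k v u = f v := by
  rcases C.cases_V c with rfl | ⟨k, rfl⟩
  · exact absurd rfl hc
  obtain ⟨s, hs⟩ := (C.ev k).exists_rightInverse_of_surjective
    (LinearMap.range_eq_top.2 (C.ev_surj k))
  refine ⟨k, (Module.evalEquiv (ZMod 2) U).symm (f.comp s), rfl, fun v => ?_⟩
  have h1 : (C.ev k v) ((Module.evalEquiv (ZMod 2) U).symm (f.comp s)) = f (s (C.ev k v)) := by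
    have : Dual.eval (ZMod 2) U ((Module.evalEquiv (ZMod 2) U).symm (f.comp s)) = f.comp s := by
      exact (Module.evalEquiv (ZMod 2) U).apply_symm_apply _
    exact congrArg (fun z => z (C.ev k v)) this
  rw [h1]
  have h3 : C.ev k (s (C.ev k v) + v) = 0 := by
    rw [map_add]
    have : C.ev k (s (C.ev k v)) = C.ev k v := by
      have := congrArg (fun z => z (C.ev k v)) hs
      exact this
    rw [this]
    exact addd _
  have h4 : f (s (C.ev k v) + v) = 0 := by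
    rcases C.ev_eq_zero h3 with h | h
    · rw [h, map_zero]
    · rw [h, hfc]
  rw [map_add] at h4
  exact eq_of_add h4

variable [Finite G]

instance : Finite (Dual (ZMod 2) U) := DFunLike.finite _

instance Clq.finite_V : Finite C.V := Subtype.finite

theorem Clq.finrank_V : finrank (ZMod 2) C.V = finrank (ZMod 2) U + 1 := by
  have h := LinearMap.finrank_range_add_finrank_ker (C.ev 1)
  have h1 : LinearMap.range (C.ev 1) = ⊤ := LinearMap.range_eq_top.2 (C.ev_surj 1)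
  have h2 : LinearMap.ker (C.ev 1) = Submodule.span (ZMod 2) {C.vec 1} := by
    apply le_antisymm
    · intro v hv
      rcases C.ev_eq_zero hv with rfl | rfl
      · exact zero_mem _
      · exact Submodule.mem_span_singleton_self _
    · rw [Submodule.span_singleton_le_iff_mem]
      exact C.ev_self 1
  rw [h1, h2, finrank_top, finrank_span_singleton (C.vec_ne_zero 1), Subspace.dual_finrank_eq] at h
  exact h.symm

omit [Finite G] in
theorem Clq.ρ_inj : Function.Injective C.ρ := by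
  rw [injective_iff_map_eq_one]
  intro k hk
  have h1 : ∀ h : G, (k * h)⁻¹ * h ∈ D.M := by
    intro h
    rw [← C.vec_eq_iff, ← C.ρ_vec, hk]; rfl
  have hkM : k ∈ D.M := by
    have := inv_mem (h1 1)
    simpa using this
  have hF : ∀ f : Dual (ZMod 2) U, ∃ h, C.F h = f := by
    intro f
    obtain ⟨v, hv⟩ := C.ev_surj 1 f
    rcases C.cases_V v with rfl | ⟨h, rfl⟩
    · exact ⟨1, by rw [← hv, map_zero, C.F_eq_zero]; exact one_mem _⟩
    · exact ⟨h, by rw [← hv, C.ev_vec, inv_one, one_mul]⟩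
  obtain ⟨u, rfl⟩ := D.eq_i_of_act hkM (fun u => by
    by_contra hne
    have h0 : D.act k u + u ≠ 0 := fun h => hne (eq_of_add h)
    obtain ⟨f, hf⟩ := exists_dual0 h0
    obtain ⟨h, rfl⟩ := hF f
    have h2 := C.F_mul_left (x := h) hkM u
    rw [C.F_congr (h1 h)] at h2
    rw [map_add, h2] at hf
    rw [CharTwo.add_self_eq_zero] at hf
    exact absurd hf (by decide))
  suffices hu : u = 0 by rw [hu, D.i_zero]
  by_contra hu
  obtain ⟨f, hf⟩ := exists_dual0 hu
  obtain ⟨h, rfl⟩ := hF f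
  have h2 : u ∈ D.hx h := by
    rw [GLData.mem_hx]
    have := inv_mem (h1 h)
    have e : ((D.i u * h)⁻¹ * h)⁻¹ = h⁻¹ * D.i u * h := by group
    rwa [e] at this
  rw [C.mem_hx, hf] at h2
  exact absurd h2 (by decide)

theorem Clq.ρ_surj : Function.Surjective C.ρ := by
  rw [← MonoidHom.range_eq_top, eq_top_iff]
  intro e _
  apply mem_of_transvections
  intro f c hfc
  by_cases hc : c = 0
  · refine ⟨1, ?_⟩
    ext v : 1
    rw [map_one, LinearEquiv.transvection.apply, hc, smul_zero, add_zero]; rfl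
  · obtain ⟨k, u, rfl, h⟩ := C.exists_tv f hc hfc
    refine ⟨k * D.i u * k⁻¹, ?_⟩
    ext v : 1
    rw [C.ρ_tv, LinearEquiv.transvection.apply, h]

/-- The natural isomorphism onto `GL(V)`. -/
noncomputable def Clq.iso : G ≃* (C.V ≃ₗ[ZMod 2] C.V) :=
  MulEquiv.ofBijective C.ρ ⟨C.ρ_inj, C.ρ_surj⟩

omit [Finite G] in
include C in
/-- involutions fix a point -/
theorem Clq.exists_fix {s : G} (hs : s * s = 1) : ∃ y, y⁻¹ * s * y ∈ D.M := by
  suffices h : ∃ v : C.V, v ≠ 0 ∧ C.ρ s v = v by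
    obtain ⟨v, hv0, hv⟩ := h
    rcases C.cases_V v with rfl | ⟨y, rfl⟩
    · exact absurd rfl hv0
    · refine ⟨y, ?_⟩
      rw [C.ρ_vec] at hv
      have := C.vec_eq_iff.1 hv.symm
      rwa [← mul_assoc] at this
  by_cases h : C.ρ s (C.vec 1) = C.vec 1
  · exact ⟨_, C.vec_ne_zero 1, h⟩
  · refine ⟨C.ρ s (C.vec 1) + C.vec 1, fun h2 => h (eq_of_add h2), ?_⟩
    rw [map_add]
    have : C.ρ s (C.ρ s (C.vec 1)) = C.vec 1 := by
      rw [C.ρ_vec, C.ρ_vec, ← mul_assoc, hs, one_mul]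
    rw [this, add_comm]

end GLData

end Cfsg.Agent.LargeExtra.GLRec
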