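import Cfsg.Agent.LargeExtra.SixMinus

/-!
# Glue for S1762 (helper915): `C_G(z)/Q ≅ SL(3, 2)` from an invariant totally singular 3-space
-/

set_option autoImplicit false

namespace Cfsg.Agent.LargeExtra.GlueThree

open Cfsg.Agent.Co2Type.Quad Cfsg.Agent.LargeExtra.Base Cfsg.Agent.LargeExtra.SiegelOrbit

/-- `SL(3, 2) = GL(3, 2)` -/
theorem toGL_bijective : Function.Bijective
    (Matrix.SpecialLinearGroup.toGL : Matrix.SpecialLinearGroup (Fin 3) (ZMod 2) →* _) := by
  constructor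
  · exact Matrix.SpecialLinearGroup.toGL_injective
  · intro g
    have hdet : (g : Matrix (Fin 3) (Fin 3) (ZMod 2)).det = 1 := by
      have h1 : (g : Matrix (Fin 3) (Fin 3) (ZMod 2)).det ≠ 0 := by
        have h2 := (Matrix.GeneralLinearGroup.det g).ne_zero
        exact h2
      revert h1
      generalize (g : Matrix (Fin 3) (Fin 3) (ZMod 2)).det = c
      revert c
      decide
    refine ⟨⟨g, hdet⟩, ?_⟩
    ext i j
    rfl

noncomputable def slEquiv : Matrix.SpecialLinearGroup (Fin 3) (ZMod 2) ≃*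
    ((Fin 3 → ZMod 2) ≃ₗ[ZMod 2] (Fin 3 → ZMod 2)) :=
  (MulEquiv.ofBijective _ toGL_bijective).trans
    (Matrix.GeneralLinearGroup.toLin.trans
      (LinearMap.GeneralLinearGroup.generalLinearEquiv (ZMod 2) (Fin 3 → ZMod 2)))

theorem linEquiv_of_card {U : Type*} [AddCommGroup U] [Module (ZMod 2) U] (h8 : Nat.card U = 8) :
    Nonempty (U ≃ₗ[ZMod 2] (Fin 3 → ZMod 2)) := by
  have hfin : Finite U := Nat.finite_of_card_ne_zero (by rw [h8]; norm_num)
  have hF : Module.Finite (ZMod 2) U := Module.Finite.of_finite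
  have h1 := Module.natCard_eq_pow_finrank (K := ZMod 2) (V := U)
  rw [h8, Nat.card_zmod] at h1
  have h2 : 2 ^ 3 = 2 ^ Module.finrank (ZMod 2) U := by rw [← h1]; norm_num
  have h3 : Module.finrank (ZMod 2) U = 3 := (Nat.pow_right_injective (le_refl 2) h2).symm
  exact ⟨(Module.finBasisOfFinrankEq (ZMod 2) U h3).equivFun⟩

variable {G : Type*} [Group G] [Finite G] {Q : Subgroup G} {z : G}

/-- `U^⊥ = U` -/
theorem mem_of_perp (h : Large Q z) {U : Submodule (ZMod 2) h.V} (hV : Nat.card h.V = 64)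
    (hU : Nat.card U = 8) (hq : ∀ v ∈ U, h.q v = 0) {v : h.V} (hv : ∀ u ∈ U, h.b v u = 0) :
    v ∈ U := by
  have hb : ∀ u ∈ U, ∀ w ∈ U, h.b u w = 0 := by
    intro u hu w hw
    have h1 := h.q_add' u w
    rw [hq _ (U.add_mem hu hw), hq u hu, hq w hw, zero_add, zero_add] at h1
    exact h1.symm
  have h1 := Perp.card_perp h U
  rw [hU, hV] at h1
  have hle : U ≤ h.b.orthogonal U := fun w hw => (Perp.mem_perp h _).2 fun u hu => hb u hu w hw
  have heq : U = h.b.orthogonal U := by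
    apply SetLike.coe_injective
    apply Set.eq_of_subset_of_ncard_le hle
    have e1 : (h.b.orthogonal U : Set h.V).ncard = Nat.card (h.b.orthogonal U) := rfl
    have e2 : (U : Set h.V).ncard = Nat.card U := rfl
    rw [e1, e2, hU]
    omega
  rw [heq, Perp.mem_perp]
  intro u hu
  rw [h.b_comm]; exact hv u hu

/-- **Glue**: an invariant totally singular 3-space `U` on which `C(z)` induces `GL(U)` gives
`C/Q' ≅ SL(3, 2)`. -/
theorem exists_sl3 (h : Large Q z) (hO : O2 h) (hV : Nat.card h.V = 64)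
    (U : Submodule (ZMod 2) h.V) (hU : Nat.card U = 8) (hq : ∀ v ∈ U, h.q v = 0)
    (hinv : ∀ (f : h.V ≃ₗ[ZMod 2] h.V), f ∈ h.act.range → ∀ v ∈ U, f v ∈ U)
    (hsurj : ∀ f : U ≃ₗ[ZMod 2] U, ∃ g ∈ h.act.range, ∀ u : U, g u = f u)
    (Q' : Subgroup (Subgroup.centralizer ({z} : Set G))) [Q'.Normal]
    (hQ' : Q'.map (Subgroup.centralizer ({z} : Set G)).subtype = Q) :
    Nonempty ((Subgroup.centralizer ({z} : Set G)) ⧸ Q' ≃*
      Matrix.SpecialLinearGroup (Fin 3) (ZMod 2)) := by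
  classical
  obtain ⟨e1⟩ := SixMinus.quotient_equiv h Q' hQ'
  -- restriction to `U`
  have hmem : ∀ (f : h.act.range) (u : U), (f : h.V ≃ₗ[ZMod 2] h.V) u ∈ U :=
    fun f u => hinv f f.2 u u.2
  have hid : ∀ (f : h.act.range) (v : h.V), ((f⁻¹ : h.act.range) : h.V ≃ₗ[ZMod 2] h.V)
      ((f : h.V ≃ₗ[ZMod 2] h.V) v) = v := fun f v =>
    (f : h.V ≃ₗ[ZMod 2] h.V).symm_apply_apply v
  have hid' : ∀ (f : h.act.range) (v : h.V), (f : h.V ≃ₗ[ZMod 2] h.V)
      (((f⁻¹ : h.act.range) : h.V ≃ₗ[ZMod 2] h.V) v) = v := fun f v =>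
    (f : h.V ≃ₗ[ZMod 2] h.V).apply_symm_apply v
  let φ : h.act.range →* (U ≃ₗ[ZMod 2] U) :=
    { toFun := fun f =>
        { toFun := fun u => ⟨(f : h.V ≃ₗ[ZMod 2] h.V) u, hmem f u⟩
          map_add' := fun u v => Subtype.ext (map_add _ _ _)
          map_smul' := fun c u => Subtype.ext (map_smul _ _ _)
          invFun := fun u => ⟨((f⁻¹ : h.act.range) : h.V ≃ₗ[ZMod 2] h.V) u, hmem f⁻¹ u⟩
          left_inv := fun u => Subtype.ext (hid f u)
          right_inv := fun u => Subtype.ext (hid' f u) }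
      map_one' := by ext u; rfl
      map_mul' := fun f g => by ext u; rfl }
  have hφ : ∀ (f : h.act.range) (u : U), ((φ f u : U) : h.V) = (f : h.V ≃ₗ[ZMod 2] h.V) u :=
    fun f u => rfl
  have hinj : Function.Injective φ := by
    rw [injective_iff_map_eq_one]
    -- the kernel as a subgroup of `GL(V)`
    let N : Subgroup (h.V ≃ₗ[ZMod 2] h.V) :=
      { carrier := {f | f ∈ h.act.range ∧ ∀ u ∈ U, f u = u}
        one_mem' := ⟨Subgroup.one_mem _, fun u _ => rfl⟩
        mul_mem' := by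
          rintro f g ⟨hf, hf'⟩ ⟨hg, hg'⟩
          refine ⟨Subgroup.mul_mem _ hf hg, fun u hu => ?_⟩
          show f (g u) = u
          rw [hg' u hu, hf' u hu]
        inv_mem' := by
          rintro f ⟨hf, hf'⟩
          refine ⟨Subgroup.inv_mem _ hf, fun u hu => ?_⟩
          show f.symm u = u
          rw [LinearEquiv.symm_apply_eq]
          exact (hf' u hu).symm }
    have hN : ∀ f, f ∈ N ↔ f ∈ h.act.range ∧ ∀ u ∈ U, f u = u := fun _ => Iff.rfl
    have hisb : ∀ f ∈ h.act.range, ∀ v w, h.b (f v) (f w) = h.b v w := by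
      rintro _ ⟨c, rfl⟩ v w
      exact h.b_act c v w
    have hNsq : ∀ f ∈ N, f * f = 1 := by
      rintro f ⟨hf, hf'⟩
      ext v
      show f (f v) = v
      have h1 : f v + v ∈ U := by
        apply mem_of_perp h hV hU hq
        intro u hu
        have h2 := hisb f hf v u
        rw [hf' u hu] at h2
        rw [map_add, LinearMap.add_apply, h2, CharTwo.add_self_eq_zero]
      have h2 : f v = v + (f v + v) := by
        have : v + (f v + v) = f v + (v + v) := by abel
        rw [this, h.add_self, add_zero]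
      calc f (f v) = f (v + (f v + v)) := by rw [← h2]
        _ = f v + (f v + v) := by rw [map_add, hf' _ h1]
        _ = v := by rw [← add_assoc, h.add_self, zero_add]
    intro f hf
    apply Subtype.ext
    refine eq_one_of_normal h hO (N := N) (fun g hg => hg.1) ?_ ?_ (g := (f : h.V ≃ₗ[ZMod 2] h.V)) ?_
    · rintro g hg k ⟨hk, hk'⟩
      refine ⟨Subgroup.mul_mem _ (Subgroup.mul_mem _ hg hk) (Subgroup.inv_mem _ hg), fun u hu => ?_⟩
      show g (k (g.symm u)) = u
      have h3 : g.symm u ∈ U := hinv g⁻¹ (Subgroup.inv_mem _ hg) u hu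
      rw [hk' _ h3, g.apply_symm_apply]
    · intro g hg
      exact ⟨1, by rw [pow_one, pow_two]; exact hNsq g hg⟩
    · refine ⟨f.2, fun u hu => ?_⟩
      have h4 := congrArg (fun k : U ≃ₗ[ZMod 2] U => ((k ⟨u, hu⟩ : U) : h.V)) hf
      exact h4
  have hsurj' : Function.Surjective φ := by
    intro f
    obtain ⟨g, hg, hgf⟩ := hsurj f
    refine ⟨⟨g, hg⟩, ?_⟩
    ext u
    exact hgf u
  obtain ⟨e⟩ := linEquiv_of_card hU
  exact ⟨(e1.trans (MulEquiv.ofBijective φ ⟨hinj, hsurj'⟩)).trans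
    ((SixMinus.conjE e).trans slEquiv.symm)⟩

end Cfsg.Agent.LargeExtra.GlueThree
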