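import Cfsg.Agent.LargeExtra.KOneQuot

/-!
# Fusion and cardinalities in `C_G(ρ) / ⟨ρ⟩` (helper915)
-/

set_option autoImplicit false

namespace Cfsg.Agent.LargeExtra.KOneFus

open Cfsg.Agent.Co2Type.Quad Cfsg.Agent.LargeExtra.Base Cfsg.Agent.LargeExtra.Local
open Cfsg.Agent.LargeExtra.KillSiegel Cfsg.Agent.LargeExtra.KOneQuot

variable {G : Type*} [Group G] {Q : Subgroup G} {z ρ : G}

theorem pow_four (h : Large Q z) {x : G} (hx : x ∈ Q) : x * x * (x * x) = 1 := by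
  rcases h.sq x hx with h1 | h1
  · rw [h1, one_mul]
  · rw [h1]; exact h.z_sq

theorem fus (h : Large Q z) (hρz : ρ * z = z * ρ) (h3 : ρ * ρ * ρ = 1)
    (hL : Large (QB Q ρ) (mk ρ (zK hρz)))
    (hfus : ∀ x : Q, (x : G) * x = 1 → (x : G) ≠ 1 → (x : G) ≠ z →
      ∃ A, ∃ p : Pair Q z A x, ∀ v ∈ p.D, v = 0 ∨ v = p.va)
    (x : QB Q ρ) (hx : (x : KB ρ) * x = 1) (hx1 : (x : KB ρ) ≠ 1)
    (hxz : (x : KB ρ) ≠ mk ρ (zK hρz)) :
    ∃ A', ∃ p' : Pair (QB Q ρ) (mk ρ (zK hρz)) A' (x : KB ρ), ∀ v ∈ p'.D, v = 0 ∨ v = p'.va := by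
  obtain ⟨x, hxQ⟩ := x
  obtain ⟨k, hk, rfl⟩ := hxQ
  have hkQ : (k : G) ∈ Q := hk
  have hkk : k * k = 1 := one_of_mk h h3 (Q.mul_mem hkQ hkQ) (by rw [map_mul]; exact hx)
  have hk1 : (k : G) ≠ 1 := fun h1 => hx1 (by
    show mk ρ k = 1
    rw [show k = 1 from Subtype.ext h1, map_one])
  have hkz : (k : G) ≠ z := fun h1 => hxz (by
    show mk ρ k = mk ρ (zK hρz)
    rw [show k = zK hρz from Subtype.ext h1])
  have hkρ : ρ * (k : G) = k * ρ := (Subgroup.mem_centralizer_singleton_iff.1 k.2).symm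
  obtain ⟨A, p, hD⟩ := hfus ⟨k, hkQ⟩ (congrArg Subtype.val hkk) hk1 hkz
  have p0 : Pair Q z A (k : G) := p
  obtain ⟨w1, hw1, hρw1, hw1k⟩ := exists_cent h hρz h3 hkQ hkρ hk1 hkz
  obtain ⟨w2, hw2, hρw2, hw2z⟩ := exists_cent p0.la hkρ h3 p0.z_mem hρz h.z_ne (Ne.symm hkz)
  have hw2z' : w2 * z ≠ z * w2 := by
    rw [hw2z]
    intro h1
    exact p0.la.z_ne (mul_eq_left.1 h1)
  obtain ⟨c1, -⟩ := KillEta.y_conj p0 hw2 hw2z'
  have hconj : (w1 * w2) * z * (w1 * w2)⁻¹ = k := by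
    have e1 : w1 * z * w1⁻¹ = z := by rw [h.comm_z w1 hw1]; group
    have e2 : w1 * k * w1⁻¹ = k * z := by
      rw [hw1k, mul_assoc (k : G) w1 z, h.comm_z w1 hw1]; group
    calc (w1 * w2) * z * (w1 * w2)⁻¹ = w1 * (w2 * z * w2⁻¹) * w1⁻¹ := by group
      _ = (w1 * z * w1⁻¹) * (w1 * k * w1⁻¹) := by rw [c1]; group
      _ = z * (k * z) := by rw [e1, e2]
      _ = k := by
        rw [h.comm_z k hkQ, ← mul_assoc, h.z_sq, one_mul]
  set g : Subgroup.centralizer ({ρ} : Set G) := ⟨w1 * w2,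
    Subgroup.mem_centralizer_singleton_iff.2 (by
      rw [mul_assoc, ← hρw2, ← mul_assoc, ← hρw1, mul_assoc])⟩ with hg
  have hgk : mk ρ g * mk ρ (zK hρz) * (mk ρ g)⁻¹ = mk ρ k := by
    rw [← map_mul, ← map_inv, ← map_mul]
    congr 1
    exact Subtype.ext hconj
  have p' : Pair (QB Q ρ) (mk ρ (zK hρz))
      ((QB Q ρ).map (MulAut.conj (mk ρ g)).toMonoidHom) (mk ρ k) := by
    have := pair_of_conj hL (g := mk ρ g) (by rw [hgk]; exact ⟨k, hk, rfl⟩) (by rw [hgk]; exact hxz)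
    rwa [hgk] at this
  refine ⟨_, p', ?_⟩
  intro v hv
  obtain ⟨⟨y, hyQ⟩, hy, rfl⟩ := hv
  obtain ⟨m, hm, hmy⟩ := hyQ
  obtain ⟨t, ht, hty⟩ := hy
  obtain ⟨n, hn, rfl⟩ := ht
  have hmQ : (m : G) ∈ Q := hm
  have hnQ : (n : G) ∈ Q := hn
  have hty' : mk ρ g * mk ρ n * (mk ρ g)⁻¹ = y := hty
  set s := g * n * g⁻¹ with hs
  have hsA : (s : G) ∈ A := KillEta.conj_mem_of p0 hconj hnQ
  have hsm : mk ρ s = mk ρ m := by
    rw [hmy, ← hty', hs, map_mul, map_mul, map_inv]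
  set r := s⁻¹ * m with hr
  have hrR : r ∈ R ρ := by rw [← mk_eq_one, hr, map_mul, map_inv, hsm, inv_mul_cancel]
  have hmsr : m = s * r := by rw [hr]; group
  have hr4 : r * r * (r * r) = 1 := by
    have h4 : m * m * (m * m) = 1 := Subtype.ext (pow_four h hmQ)
    have h5 : s * s * (s * s) = 1 := Subtype.ext (pow_four p0.la hsA)
    have hc := comm_R hrR s
    have e : m * m * (m * m) = s * s * (s * s) * (r * r * (r * r)) := by
      rw [hmsr]
      have c : Commute s r := hc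
      have : ∀ a b : Subgroup.centralizer ({ρ} : Set G), Commute a b →
          a * b * (a * b) * (a * b * (a * b)) = a * a * (a * a) * (b * b * (b * b)) := by
        intro a b hab
        have h1 : a * b * (a * b) = a * a * (b * b) := by
          calc a * b * (a * b) = a * (b * a) * b := by group
            _ = a * (a * b) * b := by rw [hab.eq]
            _ = _ := by group
        have h2 : Commute (a * a) (b * b) := (hab.mul_left hab).mul_right (hab.mul_left hab)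
        rw [h1]
        calc a * a * (b * b) * (a * a * (b * b)) = a * a * ((b * b) * (a * a)) * (b * b) := by group
          _ = a * a * ((a * a) * (b * b)) * (b * b) := by rw [h2.eq]
          _ = _ := by group
      exact this s r c
    rw [e, h5, one_mul] at h4
    exact h4
  have hr1 : r = 1 := by
    have h6 := cube_R h3 hrR
    have : r * r * (r * r) = r * r * r * r := by group
    rw [this, h6, one_mul] at hr4
    exact hr4
  have hms : m = s := by rw [hmsr, hr1, mul_one]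
  have hmA : (m : G) ∈ A := by rw [hms]; exact hsA
  have hpr : ∀ (hyQ : y ∈ QB Q ρ), p'.lz.pr ⟨y, hyQ⟩ = 0 ∨ p'.lz.pr ⟨y, hyQ⟩ = p'.va := by
    intro hyQ
    rcases KillCommute.mem_D4 p0 hD hmQ hmA with h1 | h1 | h1 | h1
    · left
      apply p'.lz.pr_eq_zero.2
      left
      show y = 1
      rw [← hmy, show m = 1 from Subtype.ext h1, map_one]
    · left
      apply p'.lz.pr_eq_zero.2
      right
      show y = mk ρ (zK hρz)
      rw [← hmy, show m = zK hρz from Subtype.ext h1]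
    · right
      apply p'.lz.pr_eq_pr.2
      left
      show y = mk ρ k
      rw [← hmy, show m = k from Subtype.ext h1]
    · right
      apply p'.lz.pr_eq_pr.2
      right
      show y = mk ρ k * mk ρ (zK hρz)
      rw [← hmy, ← map_mul, show m = k * zK hρz from Subtype.ext h1]
  exact hpr _

/-- the image in the quotient of a subgroup of `C_Q(ρ)` -/
def im (B : Subgroup G) (ρ : G) : Subgroup (KB ρ) :=
  (B.subgroupOf (Subgroup.centralizer ({ρ} : Set G))).map (mk ρ)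

theorem card_im (h : Large Q z) (h3 : ρ * ρ * ρ = 1) {B : Subgroup G} (hB : B ≤ Q)
    (hBρ : ∀ b ∈ B, ρ * b = b * ρ) : Nat.card (im B ρ) = Nat.card B := by
  have hle : B ≤ Subgroup.centralizer ({ρ} : Set G) := fun b hb =>
    Subgroup.mem_centralizer_singleton_iff.2 (hBρ b hb).symm
  have h1 : Nat.card (B.subgroupOf (Subgroup.centralizer ({ρ} : Set G))) = Nat.card B :=
    Nat.card_congr (Subgroup.subgroupOfEquivOfLe hle).toEquiv
  rw [← h1]
  symm
  refine Nat.card_eq_of_bijective (fun b : B.subgroupOf (Subgroup.centralizer ({ρ} : Set G)) =>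
    (⟨mk ρ b, b, b.2, rfl⟩ : im B ρ)) ⟨?_, ?_⟩
  · intro b b' hb
    apply Subtype.ext
    exact eq_of_mk h h3 (hB b.2) (hB b'.2) (congrArg Subtype.val hb)
  · rintro ⟨y, b, hb, rfl⟩
    exact ⟨⟨b, hb⟩, rfl⟩

theorem card_QB [Finite G] (h : Large Q z) (hρz : ρ * z = z * ρ) (h3 : ρ * ρ * ρ = 1) :
    Nat.card (QB Q ρ) = 2 * Nat.card (sub h (Subgroup.centralizer ({ρ} : Set G))) := by
  have hz : z ∈ Subgroup.centralizer ({ρ} : Set G) :=
    Subgroup.mem_centralizer_singleton_iff.2 hρz.symm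
  rw [← card_sub h hz]
  have e : QB Q ρ = im (Subgroup.centralizer ({ρ} : Set G) ⊓ Q) ρ := by
    ext x
    constructor
    · rintro ⟨k, hk, rfl⟩
      exact ⟨k, ⟨k.2, hk⟩, rfl⟩
    · rintro ⟨k, hk, rfl⟩
      exact ⟨k, (Subgroup.mem_inf.1 hk).2, rfl⟩
  rw [e]
  exact card_im h h3 inf_le_right (fun b hb =>
    (Subgroup.mem_centralizer_singleton_iff.1 (Subgroup.mem_inf.1 hb).1).symm)

end Cfsg.Agent.LargeExtra.KOneFus
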