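import Cfsg.Agent.LargeExtra.KillPlus

/-!
# Elements of order 3 in `C(z)` (helper915): `C_G(ρ) / ⟨ρ⟩` is again large extraspecial
-/

set_option autoImplicit false

namespace Cfsg.Agent.LargeExtra.KOneQuot

open Cfsg.Agent.Co2Type.Quad Cfsg.Agent.LargeExtra.Base Cfsg.Agent.LargeExtra.Local
open Cfsg.Agent.LargeExtra.KillSiegel

variable {G : Type*} [Group G] {Q : Subgroup G} {z ρ : G}

theorem eq_one_of_cube (h : Large Q z) {x : G} (hx : x ∈ Q) (h3 : x * x * x = 1) : x = 1 := by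
  rcases h.sq x hx with h1 | h1
  · rw [h1, one_mul] at h3; exact h3
  · have h2 : x * x * (x * x) = 1 := by rw [h1]; exact h.z_sq
    have h4 : x * x * (x * x) = (x * x * x) * x := by group
    rw [h4, h3, one_mul] at h2
    exact h2

/-- `x ∈ Q` commutes with `ρ` as soon as its image is fixed -/
theorem comm_of_fix (h : Large Q z) (hρz : ρ * z = z * ρ) (h3 : ρ * ρ * ρ = 1) {x : G}
    (hx : ρ * x * ρ⁻¹ = x ∨ ρ * x * ρ⁻¹ = x * z) : ρ * x = x * ρ := by
  rcases hx with h1 | h1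
  · rw [mul_inv_eq_iff_eq_mul] at h1; exact h1
  · exfalso
    apply h.z_ne
    have hzz : ρ * z * ρ⁻¹ = z := by rw [hρz]; group
    have h2 : ρ * (ρ * x * ρ⁻¹) * ρ⁻¹ = x := by
      rw [h1]
      calc ρ * (x * z) * ρ⁻¹ = (ρ * x * ρ⁻¹) * (ρ * z * ρ⁻¹) := by group
        _ = x * (z * z) := by rw [h1, hzz]; group
        _ = x := by rw [h.z_sq, mul_one]
    have h4 : ρ * (ρ * (ρ * x * ρ⁻¹) * ρ⁻¹) * ρ⁻¹ = x := by
      calc ρ * (ρ * (ρ * x * ρ⁻¹) * ρ⁻¹) * ρ⁻¹ = (ρ * ρ * ρ) * x * (ρ * ρ * ρ)⁻¹ := by group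
        _ = x := by rw [h3]; group
    rw [h2, h1] at h4
    exact mul_eq_left.1 h4

/-- `C_Q(ρ)` is large: some element of `C_Q(ρ)` does not commute with a given `x ∈ C_Q(ρ) ∖ ⟨z⟩` -/
theorem exists_cent (h : Large Q z) (hρz : ρ * z = z * ρ) (h3 : ρ * ρ * ρ = 1) {x : G}
    (hx : x ∈ Q) (hxρ : ρ * x = x * ρ) (hx1 : x ≠ 1) (hxz : x ≠ z) :
    ∃ y ∈ Q, ρ * y = y * ρ ∧ y * x = x * y * z := by
  set ρ' : Subgroup.centralizer ({z} : Set G) := ⟨ρ, Subgroup.mem_centralizer_singleton_iff.2 hρz⟩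
    with hρ'
  set f := h.act ρ' with hf
  have hf3 : ∀ v, f (f (f v)) = v := by
    intro v
    have h1 : ρ' * ρ' * ρ' = 1 := Subtype.ext h3
    have h2 : h.act (ρ' * ρ' * ρ') = 1 := by rw [h1, map_one]
    rw [map_mul, map_mul] at h2
    have := congrArg (fun g : h.V ≃ₗ[ZMod 2] h.V => g v) h2
    exact this
  obtain ⟨y, hy, hyx⟩ := exists_not_comm h hx hx1 hxz
  have hfx : f (h.pr ⟨x, hx⟩) = h.pr ⟨x, hx⟩ := by
    apply Base.Pair.act_pr_coe
    show ρ * x * ρ⁻¹ = x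
    rw [hxρ]; group
  have hb : h.b (h.pr ⟨y, hy⟩) (h.pr ⟨x, hx⟩) = 1 := (h.b_pr_one _ _).2 hyx
  have hfb : ∀ v w, h.b (f v) (f w) = h.b v w := fun v w => h.b_act ρ' v w
  -- the projection of `y`
  set v := h.pr ⟨y, hy⟩ with hv
  set w := v + f v + f (f v) with hw
  have hfw : f w = w := by
    rw [hw, map_add, map_add, hf3]; abel
  have hbw : h.b w (h.pr ⟨x, hx⟩) = 1 := by
    have e1 : h.b (f v) (h.pr ⟨x, hx⟩) = 1 := by
      rw [← hfx, hfb]; exact hb
    have e2 : h.b (f (f v)) (h.pr ⟨x, hx⟩) = 1 := by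
      rw [← hfx, hfb]; exact e1
    rw [hw, map_add, map_add, LinearMap.add_apply, LinearMap.add_apply, hb, e1, e2]
    decide
  obtain ⟨y', hy'⟩ := h.pr_surjective w
  have h4 : ρ * (y' : G) = y' * ρ := by
    apply comm_of_fix h hρz h3
    rw [← hy', h.act_pr, h.pr_eq_pr, h.conjQ_coe] at hfw
    exact hfw
  refine ⟨y', y'.2, h4, ?_⟩
  rw [← hy'] at hbw
  exact (h.b_pr_one y' ⟨x, hx⟩).1 hbw

/-! ### the quotient `C_G(ρ) / ⟨ρ⟩` -/

/-- `ρ` as an element of its centraliser -/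
def rho (ρ : G) : Subgroup.centralizer ({ρ} : Set G) :=
  ⟨ρ, Subgroup.mem_centralizer_singleton_iff.2 rfl⟩

/-- the subgroup `⟨ρ⟩` of `C_G(ρ)` -/
def R (ρ : G) : Subgroup (Subgroup.centralizer ({ρ} : Set G)) := Subgroup.zpowers (rho ρ)

theorem comm_rho (k : Subgroup.centralizer ({ρ} : Set G)) : k * rho ρ = rho ρ * k :=
  Subtype.ext (Subgroup.mem_centralizer_singleton_iff.1 k.2)

theorem comm_R {r : Subgroup.centralizer ({ρ} : Set G)} (hr : r ∈ R ρ)
    (k : Subgroup.centralizer ({ρ} : Set G)) : k * r = r * k := by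
  obtain ⟨i, rfl⟩ := Subgroup.mem_zpowers_iff.1 hr
  exact (Commute.zpow_right (comm_rho k : Commute k (rho ρ)) i).eq

instance : (R ρ).Normal := ⟨fun r hr k => by rw [comm_R hr, mul_inv_cancel_right]; exact hr⟩

theorem cube_R (h3 : ρ * ρ * ρ = 1) {r : Subgroup.centralizer ({ρ} : Set G)} (hr : r ∈ R ρ) :
    r * r * r = 1 := by
  obtain ⟨i, rfl⟩ := Subgroup.mem_zpowers_iff.1 hr
  have h1 : rho ρ ^ (3 : ℤ) = 1 := by
    apply Subtype.ext
    show ρ ^ (3 : ℤ) = 1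
    rw [show (3 : ℤ) = 1 + 1 + 1 by norm_num, zpow_add, zpow_add, zpow_one, h3]
  rw [← zpow_add, ← zpow_add]
  have : i + i + i = 3 * i := by ring
  rw [this, zpow_mul, h1, one_zpow]

/-- the quotient group -/
abbrev KB (ρ : G) : Type _ := Subgroup.centralizer ({ρ} : Set G) ⧸ R ρ

def mk (ρ : G) : Subgroup.centralizer ({ρ} : Set G) →* KB ρ := QuotientGroup.mk' (R ρ)

theorem mk_surjective : Function.Surjective (mk ρ) := QuotientGroup.mk'_surjective _

theorem mk_eq_one {k : Subgroup.centralizer ({ρ} : Set G)} : mk ρ k = 1 ↔ k ∈ R ρ :=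
  QuotientGroup.eq_one_iff k

/-- the image of `Q` -/
def QB (Q : Subgroup G) (ρ : G) : Subgroup (KB ρ) :=
  (Q.subgroupOf (Subgroup.centralizer ({ρ} : Set G))).map (mk ρ)

theorem mem_QB {x : KB ρ} : x ∈ QB Q ρ ↔
    ∃ k : Subgroup.centralizer ({ρ} : Set G), (k : G) ∈ Q ∧ mk ρ k = x := Iff.rfl

theorem one_of_mk (h : Large Q z) (h3 : ρ * ρ * ρ = 1) {k : Subgroup.centralizer ({ρ} : Set G)}
    (hk : (k : G) ∈ Q) (h1 : mk ρ k = 1) : k = 1 := by
  have h2 := cube_R h3 (mk_eq_one.1 h1)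
  apply Subtype.ext
  exact eq_one_of_cube h hk (congrArg Subtype.val h2)

theorem eq_of_mk (h : Large Q z) (h3 : ρ * ρ * ρ = 1) {k k' : Subgroup.centralizer ({ρ} : Set G)}
    (hk : (k : G) ∈ Q) (hk' : (k' : G) ∈ Q) (h1 : mk ρ k = mk ρ k') : k = k' := by
  have h2 : k'⁻¹ * k = 1 := by
    apply one_of_mk h h3 (Q.mul_mem (Q.inv_mem hk') hk)
    rw [map_mul, map_inv, h1, inv_mul_cancel]
  exact (inv_mul_eq_one.1 h2).symm

/-- `z` as an element of `C_G(ρ)` -/
def zK (hρz : ρ * z = z * ρ) : Subgroup.centralizer ({ρ} : Set G) :=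
  ⟨z, Subgroup.mem_centralizer_singleton_iff.2 hρz.symm⟩

/-- commuting in the quotient, one factor an involution -/
theorem comm_of_mk (h3 : ρ * ρ * ρ = 1) {k a : Subgroup.centralizer ({ρ} : Set G)}
    (ha : a * a = 1) (h1 : mk ρ k * mk ρ a = mk ρ a * mk ρ k) : k * a = a * k := by
  set r := (a * k)⁻¹ * (k * a) with hr
  have hrR : r ∈ R ρ := by
    rw [← mk_eq_one, hr, map_mul, map_inv, map_mul, map_mul, h1, inv_mul_cancel]
  have h2 : k * a = a * k * r := by rw [hr]; group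
  have h4 : k * a * k⁻¹ = a * r := by rw [h2, mul_assoc a k r, comm_R hrR k]; group
  have h5 : (k * a * k⁻¹) * (k * a * k⁻¹) = 1 := by
    calc (k * a * k⁻¹) * (k * a * k⁻¹) = k * (a * a) * k⁻¹ := by group
      _ = 1 := by rw [ha]; group
  rw [h4] at h5
  have h6 : r * r = 1 := by
    calc r * r = (a * a) * (r * r) := by rw [ha, one_mul]
      _ = a * (a * r) * r := by group
      _ = a * (r * a) * r := by rw [comm_R hrR a]
      _ = a * r * (a * r) := by group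
      _ = 1 := h5
  have h7 := cube_R h3 hrR
  rw [h6, one_mul] at h7
  rw [h2, h7, mul_one]

/-- **`C_G(ρ)/⟨ρ⟩` is large.** -/
theorem large (h : Large Q z) (hρz : ρ * z = z * ρ) (h3 : ρ * ρ * ρ = 1)
    (hself : ∀ k, k * z = z * k → k * ρ = ρ * k →
      (∀ x ∈ Q, ρ * x = x * ρ → k * x = x * k) → ∃ r ∈ R ρ, k * (r : G) ∈ Q) :
    Large (QB Q ρ) (mk ρ (zK hρz)) where
  z_mem := ⟨zK hρz, h.z_mem, rfl⟩
  z_ne := by
    intro h1
    apply h.z_ne
    exact congrArg Subtype.val (one_of_mk h h3 (k := zK hρz) h.z_mem h1)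
  z_sq := by
    rw [← map_mul, show zK hρz * zK hρz = 1 from Subtype.ext h.z_sq, map_one]
  comm_z := by
    rintro _ ⟨k, hk, rfl⟩
    rw [← map_mul, ← map_mul]
    congr 1
    exact Subtype.ext (h.comm_z k hk)
  conj_mem := by
    intro g hg
    obtain ⟨k, rfl⟩ := mk_surjective g
    rintro _ ⟨x, hx, rfl⟩
    have h1 : k * zK hρz = zK hρz * k := comm_of_mk h3 (Subtype.ext h.z_sq) hg
    have h2 : (k : G) * z = z * k := congrArg Subtype.val h1
    refine ⟨k * x * k⁻¹, h.conj_mem k h2 x hx, ?_⟩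
    rw [map_mul, map_mul, map_inv]
  sq := by
    rintro _ ⟨x, hx, rfl⟩
    rcases h.sq x hx with h1 | h1
    · left
      rw [← map_mul, show x * x = 1 from Subtype.ext h1, map_one]
    · right
      rw [← map_mul]
      congr 1
      exact Subtype.ext h1
  comm := by
    rintro _ ⟨x, hx, rfl⟩ _ ⟨y, hy, rfl⟩
    rcases h.comm x hx y hy with h1 | h1
    · left
      rw [← map_mul, ← map_mul]
      congr 1
      exact Subtype.ext h1
    · right
      rw [← map_mul, ← map_mul, ← map_mul]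
      congr 1
      exact Subtype.ext h1
  cent := by
    rintro _ ⟨x, hx, rfl⟩ hc
    by_contra hcon
    push Not at hcon
    have hx1 : (x : G) ≠ 1 := fun h1 => hcon.1 (by rw [show x = 1 from Subtype.ext h1, map_one])
    have hxz : (x : G) ≠ z := fun h1 => hcon.2 (by
      rw [show x = zK hρz from Subtype.ext h1])
    obtain ⟨y, hy, hρy, hyx⟩ := exists_cent h hρz h3 hx
      (Subgroup.mem_centralizer_singleton_iff.1 x.2).symm hx1 hxz
    set y' : Subgroup.centralizer ({ρ} : Set G) :=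
      ⟨y, Subgroup.mem_centralizer_singleton_iff.2 hρy.symm⟩ with hy'
    have h1 := hc _ ⟨y', hy, rfl⟩
    rw [← map_mul, ← map_mul] at h1
    have h2 := eq_of_mk h h3 (Q.mul_mem hx hy) (Q.mul_mem hy hx) h1
    have h4 : (x : G) * y = y * x := congrArg Subtype.val h2
    have hyx' : y * (x : G) = x * y * z := hyx
    rw [hyx'] at h4
    exact h.z_ne (mul_eq_left.1 h4.symm)
  self := by
    intro g hg hc
    obtain ⟨k, rfl⟩ := mk_surjective g
    have h1 : k * zK hρz = zK hρz * k := comm_of_mk h3 (Subtype.ext h.z_sq) hg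
    have h2 : (k : G) * z = z * k := congrArg Subtype.val h1
    obtain ⟨r, hr, hkr⟩ := hself k h2 (Subgroup.mem_centralizer_singleton_iff.1 k.2) (by
      intro x hx hρx
      set x' : Subgroup.centralizer ({ρ} : Set G) :=
        ⟨x, Subgroup.mem_centralizer_singleton_iff.2 hρx.symm⟩ with hx'
      have h4 := hc _ ⟨x', hx, rfl⟩
      rw [← mul_inv_eq_iff_eq_mul, ← map_mul, ← map_inv, ← map_mul] at h4
      have h5 := eq_of_mk h h3 (h.conj_mem k h2 x hx) hx h4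
      have h6 : (k : G) * x * (k : G)⁻¹ = x := congrArg Subtype.val h5
      rw [mul_inv_eq_iff_eq_mul] at h6
      exact h6)
    refine ⟨k * r, hkr, ?_⟩
    rw [map_mul, mk_eq_one.2 hr, mul_one]

end Cfsg.Agent.LargeExtra.KOneQuot
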