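import Cfsg.Agent.LargeExtra.KillFrame

/-!
# `F = C_G(B)` is elementary abelian and normalised by `Q` and `y' ∈ Q_e \ C(z)` (helper915)
-/

set_option autoImplicit false

namespace Cfsg.Agent.LargeExtra.KillAbel

open Cfsg.Agent.Co2Type.Quad Cfsg.Agent.LargeExtra.Base Cfsg.Agent.LargeExtra.Local
open Cfsg.Agent.LargeExtra.KillSiegel Cfsg.Agent.LargeExtra.KillFrame

theorem add_mem_of_card {V : Type*} [AddCommGroup V] [Finite V] {S T : AddSubgroup V} (hST : S ≤ T)
    (hc : Nat.card T ≤ 2 * Nat.card S) {x y : V} (hx : x ∈ T) (hy : y ∈ T) (hx' : x ∉ S)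
    (hy' : y ∉ S) : x + y ∈ S := by
  set H := S.addSubgroupOf T with hH
  have h1 : H.index * Nat.card H = Nat.card T := AddSubgroup.index_mul_card H
  have h2 : Nat.card H = Nat.card S := Nat.card_congr (AddSubgroup.addSubgroupOfEquivOfLe hST).toEquiv
  have h3 : 0 < Nat.card S := Nat.card_pos
  rw [h2] at h1
  have h4 : H.index ≤ 2 := by
    rw [← h1] at hc
    exact Nat.le_of_mul_le_mul_right hc h3
  have h5 : H.index ≠ 1 := by
    rw [Ne, AddSubgroup.index_eq_one]
    intro h
    apply hx'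
    have : (⟨x, hx⟩ : T) ∈ H := by rw [h]; trivial
    exact this
  have h6 : H.index ≠ 0 := AddSubgroup.index_ne_zero_of_finite
  have h7 : H.index = 2 := by omega
  have h8 : (⟨x, hx⟩ + ⟨y, hy⟩ : T) ∈ H := by
    rw [AddSubgroup.add_mem_iff_of_index_two h7]
    constructor
    · intro h; exact absurd h hx'
    · intro h; exact absurd h hy'
  exact h8

variable {G : Type*} [Group G] {Q B : Subgroup G} {z : G}

theorem four_le_span [Finite G] (h : Large Q z) {e t : h.V} (he : e ≠ 0) (ht : t ≠ 0)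
    (hte : t ≠ e) : 4 ≤ Nat.card (Submodule.span (ZMod 2) ({e, t} : Set h.V)) := by
  let f : (ZMod 2 × ZMod 2) → Submodule.span (ZMod 2) ({e, t} : Set h.V) := fun c =>
    ⟨c.1 • e + c.2 • t, Submodule.add_mem _
      (Submodule.smul_mem _ _ (Submodule.subset_span (by simp)))
      (Submodule.smul_mem _ _ (Submodule.subset_span (by simp)))⟩
  have hker : ∀ c d : ZMod 2, c • e + d • t = 0 → c = 0 ∧ d = 0 := by
    intro c d hcd
    rcases zmod2 c with h1 | h1 <;> rcases zmod2 d with h2 | h2 <;> rw [h1, h2] at hcd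
    · exact ⟨h1, h2⟩
    · rw [zero_smul, one_smul, zero_add] at hcd; exact absurd hcd ht
    · rw [zero_smul, one_smul, add_zero] at hcd; exact absurd hcd he
    · rw [one_smul, one_smul, add_eq_zero_iff_eq_neg, h.neg_eq] at hcd
      exact absurd hcd.symm hte
  have hinj : Function.Injective f := by
    rintro ⟨c, d⟩ ⟨c', d'⟩ hcd
    have h1 : c • e + d • t = c' • e + d' • t := congrArg Subtype.val hcd
    have h2 : (c + c') • e + (d + d') • t = 0 := by
      have : (c + c') • e + (d + d') • t = (c • e + d • t) + (c' • e + d' • t) := by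
        rw [add_smul, add_smul]; abel
      rw [this, h1, h.add_self]
    obtain ⟨h3, h4⟩ := hker _ _ h2
    rw [Prod.mk.injEq]
    constructor
    · revert h3; generalize c = α; generalize c' = β; revert α β; decide
    · revert h4; generalize d = α; generalize d' = β; revert α β; decide
  have := Nat.card_le_card_of_injective f hinj
  rwa [Nat.card_prod, Nat.card_zmod] at this

variable [Finite G]

theorem phi_perp (s : Frame Q B z) {c : Subgroup.centralizer ({z} : Set G)}
    (hc : (c : G) ∈ Subgroup.centralizer (B : Set G)) {v0 : s.lz.V}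
    (h0 : s.lz.act c v0 + v0 ≠ 0) {v : s.lz.V} (hv : s.lz.b (s.lz.act c v0 + v0) v = 0) :
    s.lz.act c v + v = 0 ∨ s.lz.act c v + v = s.lz.act c v0 + v0 := by
  by_contra hcon
  push Not at hcon
  obtain ⟨h1, h2⟩ := hcon
  have hzero : ∀ t ∈ s.T, s.lz.act c t + t = 0 := by
    intro t ht
    rw [s.act_T hc ht, s.lz.add_self]
  have k1 := s.phi_self hc v0
  have k2 := s.phi_self hc v
  have k3 := s.phi_symm hc v0 v
  have k4 := s.phi_T hc v0
  have k5 := s.phi_T hc v
  have hadd : s.lz.act c (v + v0) + (v + v0) = (s.lz.act c v + v) + (s.lz.act c v0 + v0) := by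
    rw [map_add]; abel
  rw [s.lz.b_comm v, hv] at k3
  set e := s.lz.act c v0 + v0 with he
  set t := s.lz.act c v + v with ht
  set S := Submodule.span (ZMod 2) ({e, t} : Set s.lz.V) with hS
  have h3 := four_le_span s.lz h0 h1 h2
  have h4 := Perp.card_perp s.lz S
  rw [s.card_V] at h4
  have h5 : Nat.card (s.lz.b.orthogonal S) ≤ 16 := by
    by_contra hlt
    push Not at hlt
    have : 4 * 17 ≤ Nat.card S * Nat.card (s.lz.b.orthogonal S) := Nat.mul_le_mul h3 hlt
    omega
  have hperp : ∀ u, s.lz.b e u = 0 → s.lz.b t u = 0 → u ∈ s.lz.b.orthogonal S := by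
    intro u hu1 hu2
    rw [Perp.mem_perp]
    intro y hy
    obtain ⟨c, d, rfl⟩ := Submodule.mem_span_pair.1 hy
    rw [map_add, map_smul, map_smul, LinearMap.add_apply, LinearMap.smul_apply,
      LinearMap.smul_apply, hu1, hu2, smul_zero, smul_zero, add_zero]
  have hv' : v ∈ s.lz.b.orthogonal S := hperp v hv (by rw [s.lz.b_comm]; exact k2)
  have hv0' : v0 ∈ s.lz.b.orthogonal S :=
    hperp v0 (by rw [s.lz.b_comm]; exact k1) (by rw [s.lz.b_comm]; exact k3)
  have hTle : s.T.toAddSubgroup ≤ (s.lz.b.orthogonal S).toAddSubgroup := by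
    intro u hu
    exact hperp u (s.b_T k4 hu) (s.b_T k5 hu)
  have hvT : v ∉ s.T := fun h => h1 (hzero v h)
  have hv0T : v0 ∉ s.T := fun h => h0 (hzero v0 h)
  have hc8 := s.card_T
  have h6 : v + v0 ∈ s.T := by
    have := add_mem_of_card hTle (x := v) (y := v0) (by
      have e1 : Nat.card (s.lz.b.orthogonal S).toAddSubgroup = Nat.card (s.lz.b.orthogonal S) := rfl
      have e2 : Nat.card s.T.toAddSubgroup = Nat.card s.T := rfl
      rw [e1, e2, hc8]; omega) hv' hv0' hvT hv0T
    exact this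
  have h7 := hzero _ h6
  rw [hadd, add_eq_zero_iff_eq_neg, s.lz.neg_eq] at h7
  exact h2 h7

theorem eta_cent (s : Frame Q B z) {A : Subgroup G} {e : G} (p : Pair Q z A e)
    (hD : ∀ v ∈ p.D, v = 0 ∨ v = p.va) (he : e ∈ B) {r y' : G} (hr : r ∈ B) (hy' : y' ∈ A)
    (hyz : y' * z ≠ z * y') : y' * r * y'⁻¹ * r⁻¹ ∈ Subgroup.centralizer (B : Set G) := by
  rw [Subgroup.mem_centralizer_iff]
  intro b hb
  have hre := s.comm hr he
  have hrT : s.lz.pr ⟨r, s.le hr⟩ ∈ s.T := (s.mem_T _).2 hr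
  have hbT : s.lz.pr ⟨b, s.le hb⟩ ∈ s.T := (s.mem_T _).2 hb
  have heT : s.lz.pr ⟨e, s.le he⟩ ∈ s.T := (s.mem_T _).2 he
  exact KillCommute.commute_of_perp p hD (by rw [show Nat.card p.lz.V = Nat.card s.lz.V from rfl,
    s.card_V]) s.fus (KillEta.eta_mem p hre hy') (KillEta.eta_comm p (s.le hr) hre hy' hyz)
    (w := s.lz.pr ⟨r, s.le hr⟩) (s.b_T heT hrT) (s.q_T hrT)
    (fun v hv => KillEta.eta_act p hD (s.le hr) hre hy' hyz v hv) (s.le hb) (s.comm hb he)
    (s.b_T hrT hbT)

theorem conj_cent (s : Frame Q B z) {A : Subgroup G} {e : G} (p : Pair Q z A e)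
    (hD : ∀ v ∈ p.D, v = 0 ∨ v = p.va) (he : e ∈ B) {r y' : G} (hr : r ∈ B) (hy' : y' ∈ A)
    (hyz : y' * z ≠ z * y') : y' * r * y'⁻¹ ∈ Subgroup.centralizer (B : Set G) := by
  have := Subgroup.mul_mem _ (eta_cent s p hD he hr hy' hyz) (s.B_le hr)
  have e : y' * r * y'⁻¹ * r⁻¹ * r = y' * r * y'⁻¹ := by group
  rwa [e] at this

/-- every element of `F` lies in `B B^{y'}` for some `e` -/
theorem decomp (s : Frame Q B z) {g : G} (hg : g ∈ Subgroup.centralizer (B : Set G)) :
    ∃ e ∈ B, ∃ A, ∃ p : Pair Q z A e, (∀ v ∈ p.D, v = 0 ∨ v = p.va) ∧ ∃ b ∈ B, ∃ r ∈ B,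
      ∃ y' ∈ A, y' * z ≠ z * y' ∧ g = b * (y' * r * y'⁻¹) := by
  have hpair : ∀ t ∈ s.T, t ≠ 0 → ∃ e : Q, (e : G) ∈ B ∧ s.lz.pr e = t ∧ ∃ A,
      ∃ p : Pair Q z A e, (∀ v ∈ p.D, v = 0 ∨ v = p.va) ∧ ∃ y' ∈ A, y' * z ≠ z * y' := by
    intro t ht ht0
    obtain ⟨e, he, rfl⟩ := ht
    have he1 : (e : G) ≠ 1 := fun h => ht0 (s.lz.pr_eq_zero.2 (Or.inl h))
    have hez : (e : G) ≠ z := fun h => ht0 (s.lz.pr_eq_zero.2 (Or.inr h))
    obtain ⟨A, p, hD⟩ := s.fus e (s.sq e he) he1 hez
    obtain ⟨y', hy', hy⟩ := exists_not_comm p.la p.z_mem p.lz.z_ne p.ne.symm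
    refine ⟨e, he, rfl, A, p, hD, y', hy', ?_⟩
    rw [hy]
    intro h
    exact p.la.z_ne (mul_eq_left.1 h)
  set c : Subgroup.centralizer ({z} : Set G) :=
    ⟨g, Subgroup.mem_centralizer_singleton_iff.2 (s.comm_z hg)⟩ with hc
  by_cases hgB : g ∈ B
  · -- any `e` will do
    obtain ⟨t, ht, ht0⟩ : ∃ t ∈ s.T, t ≠ 0 := by
      by_contra hcon
      push Not at hcon
      have h1 := s.card_T
      have h2 : Nat.card s.T ≤ 1 := by
        rw [Finite.card_le_one_iff_subsingleton]
        refine ⟨fun x y => Subtype.ext ?_⟩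
        rw [hcon _ x.2, hcon _ y.2]
      omega
    obtain ⟨e, he, -, A, p, hD, y', hy', hyz⟩ := hpair t ht ht0
    exact ⟨e, he, A, p, hD, g, hgB, 1, B.one_mem, y', hy', hyz, by group⟩
  · obtain ⟨v0, hv0⟩ : ∃ v0, s.lz.act c v0 + v0 ≠ 0 := by
      by_contra hcon
      push Not at hcon
      apply hgB
      apply s.mem_of_act (c := c) hg
      intro v
      have := hcon v
      rwa [add_eq_zero_iff_eq_neg, s.lz.neg_eq] at this
    have hTe := s.phi_T (c := c) hg v0
    have hperp := fun v hv => phi_perp s (c := c) hg hv0 (v := v) hv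
    have hphie : s.lz.act c (s.lz.act c v0 + v0) + (s.lz.act c v0 + v0) = 0 := by
      rw [s.act_T (c := c) hg hTe, s.lz.add_self]
    obtain ⟨e, he, hee, A, p, hD, y', hy', hyz⟩ := hpair _ hTe hv0
    set t := s.lz.act c v0 + v0 with ht
    have hva : p.va = t := hee
    obtain ⟨u, hu⟩ : ∃ u, s.lz.b u t = 1 := by
      by_contra hcon
      push Not at hcon
      apply hv0
      apply s.lz.b_nondeg
      intro w
      rw [s.lz.b_comm]
      rcases zmod2 (s.lz.b w t) with h1 | h1
      · exact h1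
      · exact absurd h1 (hcon w)
    obtain ⟨w, hw⟩ := s.lz.exists_b_eq ((s.lz.b u).comp ((s.lz.act c).toLinearMap + LinearMap.id))
    have hw' : ∀ v, s.lz.b w v = s.lz.b u (s.lz.act c v + v) := fun v => hw v
    have hact : ∀ v, s.lz.b t v = 0 → s.lz.act c v = v + s.lz.b w v • t := by
      intro v hv
      have h6 : s.lz.act c v = v + (s.lz.act c v + v) := by
        have : v + (s.lz.act c v + v) = s.lz.act c v + (v + v) := by abel
        rw [this, s.lz.add_self, add_zero]
      rcases hperp v hv with h1 | h1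
      · rw [hw', h1, map_zero, zero_smul, add_zero]
        rw [h1, add_zero] at h6
        exact h6
      · rw [hw', h1, hu, one_smul]
        rw [h1] at h6
        exact h6
    have hwT : w ∈ s.T := by
      apply s.mem_T_of_perp
      intro t' ht'
      rw [s.lz.b_comm, hw', s.act_T (c := c) hg ht', s.lz.add_self, map_zero]
    obtain ⟨r, hr, hrw⟩ := hwT
    have hre := s.comm hr he
    have hxF := eta_cent s p hD he hr hy' hyz
    have hxact := fun v hv => KillEta.eta_act p hD (s.le hr) hre hy' hyz v hv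
    have hxz := KillEta.eta_comm p (s.le hr) hre hy' hyz
    set x := y' * r * y'⁻¹ * (r : G)⁻¹ with hx
    set x' : Subgroup.centralizer ({z} : Set G) :=
      ⟨x, Subgroup.mem_centralizer_singleton_iff.2 hxz⟩ with hx'
    have hgx : s.lz.act c = s.lz.act x' := by
      apply eq_of_perp s.lz (fun v => s.lz.q_act c v) (fun v => s.lz.q_act x' v) (s.q_T hTe)
      intro v hv
      rw [hact v hv, ← hrw]
      have h7 := hxact v (by rw [hva]; exact hv)
      rw [h7, hva]
    have hgxB : g * x⁻¹ ∈ B := by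
      apply s.mem_of_act (c := c * x'⁻¹) (Subgroup.mul_mem _ hg (Subgroup.inv_mem _ hxF))
      intro v
      rw [map_mul, hgx, map_inv, mul_inv_cancel]
      rfl
    refine ⟨e, he, A, p, hD, g * x⁻¹ * (r : G)⁻¹, B.mul_mem hgxB (B.inv_mem hr), r, hr, y', hy',
      hyz, ?_⟩
    have h8 : (r : G) * x = x * r := Subgroup.mem_centralizer_iff.1 hxF r hr
    have h9 : y' * r * y'⁻¹ = x * r := by rw [hx]; group
    rw [h9, ← h8]
    group

theorem sq_one (s : Frame Q B z) {g : G} (hg : g ∈ Subgroup.centralizer (B : Set G)) :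
    g * g = 1 := by
  obtain ⟨e, he, A, p, hD, b, hb, r, hr, y', hy', hyz, rfl⟩ := decomp s hg
  have h1 := conj_cent s p hD he hr hy' hyz
  have h2 := Subgroup.mem_centralizer_iff.1 h1 b hb
  set t := y' * r * y'⁻¹ with ht
  have h3 : t * t = 1 := by
    have : t * t = y' * (r * r) * y'⁻¹ := by rw [ht]; group
    rw [this, s.sq r hr]; group
  calc b * t * (b * t) = b * (t * b) * t := by group
    _ = (b * b) * (t * t) := by rw [← h2]; group
    _ = 1 := by rw [s.sq b hb, h3, mul_one]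

theorem comm (s : Frame Q B z) {g g' : G} (hg : g ∈ Subgroup.centralizer (B : Set G))
    (hg' : g' ∈ Subgroup.centralizer (B : Set G)) : g * g' = g' * g := by
  have h1 := sq_one s (Subgroup.mul_mem _ hg hg')
  have hx' : g⁻¹ = g := inv_eq_of_mul_eq_one_left (sq_one s hg)
  have hy' : g'⁻¹ = g' := inv_eq_of_mul_eq_one_left (sq_one s hg')
  calc g * g' = (g * g')⁻¹ := (inv_eq_of_mul_eq_one_left h1).symm
    _ = g'⁻¹ * g⁻¹ := mul_inv_rev _ _
    _ = g' * g := by rw [hx', hy']

/-- `h` normalises `F` if `h⁻¹ B h ≤ F` and `h B h⁻¹ ≤ F` -/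
theorem mem_normalizer (s : Frame Q B z) {h : G}
    (h1 : ∀ b ∈ B, h * b * h⁻¹ ∈ Subgroup.centralizer (B : Set G))
    (h2 : ∀ b ∈ B, h⁻¹ * b * h ∈ Subgroup.centralizer (B : Set G)) :
    h ∈ Subgroup.normalizer (Subgroup.centralizer (B : Set G) : Set G) := by
  rw [Subgroup.mem_normalizer_iff]
  intro g
  constructor
  · intro hg
    rw [Subgroup.mem_centralizer_iff]
    intro b hb
    have h3 := comm s hg (h2 b hb)
    calc b * (h * g * h⁻¹) = h * ((h⁻¹ * b * h) * g) * h⁻¹ := by group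
      _ = h * (g * (h⁻¹ * b * h)) * h⁻¹ := by rw [h3]
      _ = _ := by group
  · intro hg
    rw [Subgroup.mem_centralizer_iff]
    intro b hb
    have h3 := comm s hg (h1 b hb)
    calc b * g = h⁻¹ * ((h * b * h⁻¹) * (h * g * h⁻¹)) * h := by group
      _ = h⁻¹ * ((h * g * h⁻¹) * (h * b * h⁻¹)) * h := by rw [h3]
      _ = _ := by group

theorem Q_le_normalizer (s : Frame Q B z) {y : G} (hy : y ∈ Q) :
    y ∈ Subgroup.normalizer (Subgroup.centralizer (B : Set G) : Set G) := by
  have key : ∀ y ∈ Q, ∀ b ∈ B, y * b * y⁻¹ ∈ B := by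
    intro y hy b hb
    rcases s.lz.comm y hy b (s.le hb) with h | h
    · rw [h, mul_inv_cancel_right]; exact hb
    · have e : y * b * y⁻¹ = b * z := by
        rw [h, mul_assoc b, s.lz.comm_z y hy]; group
      rw [e]; exact B.mul_mem hb s.z_mem
  apply mem_normalizer s
  · intro b hb; exact s.B_le (key y hy b hb)
  · intro b hb
    have := key y⁻¹ (Q.inv_mem hy) b hb
    rw [inv_inv] at this
    exact s.B_le this

theorem y_mem_normalizer (s : Frame Q B z) {A : Subgroup G} {e : G} (p : Pair Q z A e)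
    (hD : ∀ v ∈ p.D, v = 0 ∨ v = p.va) (he : e ∈ B) {y' : G} (hy' : y' ∈ A)
    (hyz : y' * z ≠ z * y') :
    y' ∈ Subgroup.normalizer (Subgroup.centralizer (B : Set G) : Set G) := by
  apply mem_normalizer s
  · intro b hb; exact conj_cent s p hD he hb hy' hyz
  · intro b hb
    have := conj_cent s p hD he hb (A.inv_mem hy') (by
      intro h
      apply hyz
      calc y' * z = y' * (z * y'⁻¹) * y' := by group
        _ = y' * (y'⁻¹ * z) * y' := by rw [h]
        _ = _ := by group)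
    rwa [inv_inv] at this

end Cfsg.Agent.LargeExtra.KillAbel
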