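import Cfsg.Agent.LargeExtra.KillSiegel

/-!
# The commutation lemma for Siegel elements of singular type (helper915)
-/

set_option autoImplicit false

namespace Cfsg.Agent.LargeExtra.KillCommute

open Cfsg.Agent.Co2Type.Quad Cfsg.Agent.LargeExtra.Base Cfsg.Agent.LargeExtra.Local
open Cfsg.Agent.LargeExtra.KillSiegel

variable {G : Type*} [Group G] {Q A : Subgroup G} {z a : G}

theorem mem_D4 (p : Pair Q z A a) (hD : ∀ v ∈ p.D, v = 0 ∨ v = p.va) {y : G} (hy : y ∈ Q)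
    (hy' : y ∈ A) : y = 1 ∨ y = z ∨ y = a ∨ y = a * z := by
  rcases hD _ ((p.pr_mem_D ⟨y, hy⟩).2 hy') with h | h
  · rcases p.lz.pr_eq_zero.1 h with h1 | h1
    · left; exact h1
    · right; left; exact h1
  · rcases p.lz.pr_eq_pr.1 h with h1 | h1
    · right; right; left; exact h1
    · right; right; right; exact h1

/-- the commutator `r x r⁻¹ x⁻¹` -/
def k (x r : G) : G := r * x * r⁻¹ * x⁻¹

theorem k_mul {x r r' : G} (h : r * k x r' = k x r' * r) : k x (r * r') = k x r' * k x r := by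
  unfold k at h ⊢
  calc r * r' * x * (r * r')⁻¹ * x⁻¹ = (r * (r' * x * r'⁻¹ * x⁻¹)) * (x * r⁻¹ * x⁻¹) := by group
    _ = _ := by rw [h]; group

theorem k_conj {x r c d : G} (hd : c⁻¹ * x * c = x * d) (hdr : d * r⁻¹ = r⁻¹ * d)
    (hc : c * k x r = k x r * c) : k x (c * r * c⁻¹) = k x r := by
  have h1 : k x (c * r * c⁻¹) = c * r * (c⁻¹ * x * c) * r⁻¹ * c⁻¹ * x⁻¹ := by unfold k; group
  rw [h1, hd]
  have h2 : c * r * (x * d) * r⁻¹ * c⁻¹ * x⁻¹ = c * (r * x * (d * r⁻¹)) * c⁻¹ * x⁻¹ := by group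
  rw [h2, hdr]
  have h3 : c * (r * x * (r⁻¹ * d)) * c⁻¹ * x⁻¹ = (c * k x r) * (x * d) * c⁻¹ * x⁻¹ := by
    unfold k; group
  rw [h3, hc, ← hd]
  group

theorem k_eq_one {x r : G} : k x r = 1 ↔ r * x = x * r := by
  unfold k
  rw [mul_inv_eq_one, mul_inv_eq_iff_eq_mul]

/-- If `act c` and `act x` commute on `ã^⊥`, then `c⁻¹ x c ∈ x D`. -/
theorem conj_x [Finite G] (p : Pair Q z A a) {x c : G} (hx : x ∈ A) (hxz : x * z = z * x)
    (hcz : c * z = z * c) (hca : c * a = a * c) {w : p.lz.V}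
    (hact : ∀ v, p.lz.b p.va v = 0 →
      p.lz.act ⟨x, Subgroup.mem_centralizer_singleton_iff.2 hxz⟩ v = v + p.lz.b w v • p.va)
    (hcw : p.lz.act ⟨c, Subgroup.mem_centralizer_singleton_iff.2 hcz⟩ w = w) :
    ∃ d ∈ Q, d ∈ A ∧ c⁻¹ * x * c = x * d := by
  set C := Subgroup.centralizer ({z} : Set G) with hC
  set x' : C := ⟨x, Subgroup.mem_centralizer_singleton_iff.2 hxz⟩ with hx'
  set c' : C := ⟨c, Subgroup.mem_centralizer_singleton_iff.2 hcz⟩ with hc'
  have hcva : p.lz.act c' p.va = p.va := by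
    apply Pair.act_pr_coe
    show c * a * c⁻¹ = a
    rw [hca]; group
  have h1 : p.lz.act (c'⁻¹ * x' * c') = p.lz.act x' := by
    apply eq_of_perp p.lz (e := p.va) (fun v => p.lz.q_act _ v) (fun v => p.lz.q_act _ v)
      (p.q_D p.va_mem_D)
    intro v hv
    have hv' : p.lz.b p.va (p.lz.act c' v) = 0 := by
      rw [← hcva, p.lz.b_act]; exact hv
    rw [map_mul, map_mul, hact v hv]
    show p.lz.act c'⁻¹ (p.lz.act x' (p.lz.act c' v)) = _
    rw [hact _ hv', map_add, map_smul]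
    have h2 : p.lz.act c'⁻¹ (p.lz.act c' v) = v := by
      have : (p.lz.act c'⁻¹ * p.lz.act c') v = v := by rw [← map_mul, inv_mul_cancel, map_one]; rfl
      exact this
    have h3 : p.lz.act c'⁻¹ p.va = p.va := by
      have : (p.lz.act c'⁻¹ * p.lz.act c') p.va = p.va := by
        rw [← map_mul, inv_mul_cancel, map_one]; rfl
      rw [← hcva]
      rw [show p.lz.act c'⁻¹ (p.lz.act c' p.va) = p.va from this]
      exact hcva.symm
    rw [h2, h3]
    congr 2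
    conv_lhs => rw [← hcw]
    rw [p.lz.b_act]
  refine ⟨x⁻¹ * (c⁻¹ * x * c), ?_, ?_, by group⟩
  · have h2 : p.lz.act (x'⁻¹ * (c'⁻¹ * x' * c')) = 1 := by
      rw [map_mul, h1, map_inv, inv_mul_cancel]
    exact p.lz.mem_of_act _ h2
  · refine A.mul_mem (A.inv_mem hx) ?_
    have h2 : c⁻¹ * a = a * c⁻¹ := by
      rw [inv_mul_eq_iff_eq_mul, ← mul_assoc, hca, mul_assoc, mul_inv_cancel, mul_one]
    have := p.conj_mem_A (c := c⁻¹) h2 hx
    rwa [inv_inv] at this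

section main

variable [Finite G] (p : Pair Q z A a)

/-- two vectors of `⟨ã, w⟩^⊥` which are not orthogonal -/
theorem exists_pair (h64 : 64 ≤ Nat.card p.lz.V) (w : p.lz.V) :
    ∃ u v, p.lz.b p.va u = 0 ∧ p.lz.b w u = 0 ∧ p.lz.b p.va v = 0 ∧ p.lz.b w v = 0 ∧
      p.lz.b u v = 1 := by
  classical
  by_contra hcon
  push Not at hcon
  set W : Submodule (ZMod 2) p.lz.V := Submodule.span (ZMod 2) ({p.va, w} : Set p.lz.V) with hW
  have hWc : Nat.card W ≤ 4 := by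
    have h1 : ∀ x : W, ∃ c : ZMod 2 × ZMod 2, c.1 • p.va + c.2 • w = (x : p.lz.V) := by
      intro x
      obtain ⟨c, d, hcd⟩ := Submodule.mem_span_pair.1 x.2
      exact ⟨(c, d), hcd⟩
    choose f hf using h1
    have h2 : Function.Injective f := by
      intro x y hxy
      apply Subtype.ext
      rw [← hf x, ← hf y, hxy]
    have := Nat.card_le_card_of_injective f h2
    simpa [Nat.card_prod, Nat.card_zmod] using this
  have hperp : ∀ u, u ∈ p.lz.b.orthogonal W ↔ p.lz.b p.va u = 0 ∧ p.lz.b w u = 0 := by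
    intro u
    rw [Perp.mem_perp]
    constructor
    · intro h
      exact ⟨h _ (Submodule.subset_span (by simp)), h _ (Submodule.subset_span (by simp))⟩
    · rintro ⟨h1, h2⟩ y hy
      obtain ⟨c, d, rfl⟩ := Submodule.mem_span_pair.1 hy
      rw [map_add, map_smul, map_smul, LinearMap.add_apply, LinearMap.smul_apply,
        LinearMap.smul_apply, h1, h2, smul_zero, smul_zero, add_zero]
  have hiso : ∀ u ∈ p.lz.b.orthogonal W, ∀ v ∈ p.lz.b.orthogonal W, p.lz.b u v = 0 := by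
    intro u hu v hv
    obtain ⟨hu1, hu2⟩ := (hperp u).1 hu
    obtain ⟨hv1, hv2⟩ := (hperp v).1 hv
    rcases zmod2 (p.lz.b u v) with h | h
    · exact h
    · exact absurd h (hcon u v hu1 hu2 hv1 hv2)
  have h1 := Perp.card_sq_le p.lz _ hiso
  have h2 := Perp.card_perp p.lz W
  have h3 : 16 ≤ Nat.card (p.lz.b.orthogonal W) := by
    by_contra hlt
    push Not at hlt
    have : Nat.card W * Nat.card (p.lz.b.orthogonal W) ≤ 4 * 15 :=
      Nat.mul_le_mul hWc (by omega)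
    omega
  have h4 : Nat.card W * Nat.card (p.lz.b.orthogonal W) ≤ 4 * Nat.card (p.lz.b.orthogonal W) :=
    Nat.mul_le_mul_right _ hWc
  have h5 : 16 * Nat.card (p.lz.b.orthogonal W) ≤
      Nat.card (p.lz.b.orthogonal W) * Nat.card (p.lz.b.orthogonal W) := Nat.mul_le_mul_right _ h3
  omega

/-- The commutation lemma. -/
theorem commute_of_perp (hD : ∀ v ∈ p.D, v = 0 ∨ v = p.va) (h64 : 64 ≤ Nat.card p.lz.V)
    (hfus : ∀ x : Q, (x : G) * x = 1 → (x : G) ≠ 1 → (x : G) ≠ z →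
      ∃ B, ∃ pB : Pair Q z B x, ∀ v ∈ pB.D, v = 0 ∨ v = pB.va)
    {x : G} (hx : x ∈ A) (hxz : x * z = z * x) {w : p.lz.V} (hw0 : p.lz.b p.va w = 0)
    (hq : p.lz.q w = 0)
    (hact : ∀ v, p.lz.b p.va v = 0 →
      p.lz.act ⟨x, Subgroup.mem_centralizer_singleton_iff.2 hxz⟩ v = v + p.lz.b w v • p.va)
    {r : G} (hr : r ∈ Q) (hra : r * a = a * r) (hwr : p.lz.b w (p.lz.pr ⟨r, hr⟩) = 0) :
    r * x = x * r := by
  classical
  set C := Subgroup.centralizer ({z} : Set G) with hC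
  -- facts on `k x r`
  have hkD : ∀ r ∈ Q, r * a = a * r → k x r = 1 ∨ k x r = z ∨ k x r = a ∨ k x r = a * z := by
    intro r hr hra
    have h1 := Subgroup.mem_inf.1 (p.comm_mem hr hra hx hxz)
    exact mem_D4 p hD h1.1 h1.2
  have hcomm : ∀ r ∈ Q, r * a = a * r → ∀ g : G, g * z = z * g → g * a = a * g →
      g * k x r = k x r * g := by
    intro r hr hra g hg1 hg2
    rcases hkD r hr hra with h | h | h | h <;> rw [h]
    · rw [one_mul, mul_one]
    · exact hg1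
    · exact hg2
    · rw [← mul_assoc, hg2, mul_assoc, hg1, mul_assoc]
  have hkmul : ∀ r ∈ Q, r * a = a * r → ∀ r' ∈ Q, r' * a = a * r' →
      k x (r * r') = k x r' * k x r := by
    intro r hr hra r' hr' hra'
    exact k_mul (hcomm r' hr' hra' r (p.lz.comm_z r hr) hra)
  have hkz : k x z = 1 := k_eq_one.2 hxz.symm
  have hk0 : ∀ (r : G) (hr : r ∈ Q), r * a = a * r → p.lz.b w (p.lz.pr ⟨r, hr⟩) = 0 →
      k x r = 1 ∨ k x r = z := by
    intro r hr hra hb
    have hv : p.lz.b p.va (p.lz.pr ⟨r, hr⟩) = 0 := (p.lz.b_pr _ _).2 hra.symm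
    have h1 := hact _ hv
    rw [hb, zero_smul, add_zero, p.lz.act_pr, p.lz.pr_eq_pr, p.lz.conjQ_coe] at h1
    have h2 : k x r = (x * r * x⁻¹ * r⁻¹)⁻¹ := by unfold k; group
    rw [h2]
    rcases h1 with h1 | h1
    · left
      have : x * r * x⁻¹ = r := h1
      rw [this]; group
    · right
      have : x * r * x⁻¹ = r * z := h1
      rw [this, p.lz.comm_z r hr]
      have : z * r * r⁻¹ = z := by group
      rw [this, p.lz.z_inv]
  -- if `x` acts trivially on `ã^⊥` we are done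
  by_cases hwz : w = 0 ∨ w = p.va
  · have hx1 : p.lz.act ⟨x, Subgroup.mem_centralizer_singleton_iff.2 hxz⟩ = 1 := by
      apply eq_self_of_perp p.lz (e := p.va) (fun v => p.lz.q_act _ v) (p.q_D p.va_mem_D)
      intro v hv
      rw [hact v hv]
      rcases hwz with h | h
      · rw [h, map_zero, LinearMap.zero_apply, zero_smul, add_zero]
      · rw [h, hv, zero_smul, add_zero]
    have hxQ : x ∈ Q := p.lz.mem_of_act _ hx1
    rcases mem_D4 p hD hxQ hx with h | h | h | h <;> rw [h]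
    · rw [one_mul, mul_one]
    · exact p.lz.comm_z r hr
    · exact hra
    · rw [← mul_assoc, hra, mul_assoc, p.lz.comm_z r hr, mul_assoc]
  push Not at hwz
  obtain ⟨hw1, hw2⟩ := hwz
  -- the pair of `w`
  obtain ⟨w0, rfl⟩ := p.lz.pr_surjective w
  have hw0sq : (w0 : G) * w0 = 1 := p.lz.q_eq_zero.1 hq
  have hw0ne : (w0 : G) ≠ 1 := fun h => hw1 (p.lz.pr_eq_zero.2 (Or.inl h))
  have hw0z : (w0 : G) ≠ z := fun h => hw1 (p.lz.pr_eq_zero.2 (Or.inr h))
  obtain ⟨B, pB, hDB⟩ := hfus w0 hw0sq hw0ne hw0z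
  have hw0a : (w0 : G) * a = a * w0 := by
    have := (p.lz.b_pr ⟨a, p.a_mem⟩ w0).1 hw0
    exact this.symm
  -- the elements `c`
  have hex : ∀ u : p.lz.V, p.lz.b p.va u = 0 → p.lz.b (p.lz.pr w0) u = 0 →
      ∃ c : C, (c : G) * a = a * c ∧
        ∀ v, p.lz.b (p.lz.pr w0) v = 0 → p.lz.act c v = v + p.lz.b u v • p.lz.pr w0 := by
    intro u hu1 hu2
    obtain ⟨f, hf, hfv⟩ := X_surj pB hDB (w := u) hu2
    have hfH : f ∈ p.H := pB.X_le_H hf
    have hfa : f p.va = p.va := by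
      have h1 : p.lz.b (p.lz.pr w0) p.va = 0 := by rw [p.lz.b_comm]; exact hw0
      have h2 := hfv p.va h1
      have h3 : pB.lz.b u p.va = 0 := by rw [pB.lz.b_comm]; exact hu1
      rw [h3, zero_smul, add_zero] at h2
      exact h2
    obtain ⟨c, hca, hc⟩ := p.exists_lift hfH hfa
    refine ⟨c, hca, fun v hv => ?_⟩
    rw [hc]
    exact hfv v hv
  -- `c` commutes with `a`, centralises `w` modulo `z`
  have hkc : ∀ (u : p.lz.V), p.lz.b p.va u = 0 → p.lz.b (p.lz.pr w0) u = 0 → ∀ c : C,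
      (c : G) * a = a * c →
      (∀ v, p.lz.b (p.lz.pr w0) v = 0 → p.lz.act c v = v + p.lz.b u v • p.lz.pr w0) →
      ∀ r ∈ Q, r * a = a * r → k x ((c : G) * r * (c : G)⁻¹) = k x r := by
    intro u hu1 hu2 c hca hc r hr hra
    have hcz : (c : G) * z = z * c := Subgroup.mem_centralizer_singleton_iff.1 c.2
    have hcw : p.lz.act c (p.lz.pr w0) = p.lz.pr w0 := by
      rw [hc _ (p.lz.b_self _), p.lz.b_comm, hu2, zero_smul, add_zero]
    obtain ⟨d, hdQ, hdA, hd⟩ := conj_x p hx hxz hcz hca hact hcw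
    refine k_conj hd ?_ (hcomm r hr hra c hcz hca)
    have hrz := p.lz.comm_z r⁻¹ (Q.inv_mem hr)
    have hra' : r⁻¹ * a = a * r⁻¹ := by
      rw [inv_mul_eq_iff_eq_mul, ← mul_assoc, hra, mul_assoc, mul_inv_cancel, mul_one]
    rcases mem_D4 p hD hdQ hdA with h | h | h | h <;> rw [h]
    · rw [one_mul, mul_one]
    · exact hrz.symm
    · exact hra'.symm
    · rw [mul_assoc, ← hrz, ← mul_assoc, ← hra', mul_assoc]
  -- step A: `k x w0 = 1`
  have hA : k x w0 = 1 := by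
    obtain ⟨u, v, hu1, hu2, hv1, hv2, huv⟩ := exists_pair p h64 (p.lz.pr w0)
    obtain ⟨c, hca, hc⟩ := hex u hu1 hu2
    obtain ⟨v0, rfl⟩ := p.lz.pr_surjective v
    have hv0a : (v0 : G) * a = a * v0 := ((p.lz.b_pr ⟨a, p.a_mem⟩ v0).1 hv1).symm
    have h1 := hkc u hu1 hu2 c hca hc v0 v0.2 hv0a
    have h2 := hc _ hv2
    rw [huv, one_smul, p.lz.act_pr, ← p.lz.pr_mul, p.lz.pr_eq_pr, p.lz.conjQ_coe] at h2
    have h3 : k x ((v0 : G) * w0) = k x w0 * k x v0 := hkmul v0 v0.2 hv0a w0 w0.2 hw0a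
    have hvw : (v0 : G) * w0 * a = a * (v0 * w0) := by
      rw [mul_assoc, hw0a, ← mul_assoc, hv0a, mul_assoc]
    have h4 : k x ((v0 : G) * w0 * z) = k x ((v0 : G) * w0) := by
      rw [hkmul (v0 * w0) (Q.mul_mem v0.2 w0.2) hvw z p.lz.z_mem p.comm_za.symm, hkz, one_mul]
    have h5 : k x w0 * k x v0 = k x v0 := by
      rw [← h3, ← h1]
      rcases h2 with h2 | h2
      · have : (c : G) * v0 * (c : G)⁻¹ = v0 * w0 := h2
        rw [this]
      · have : (c : G) * v0 * (c : G)⁻¹ = v0 * w0 * z := h2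
        rw [this, h4]
    exact mul_eq_right.1 h5
  -- step B
  obtain ⟨s, hs1, hs2⟩ : ∃ s, p.lz.b p.va s = 0 ∧ p.lz.b (p.lz.pr w0) s = 1 := by
    by_contra hcon
    push Not at hcon
    rcases perp_span p.lz (e := p.va) (s := p.lz.pr w0) (fun v hv => by
      rcases zmod2 (p.lz.b (p.lz.pr w0) v) with h | h
      · exact h
      · exact absurd h (hcon v hv)) with h | h
    · exact hw1 h
    · exact hw2 h
  obtain ⟨s0, rfl⟩ := p.lz.pr_surjective s
  have hs0a : (s0 : G) * a = a * s0 := ((p.lz.b_pr ⟨a, p.a_mem⟩ s0).1 hs1).symm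
  have hu1 : p.lz.b p.va (p.lz.pr ⟨r, hr⟩) = 0 := (p.lz.b_pr ⟨a, p.a_mem⟩ ⟨r, hr⟩).2 hra.symm
  obtain ⟨c, hca, hc⟩ := hex (p.lz.pr ⟨r, hr⟩) hu1 hwr
  have hfw : p.lz.act c (p.lz.pr w0) = p.lz.pr w0 := by
    rw [hc _ (p.lz.b_self _), p.lz.b_comm, hwr, zero_smul, add_zero]
  -- `act c s = s + u + ε w`
  have h1 : p.lz.act c (p.lz.pr s0) + p.lz.pr s0 + p.lz.pr ⟨r, hr⟩ = 0 ∨
      p.lz.act c (p.lz.pr s0) + p.lz.pr s0 + p.lz.pr ⟨r, hr⟩ = p.lz.pr w0 := by
    apply perp_span p.lz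
    intro v hv
    have h2 : p.lz.b (p.lz.act c (p.lz.pr s0)) (p.lz.act c v) = p.lz.b (p.lz.pr s0) v :=
      p.lz.b_act _ _ _
    have h3 : p.lz.b (p.lz.act c (p.lz.pr s0)) (p.lz.pr w0) = 1 := by
      have : p.lz.b (p.lz.act c (p.lz.pr s0)) (p.lz.act c (p.lz.pr w0)) =
        p.lz.b (p.lz.pr s0) (p.lz.pr w0) := p.lz.b_act _ _ _
      rw [hfw] at this
      rw [this, p.lz.b_comm]
      exact hs2
    rw [hc v hv, map_add, map_smul, h3, smul_eq_mul, mul_one] at h2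
    rw [map_add, map_add, LinearMap.add_apply, LinearMap.add_apply, ← h2]
    generalize p.lz.b (p.lz.act c (p.lz.pr s0)) v = α
    generalize p.lz.b (p.lz.pr ⟨r, hr⟩) v = β
    revert α β
    decide
  have h2 := hkc _ hu1 hwr c hca hc s0 s0.2 hs0a
  -- compute `k x (c s0 c⁻¹)`
  have hsr : (s0 : G) * r * a = a * (s0 * r) := by
    rw [mul_assoc, hra, ← mul_assoc, hs0a, mul_assoc]
  have hsrw : (s0 : G) * r * w0 * a = a * (s0 * r * w0) := by
    rw [mul_assoc _ (w0 : G) a, hw0a, ← mul_assoc, hsr, mul_assoc]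
  have hsrQ : (s0 : G) * r ∈ Q := Q.mul_mem s0.2 hr
  have hsrwQ : (s0 : G) * r * w0 ∈ Q := Q.mul_mem hsrQ w0.2
  have h3 : k x ((s0 : G) * r) = k x r * k x s0 := hkmul s0 s0.2 hs0a r hr hra
  have h4 : k x ((s0 : G) * r * w0) = k x r * k x s0 := by
    rw [hkmul _ hsrQ hsr w0 w0.2 hw0a, hA, one_mul, h3]
  have h5 : k x ((s0 : G) * r * z) = k x r * k x s0 := by
    rw [hkmul _ hsrQ hsr z p.lz.z_mem p.comm_za.symm, hkz, one_mul, h3]
  have h6 : k x ((s0 : G) * r * w0 * z) = k x r * k x s0 := by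
    rw [hkmul _ hsrwQ hsrw z p.lz.z_mem p.comm_za.symm, hkz, one_mul, h4]
  have h7 : k x ((c : G) * s0 * (c : G)⁻¹) = k x r * k x s0 := by
    have h8 : ∀ t : p.lz.V, p.lz.act c (p.lz.pr s0) + p.lz.pr s0 + p.lz.pr ⟨r, hr⟩ = t →
        p.lz.act c (p.lz.pr s0) = p.lz.pr s0 + p.lz.pr ⟨r, hr⟩ + t := by
      intro t ht
      rw [← ht]
      have e : ∀ α β γ : p.lz.V, α = β + γ + (α + β + γ) := by
        intro α β γ
        have : β + γ + (α + β + γ) = α + (β + β) + (γ + γ) := by abel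
        rw [this, p.lz.add_self, p.lz.add_self, add_zero, add_zero]
      exact e _ _ _
    rcases h1 with h1 | h1
    · have h9 := h8 _ h1
      rw [add_zero, p.lz.act_pr, ← p.lz.pr_mul, p.lz.pr_eq_pr, p.lz.conjQ_coe] at h9
      rcases h9 with h9 | h9
      · have : (c : G) * s0 * (c : G)⁻¹ = s0 * r := h9
        rw [this, h3]
      · have : (c : G) * s0 * (c : G)⁻¹ = s0 * r * z := h9
        rw [this, h5]
    · have h9 := h8 _ h1
      rw [p.lz.act_pr, ← p.lz.pr_mul, ← p.lz.pr_mul, p.lz.pr_eq_pr, p.lz.conjQ_coe] at h9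
      rcases h9 with h9 | h9
      · have : (c : G) * s0 * (c : G)⁻¹ = s0 * r * w0 := h9
        rw [this, h4]
      · have : (c : G) * s0 * (c : G)⁻¹ = s0 * r * w0 * z := h9
        rw [this, h6]
  rw [h2] at h7
  exact k_eq_one.1 (mul_eq_right.1 h7.symm)

end main

end Cfsg.Agent.LargeExtra.KillCommute
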