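import Cfsg.Agent.LargeExtra.KillCommute

/-!
# The map `r ↦ [y', r]`, `y' ∈ Q_a \ C(z)` (helper915)

`[y', r]` is a Siegel element with centre `ã` and parameter `r̃`.
-/

set_option autoImplicit false

namespace Cfsg.Agent.LargeExtra.KillEta

open Cfsg.Agent.Co2Type.Quad Cfsg.Agent.LargeExtra.Base Cfsg.Agent.LargeExtra.Local
open Cfsg.Agent.LargeExtra.KillSiegel

variable {G : Type*} [Group G]

theorem siegel_full {Q : Subgroup G} {z : G} [Finite Q] (h : Large Q z) {f : h.V ≃ₗ[ZMod 2] h.V}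
    (hf : ∀ v, h.q (f v) = h.q v) {e w : h.V} (he : h.q e = 0) (hw : h.q w = 0)
    (hew : h.b e w = 0) (h1 : ∀ v, h.b e v = 0 → f v = v + h.b w v • e) (v : h.V) :
    f v = v + h.b w v • e + h.b e v • w := by
  rcases zmod2 (h.b e v) with h2 | h2
  · rw [h1 v h2, h2, zero_smul, add_zero]
  · have hfe : f e = e := by
      rw [h1 e (h.b_self e), h.b_comm, hew, zero_smul, add_zero]
    have h3 : f v + v + w = 0 ∨ f v + v + w = e := by
      apply perp_span h
      intro v' hv'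
      have h4 := isom_b h hf v' v
      have h5 : h.b e (f v) = 1 := by
        have := isom_b h hf e v
        rw [hfe] at this
        rw [this, h2]
      rw [h1 v' hv', map_add, LinearMap.add_apply, map_smul, LinearMap.smul_apply, h5,
        smul_eq_mul, mul_one] at h4
      rw [map_add, map_add, LinearMap.add_apply, LinearMap.add_apply, h.b_comm (f v), h.b_comm v,
        ← h4]
      generalize h.b v' (f v) = α
      generalize h.b w v' = β
      revert α β
      decide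
    have h6 : f v = v + w + (f v + v + w) := by
      have : v + w + (f v + v + w) = f v + (v + v) + (w + w) := by abel
      rw [this, h.add_self, h.add_self, add_zero, add_zero]
    have h7 := hf v
    rcases h3 with h3 | h3
    · rw [h3, add_zero] at h6
      rw [h6, h.q_add', hw, add_zero] at h7
      have h8 : h.b v w = 0 := by
        have : h.q v + h.b v w = h.q v + 0 := by rw [h7, add_zero]
        exact add_left_cancel this
      rw [h6, h2, h.b_comm w, h8, zero_smul, add_zero, one_smul]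
    · rw [h3] at h6
      rw [h6, h.q_add', h.q_add', hw, he, map_add, LinearMap.add_apply, h.b_comm v e, h2,
        h.b_comm w e, hew, add_zero, add_zero, add_zero] at h7
      have h8 : h.b v w = 1 := by
        have : h.q v + (h.b v w + 1) = h.q v + 0 := by rw [add_zero, ← add_assoc, h7]
        have := add_left_cancel this
        revert this
        generalize h.b v w = α
        revert α
        decide
      rw [h6, h2, h.b_comm w, h8, one_smul, one_smul]
      abel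

variable {Q A : Subgroup G} {z a : G}

/-- the commutator `[y', r]` -/
theorem eta_mem (p : Pair Q z A a) {r y' : G} (hra : r * a = a * r) (hy' : y' ∈ A) :
    y' * r * y'⁻¹ * r⁻¹ ∈ A := by
  have := A.mul_mem hy' (p.la.conj_mem r hra _ (A.inv_mem hy'))
  have e : y' * (r * y'⁻¹ * r⁻¹) = y' * r * y'⁻¹ * r⁻¹ := by group
  rwa [e] at this

theorem y_conj (p : Pair Q z A a) {y' : G} (hy' : y' ∈ A) (hyz : y' * z ≠ z * y') :
    y' * z * y'⁻¹ = z * a ∧ y' * (z * a) * y'⁻¹ = z := by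
  have h1 : y' * z = z * y' * a := (p.la.comm y' hy' z p.z_mem).resolve_left hyz
  have h2 : y' * a = a * y' := p.la.comm_z y' hy'
  constructor
  · rw [h1, mul_assoc z, h2]; group
  · have e : y' * (z * a) = (y' * z) * a := by group
    rw [e, h1, mul_assoc _ a a, p.la.z_sq]; group

theorem eta_comm (p : Pair Q z A a) {r y' : G} (hr : r ∈ Q) (hra : r * a = a * r) (hy' : y' ∈ A)
    (hyz : y' * z ≠ z * y') : y' * r * y'⁻¹ * r⁻¹ * z = z * (y' * r * y'⁻¹ * r⁻¹) := by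
  obtain ⟨h1, h2⟩ := y_conj p hy' hyz
  have hrz : r * z = z * r := p.lz.comm_z r hr
  have h3 : y'⁻¹ * z = z * a * y'⁻¹ := by
    rw [inv_mul_eq_iff_eq_mul]
    have e : y' * (z * a * y'⁻¹) = y' * (z * a) * y'⁻¹ := by group
    rw [e, h2]
  have h4 : y' * (z * a) = z * y' := mul_inv_eq_iff_eq_mul.1 h2
  have h5 : r⁻¹ * z = z * r⁻¹ := by
    rw [inv_mul_eq_iff_eq_mul, ← mul_assoc, hrz, mul_assoc, mul_inv_cancel, mul_one]
  have h6 : r * (z * a) = z * a * r := by rw [← mul_assoc, hrz, mul_assoc, hra, ← mul_assoc]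
  calc y' * r * y'⁻¹ * r⁻¹ * z = y' * r * y'⁻¹ * (r⁻¹ * z) := by group
    _ = y' * r * (y'⁻¹ * z) * r⁻¹ := by rw [h5]; group
    _ = y' * (r * (z * a)) * y'⁻¹ * r⁻¹ := by rw [h3]; group
    _ = (y' * (z * a)) * r * y'⁻¹ * r⁻¹ := by rw [h6]; group
    _ = _ := by rw [h4]; group

/-- elements `h` with `h z h⁻¹ = a` conjugate `Q` to `A` -/
theorem conj_mem_of (p : Pair Q z A a) {h : G} (hh : h * z * h⁻¹ = a) {x : G} (hx : x ∈ Q) :
    h * x * h⁻¹ ∈ A := by
  obtain ⟨g, hg, -, hA, -⟩ := p.isConj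
  rw [hA, ← map_eq_of_conj p.lz (hh.trans hg.symm)]
  exact ⟨x, hx, rfl⟩

theorem eta_act [Finite G] (p : Pair Q z A a) (hD : ∀ v ∈ p.D, v = 0 ∨ v = p.va) {r y' : G}
    (hr : r ∈ Q) (hra : r * a = a * r) (hy' : y' ∈ A) (hyz : y' * z ≠ z * y') (v : p.lz.V)
    (hv : p.lz.b p.va v = 0) :
    p.lz.act ⟨y' * r * y'⁻¹ * r⁻¹, Subgroup.mem_centralizer_singleton_iff.2
      (eta_comm p hr hra hy' hyz)⟩ v = v + p.lz.b (p.lz.pr ⟨r, hr⟩) v • p.va := by
  set x := y' * r * y'⁻¹ * r⁻¹ with hx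
  have hxA : x ∈ A := eta_mem p hra hy'
  have hxz : x * z = z * x := eta_comm p hr hra hy' hyz
  set x' : Subgroup.centralizer ({z} : Set G) := ⟨x, Subgroup.mem_centralizer_singleton_iff.2 hxz⟩
    with hx'
  have hfX : p.lz.act x' ∈ p.X := p.mem_X.2 ⟨x', hxA, rfl⟩
  obtain ⟨w, hw0, hw⟩ := X_form p hD hfX
  obtain ⟨y, hy, hya⟩ := exists_not_comm p.lz p.a_mem p.la.z_ne p.ne
  obtain ⟨h1, h2⟩ := y_conj p hy' hyz
  have hza : z * a = a * z := p.comm_za.symm
  have hyz' : y * z = z * y := p.lz.comm_z y hy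
  have hrz : r * z = z * r := p.lz.comm_z r hr
  -- `y y' y` maps `z` to `a`
  have hconj : (y * y' * y) * z * (y * y' * y)⁻¹ = a := by
    have e1 : y * z * y⁻¹ = z := by rw [hyz']; group
    have e2 : y * a * y⁻¹ = a * z := by
      rw [hya, mul_assoc a y z, hyz']; group
    calc (y * y' * y) * z * (y * y' * y)⁻¹ = y * (y' * (y * z * y⁻¹) * y'⁻¹) * y⁻¹ := by group
      _ = y * (z * a) * y⁻¹ := by rw [e1, h1]
      _ = (y * z * y⁻¹) * (y * a * y⁻¹) := by group
      _ = z * (a * z) := by rw [e1, e2]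
      _ = a := by rw [← mul_assoc, hza, mul_assoc, p.lz.z_sq, mul_one]
  have h3 := conj_mem_of p hconj hr
  -- `c = [y, x]`
  set c := y * x * y⁻¹ * x⁻¹ with hc
  have hcQ : c ∈ Q := by
    have := Q.mul_mem hy (p.lz.conj_mem x hxz _ (Q.inv_mem hy))
    have e : y * (x * y⁻¹ * x⁻¹) = c := by rw [hc]; group
    rwa [e] at this
  have hxr : y' * r * y'⁻¹ = x * r := by rw [hx]; group
  have hyxy : y * x * y⁻¹ = c * x := by rw [hc]; group
  have h4 : c * x * r ∈ A := by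
    rcases p.lz.comm y hy r hr with h5 | h5
    · have e : (y * y' * y) * r * (y * y' * y)⁻¹ = c * x * r := by
        have e1 : y * r * y⁻¹ = r := by rw [h5]; group
        calc (y * y' * y) * r * (y * y' * y)⁻¹ = y * (y' * (y * r * y⁻¹) * y'⁻¹) * y⁻¹ := by group
          _ = y * (y' * r * y'⁻¹) * y⁻¹ := by rw [e1]
          _ = (y * x * y⁻¹) * (y * r * y⁻¹) := by rw [hxr]; group
          _ = _ := by rw [hyxy, e1]
      rwa [e] at h3
    · have e1 : y * r * y⁻¹ = r * z := by rw [h5, mul_assoc r y z, hyz']; group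
      have e2 : y * a * y⁻¹ = a * z := by
        rw [hya, mul_assoc a y z, hyz']; group
      have e3 : y * z * y⁻¹ = z := by rw [hyz']; group
      have e : (y * y' * y) * r * (y * y' * y)⁻¹ = c * x * r * (z * a) := by
        calc (y * y' * y) * r * (y * y' * y)⁻¹ = y * (y' * (y * r * y⁻¹) * y'⁻¹) * y⁻¹ := by group
          _ = y * ((y' * r * y'⁻¹) * (y' * z * y'⁻¹)) * y⁻¹ := by rw [e1]; group
          _ = (y * x * y⁻¹) * (y * r * y⁻¹) * ((y * z * y⁻¹) * (y * a * y⁻¹)) := by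
            rw [hxr, h1]; group
          _ = c * x * (r * z) * (z * (a * z)) := by rw [hyxy, e1, e2, e3]
          _ = c * x * r * (z * z) * (a * z) := by group
          _ = _ := by rw [p.lz.z_sq, hza]; group
      rw [e] at h3
      have h6 : z * a ∈ A := A.mul_mem p.z_mem p.la.z_mem
      exact (Subgroup.mul_mem_cancel_right A h6).1 h3
  have h5 : c * (x * r * x⁻¹) ∈ A := by
    have := A.mul_mem h4 (A.inv_mem hxA)
    have e : c * x * r * x⁻¹ = c * (x * r * x⁻¹) := by group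
    rwa [e] at this
  have hxrQ : x * r * x⁻¹ ∈ Q := p.lz.conj_mem x hxz r hr
  have hr0 : p.lz.b p.va (p.lz.pr ⟨r, hr⟩) = 0 := (p.lz.b_pr ⟨a, p.a_mem⟩ ⟨r, hr⟩).2 hra.symm
  have h6 : p.lz.pr ⟨c, hcQ⟩ + p.lz.act x' (p.lz.pr ⟨r, hr⟩) ∈ p.D := by
    rw [p.lz.act_pr, ← p.lz.pr_mul, p.pr_mem_D]
    exact h5
  have h7 : p.lz.act x' (p.lz.pr ⟨r, hr⟩) + p.lz.pr ⟨r, hr⟩ ∈ p.D := p.X_perp hfX hr0
  have h8 : p.lz.pr ⟨c, hcQ⟩ + p.lz.pr ⟨r, hr⟩ ∈ p.D := by
    have := p.D.add_mem h6 h7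
    have e : ∀ α β γ : p.lz.V, α + β + (β + γ) = α + γ := by
      intro α β γ
      have : α + β + (β + γ) = α + (β + β) + γ := by abel
      rw [this, p.lz.add_self, add_zero]
    rwa [e] at this
  have h9 : p.lz.pr ⟨c, hcQ⟩ = p.lz.pr ⟨y, hy⟩ + p.lz.act x' (p.lz.pr ⟨y, hy⟩) := by
    have e : (⟨c, hcQ⟩ : Q) = ⟨y, hy⟩ * p.lz.conjQ x' ⟨y, hy⟩⁻¹ := by
      apply Subtype.ext
      rw [Subgroup.coe_mul, p.lz.conjQ_coe]
      show y * x * y⁻¹ * x⁻¹ = y * (x * y⁻¹ * x⁻¹)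
      group
    rw [e, p.lz.pr_mul, ← p.lz.act_pr, p.lz.pr_inv, p.lz.neg_eq]
  -- the parameter
  have hyva : p.lz.b p.va (p.lz.pr ⟨y, hy⟩) = 1 := by
    rw [p.lz.b_comm]
    exact (p.lz.b_pr_one ⟨y, hy⟩ ⟨a, p.a_mem⟩).2 hya
  have h10 : p.lz.b w v = p.lz.b (p.lz.pr ⟨r, hr⟩) v := by
    have k1 := p.lz.b_act x' v (p.lz.pr ⟨y, hy⟩)
    have k2 := p.lz.b_act x' p.va (p.lz.pr ⟨y, hy⟩)
    rw [p.X_va hfX, hyva] at k2
    rw [hw v hv, map_add, LinearMap.add_apply, map_smul, LinearMap.smul_apply, k2, smul_eq_mul,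
      mul_one] at k1
    have k3 : p.lz.b v (p.lz.pr ⟨c, hcQ⟩) = p.lz.b v (p.lz.pr ⟨r, hr⟩) := by
      have k4 : p.lz.b v (p.lz.pr ⟨c, hcQ⟩ + p.lz.pr ⟨r, hr⟩) = 0 := by
        rcases hD _ h8 with k5 | k5
        · rw [k5, map_zero]
        · rw [k5, p.lz.b_comm]; exact hv
      rw [map_add] at k4
      revert k4
      generalize p.lz.b v (p.lz.pr ⟨c, hcQ⟩) = α
      generalize p.lz.b v (p.lz.pr ⟨r, hr⟩) = β
      revert α β
      decide
    rw [p.lz.b_comm (p.lz.pr ⟨r, hr⟩) v, ← k3, h9, map_add, ← k1]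
    generalize p.lz.b v (p.lz.act x' (p.lz.pr ⟨y, hy⟩)) = α
    generalize p.lz.b w v = β
    revert α β
    decide
  rw [hw v hv, h10]

end Cfsg.Agent.LargeExtra.KillEta
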