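import Cfsg.Agent.LargeExtra.KillEta

/-!
# A maximal totally singular subgroup of `Q`, `|Q| = 2^7` (helper915)

`B ≤ Q` elementary abelian of order 16 containing `z`, all involutions of `Q` give pairs with
`Q ∩ Q_a = ⟨z, a⟩`.  `F = C_G(B)` is elementary abelian, normalised by `Q` and by
`y' ∈ Q_e \ C(z)`, `e ∈ B`.
-/

set_option autoImplicit false

namespace Cfsg.Agent.LargeExtra.KillFrame

open Cfsg.Agent.Co2Type.Quad Cfsg.Agent.LargeExtra.Base Cfsg.Agent.LargeExtra.Local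
open Cfsg.Agent.LargeExtra.KillSiegel

variable {G : Type*} [Group G]

structure Frame (Q B : Subgroup G) (z : G) : Prop where
  lz : Large Q z
  card_Q : Nat.card Q = 128
  fus : ∀ x : Q, (x : G) * x = 1 → (x : G) ≠ 1 → (x : G) ≠ z →
      ∃ A, ∃ p : Pair Q z A x, ∀ v ∈ p.D, v = 0 ∨ v = p.va
  le : B ≤ Q
  z_mem : z ∈ B
  sq : ∀ x ∈ B, x * x = 1
  card : Nat.card B = 16

variable {Q B : Subgroup G} {z : G}

namespace Frame

theorem comm (s : Frame Q B z) {x y : G} (hx : x ∈ B) (hy : y ∈ B) : x * y = y * x := by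
  have h1 := s.sq _ (B.mul_mem hx hy)
  have hx' : x⁻¹ = x := inv_eq_of_mul_eq_one_left (s.sq x hx)
  have hy' : y⁻¹ = y := inv_eq_of_mul_eq_one_left (s.sq y hy)
  calc x * y = (x * y)⁻¹ := (inv_eq_of_mul_eq_one_left h1).symm
    _ = y⁻¹ * x⁻¹ := mul_inv_rev _ _
    _ = y * x := by rw [hx', hy']

theorem card_V (s : Frame Q B z) : Nat.card s.lz.V = 64 := by
  have h1 := s.lz.card_eq
  rw [s.card_Q] at h1
  omega

/-- the totally singular 3-space -/
def T (s : Frame Q B z) : Submodule (ZMod 2) s.lz.V := sub s.lz B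

theorem mem_T (s : Frame Q B z) (x : Q) : s.lz.pr x ∈ s.T ↔ (x : G) ∈ B := pr_mem_sub s.lz s.z_mem x

theorem q_T (s : Frame Q B z) {t : s.lz.V} (ht : t ∈ s.T) : s.lz.q t = 0 := by
  obtain ⟨x, hx, rfl⟩ := ht
  exact s.lz.q_eq_zero.2 (s.sq x hx)

theorem b_T (s : Frame Q B z) {t t' : s.lz.V} (ht : t ∈ s.T) (ht' : t' ∈ s.T) :
    s.lz.b t t' = 0 := by
  obtain ⟨x, hx, rfl⟩ := ht
  obtain ⟨y, hy, rfl⟩ := ht'
  exact (s.lz.b_pr x y).2 (s.comm hx hy)

variable [Finite G]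

theorem card_T (s : Frame Q B z) : Nat.card s.T = 8 := by
  have h1 := card_sub s.lz s.z_mem
  have h2 : B ⊓ Q = B := inf_eq_left.2 s.le
  rw [h2, s.card] at h1
  have : Nat.card s.T = Nat.card (sub s.lz B) := rfl
  omega

theorem perp_T (s : Frame Q B z) : s.lz.b.orthogonal s.T = s.T := by
  have h1 := Perp.card_perp s.lz s.T
  rw [s.card_T, s.card_V] at h1
  have hle : s.T ≤ s.lz.b.orthogonal s.T := fun v hv => (Perp.mem_perp s.lz _).2 fun w hw => s.b_T hw hv
  symm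
  apply SetLike.coe_injective
  apply Set.eq_of_subset_of_ncard_le hle
  have e1 : (s.lz.b.orthogonal s.T : Set s.lz.V).ncard = Nat.card (s.lz.b.orthogonal s.T) := rfl
  have e2 : (s.T : Set s.lz.V).ncard = Nat.card s.T := rfl
  rw [e1, e2, s.card_T]
  omega

theorem mem_T_of_perp (s : Frame Q B z) {v : s.lz.V} (hv : ∀ t ∈ s.T, s.lz.b t v = 0) : v ∈ s.T := by
  rw [← s.perp_T, Perp.mem_perp]
  exact hv

theorem mem_B (s : Frame Q B z) {x : G} (hx : x ∈ Q) (hxB : x ∈ Subgroup.centralizer (B : Set G)) :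
    x ∈ B := by
  rw [← s.mem_T ⟨x, hx⟩]
  apply s.mem_T_of_perp
  rintro _ ⟨y, hy, rfl⟩
  rw [s.lz.b_pr]
  exact Subgroup.mem_centralizer_iff.1 hxB y hy

omit [Finite G] in
theorem comm_z (s : Frame Q B z) {g : G} (hg : g ∈ Subgroup.centralizer (B : Set G)) :
    g * z = z * g := (Subgroup.mem_centralizer_iff.1 hg z s.z_mem).symm

omit [Finite G] in
theorem B_le (s : Frame Q B z) : B ≤ Subgroup.centralizer (B : Set G) := fun _ hx =>
  Subgroup.mem_centralizer_iff.2 fun _ hy => s.comm hy hx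

omit [Finite G] in
theorem act_T (s : Frame Q B z) {c : Subgroup.centralizer ({z} : Set G)}
    (hc : (c : G) ∈ Subgroup.centralizer (B : Set G)) {t : s.lz.V} (ht : t ∈ s.T) :
    s.lz.act c t = t := by
  obtain ⟨x, hx, rfl⟩ := ht
  apply Base.Pair.act_pr_coe
  rw [← Subgroup.mem_centralizer_iff.1 hc x hx]; group

theorem phi_T (s : Frame Q B z) {c : Subgroup.centralizer ({z} : Set G)}
    (hc : (c : G) ∈ Subgroup.centralizer (B : Set G)) (v : s.lz.V) : s.lz.act c v + v ∈ s.T := by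
  apply s.mem_T_of_perp
  intro t ht
  have h1 := s.lz.b_act c t v
  rw [s.act_T hc ht] at h1
  rw [map_add, h1, CharTwo.add_self_eq_zero]

theorem mem_of_act (s : Frame Q B z) {c : Subgroup.centralizer ({z} : Set G)}
    (hc : (c : G) ∈ Subgroup.centralizer (B : Set G)) (h : ∀ v, s.lz.act c v = v) : (c : G) ∈ B := by
  apply s.mem_B _ hc
  apply s.lz.mem_of_act
  ext v
  exact h v

/-- `b(φ v, v) = 0` -/
theorem phi_self (s : Frame Q B z) {c : Subgroup.centralizer ({z} : Set G)}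
    (hc : (c : G) ∈ Subgroup.centralizer (B : Set G)) (v : s.lz.V) :
    s.lz.b v (s.lz.act c v + v) = 0 := by
  have h1 := s.lz.q_act c v
  have h2 : s.lz.act c v = v + (s.lz.act c v + v) := by
    have : v + (s.lz.act c v + v) = s.lz.act c v + (v + v) := by abel
    rw [this, s.lz.add_self, add_zero]
  rw [h2, s.lz.q_add', s.q_T (s.phi_T hc v), add_zero] at h1
  have : s.lz.q v + s.lz.b v (s.lz.act c v + v) = s.lz.q v + 0 := by rw [h1, add_zero]
  exact add_left_cancel this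

/-- `b(φ v, w) = b(v, φ w)` -/
theorem phi_symm (s : Frame Q B z) {c : Subgroup.centralizer ({z} : Set G)}
    (hc : (c : G) ∈ Subgroup.centralizer (B : Set G)) (v w : s.lz.V) :
    s.lz.b v (s.lz.act c w + w) = s.lz.b w (s.lz.act c v + v) := by
  have h1 := s.phi_self hc (v + w)
  have h2 := s.phi_self hc v
  have h3 := s.phi_self hc w
  have e : s.lz.act c (v + w) + (v + w) = (s.lz.act c v + v) + (s.lz.act c w + w) := by
    rw [map_add]; abel
  rw [e, map_add, map_add s.lz.b v w, LinearMap.add_apply, LinearMap.add_apply, h2, h3, zero_add,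
    add_zero] at h1
  revert h1
  generalize s.lz.b v (s.lz.act c w + w) = α
  generalize s.lz.b w (s.lz.act c v + v) = β
  revert α β
  decide

/-- vectors dual to a basis of `T` -/
theorem exists_dual (s : Frame Q B z) :
    ∃ v : Fin 3 → s.lz.V, ∀ t ∈ s.T, (∀ i, s.lz.b (v i) t = 0) → t = 0 := by
  have hfin : Module.finrank (ZMod 2) s.T = 3 := by
    have h1 := Module.natCard_eq_pow_finrank (K := ZMod 2) (V := s.T)
    rw [s.card_T, Nat.card_zmod] at h1
    have : 2 ^ 3 = 2 ^ Module.finrank (ZMod 2) s.T := by rw [← h1]; norm_num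
    exact (Nat.pow_right_injective (le_refl 2) this).symm
  have hF : Module.Finite (ZMod 2) s.T := Module.Finite.of_finite
  let bT : Module.Basis (Fin 3) (ZMod 2) s.T := Module.finBasisOfFinrankEq (ZMod 2) s.T hfin
  have h1 : ∀ i, ∃ v : s.lz.V, ∀ t (ht : t ∈ s.T), s.lz.b v t = bT.coord i ⟨t, ht⟩ := by
    intro i
    obtain ⟨f, hf⟩ := LinearMap.exists_extend (bT.coord i)
    obtain ⟨v, hv⟩ := s.lz.exists_b_eq f
    refine ⟨v, fun t ht => ?_⟩
    rw [hv, ← hf]
    rfl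
  choose v hv using h1
  refine ⟨v, fun t ht h2 => ?_⟩
  have h3 : (⟨t, ht⟩ : s.T) = 0 := by
    rw [← bT.forall_coord_eq_zero_iff]
    intro i
    rw [← hv i t ht]
    exact h2 i
  exact congrArg Subtype.val h3

/-- large subgroups of `C_G(B)` meet `B` nontrivially -/
theorem meet (s : Frame Q B z) {A' : Subgroup G} (hA : A' ≤ Subgroup.centralizer (B : Set G))
    (hcard : 8 < Nat.card A') : ∃ x ∈ A', x ∈ B ∧ x ≠ 1 := by
  classical
  obtain ⟨v, hv⟩ := s.exists_dual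
  have hC : ∀ g ∈ A', g ∈ Subgroup.centralizer ({z} : Set G) := fun g hg =>
    Subgroup.mem_centralizer_singleton_iff.2 (s.comm_z (hA hg))
  let Ψ : A' → ZMod 2 × ZMod 2 × ZMod 2 := fun g =>
    (s.lz.b (v 0) (s.lz.act ⟨g, hC g g.2⟩ (v 1) + v 1),
      s.lz.b (v 0) (s.lz.act ⟨g, hC g g.2⟩ (v 2) + v 2),
      s.lz.b (v 1) (s.lz.act ⟨g, hC g g.2⟩ (v 2) + v 2))
  have hni : ¬ Function.Injective Ψ := by
    intro hinj
    have := Nat.card_le_card_of_injective Ψ hinj
    rw [Nat.card_prod, Nat.card_prod, Nat.card_zmod] at this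
    omega
  unfold Function.Injective at hni
  push Not at hni
  obtain ⟨g, g', h1, h2⟩ := hni
  obtain ⟨h3, h4⟩ := Prod.mk.injEq _ _ _ _ ▸ h1
  obtain ⟨h4, h5⟩ := Prod.mk.injEq _ _ _ _ ▸ h4
  -- all matrix entries agree
  have hgF := hA g.2
  have hgF' := hA g'.2
  have hall : ∀ i j, s.lz.b (v i) (s.lz.act ⟨g, hC g g.2⟩ (v j) + v j) =
      s.lz.b (v i) (s.lz.act ⟨g', hC g' g'.2⟩ (v j) + v j) := by
    have hs := fun i j => s.phi_symm (c := ⟨g, hC g g.2⟩) hgF (v i) (v j)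
    have hs' := fun i j => s.phi_symm (c := ⟨g', hC g' g'.2⟩) hgF' (v i) (v j)
    have h0 := fun i => s.phi_self (c := ⟨g, hC g g.2⟩) hgF (v i)
    have h0' := fun i => s.phi_self (c := ⟨g', hC g' g'.2⟩) hgF' (v i)
    intro i j
    fin_cases i <;> fin_cases j
    · exact (h0 0).trans (h0' 0).symm
    · exact h3
    · exact h4
    · exact (hs 1 0).trans (h3.trans (hs' 1 0).symm)
    · exact (h0 1).trans (h0' 1).symm
    · exact h5
    · exact (hs 2 0).trans (h4.trans (hs' 2 0).symm)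
    · exact (hs 2 1).trans (h5.trans (hs' 2 1).symm)
    · exact (h0 2).trans (h0' 2).symm
  have heq : ∀ j, s.lz.act ⟨g, hC g g.2⟩ (v j) = s.lz.act ⟨g', hC g' g'.2⟩ (v j) := by
    intro j
    have h6 : (s.lz.act ⟨g, hC g g.2⟩ (v j) + v j) + (s.lz.act ⟨g', hC g' g'.2⟩ (v j) + v j) = 0 := by
      apply hv _ (s.T.add_mem (s.phi_T (c := ⟨g, hC g g.2⟩) hgF _)
        (s.phi_T (c := ⟨g', hC g' g'.2⟩) hgF' _))
      intro i
      rw [map_add, hall i j, CharTwo.add_self_eq_zero]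
    have h7 : s.lz.act ⟨g, hC g g.2⟩ (v j) + s.lz.act ⟨g', hC g' g'.2⟩ (v j) = 0 := by
      rw [← h6]
      have : ∀ α β γ : s.lz.V, α + β = α + γ + (β + γ) := by
        intro α β γ
        have : α + γ + (β + γ) = α + β + (γ + γ) := by abel
        rw [this, s.lz.add_self, add_zero]
      exact this _ _ _
    rw [add_eq_zero_iff_eq_neg, s.lz.neg_eq] at h7
    exact h7
  have hx : ((g' : G)⁻¹ * g) ∈ A' := A'.mul_mem (A'.inv_mem g'.2) g.2
  refine ⟨(g' : G)⁻¹ * g, hx, ?_, ?_⟩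
  · apply s.mem_of_act (c := ⟨(g' : G)⁻¹ * g, hC _ hx⟩) (hA hx)
    have e : (⟨(g' : G)⁻¹ * g, hC _ hx⟩ : Subgroup.centralizer ({z} : Set G)) =
      (⟨g', hC g' g'.2⟩ : Subgroup.centralizer ({z} : Set G))⁻¹ * ⟨g, hC g g.2⟩ := rfl
    have hfix : ∀ j, s.lz.act ⟨(g' : G)⁻¹ * g, hC _ hx⟩ (v j) = v j := by
      intro j
      rw [e, map_mul]
      show s.lz.act (⟨g', hC g' g'.2⟩ : Subgroup.centralizer ({z} : Set G))⁻¹
        (s.lz.act ⟨g, hC g g.2⟩ (v j)) = v j
      rw [heq j]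
      have : (s.lz.act (⟨g', hC g' g'.2⟩ : Subgroup.centralizer ({z} : Set G))⁻¹ *
        s.lz.act ⟨g', hC g' g'.2⟩) (v j) = v j := by
        rw [← map_mul, inv_mul_cancel, map_one]; rfl
      exact this
    intro w
    have h8 : s.lz.act ⟨(g' : G)⁻¹ * g, hC _ hx⟩ w + w = 0 := by
      apply hv _ (s.phi_T (c := ⟨(g' : G)⁻¹ * g, hC _ hx⟩) (hA hx) w)
      intro i
      have h9 := s.lz.b_act ⟨(g' : G)⁻¹ * g, hC _ hx⟩ (v i) w
      rw [hfix i] at h9
      rw [map_add, h9, CharTwo.add_self_eq_zero]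
    rw [add_eq_zero_iff_eq_neg, s.lz.neg_eq] at h8
    exact h8
  · intro h9
    apply h2
    apply Subtype.ext
    exact (inv_mul_eq_one.1 h9).symm

end Frame

end Cfsg.Agent.LargeExtra.KillFrame
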