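import Cfsg.Agent.LargeExtra.KillAbel

/-!
# The relation `v ∈ F ∩ Q_u` on `z^{N(F)}` (helper915)
-/

set_option autoImplicit false

namespace Cfsg.Agent.LargeExtra.KillResidue

open Cfsg.Agent.Co2Type.Quad Cfsg.Agent.LargeExtra.Base Cfsg.Agent.LargeExtra.Local
open Cfsg.Agent.LargeExtra.KillSiegel Cfsg.Agent.LargeExtra.KillFrame Cfsg.Agent.LargeExtra.KillAbel

variable {G : Type*} [Group G] {Q B : Subgroup G} {z : G}

/-- the normaliser of `F = C_G(B)` -/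
def N (B : Subgroup G) : Subgroup G :=
  Subgroup.normalizer (Subgroup.centralizer (B : Set G) : Set G)

def P (B : Subgroup G) (z u : G) : Prop := ∃ h ∈ N B, h * z * h⁻¹ = u

def R (B : Subgroup G) (z u v : G) : Prop := ∃ h ∈ N B, h * z * h⁻¹ = u ∧ h⁻¹ * v * h ∈ B

theorem N_cent {h g : G} (hh : h ∈ N B) (hg : g ∈ Subgroup.centralizer (B : Set G)) :
    h * g * h⁻¹ ∈ Subgroup.centralizer (B : Set G) := (Subgroup.mem_normalizer_iff.1 hh g).1 hg

theorem N_cent' {h g : G} (hh : h ∈ N B) (hg : g ∈ Subgroup.centralizer (B : Set G)) :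
    h⁻¹ * g * h ∈ Subgroup.centralizer (B : Set G) := by
  have := N_cent ((N B).inv_mem hh) hg
  rwa [inv_inv] at this

theorem P_of_R {u v : G} (h : R B z u v) : P B z u := by
  obtain ⟨h, hN, h1, -⟩ := h
  exact ⟨h, hN, h1⟩

theorem R_conj {u v k : G} (hk : k ∈ N B) (h : R B z u v) : R B z (k * u * k⁻¹) (k * v * k⁻¹) := by
  obtain ⟨h, hN, rfl, h2⟩ := h
  refine ⟨k * h, (N B).mul_mem hk hN, by group, ?_⟩
  have e : (k * h)⁻¹ * (k * v * k⁻¹) * (k * h) = h⁻¹ * v * h := by group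
  rw [e]; exact h2

theorem R_of_R_conj {u v k : G} (hk : k ∈ N B) (h : R B z (k * u * k⁻¹) (k * v * k⁻¹)) :
    R B z u v := by
  have := R_conj ((N B).inv_mem hk) h
  have e : ∀ x : G, k⁻¹ * (k * x * k⁻¹) * k⁻¹⁻¹ = x := by intro x; group
  rwa [e, e] at this

variable [Finite G]

theorem stab (s : Frame Q B z) {h b : G} (hN : h ∈ N B) (hz : h * z = z * h) (hb : b ∈ B) :
    h * b * h⁻¹ ∈ B :=
  s.mem_B (s.lz.conj_mem h hz b (s.le hb)) (N_cent hN (s.B_le hb))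

theorem R_iff (s : Frame Q B z) {h u v : G} (hN : h ∈ N B) (hu : h * z * h⁻¹ = u) :
    R B z u v ↔ h⁻¹ * v * h ∈ B := by
  constructor
  · rintro ⟨k, kN, hk, hv⟩
    have h1 : (h⁻¹ * k) * z = z * (h⁻¹ * k) := by
      have : k * z * k⁻¹ = h * z * h⁻¹ := hk.trans hu.symm
      calc h⁻¹ * k * z = h⁻¹ * (k * z * k⁻¹) * k := by group
        _ = h⁻¹ * (h * z * h⁻¹) * k := by rw [this]
        _ = _ := by group
    have h2 := stab s ((N B).mul_mem ((N B).inv_mem hN) kN) h1 hv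
    have e : h⁻¹ * k * (k⁻¹ * v * k) * (h⁻¹ * k)⁻¹ = h⁻¹ * v * h := by group
    rwa [e] at h2
  · intro hv
    exact ⟨h, hN, hu, hv⟩

theorem R_z (s : Frame Q B z) {v : G} : R B z z v ↔ v ∈ B := by
  rw [R_iff s (N B).one_mem (by group)]
  simp

theorem R_mul (s : Frame Q B z) {u v v' : G} (h : R B z u v) (h' : R B z u v') :
    R B z u (v * v') := by
  obtain ⟨h, hN, hu, hv⟩ := h
  rw [R_iff s hN hu] at h' ⊢
  have := B.mul_mem hv h'
  have e : h⁻¹ * v * h * (h⁻¹ * v' * h) = h⁻¹ * (v * v') * h := by group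
  rwa [e] at this

theorem R_cent (s : Frame Q B z) {u v : G} (h : R B z u v) :
    v ∈ Subgroup.centralizer (B : Set G) := by
  obtain ⟨h, hN, -, hv⟩ := h
  have := N_cent hN (s.B_le hv)
  have e : h * (h⁻¹ * v * h) * h⁻¹ = v := by group
  rwa [e] at this

theorem R_one (s : Frame Q B z) {u : G} (h : P B z u) : R B z u 1 := by
  obtain ⟨h, hN, hu⟩ := h
  rw [R_iff s hN hu]
  simp

theorem R_self (s : Frame Q B z) {u : G} (h : P B z u) : R B z u u := by
  obtain ⟨h, hN, hu⟩ := h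
  rw [R_iff s hN hu, ← hu]
  have e : h⁻¹ * (h * z * h⁻¹) * h = z := by group
  rw [e]; exact s.z_mem

theorem P_cent (s : Frame Q B z) {u : G} (h : P B z u) :
    u ∈ Subgroup.centralizer (B : Set G) := R_cent s (R_self s h)

theorem P_z : P B z z := ⟨1, (N B).one_mem, by group⟩

omit [Finite G] in
theorem P_ne (s : Frame Q B z) {u : G} (h : P B z u) : u ≠ 1 := by
  obtain ⟨h, hN, hu⟩ := h
  intro h1
  apply s.lz.z_ne
  rw [h1] at hu
  have : h * z = h := by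
    calc h * z = (h * z * h⁻¹) * h := by group
      _ = h := by rw [hu, one_mul]
  exact mul_eq_left.1 this

/-- the pair of `e ∈ B ∖ ⟨z⟩` and an element of `N(F)` -/
theorem basic (s : Frame Q B z) {e : G} (he : e ∈ B) (he1 : e ≠ 1) (hez : e ≠ z) :
    P B z e ∧ R B z e z := by
  obtain ⟨A, p, hD⟩ := s.fus ⟨e, s.le he⟩ (s.sq e he) he1 hez
  obtain ⟨y', hy', hy'z⟩ := exists_not_comm p.la p.z_mem p.lz.z_ne p.ne.symm
  obtain ⟨y, hy, hye⟩ := exists_not_comm p.lz p.a_mem p.la.z_ne p.ne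
  have hyz : y' * z ≠ z * y' := by
    rw [hy'z]
    intro h
    exact p.la.z_ne (mul_eq_left.1 h)
  have hN1 : y' ∈ N B := y_mem_normalizer s p hD he hy' hyz
  have hN2 : y ∈ N B := Q_le_normalizer s hy
  obtain ⟨h1, h2⟩ := KillEta.y_conj p hy' hyz
  have e1 : y * z * y⁻¹ = z := by rw [s.lz.comm_z y hy]; group
  have e2 : y * e * y⁻¹ = e * z := by
    have h3 : y * e = e * y * z := hye
    rw [h3, mul_assoc e y z, s.lz.comm_z y hy]; group
  have hez' : e * z = z * e := s.comm he s.z_mem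
  have h3 : (y * y') * z * (y * y')⁻¹ = e := by
    calc (y * y') * z * (y * y')⁻¹ = y * (y' * z * y'⁻¹) * y⁻¹ := by group
      _ = (y * z * y⁻¹) * (y * e * y⁻¹) := by
        have h1' : y' * z * y'⁻¹ = z * e := h1
        rw [h1']; group
      _ = z * (e * z) := by rw [e1, e2]
      _ = e := by rw [hez', ← mul_assoc, s.lz.z_sq, one_mul]
  refine ⟨⟨y * y', (N B).mul_mem hN2 hN1, h3⟩, y * y', (N B).mul_mem hN2 hN1, h3, ?_⟩
  have e3 : y⁻¹ * z * y = z := by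
    rw [mul_assoc, ← s.lz.comm_z y hy]; group
  have e4 : y'⁻¹ * z * y' = z * e := by
    have h2' : y' * (z * e) * y'⁻¹ = z := h2
    calc y'⁻¹ * z * y' = y'⁻¹ * (y' * (z * e) * y'⁻¹) * y' := by rw [h2']
      _ = _ := by group
  have e5 : (y * y')⁻¹ * z * (y * y') = z * e := by
    calc (y * y')⁻¹ * z * (y * y') = y'⁻¹ * (y⁻¹ * z * y) * y' := by group
      _ = _ := by rw [e3, e4]
  rw [e5]
  exact B.mul_mem s.z_mem he

theorem symm (s : Frame Q B z) {u v : G} (h : R B z u v) (hv : v ≠ 1) : P B z v ∧ R B z v u := by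
  obtain ⟨h, hN, hu, hb⟩ := h
  have hb1 : h⁻¹ * v * h ≠ 1 := by
    intro h1
    apply hv
    calc v = h * (h⁻¹ * v * h) * h⁻¹ := by group
      _ = 1 := by rw [h1]; group
  have e : h * (h⁻¹ * v * h) * h⁻¹ = v := by group
  by_cases hbz : h⁻¹ * v * h = z
  · have h1 : u = v := by
      rw [← hu, ← hbz]; group
    subst h1
    exact ⟨⟨h, hN, hu⟩, R_self s ⟨h, hN, hu⟩⟩
  · obtain ⟨⟨k, hk, hkz⟩, h2⟩ := basic s hb hb1 hbz
    have h3 := R_conj hN h2
    rw [e, hu] at h3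
    refine ⟨⟨h * k, (N B).mul_mem hN hk, ?_⟩, h3⟩
    calc h * k * z * (h * k)⁻¹ = h * (k * z * k⁻¹) * h⁻¹ := by group
      _ = v := by rw [hkz, e]

/-- membership in `Q_e` -/
theorem mem_iff_of {A : Subgroup G} {a : G} (p : Pair Q z A a) {h u : G} (hh : h * z * h⁻¹ = a) :
    h⁻¹ * u * h ∈ Q ↔ u ∈ A := by
  obtain ⟨g, hg, -, hA, -⟩ := p.isConj
  rw [hA, ← map_eq_of_conj p.lz (hh.trans hg.symm)]
  constructor
  · intro h1
    refine ⟨h⁻¹ * u * h, h1, ?_⟩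
    show h * (h⁻¹ * u * h) * h⁻¹ = u
    group
  · rintro ⟨x, hx, rfl⟩
    show h⁻¹ * (h * x * h⁻¹) * h ∈ Q
    have e : h⁻¹ * (h * x * h⁻¹) * h = x := by group
    rw [e]; exact hx

theorem R_iff_mem (s : Frame Q B z) {A : Subgroup G} {e u : G} (p : Pair Q z A e)
    (he : P B z e) : R B z e u ↔ u ∈ Subgroup.centralizer (B : Set G) ∧ u ∈ A := by
  obtain ⟨h, hN, hh⟩ := he
  rw [R_iff s hN hh]
  constructor
  · intro h1
    refine ⟨?_, (mem_iff_of p hh).1 (s.le h1)⟩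
    have := N_cent hN (s.B_le h1)
    have e : h * (h⁻¹ * u * h) * h⁻¹ = u := by group
    rwa [e] at this
  · rintro ⟨h1, h2⟩
    exact s.mem_B ((mem_iff_of p hh).2 h2) (N_cent' hN h1)

theorem ncard_four {α : Type*} {a b c d : α} (h1 : a ≠ b) (h2 : a ≠ c) (h3 : a ≠ d) (h4 : b ≠ c)
    (h5 : b ≠ d) (h6 : c ≠ d) : ({a, b, c, d} : Set α).ncard = 4 := by
  rw [Set.ncard_insert_of_notMem, Set.ncard_insert_of_notMem, Set.ncard_pair h6]
  · simp [h4, h5]
  · simp [h1, h2, h3]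

theorem inter (s : Frame Q B z) {e : G} (he : e ∈ B) (he1 : e ≠ 1) (hez : e ≠ z) :
    {x | x ∈ B ∧ R B z e x}.ncard = 4 := by
  obtain ⟨A, p, hD⟩ := s.fus ⟨e, s.le he⟩ (s.sq e he) he1 hez
  obtain ⟨hP, hRz⟩ := basic s he he1 hez
  have hRe := R_self s hP
  have hset : {x | x ∈ B ∧ R B z e x} = ({1, z, e, e * z} : Set G) := by
    ext x
    simp only [Set.mem_setOf_eq, Set.mem_insert_iff, Set.mem_singleton_iff]
    constructor
    · rintro ⟨hx, hR⟩
      exact KillCommute.mem_D4 p hD (s.le hx) ((R_iff_mem s p hP).1 hR).2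
    · rintro (rfl | rfl | rfl | rfl)
      · exact ⟨B.one_mem, R_one s hP⟩
      · exact ⟨s.z_mem, hRz⟩
      · exact ⟨he, hRe⟩
      · exact ⟨B.mul_mem he s.z_mem, R_mul s hRe hRz⟩
  rw [hset]
  apply ncard_four
  · exact s.lz.z_ne.symm
  · exact he1.symm
  · intro h
    apply hez
    rw [eq_comm, mul_eq_one_iff_eq_inv, s.lz.z_inv] at h
    exact h
  · exact hez.symm
  · intro h; exact he1 (mul_eq_right.1 h.symm)
  · intro h; exact s.lz.z_ne (mul_eq_left.1 h.symm)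

end Cfsg.Agent.LargeExtra.KillResidue
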