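import Cfsg.Agent.LargeExtra.WG5
import Cfsg.Agent.LargeExtra.Nine.UInput
import Cfsg.Agent.Involutions.BaerSuzuki

/-!
# Large extraspecial 2-subgroups, case I: opposite pairs; the structure `UInput` (helper888)
-/

set_option autoImplicit false

namespace Cfsg.Agent.LargeExtra.WC.QS

variable {V : Type*} [AddCommGroup V] [Module (ZMod 2) V] {S : QS V}

theorem Sing.formula {T : V ≃ₗ[ZMod 2] V} (h : S.Sing T) {u v : V} (hu : u ∈ W T) (hv : v ∈ W T)
    (hu0 : u ≠ 0) (hv0 : v ≠ 0) (huv : u ≠ v) (x : V) : T x = x + S.b x u • v + S.b x v • u := by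
  rw [S.b_comm x u, S.b_comm x v]
  have hx : T x = x + (T x + x) := by rw [add_comm (T x), ← add_assoc, vadd_self, zero_add]
  have halt := h.alt x
  rcases zm_cases (S.b u x) with h1 | h1 <;> rcases zm_cases (S.b v x) with h2 | h2 <;>
    rw [h1, h2]
  · rw [zero_smul, zero_smul, add_zero, add_zero, h.fix_iff, S.mem_perp]
    intro w hw
    rcases four h.card hu hv hw hu0 hv0 huv with rfl | rfl | rfl | rfl
    · rw [map_zero]; rfl
    · exact h1
    · exact h2
    · rw [map_add, LinearMap.add_apply, h1, h2, add_zero]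
  · have hxp : x ∉ S.perp (W T) := fun h0 => by
      have := S.mem_perp.1 h0 v hv
      rw [h2] at this; exact absurd this (by decide)
    rw [zero_smul, one_smul, add_zero]
    have := eq_of_perp S h.card (f_mem_W T x) hu (h.f_ne hxp) hu0 halt h1 hxp
    rw [this] at hx; exact hx
  · have hxp : x ∉ S.perp (W T) := fun h0 => by
      have := S.mem_perp.1 h0 u hu
      rw [h1] at this; exact absurd this (by decide)
    rw [zero_smul, one_smul, add_zero]
    have := eq_of_perp S h.card (f_mem_W T x) hv (h.f_ne hxp) hv0 halt h2 hxp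
    rw [this] at hx; exact hx
  · have hxp : x ∉ S.perp (W T) := fun h0 => by
      have := S.mem_perp.1 h0 u hu
      rw [h1] at this; exact absurd this (by decide)
    rw [one_smul, one_smul]
    have huv0 : u + v ≠ 0 := fun h0 => huv (eq_of_add h0)
    have h3 : S.b (u + v) x = 0 := by
      rw [map_add, LinearMap.add_apply, h1, h2]; decide
    have := eq_of_perp S h.card (f_mem_W T x) (Submodule.add_mem _ hu hv) (h.f_ne hxp) huv0 halt h3 hxp
    rw [this] at hx; rw [hx]; abel

theorem exists_dual [Finite V] (S : QS V) {u v : V} (huv : u ≠ v) (hv0 : v ≠ 0) :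
    ∃ x, S.b x u = 0 ∧ S.b x v = 1 := by
  by_contra hcon
  push Not at hcon
  have h1 : v ∈ Submodule.span (ZMod 2) ({u} : Set V) := by
    rw [← S.perp_perp (Submodule.span (ZMod 2) ({u} : Set V)), S.mem_perp]
    intro x hx
    have hux : S.b u x = 0 := S.mem_perp.1 hx u (Submodule.subset_span rfl)
    rw [S.b_comm] at hux
    rcases zm_cases (S.b x v) with h | h
    · exact h
    · exact absurd h (hcon x hux)
  rw [Submodule.mem_span_singleton] at h1
  obtain ⟨a, ha⟩ := h1
  rcases zm_cases a with rfl | rfl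
  · rw [zero_smul] at ha; exact hv0 ha.symm
  · rw [one_smul] at ha; exact huv ha

/-- a Siegel element of a totally singular line -/
theorem sing_of_formula [Finite V] {T : V ≃ₗ[ZMod 2] V} (h : S.Inv T) {u v : V} (hu0 : u ≠ 0) (hv0 : v ≠ 0)
    (huv : u ≠ v) (hqu : S.q u = 0) (hqv : S.q v = 0) (hb : S.b u v = 0)
    (hT : ∀ x, T x = x + S.b x u • v + S.b x v • u) : S.Sing T ∧ u ∈ W T ∧ v ∈ W T := by
  have hf : ∀ x, T x + x = S.b x u • v + S.b x v • u := by
    intro x
    rw [hT]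
    have : x + S.b x u • v + S.b x v • u + x = (x + x) + (S.b x u • v + S.b x v • u) := by abel
    rw [this, vadd_self, zero_add]
  have hu : u ∈ W T := by
    obtain ⟨x, h1, h2⟩ := exists_dual S huv hv0
    refine ⟨x, ?_⟩
    show T x + x = u
    rw [hf, h1, h2, zero_smul, one_smul, zero_add]
  have hv : v ∈ W T := by
    obtain ⟨x, h1, h2⟩ := exists_dual S huv.symm hu0
    refine ⟨x, ?_⟩
    show T x + x = v
    rw [hf, h1, h2, zero_smul, one_smul, add_zero]
  have hW : ∀ w ∈ W T, w = 0 ∨ w = u ∨ w = v ∨ w = u + v := by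
    rintro _ ⟨x, rfl⟩
    show T x + x = 0 ∨ T x + x = u ∨ T x + x = v ∨ T x + x = u + v
    rw [hf]
    rcases zm_cases (S.b x u) with h1 | h1 <;> rcases zm_cases (S.b x v) with h2 | h2 <;> rw [h1, h2] <;>
      simp only [zero_smul, one_smul, add_zero, zero_add, true_or, or_true]
    right; right; right; rw [add_comm]
  refine ⟨⟨h, ?_, Cfsg.Agent.LargeExtra.WCIrr.card_four hu hv hu0 hv0 huv hW⟩, hu, hv⟩
  intro x
  rcases hW _ (f_mem_W T x) with h1 | h1 | h1 | h1 <;> rw [h1]
  · exact S.q_zero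
  · exact hqu
  · exact hqv
  · rw [S.q_add, hqu, hqv, hb]; decide

/-- not opposite: the braid of length four -/
theorem Sing.conj_comm {T R : V ≃ₗ[ZMod 2] V} (h : S.Sing T) (h' : S.Sing R) {g : V} (hg : g ∈ W R)
    (hg0 : g ≠ 0) (hgT : g ∈ S.perp (W T)) (v : V) : T (R (T (R v))) = R (T (R (T v))) := by
  -- `T W(R) ⊥ W(R)`
  have hTg : T g = g := h.fix_iff.2 hgT
  have hperp : ∀ a ∈ W R, ∀ c ∈ W R, S.b (T a) c = 0 := by
    intro a ha c hc
    -- `T a = a + (T a + a)`
    have h1 : ∀ a ∈ W R, ∀ c ∈ W R, S.b (T a + a) c = 0 → S.b (T a) c = 0 := by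
      intro a ha c hc h2
      rw [map_add, LinearMap.add_apply, h'.isotropic ha hc, add_zero] at h2
      exact h2
    by_cases hag : a = g
    · rw [hag, hTg]; exact h'.isotropic hg hc
    by_cases ha0 : a = 0
    · rw [ha0, map_zero, map_zero]; rfl
    rcases four h'.card hg ha hc hg0 ha0 (Ne.symm hag) with rfl | rfl | rfl | rfl
    · rw [map_zero]
    · rw [S.b_comm]
      have := h.iso.b_eq c a
      rw [hTg] at this
      rw [this]; exact h'.isotropic hg ha
    · apply h1 c ha c ha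
      exact h.alt c
    · rw [map_add, S.b_comm (T a) g]
      have := h.iso.b_eq g a
      rw [hTg] at this
      rw [this, h'.isotropic hg ha, zero_add]
      apply h1 a ha a ha
      exact h.alt a
  -- `R' = T R T`
  have hfix1 : ∀ w ∈ W R, T (R (T w)) = w := by
    intro w hw
    have h1 : T w ∈ S.perp (W R) := by
      rw [S.mem_perp]
      intro c hc
      rw [S.b_comm]; exact hperp w hw c hc
    rw [h'.fix_iff.2 h1, h.inv]
  have hfix2 : ∀ w ∈ W R, R (T w) = T w := by
    intro w hw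
    have h1 : T w ∈ S.perp (W R) := by
      rw [S.mem_perp]
      intro c hc
      rw [S.b_comm]; exact hperp w hw c hc
    exact h'.fix_iff.2 h1
  -- `R v = v + f`, `R (T v) = T v + f'`
  have e1 : R v = v + (R v + v) := by rw [add_comm (R v), ← add_assoc, vadd_self, zero_add]
  have e2 : R (T v) = T v + (R (T v) + T v) := by
    rw [add_comm (R (T v)), ← add_assoc, vadd_self, zero_add]
  have hm1 := f_mem_W R v
  have hm2 := f_mem_W R (T v)
  have l1 : T (R (T (R v))) = T (R (T v)) + (R v + v) := by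
    nth_rewrite 1 [e1]
    rw [map_add, map_add, map_add, hfix1 _ hm1]
  have l2 : R (T (R (T v))) = R v + T (R (T v) + T v) := by
    nth_rewrite 1 [e2]
    rw [map_add, map_add, hfix2 _ hm2, h.inv]
  rw [l1, l2, map_add, h.inv]
  abel

end Cfsg.Agent.LargeExtra.WC.QS

namespace Cfsg.Agent.LargeExtra.WC.QS

variable {V : Type*} [AddCommGroup V] [Module (ZMod 2) V] {S : QS V}

theorem Sing.exists_dual_basis {T R : V ≃ₗ[ZMod 2] V} (h : S.Sing T) (h' : S.Sing R)
    (hopp : ∀ w ∈ W R, w ∈ S.perp (W T) → w = 0) {u v : V} (hu : u ∈ W T) (hv : v ∈ W T) (hu0 : u ≠ 0)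
    (hv0 : v ≠ 0) (huv : u ≠ v) : ∃ u' ∈ W R, ∃ v' ∈ W R, S.b u u' = 1 ∧ S.b v v' = 1 ∧ S.b u v' = 0 ∧
      S.b v u' = 0 := by
  let f : W R → ZMod 2 × ZMod 2 := fun w => (S.b u w, S.b v w)
  have hf : Function.Injective f := by
    intro x y hxy
    have h1 : S.b u x = S.b u y := congrArg Prod.fst hxy
    have h2 : S.b v x = S.b v y := congrArg Prod.snd hxy
    have h3 : ∀ a : ZMod 2, a + a = 0 := by decide
    have h4 := hopp ((x : V) + y) (Submodule.add_mem _ x.2 y.2) (by
      rw [S.mem_perp]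
      intro w hw
      rcases four h.card hu hv hw hu0 hv0 huv with rfl | rfl | rfl | rfl
      · rw [map_zero]; rfl
      · rw [map_add, h1, h3]
      · rw [map_add, h2, h3]
      · rw [map_add, map_add, LinearMap.add_apply, LinearMap.add_apply, h1, h2, h3])
    exact Subtype.ext (eq_of_add h4)
  have hb := hf.bijective_of_nat_card_le (by
    rw [h'.card, Nat.card_prod, Nat.card_zmod])
  obtain ⟨u', hu'⟩ := hb.2 (1, 0)
  obtain ⟨v', hv'⟩ := hb.2 (0, 1)
  exact ⟨u', u'.2, v', v'.2, congrArg Prod.fst hu', congrArg Prod.snd hv', congrArg Prod.fst hv',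
    congrArg Prod.snd hu'⟩

theorem Sing.exists_basis {T : V ≃ₗ[ZMod 2] V} (h : S.Sing T) : ∃ u ∈ W T, ∃ v ∈ W T, u ≠ 0 ∧ v ≠ 0 ∧
    u ≠ v := by
  have hfin : Finite (W T) := Nat.finite_of_card_ne_zero (by rw [h.card]; norm_num)
  have : Fintype (W T) := Fintype.ofFinite _
  have h4 : Fintype.card (W T) = 4 := by rw [← Nat.card_eq_fintype_card]; exact h.card
  obtain ⟨a, b, cc, hab, hac, hbc⟩ := Fintype.two_lt_card_iff.1 (by rw [h4]; norm_num : 2 < Fintype.card _)
  by_cases ha : (a : V) = 0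
  · refine ⟨b, b.2, cc, cc.2, ?_, ?_, fun h => hbc (Subtype.ext h)⟩
    · intro h; exact hab (ha.trans (h.symm) |> Subtype.ext)
    · intro h; exact hac (ha.trans (h.symm) |> Subtype.ext)
  · by_cases hb : (b : V) = 0
    · refine ⟨a, a.2, cc, cc.2, ha, ?_, fun h => hac (Subtype.ext h)⟩
      intro h; exact hbc (hb.trans (h.symm) |> Subtype.ext)
    · exact ⟨a, a.2, b, b.2, ha, hb, fun h => hab (Subtype.ext h)⟩

end Cfsg.Agent.LargeExtra.WC.QS

namespace Cfsg.Agent.LargeExtra.WCIrr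

open Cfsg.Agent.Co2Type.Quad Cfsg.Agent.LargeExtra.WC

variable {G : Type*} [Group G] {P : Set G} {Q : G → Subgroup G} {p t : G}

/-- `(T R) ^ 4 = 1` -/
theorem pow_four_of_comm {H : Type*} [Group H] {a b : H} (ha : a * a = 1) (hb : b * b = 1)
    (h : a * b * a * b = b * a * b * a) : (a * b) * (a * b) * ((a * b) * (a * b)) = 1 := by
  have h1 : (a * b) * (a * b) = b * a * b * a := by rw [← h]; group
  calc (a * b) * (a * b) * ((a * b) * (a * b)) = (a * b) * (a * b) * (b * a * b * a) := by rw [← h1]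
    _ = a * b * a * (b * b) * a * b * a := by group
    _ = a * b * (a * a) * b * a := by rw [hb]; group
    _ = a * (b * b) * a := by rw [ha]; group
    _ = 1 := by rw [hb, mul_one, ha]

/-- [C] opposite pairs exist -/
theorem Line.exists_opposite [Finite G] (B : Base P Q) (c : Line P Q p t)
    (hO : ∀ N : Subgroup (Subgroup.centralizer ({p} : Set G)), N.Normal → IsPGroup 2 N →
      ∀ x ∈ N, (x : G) ∈ Q p) : ∃ s, ∃ l : Line P Q p s, (∃ k : G, k * p = p * k ∧ s = k * t * k⁻¹) ∧
      ∀ w ∈ QS.W (Com.T B l.toCom),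
        w ∈ (qs (B.large p c.hp)).perp (QS.W (Com.T B c.toCom)) → w = 0 := by
  set C := Subgroup.centralizer ({p} : Set G) with hC
  have htC : t ∈ C := Subgroup.mem_centralizer_singleton_iff.2 c.com.symm
  set τ : C := ⟨t, htC⟩ with hτ
  have ht2 := B.sq c.ht
  have hτ2 : τ * τ = 1 := Subtype.ext ht2
  have hτi : τ⁻¹ = τ := inv_eq_of_mul_eq_one_left hτ2
  obtain ⟨k, hk1, hodd, hinv⟩ := Cfsg.Agent.Involutions.BaerSuzuki.exists_odd_inverted τ hτ2 (by
    intro h
    exact Com.notMem B c.toCom (hO _ Subgroup.normalClosure_normal h τ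
      (Subgroup.subset_normalClosure (Set.mem_singleton _))))
  have hkp : (k : G) * p = p * k := Subgroup.mem_centralizer_singleton_iff.1 k.2
  have hkp' : (k : G) * p * (k : G)⁻¹ = p := by rw [hkp]; group
  have l : Line P Q p ((k : G) * t * (k : G)⁻¹) := by
    have := c.conj B (k : G)
    rwa [hkp'] at this
  refine ⟨_, l, ⟨k, hkp, rfl⟩, ?_⟩
  by_contra hcon
  push Not at hcon
  obtain ⟨g, hg, hgT, hg0⟩ := hcon
  set σ : C := k * τ * k⁻¹ with hσ
  have hσ2 : σ * σ = 1 := by
    rw [hσ]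
    calc k * τ * k⁻¹ * (k * τ * k⁻¹) = k * (τ * τ) * k⁻¹ := by group
      _ = 1 := by rw [hτ2]; group
  set h := B.large p c.hp with hh
  have hcomm : h.act τ * h.act σ * h.act τ * h.act σ = h.act σ * h.act τ * h.act σ * h.act τ := by
    ext v
    exact (c.sing B).conj_comm (l.sing B) hg hg0 hgT v
  have ha : h.act τ * h.act τ = 1 := by rw [← map_mul, hτ2, map_one]
  have hb : h.act σ * h.act σ = 1 := by rw [← map_mul, hσ2, map_one]
  have h4 := pow_four_of_comm ha hb hcomm
  rw [← map_mul, ← map_mul, ← map_mul] at h4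
  have h5 := h.mem_of_act _ h4
  -- `τ σ = k⁻²`
  have h6 : τ * σ = k⁻¹ * k⁻¹ := by
    rw [hσ]
    have : τ * k * τ = k⁻¹ := by
      have := hinv
      rwa [hτi] at this
    calc τ * (k * τ * k⁻¹) = (τ * k * τ) * k⁻¹ := by group
      _ = _ := by rw [this]
  rw [h6] at h5
  have h7 : (k⁻¹ * k⁻¹ * (k⁻¹ * k⁻¹) * (k⁻¹ * k⁻¹ * (k⁻¹ * k⁻¹))) = (k ^ 8)⁻¹ := by
    rw [show (8 : ℕ) = 7 + 1 from rfl]
    simp only [pow_succ, pow_zero, one_mul, mul_inv_rev, mul_assoc]
  rw [h7] at h5
  have h8 : ((k : G) ^ 8)⁻¹ ∈ Q p := h5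
  have h9 : (k : G) ^ 8 ∈ Q p := by
    have := inv_mem h8
    rwa [inv_inv] at this
  have h10 : (k : G) ^ 32 = 1 := by
    have e1 : (k : G) ^ 32 = ((k : G) ^ 8 * (k : G) ^ 8) * ((k : G) ^ 8 * (k : G) ^ 8) := by
      rw [← pow_add, ← pow_add]
    rw [e1]
    rcases h.sq _ h9 with h11 | h11 <;> rw [h11]
    · rw [mul_one]
    · exact B.sq c.hp
  have h11 : k ^ 32 = 1 := Subtype.ext h10
  have h12 : orderOf k ∣ 2 ^ 5 := orderOf_dvd_of_pow_eq_one h11
  obtain ⟨m, -, hm⟩ := (Nat.dvd_prime_pow Nat.prime_two).1 h12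
  rcases Nat.eq_zero_or_pos m with h13 | h13
  · rw [h13, pow_zero] at hm
    exact hk1 (orderOf_eq_one_iff.1 hm)
  · rw [hm] at hodd
    exact (Nat.not_odd_iff_even.2 ((Nat.even_pow.2 ⟨even_two, by omega⟩))) hodd

end Cfsg.Agent.LargeExtra.WCIrr

namespace Cfsg.Agent.LargeExtra.WCIrr

open Cfsg.Agent.Co2Type.Quad Cfsg.Agent.LargeExtra.WC Cfsg.Agent.LargeExtra.Nine

variable {G : Type*} [Group G] {P : Set G} {Q : G → Subgroup G} {p t : G}

theorem Line.isU [Finite G] (B : Base P Q) (c : Line P Q p t) {u v : (B.large p c.hp).V}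
    (hu : u ∈ QS.W (Com.T B c.toCom)) (hv : v ∈ QS.W (Com.T B c.toCom)) (hu0 : u ≠ 0) (hv0 : v ≠ 0)
    (huv : u ≠ v) : IsU (B.large p c.hp) t u v where
  conj := B.exists_conj p c.hp t c.ht
  u0 := hu0
  v0 := hv0
  uv := huv
  qu := (c.sing B).q_W hu
  qv := (c.sing B).q_W hv
  b := (c.sing B).isotropic hu hv
  act := ⟨Subgroup.mem_centralizer_singleton_iff.2 c.com.symm, fun x =>
    (c.sing B).formula hu hv hu0 hv0 huv x⟩

theorem line_of_isU [Finite G] (B : Base P Q) (hp : p ∈ P) (h128 : 128 ≤ Nat.card (B.large p hp).V)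
    {u v : (B.large p hp).V} (h : IsU (B.large p hp) t u v) : ∃ l : Line P Q p t,
      u ∈ QS.W (Com.T B l.toCom) ∧ v ∈ QS.W (Com.T B l.toCom) := by
  obtain ⟨g, hg⟩ := h.conj
  have ht : t ∈ P := by rw [← hg]; exact B.conj_mem p hp g
  obtain ⟨htC, hact⟩ := h.act
  have hcom : t * p = p * t := Subgroup.mem_centralizer_singleton_iff.1 htC
  have hne : p ≠ t := by
    rintro rfl
    obtain ⟨x, h1, h2⟩ := QS.exists_dual (qs (B.large p hp)) h.uv h.v0
    have h3 := hact x
    have h4 : (B.large p hp).act ⟨p, htC⟩ = 1 :=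
      (B.large p hp).act_mem _ (B.large p hp).z_mem
    rw [h4] at h3
    have h5 : x = x + (B.large p hp).b x u • v + (B.large p hp).b x v • u := h3
    have h1' : (B.large p hp).b x u = 0 := h1
    have h2' : (B.large p hp).b x v = 1 := h2
    rw [h1', h2', zero_smul, one_smul, add_zero] at h5
    exact h.u0 (left_eq_add.1 h5)
  have c : Com P p t := ⟨hp, ht, hne, hcom.symm⟩
  obtain ⟨h1, h2, h3⟩ := QS.sing_of_formula (Com.T_inv B c) h.u0 h.v0 h.uv h.qu h.qv h.b
    (fun x => hact x)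
  exact ⟨line_of_sing B c h128 h1, h2, h3⟩

/-- **`UInput` for a class** -/
theorem uinput_base [Finite G] (B : Base P Q) (hp : p ∈ P) (h128 : 128 ≤ Nat.card (B.large p hp).V)
    (hO : ∀ N : Subgroup (Subgroup.centralizer ({p} : Set G)), N.Normal → IsPGroup 2 N →
      ∀ x ∈ N, (x : G) ∈ Q p) (hex : ∃ t, Line P Q p t) : UInput (B.large p hp) Q where
  Qf_z := rfl
  Qf_conj := by
    rintro g t ⟨k, hk⟩
    have ht : t ∈ P := by rw [← hk]; exact B.conj_mem p hp k
    ext x
    constructor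
    · intro hx
      have h1 := B.Q_conj' ht hx
      exact ⟨g⁻¹ * x * g, h1, by
        show g * (g⁻¹ * x * g) * g⁻¹ = x
        group⟩
    · rintro ⟨y, hy, rfl⟩
      exact B.Q_conj t ht g y hy
  rho := by
    intro t u v h
    obtain ⟨l, hu, hv⟩ := line_of_isU B hp h128 h
    obtain ⟨d1, h1, h1', e1⟩ := l.W_mem B hu
    obtain ⟨d2, h2, h2', e2⟩ := l.W_mem B hv
    have h10 : d1 ≠ 1 := by
      rintro rfl
      exact h.u0 (e1.symm.trans (B.large p l.hp).pr_one)
    have h20 : d2 ≠ 1 := by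
      rintro rfl
      exact h.v0 (e2.symm.trans (B.large p l.hp).pr_one)
    have h12 : d1 ≠ d2 := by
      rintro rfl
      exact h.uv (e1.symm.trans e2)
    obtain ⟨ρ, r1, r2, r3, r4⟩ := l.exists_rho B h1 h1' h2 h2' h10 h20 h12
    have hspan : ∀ x, x ∈ Submodule.span (ZMod 2) ({u, v} : Set (B.large p hp).V) ↔
        x ∈ QS.W (Com.T B l.toCom) := by
      intro x
      constructor
      · intro hx
        have : Submodule.span (ZMod 2) ({u, v} : Set (B.large p hp).V) ≤ QS.W (Com.T B l.toCom) := by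
          rw [Submodule.span_le]
          rintro y (rfl | rfl)
          · exact hu
          · exact hv
        exact this hx
      · intro hx
        have m1 : u ∈ Submodule.span (ZMod 2) ({u, v} : Set (B.large p hp).V) :=
          Submodule.subset_span (Or.inl rfl)
        have m2 : v ∈ Submodule.span (ZMod 2) ({u, v} : Set (B.large p hp).V) :=
          Submodule.subset_span (Or.inr rfl)
        rcases QS.four (l.sing B).card hu hv hx h.u0 h.v0 h.uv with rfl | rfl | rfl | rfl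
        · exact Submodule.zero_mem _
        · exact m1
        · exact m2
        · exact Submodule.add_mem _ m1 m2
    have hperp : ∀ x, ((B.large p hp).b u x = 0 ∧ (B.large p hp).b v x = 0) ↔
        x ∈ (qs (B.large p hp)).perp (QS.W (Com.T B l.toCom)) := by
      intro x
      rw [QS.mem_perp]
      constructor
      · rintro ⟨h3, h4⟩ w hw
        rcases QS.four (l.sing B).card hu hv hw h.u0 h.v0 h.uv with rfl | rfl | rfl | rfl
        · rw [map_zero]; rfl
        · exact h3
        · exact h4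
        · rw [map_add, LinearMap.add_apply]
          have h3' : (qs (B.large p hp)).b u x = 0 := h3
          have h4' : (qs (B.large p hp)).b v x = 0 := h4
          rw [h3', h4', add_zero]
      · exact fun h3 => ⟨h3 u hu, h3 v hv⟩
    refine ⟨ρ, ?_, ?_, ?_, ?_⟩
    · intro x hx
      rw [hspan] at hx ⊢
      exact r1 x hx
    · intro x h3 h4
      obtain ⟨a, b, c⟩ := r2 x ((hperp x).1 ⟨h3, h4⟩)
      obtain ⟨a1, a2⟩ := (hperp _).2 a
      exact ⟨a1, a2, b, (hspan _).2 c⟩
    · intro y hy hyp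
      obtain ⟨x, hx, h5⟩ := r3 y hy hyp
      obtain ⟨a1, a2⟩ := (hperp _).2 hx
      refine ⟨x, a1, a2, fun hy' r h6 h7 => ?_⟩
      have := h5 r ((hperp r).1 ⟨h6, h7⟩)
      rw [e1, e2] at this
      exact this
    · intro x h3 h4
      obtain ⟨y, hy, hyp, h5⟩ := r4 x ((hperp x).1 ⟨h3, h4⟩)
      refine ⟨y, hy, Subgroup.mem_centralizer_singleton_iff.2 hyp, fun r h6 h7 => ?_⟩
      have := h5 r ((hperp r).1 ⟨h6, h7⟩)
      rw [e1, e2] at this
      exact this
  same := by
    intro t t' u v h h'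
    obtain ⟨l, hu, hv⟩ := line_of_isU B hp h128 h
    obtain ⟨l', hu', hv'⟩ := line_of_isU B hp h128 h'
    refine l.same B l'.toCom h128 fun x => ?_
    have e1 := (l.sing B).formula hu hv h.u0 h.v0 h.uv x
    have e2 := (l'.sing B).formula hu' hv' h.u0 h.v0 h.uv x
    exact e2.trans e1.symm
  opp := by
    obtain ⟨t, l⟩ := hex
    obtain ⟨s, l', -, hopp⟩ := l.exists_opposite B hO
    obtain ⟨u, hu, v, hv, hu0, hv0, huv⟩ := (l.sing B).exists_basis
    obtain ⟨u', hu', v', hv', b1, b2, b3, b4⟩ := (l.sing B).exists_dual_basis (l'.sing B) hopp hu hv hu0 hv0 huv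
    have hu0' : u' ≠ 0 := by
      rintro rfl
      rw [map_zero] at b1; exact absurd b1 (by decide)
    have hv0' : v' ≠ 0 := by
      rintro rfl
      rw [map_zero] at b2; exact absurd b2 (by decide)
    have huv' : u' ≠ v' := by
      rintro rfl
      rw [b1] at b3; exact absurd b3 (by decide)
    exact ⟨t, u, v, s, u', v', l.isU B hu hv hu0 hv0 huv, l'.isU B hu' hv' hu0' hv0' huv', b1, b2, b3, b4⟩

/-- **`UInput`** -/
theorem uinput [Finite G] {Q : Subgroup G} {z : G} (h : Large Q z) (h128 : 256 ≤ Nat.card Q)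
    (hR : NoRefl Q z) (hwc : ∀ g : G, g * z * g⁻¹ ∈ Q → g * z * g⁻¹ = z)
    (hO : ∀ N : Subgroup (Subgroup.centralizer ({z} : Set G)), N.Normal → IsPGroup 2 N →
      ∀ x ∈ N, (x : G) ∈ Q)
    (hex : ∃ g : G, g * z * g⁻¹ ≠ z ∧ g * z * g⁻¹ * z = z * (g * z * g⁻¹)) : UInput h (QQ Q z) := by
  have B := base h hwc
  have hz : z ∈ cls z := ⟨1, by group⟩
  have hline := exists_line_of_large h (by omega) hR hwc hex
  have h1 := uinput_base B hz (by
    have h2 := (B.large z hz).card_eq
    have h3 : Nat.card (QQ Q z z) = Nat.card Q := by rw [QQ_self h]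
    omega) (fun N hN hN2 x hx => by rw [QQ_self h]; exact hO N hN hN2 x hx) hline
  have key : ∀ (Q' : Subgroup G) (h' : Large Q' z), Q' = Q → UInput h' (QQ Q z) → UInput h (QQ Q z) := by
    rintro Q' h' rfl h3
    exact h3
  exact key _ _ (QQ_self h) h1

end Cfsg.Agent.LargeExtra.WCIrr
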