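import Mathlib

/-!
The elementary projective plane argument: a finite group `M` with an involution `z` whose centraliser is a 2-group,
all of whose involutions lie in one of two elementary abelian subgroups `F1`, `F2` of order 16 (both normalised by
`C(z)`), such that `N(Fi)` is transitive on `Fi#`. The conjugates of `F1` are the points, those of `F2` the lines;
two points are always collinear, hence there are at most 25 points, and `F2` is transitive on the points off the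
line `F2`.
-/

set_option autoImplicit false
set_option linter.unusedSectionVars false

namespace Cfsg.Agent.LargeExtra.PlaneOff

variable {M : Type*} [Group M]

/-- conjugate of a subgroup -/
def cj (g : M) (F : Subgroup M) : Subgroup M := F.map (MulAut.conj g).toMonoidHom

theorem mem_cj {g s : M} {F : Subgroup M} : s ∈ cj g F ↔ g⁻¹ * s * g ∈ F := by
  unfold cj
  rw [Subgroup.mem_map]
  constructor
  · rintro ⟨f, hf, rfl⟩
    simpa [mul_assoc] using hf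
  · intro h
    exact ⟨_, h, by simp [mul_assoc]⟩

theorem cj_one (F : Subgroup M) : cj 1 F = F := by ext s; simp [mem_cj]

theorem cj_mul (g h : M) (F : Subgroup M) : cj (g * h) F = cj g (cj h F) := by
  ext s; simp [mem_cj, mul_assoc]

theorem conj_mem_cj {g s : M} {F : Subgroup M} (hs : s ∈ F) : g * s * g⁻¹ ∈ cj g F := by
  rw [mem_cj]; simpa [mul_assoc] using hs

theorem cj_inv_of {g : M} {F : Subgroup M} (h : cj g F = F) : cj g⁻¹ F = F := by
  conv_lhs => rw [← h]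
  rw [← cj_mul, inv_mul_cancel, cj_one]

theorem cj_inj {g : M} {F F' : Subgroup M} (h : cj g F = cj g F') : F = F' := by
  have := congrArg (cj g⁻¹) h
  rwa [← cj_mul, ← cj_mul, inv_mul_cancel, cj_one, cj_one] at this

theorem card_cj (g : M) (F : Subgroup M) : Nat.card (cj g F) = Nat.card F :=
  (Nat.card_congr ((F.equivMapOfInjective (MulAut.conj g).toMonoidHom
    (MulAut.conj g).injective).toEquiv)).symm

theorem cj_inf (g : M) (F F' : Subgroup M) : cj g (F ⊓ F') = cj g F ⊓ cj g F' := by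
  ext s; simp [mem_cj, Subgroup.mem_inf]

/-- the normaliser of `F` as a subgroup -/
def Nm (F : Subgroup M) : Subgroup M where
  carrier := {w | cj w F = F}
  one_mem' := cj_one F
  mul_mem' := by
    intro a b ha hb
    show cj (a * b) F = F
    rw [cj_mul, show cj b F = F from hb, show cj a F = F from ha]
  inv_mem' := by
    intro a ha
    exact cj_inv_of ha

theorem mem_Nm {w : M} {F : Subgroup M} : w ∈ Nm F ↔ cj w F = F := Iff.rfl

structure Hyp (z : M) (F1 F2 : Subgroup M) : Prop where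
  z1 : z ∈ F1
  z2 : z ∈ F2
  zne : z ≠ 1
  sq1 : ∀ s ∈ F1, s * s = 1
  sq2 : ∀ s ∈ F2, s * s = 1
  card1 : Nat.card F1 = 16
  card2 : Nat.card F2 = 16
  nor1 : ∀ g, g * z = z * g → cj g F1 = F1
  nor2 : ∀ g, g * z = z * g → cj g F2 = F2
  tr1 : ∀ s ∈ F1, s ≠ 1 → ∃ n, cj n F1 = F1 ∧ s = n * z * n⁻¹
  tr2 : ∀ s ∈ F2, s ≠ 1 → ∃ n, cj n F2 = F2 ∧ s = n * z * n⁻¹
  inv : ∀ k, k * z = z * k → k * k = 1 → k ∈ F1 ∨ k ∈ F2
  pg : ∀ g, g * z = z * g → ∃ n, g ^ (2 ^ n) = 1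
  int : 4 ≤ Nat.card (F1 ⊓ F2 : Subgroup M)
  ord : ∀ w, cj w F1 = F1 → orderOf w ≠ 15

variable {z : M} {F1 F2 : Subgroup M}

/-- `e` is a nontrivial common element -/
def Inc (F L : Subgroup M) : Prop := ∃ e, e ≠ 1 ∧ e ∈ F ∧ e ∈ L

namespace Hyp

variable (h : Hyp z F1 F2)
include h

theorem rep1 {s g : M} (hs : s ≠ 1) (hg : s ∈ cj g F1) : ∃ a, s = a * z * a⁻¹ ∧ cj a F1 = cj g F1 := by
  have h1 := mem_cj.mp hg
  obtain ⟨n, hn, hn2⟩ := h.tr1 _ h1 (by
    intro h2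
    apply hs
    have : s = g * (g⁻¹ * s * g) * g⁻¹ := by group
    rw [this, h2]; group)
  refine ⟨g * n, ?_, ?_⟩
  · have : s = g * (g⁻¹ * s * g) * g⁻¹ := by group
    rw [this, hn2]; group
  · rw [cj_mul, hn]

theorem rep2 {s g : M} (hs : s ≠ 1) (hg : s ∈ cj g F2) : ∃ a, s = a * z * a⁻¹ ∧ cj a F2 = cj g F2 := by
  have h1 := mem_cj.mp hg
  obtain ⟨n, hn, hn2⟩ := h.tr2 _ h1 (by
    intro h2
    apply hs
    have : s = g * (g⁻¹ * s * g) * g⁻¹ := by group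
    rw [this, h2]; group)
  refine ⟨g * n, ?_, ?_⟩
  · have : s = g * (g⁻¹ * s * g) * g⁻¹ := by group
    rw [this, hn2]; group
  · rw [cj_mul, hn]

theorem same {a b : M} (hab : a * z * a⁻¹ = b * z * b⁻¹) : cj a F1 = cj b F1 ∧ cj a F2 = cj b F2 := by
  have hc : (a⁻¹ * b) * z = z * (a⁻¹ * b) := by
    have : b * z = a * z * a⁻¹ * b := by rw [hab]; group
    calc (a⁻¹ * b) * z = a⁻¹ * (b * z) := by group
      _ = a⁻¹ * (a * z * a⁻¹ * b) := by rw [this]
      _ = z * (a⁻¹ * b) := by group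
  constructor
  · have := h.nor1 _ hc
    have h2 : cj b F1 = cj a (cj (a⁻¹ * b) F1) := by rw [← cj_mul]; congr 1; group
    rw [h2, this]
  · have := h.nor2 _ hc
    have h2 : cj b F2 = cj a (cj (a⁻¹ * b) F2) := by rw [← cj_mul]; congr 1; group
    rw [h2, this]

theorem uniq1 {s g g' : M} (hs : s ≠ 1) (hg : s ∈ cj g F1) (hg' : s ∈ cj g' F1) :
    cj g F1 = cj g' F1 := by
  obtain ⟨a, ha, ha'⟩ := h.rep1 hs hg
  obtain ⟨b, hb, hb'⟩ := h.rep1 hs hg'
  rw [← ha', ← hb']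
  exact (h.same (ha ▸ hb)).1

theorem uniq2 {s g g' : M} (hs : s ≠ 1) (hg : s ∈ cj g F2) (hg' : s ∈ cj g' F2) :
    cj g F2 = cj g' F2 := by
  obtain ⟨a, ha, ha'⟩ := h.rep2 hs hg
  obtain ⟨b, hb, hb'⟩ := h.rep2 hs hg'
  rw [← ha', ← hb']
  exact (h.same (ha ▸ hb)).2

theorem z_mem_cj1 (a : M) : a * z * a⁻¹ ∈ cj a F1 := conj_mem_cj h.z1
theorem z_mem_cj2 (a : M) : a * z * a⁻¹ ∈ cj a F2 := conj_mem_cj h.z2

theorem conj_ne_one (a : M) : a * z * a⁻¹ ≠ 1 := by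
  intro h1
  apply h.zne
  have : z = a⁻¹ * (a * z * a⁻¹) * a := by group
  rw [this, h1]; group

/-- an involution commuting with a nontrivial element of a point: the point is on the line of the involution -/
theorem lemB {k s g : M} (hk : k * k = 1) (hk1 : k ≠ 1) (hs : s ≠ 1) (hks : k * s = s * k)
    (hsg : s ∈ cj g F1) : ∃ a, k ∈ cj a F2 ∧ Inc (cj g F1) (cj a F2) := by
  obtain ⟨a, ha, ha'⟩ := h.rep1 hs hsg
  have hc : (a⁻¹ * k * a) * z = z * (a⁻¹ * k * a) := by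
    have h1 : z = a⁻¹ * s * a := by rw [ha]; group
    rw [h1]
    calc (a⁻¹ * k * a) * (a⁻¹ * s * a) = a⁻¹ * (k * s) * a := by group
      _ = a⁻¹ * (s * k) * a := by rw [hks]
      _ = (a⁻¹ * s * a) * (a⁻¹ * k * a) := by group
  have hsq : (a⁻¹ * k * a) * (a⁻¹ * k * a) = 1 := by
    calc (a⁻¹ * k * a) * (a⁻¹ * k * a) = a⁻¹ * (k * k) * a := by group
      _ = 1 := by rw [hk]; group
  rcases h.inv _ hc hsq with h1 | h1
  · have h2 : k ∈ cj g F1 := by rw [← ha']; exact mem_cj.mpr h1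
    obtain ⟨b, hb, hb'⟩ := h.rep1 hk1 h2
    refine ⟨b, ?_, k, hk1, h2, ?_⟩
    · rw [hb]; exact h.z_mem_cj2 b
    · rw [hb]; exact h.z_mem_cj2 b
  · refine ⟨a, mem_cj.mpr h1, s, hs, hsg, ?_⟩
    rw [ha]; exact h.z_mem_cj2 a

theorem sq_of_mem {s g : M} (hs : s ∈ cj g F1) : s * s = 1 := by
  have h1 := h.sq1 _ (mem_cj.mp hs)
  have h2 : s * s = g * ((g⁻¹ * s * g) * (g⁻¹ * s * g)) * g⁻¹ := by group
  rw [h2, h1]; group

theorem sq_of_mem2 {s g : M} (hs : s ∈ cj g F2) : s * s = 1 := by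
  have h1 := h.sq2 _ (mem_cj.mp hs)
  have h2 : s * s = g * ((g⁻¹ * s * g) * (g⁻¹ * s * g)) * g⁻¹ := by group
  rw [h2, h1]; group

theorem comm_of_mem {s s' g : M} (hs : s ∈ cj g F1) (hs' : s' ∈ cj g F1) : s * s' = s' * s := by
  have h1 := h.sq_of_mem hs
  have h2 := h.sq_of_mem hs'
  have h3 := h.sq_of_mem ((cj g F1).mul_mem hs hs')
  have h4 : s⁻¹ = s := inv_eq_of_mul_eq_one_right h1
  have h5 : s'⁻¹ = s' := inv_eq_of_mul_eq_one_right h2
  have h6 : (s * s')⁻¹ = s * s' := inv_eq_of_mul_eq_one_right h3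
  rw [← h6, mul_inv_rev, h4, h5]

theorem lemA {k g : M} (hk : k * k = 1) (hk1 : k ≠ 1) (hn : cj k (cj g F1) = cj g F1) :
    ∃ a, k ∈ cj a F2 ∧ Inc (cj g F1) (cj a F2) := by
  have hkinv : k⁻¹ = k := inv_eq_of_mul_eq_one_right hk
  set s := g * z * g⁻¹ with hs
  have hs1 : s ≠ 1 := h.conj_ne_one g
  have hsm : s ∈ cj g F1 := h.z_mem_cj1 g
  have hs' : k * s * k⁻¹ ∈ cj g F1 := by
    have := conj_mem_cj (g := k) hsm
    rwa [hn] at this
  by_cases hc : k * s = s * k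
  · exact h.lemB hk hk1 hs1 hc hsm
  · refine h.lemB (s := s * (k * s * k⁻¹)) hk hk1 ?_ ?_ ((cj g F1).mul_mem hsm hs')
    · intro h1
      apply hc
      have h2 : s⁻¹ = k * s * k⁻¹ := inv_eq_of_mul_eq_one_right h1
      have h3 : s⁻¹ = s := inv_eq_of_mul_eq_one_right (h.sq_of_mem hsm)
      rw [h3] at h2
      have h4 : s * k = k * s := by
        conv_lhs => rw [h2]
        group
      exact h4.symm
    · have h1 := h.comm_of_mem hsm hs'
      have h2 : k * (s * (k * s * k⁻¹)) = (k * s * k⁻¹) * (k * k) * s * k⁻¹ := by group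
      rw [h2, hk, hkinv, mul_one]
      have h3 : s * (k * s * k) * k = s * k * s * (k * k) := by group
      rw [h3, hk, mul_one]
      have h4 : k * s * k * s * k = (k * s * k⁻¹) * s * k := by rw [hkinv]
      rw [h4, ← h1, hkinv]
      have h5 : s * (k * s * k) * k = s * k * s * (k * k) := by group
      rw [h5, hk, mul_one]


theorem inc_card {g a : M} (hi : Inc (cj g F1) (cj a F2)) :
    4 ≤ Nat.card (cj g F1 ⊓ cj a F2 : Subgroup M) := by
  obtain ⟨e, he, heg, hea⟩ := hi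
  obtain ⟨b, hb, hb'⟩ := h.rep1 he heg
  have h1 : cj b F2 = cj a F2 := by
    refine h.uniq2 he ?_ hea
    rw [hb]; exact h.z_mem_cj2 b
  rw [← hb', ← h1, ← cj_inf, card_cj]
  exact h.int

omit h in
theorem dihedral [Finite M] {s s' : M} (hs : s * s = 1) (hs' : s' * s' = 1)
    (hno : ∀ k, k * k = 1 → k ≠ 1 → k * s = s * k → k * s' = s' * k → False) :
    ∃ d, d * d = 1 ∧ d * s * d⁻¹ = s' := by
  have hsi : s⁻¹ = s := inv_eq_of_mul_eq_one_right hs
  have hsi' : s'⁻¹ = s' := inv_eq_of_mul_eq_one_right hs'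
  set w := s * s' with hw
  have hinv : s * w * s⁻¹ = w⁻¹ := by
    rw [hw, mul_inv_rev, hsi, hsi', ← mul_assoc, hs, one_mul]
  have hinv' : s' * w * s'⁻¹ = w⁻¹ := by
    rw [hw, mul_inv_rev, hsi', hsi]
    rw [mul_assoc, mul_assoc, hs', mul_one]
  have hpow : ∀ j, s * w ^ j * s⁻¹ = (w ^ j)⁻¹ := by
    intro j
    rw [← conj_pow, hinv, inv_pow]
  have hpow' : ∀ j, s' * w ^ j * s'⁻¹ = (w ^ j)⁻¹ := by
    intro j
    rw [← conj_pow, hinv', inv_pow]
  have hodd : Odd (orderOf w) := by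
    by_contra hne
    rw [Nat.not_odd_iff_even] at hne
    obtain ⟨m, hm⟩ := hne
    have hpos : 0 < orderOf w := orderOf_pos w
    have hkk : w ^ m * w ^ m = 1 := by rw [← pow_add, ← hm, pow_orderOf_eq_one]
    have hki : (w ^ m)⁻¹ = w ^ m := inv_eq_of_mul_eq_one_right hkk
    refine hno (w ^ m) hkk ?_ ?_ ?_
    · intro h1
      have := orderOf_dvd_of_pow_eq_one h1
      have := Nat.le_of_dvd (by omega) this
      omega
    · have := hpow m
      rw [hki] at this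
      exact (mul_inv_eq_iff_eq_mul.mp this).symm
    · have := hpow' m
      rw [hki] at this
      exact (mul_inv_eq_iff_eq_mul.mp this).symm
  obtain ⟨m, hm⟩ := hodd
  have hd : (s * w ^ (m + 1)) * (s * w ^ (m + 1)) = 1 := by
    have := hpow (m + 1)
    rw [hsi] at this
    rw [← mul_assoc, this, inv_mul_cancel]
  refine ⟨s * w ^ (m + 1), hd, ?_⟩
  have hdi : (s * w ^ (m + 1))⁻¹ = s * w ^ (m + 1) := inv_eq_of_mul_eq_one_right hd
  rw [hdi]
  have h1 : s * w ^ (m + 1) * s * (s * w ^ (m + 1)) = s * w ^ (m + 1) * (s * s) * w ^ (m + 1) := by group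
  rw [h1, hs, mul_one, mul_assoc, ← pow_add]
  have h2 : m + 1 + (m + 1) = orderOf w + 1 := by omega
  rw [h2, pow_succ, pow_orderOf_eq_one, one_mul, hw, ← mul_assoc, hs, one_mul]

omit h in
theorem card_ne_one [Finite M] (F : Subgroup M) : Nat.card {s : M // s ∈ F ∧ s ≠ 1} = Nat.card F - 1 := by
  classical
  have e : {s : M // s ∈ F ∧ s ≠ 1} ≃ {s : F // s ≠ 1} :=
    { toFun := fun s => ⟨⟨s.1, s.2.1⟩, fun h1 => s.2.2 (congrArg Subtype.val h1)⟩
      invFun := fun s => ⟨s.1.1, s.1.2, fun h1 => s.2 (Subtype.ext h1)⟩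
      left_inv := fun s => rfl
      right_inv := fun s => rfl }
  rw [Nat.card_congr e]
  have : Fintype F := Fintype.ofFinite _
  rw [Nat.card_eq_fintype_card, Nat.card_eq_fintype_card]
  rw [Fintype.card_subtype_compl, Fintype.card_subtype_eq]

theorem collinear [Finite M] {g g' : M} (hne : cj g F1 ≠ cj g' F1) :
    ∃ a, Inc (cj g F1) (cj a F2) ∧ Inc (cj g' F1) (cj a F2) := by
  classical
  by_contra hno
  push Not at hno
  have key : ∀ k, k * k = 1 → k ≠ 1 → ∀ s ∈ cj g F1, s ≠ 1 → ∀ s' ∈ cj g' F1, s' ≠ 1 →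
      k * s = s * k → k * s' = s' * k → False := by
    intro k hk hk1 s hs hs1 s' hs' hs1' hc hc'
    obtain ⟨a, ha, hi⟩ := h.lemB hk hk1 hs1 hc hs
    obtain ⟨b, hb, hi'⟩ := h.lemB hk hk1 hs1' hc' hs'
    exact hno a hi ((h.uniq2 hk1 ha hb) ▸ hi')
  have keyA : ∀ k, k * k = 1 → k ≠ 1 → cj k (cj g F1) = cj g F1 → cj k (cj g' F1) = cj g' F1 → False := by
    intro k hk hk1 hc hc'
    obtain ⟨a, ha, hi⟩ := h.lemA hk hk1 hc
    obtain ⟨b, hb, hi'⟩ := h.lemA hk hk1 hc'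
    exact hno a hi ((h.uniq2 hk1 ha hb) ▸ hi')
  set s0 := g * z * g⁻¹ with hs0
  have hs0m : s0 ∈ cj g F1 := h.z_mem_cj1 g
  have hs01 : s0 ≠ 1 := h.conj_ne_one g
  have hd : ∀ s' : {s : M // s ∈ cj g' F1 ∧ s ≠ 1}, ∃ d : M, d * d = 1 ∧ d * s0 * d⁻¹ = s'.1 := by
    rintro ⟨s', hs', hs1'⟩
    exact dihedral (h.sq_of_mem hs0m) (h.sq_of_mem hs')
      (fun k hk hk1 hc hc' => key k hk hk1 s0 hs0m hs01 s' hs' hs1' hc hc')
  choose d hd1 hd2 using hd
  have hdF : ∀ s', cj (d s') (cj g F1) = cj g' F1 := by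
    intro s'
    rw [← cj_mul]
    refine h.uniq1 s'.2.2 ?_ s'.2.1
    rw [← hd2 s', cj_mul]
    exact conj_mem_cj hs0m
  have hdF' : ∀ s', cj (d s') (cj g' F1) = cj g F1 := by
    intro s'
    rw [← hdF s', ← cj_mul, hd1, cj_one]
  set W : Subgroup M := Nm (cj g F1) ⊓ Nm (cj g' F1) with hW
  have hWinv : ∀ k ∈ W, k * k = 1 → k = 1 := by
    intro k hk hkk
    by_contra hk1
    exact keyA k hkk hk1 hk.1 hk.2
  have hfree : ∀ w ∈ W, w * s0 = s0 * w → w = 1 := by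
    intro w hw hc
    have hc' : (g⁻¹ * w * g) * z = z * (g⁻¹ * w * g) := by
      have h1 : z = g⁻¹ * s0 * g := by rw [hs0]; group
      rw [h1]
      calc (g⁻¹ * w * g) * (g⁻¹ * s0 * g) = g⁻¹ * (w * s0) * g := by group
        _ = g⁻¹ * (s0 * w) * g := by rw [hc]
        _ = (g⁻¹ * s0 * g) * (g⁻¹ * w * g) := by group
    obtain ⟨n, hn⟩ := h.pg _ hc'
    have hn' : w ^ (2 ^ n) = 1 := by
      have h1 : (g⁻¹ * w * g) ^ (2 ^ n) = g⁻¹ * w ^ (2 ^ n) * g := by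
        have := conj_pow (i := 2 ^ n) (a := g⁻¹) (b := w)
        rwa [inv_inv] at this
      rw [h1] at hn
      have h2 : w ^ (2 ^ n) = g * (g⁻¹ * w ^ (2 ^ n) * g) * g⁻¹ := by group
      rw [h2, hn]; group
    clear hn
    induction n with
    | zero => simpa using hn'
    | succ n ih =>
      apply ih
      refine hWinv _ (W.pow_mem hw _) ?_
      rw [← pow_add, ← two_mul, ← pow_succ']
      exact hn'
  let s1 : {s : M // s ∈ cj g' F1 ∧ s ≠ 1} := ⟨g' * z * g'⁻¹, h.z_mem_cj1 g', h.conj_ne_one g'⟩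
  set d0 := d s1 with hd0
  have hd0i : d0⁻¹ = d0 := inv_eq_of_mul_eq_one_right (hd1 s1)
  let φ : {s : M // s ∈ cj g' F1 ∧ s ≠ 1} → W := fun s' => ⟨d0⁻¹ * d s', by
    constructor
    · show cj (d0⁻¹ * d s') (cj g F1) = cj g F1
      rw [cj_mul, hdF, hd0i, hd0, hdF']
    · show cj (d0⁻¹ * d s') (cj g' F1) = cj g' F1
      rw [cj_mul, hdF', hd0i, hd0, hdF]⟩
  have hφ : Function.Injective φ := by
    intro s' s'' he
    have h1 : d0⁻¹ * d s' = d0⁻¹ * d s'' := congrArg Subtype.val he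
    have h2 : d s' = d s'' := mul_left_cancel h1
    apply Subtype.ext
    rw [← hd2 s', ← hd2 s'', h2]
  let ψ : W → {s : M // s ∈ cj g F1 ∧ s ≠ 1} := fun w => ⟨w.1 * s0 * w.1⁻¹, by
      have := conj_mem_cj (g := w.1) hs0m
      rwa [show cj w.1 (cj g F1) = cj g F1 from w.2.1] at this, by
      intro h1
      apply hs01
      have : s0 = w.1⁻¹ * (w.1 * s0 * w.1⁻¹) * w.1 := by group
      rw [this, h1]; group⟩
  have hψ : Function.Injective ψ := by
    intro w w' he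
    have h1 : w.1 * s0 * w.1⁻¹ = w'.1 * s0 * w'.1⁻¹ := congrArg Subtype.val he
    have h2 := hfree (w.1⁻¹ * w'.1) (W.mul_mem (W.inv_mem w.2) w'.2) (by
      calc w.1⁻¹ * w'.1 * s0 = w.1⁻¹ * (w'.1 * s0 * w'.1⁻¹) * w'.1 := by group
        _ = w.1⁻¹ * (w.1 * s0 * w.1⁻¹) * w'.1 := by rw [h1]
        _ = s0 * (w.1⁻¹ * w'.1) := by group)
    apply Subtype.ext
    exact (inv_mul_eq_one.mp h2)
  have hcA : ∀ a : M, Nat.card {s : M // s ∈ cj a F1 ∧ s ≠ 1} = 15 := by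
    intro a
    rw [card_ne_one, card_cj, h.card1]
  have hW1 : 15 ≤ Nat.card W := by
    rw [← hcA g']; exact Nat.card_le_card_of_injective φ hφ
  have hW2 : Nat.card W ≤ 15 := by
    rw [← hcA g]; exact Nat.card_le_card_of_injective ψ hψ
  have hW3 : Nat.card W = 15 := le_antisymm hW2 hW1
  have hbij : Function.Bijective φ := by
    have : Fintype W := Fintype.ofFinite _
    have : Fintype {s : M // s ∈ cj g' F1 ∧ s ≠ 1} := Fintype.ofFinite _
    rw [Fintype.bijective_iff_injective_and_card]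
    refine ⟨hφ, ?_⟩
    rw [← Nat.card_eq_fintype_card, ← Nat.card_eq_fintype_card, hW3, hcA]
  have hinvW : ∀ w ∈ W, d0 * w * d0⁻¹ = w⁻¹ := by
    intro w hw
    obtain ⟨s', hs'⟩ := hbij.2 ⟨w, hw⟩
    have h1 : d0⁻¹ * d s' = w := congrArg Subtype.val hs'
    have h2 : d0 * w = d s' := by rw [← h1]; group
    have h3 : (d0 * w) * (d0 * w) = 1 := by rw [h2]; exact hd1 s'
    rw [hd0i]
    rw [← mul_assoc] at h3
    exact eq_inv_of_mul_eq_one_left h3
  have hcomm : ∀ w ∈ W, ∀ w' ∈ W, w * w' = w' * w := by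
    intro w hw w' hw'
    have h1 := hinvW _ (W.mul_mem hw hw')
    have h2 : d0 * (w * w') * d0⁻¹ = (d0 * w * d0⁻¹) * (d0 * w' * d0⁻¹) := by group
    rw [h2, hinvW w hw, hinvW w' hw', ← mul_inv_rev] at h1
    exact (inv_injective h1).symm
  have : Fact (Nat.Prime 3) := ⟨Nat.prime_three⟩
  have : Fact (Nat.Prime 5) := ⟨Nat.prime_five⟩
  obtain ⟨w3, hw3⟩ := exists_prime_orderOf_dvd_card' (G := W) 3 (by rw [hW3]; norm_num)
  obtain ⟨w5, hw5⟩ := exists_prime_orderOf_dvd_card' (G := W) 5 (by rw [hW3]; norm_num)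
  have hc35 : Commute w3 w5 := Subtype.ext (hcomm w3.1 w3.2 w5.1 w5.2)
  have ho : orderOf (w3 * w5) = 15 := by
    rw [hc35.orderOf_mul_eq_mul_orderOf_of_coprime (by rw [hw3, hw5]; norm_num), hw3, hw5]
  set w : M := ((w3 * w5 : W) : M) with hw
  have ho' : orderOf w = 15 := by rw [hw, Subgroup.orderOf_coe, ho]
  have hwW : cj w (cj g F1) = cj g F1 := (w3 * w5).2.1
  apply h.ord (g⁻¹ * w * g)
  · apply cj_inj (g := g)
    rw [← cj_mul, ← hwW, ← cj_mul]
    congr 1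
    group
  · have h1 : g⁻¹ * w * g = (MulAut.conj g⁻¹) w := by simp
    rw [h1, ← ho']
    exact orderOf_injective (MulAut.conj g⁻¹).toMonoidHom (MulAut.conj g⁻¹).injective w


theorem inc_refl : Inc (cj 1 F1) (cj 1 F2) := by
  refine ⟨z, h.zne, ?_, ?_⟩
  · rw [cj_one]; exact h.z1
  · rw [cj_one]; exact h.z2

/-- there are at most 25 points -/
theorem card_points [Finite M] : Nat.card (Set.range fun g : M => cj g F1) ≤ 25 := by
  classical
  set P := Set.range fun g : M => cj g F1 with hP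
  have hfin : Finite P := Set.finite_range _
  -- a line through F1 and p
  have hline : ∀ p : P, ∃ a : M, 4 ≤ Nat.card (F1 ⊓ cj a F2 : Subgroup M) ∧
      4 ≤ Nat.card (p.1 ⊓ cj a F2 : Subgroup M) := by
    rintro ⟨p, g, rfl⟩
    by_cases hpe : cj g F1 = F1
    · refine ⟨1, ?_, ?_⟩
      · rw [cj_one]; exact h.int
      · show 4 ≤ Nat.card (cj g F1 ⊓ cj 1 F2 : Subgroup M)
        rw [cj_one, hpe]; exact h.int
    · obtain ⟨a, ha, ha'⟩ := h.collinear (g := 1) (g' := g) (by rw [cj_one]; exact fun h1 => hpe h1.symm)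
      refine ⟨a, ?_, h.inc_card ha'⟩
      have := h.inc_card ha
      rwa [cj_one] at this
  choose L hL1 hL2 using hline
  -- for s in F1#, an element a with s = a z a⁻¹
  have hrep : ∀ s : {s : M // s ∈ F1 ∧ s ≠ 1}, ∃ a, s.1 = a * z * a⁻¹ ∧ cj a F1 = F1 := by
    intro s
    have := h.rep1 (s := s.1) (g := 1) s.2.2 (by rw [cj_one]; exact s.2.1)
    rwa [cj_one] at this
  choose A hA1 hA2 using hrep
  have hAm : ∀ s, s.1 ∈ cj (A s) F2 := by
    intro s
    have h1 := h.z_mem_cj2 (A s)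
    rwa [← hA1 s] at h1
  let T := Σ s : {s : M // s ∈ F1 ∧ s ≠ 1}, {s' : M // s' ∈ cj (A s) F2 ∧ s' ≠ 1}
  have hT : Nat.card T = 225 := by
    have : Fintype {s : M // s ∈ F1 ∧ s ≠ 1} := Fintype.ofFinite _
    rw [Nat.card_sigma]
    have h1 : ∀ s : {s : M // s ∈ F1 ∧ s ≠ 1}, Nat.card {s' : M // s' ∈ cj (A s) F2 ∧ s' ≠ 1} = 15 := by
      intro s
      rw [card_ne_one, card_cj, h.card2]
    simp only [h1, Finset.sum_const, smul_eq_mul]
    rw [Finset.card_univ, ← Nat.card_eq_fintype_card, card_ne_one, h.card1]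
  let X : P → Type _ := fun p =>
    {s : M // s ∈ (F1 ⊓ cj (L p) F2 : Subgroup M) ∧ s ≠ 1} × {s : M // s ∈ (p.1 ⊓ cj (L p) F2 : Subgroup M) ∧ s ≠ 1}
  have hX : ∀ p, 9 ≤ Nat.card (X p) := by
    intro p
    show 9 ≤ Nat.card (_ × _)
    rw [Nat.card_prod, card_ne_one, card_ne_one]
    have h1 := hL1 p
    have h2 := hL2 p
    calc 9 = 3 * 3 := by norm_num
      _ ≤ _ := Nat.mul_le_mul (by omega) (by omega)
  let Φ : (Σ p : P, X p) → T := fun q =>
    ⟨⟨q.2.1.1, q.2.1.2.1.1, q.2.1.2.2⟩, ⟨q.2.2.1, by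
      have h1 : q.2.1.1 ∈ cj (A ⟨q.2.1.1, q.2.1.2.1.1, q.2.1.2.2⟩) F2 := hAm ⟨q.2.1.1, q.2.1.2.1.1, q.2.1.2.2⟩
      have h2 := h.uniq2 q.2.1.2.2 h1 q.2.1.2.1.2
      rw [h2]
      exact q.2.2.2.1.2, q.2.2.2.2⟩⟩
  have hΦ : Function.Injective Φ := by
    rintro ⟨⟨p, g, rfl⟩, ⟨⟨s, hs⟩, ⟨s', hs'⟩⟩⟩ ⟨⟨p2, g2, rfl⟩, ⟨⟨s2, hs2⟩, ⟨s2', hs2'⟩⟩⟩ he
    have h1 : s = s2 := congrArg (fun t : T => t.1.1) he
    have h2 : s' = s2' := congrArg (fun t : T => t.2.1) he
    subst h1 h2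
    have h3 : cj g F1 = cj g2 F1 := h.uniq1 hs'.2 hs'.1.1 hs2'.1.1
    have h4 : (⟨(fun g : M => cj g F1) g, g, rfl⟩ : P) = ⟨(fun g : M => cj g F1) g2, g2, rfl⟩ := Subtype.ext h3
    have key : ∀ (q q' : P) (hq : q = q') (a : M) (ha : a ∈ (F1 ⊓ cj (L q) F2 : Subgroup M) ∧ a ≠ 1)
        (ha' : a ∈ (F1 ⊓ cj (L q') F2 : Subgroup M) ∧ a ≠ 1) (b : M)
        (hb : b ∈ (q.1 ⊓ cj (L q) F2 : Subgroup M) ∧ b ≠ 1)
        (hb' : b ∈ (q'.1 ⊓ cj (L q') F2 : Subgroup M) ∧ b ≠ 1),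
        (⟨q, (⟨a, ha⟩, ⟨b, hb⟩)⟩ : Σ p : P, X p) = ⟨q', (⟨a, ha'⟩, ⟨b, hb'⟩)⟩ := by
      intro q q' hq a ha ha' b hb hb'
      subst hq
      rfl
    exact key _ _ h4 _ _ _ _ _ _
  have h5 : Nat.card (Σ p : P, X p) ≤ 225 := by
    rw [← hT]; exact Nat.card_le_card_of_injective Φ hΦ
  have : Fintype P := Fintype.ofFinite _
  rw [Nat.card_sigma] at h5
  have h6 : Nat.card P * 9 ≤ ∑ p : P, Nat.card (X p) := by
    calc Nat.card P * 9 = ∑ _p : P, 9 := by
          rw [Finset.sum_const, smul_eq_mul, Finset.card_univ, Nat.card_eq_fintype_card]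
      _ ≤ _ := Finset.sum_le_sum fun p _ => hX p
  omega

/-- `F2` is transitive on the points off the line `F2` -/
theorem off_trans [Finite M] {g g' : M} (hg : ¬ Inc (cj g F1) F2) (hg' : ¬ Inc (cj g' F1) F2) :
    ∃ v ∈ F2, cj (v * g) F1 = cj g' F1 := by
  classical
  by_contra hno
  push Not at hno
  set P := Set.range fun g : M => cj g F1 with hP
  have hfin : Finite P := Set.finite_range _
  have hfree : ∀ a : M, ¬ Inc (cj a F1) F2 → ∀ v ∈ F2, ∀ v' ∈ F2, cj (v * a) F1 = cj (v' * a) F1 → v = v' := by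
    intro a ha v hv v' hv' he
    by_contra hne
    have h1 : v⁻¹ * v' ∈ F2 := F2.mul_mem (F2.inv_mem hv) hv'
    have h2 : v⁻¹ * v' ≠ 1 := fun h2 => hne (inv_mul_eq_one.mp h2)
    have h3 : cj (v⁻¹ * v') (cj a F1) = cj a F1 := by
      rw [cj_mul, ← cj_mul v', ← he, ← cj_mul, ← mul_assoc, inv_mul_cancel, one_mul]
    obtain ⟨b, hb, hi⟩ := h.lemA (h.sq2 _ h1) h2 h3
    have h4 : cj b F2 = F2 := by
      have := h.uniq2 (g := b) (g' := 1) h2 hb (by rw [cj_one]; exact h1)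
      rwa [cj_one] at this
    rw [h4] at hi
    exact ha hi
  let Φ : F2 ⊕ F2 → P := fun q => Sum.elim (fun v => ⟨cj (v.1 * g) F1, _, rfl⟩) (fun v => ⟨cj (v.1 * g') F1, _, rfl⟩) q
  have hΦ : Function.Injective Φ := by
    have hcross : ∀ v ∈ F2, ∀ v' ∈ F2, cj (v * g) F1 ≠ cj (v' * g') F1 := by
      intro v hv v' hv' he
      refine hno (v'⁻¹ * v) (F2.mul_mem (F2.inv_mem hv') hv) ?_
      rw [mul_assoc, cj_mul, he, ← cj_mul, ← mul_assoc, inv_mul_cancel, one_mul]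
    rintro (⟨v, hv⟩ | ⟨v, hv⟩) (⟨v', hv'⟩ | ⟨v', hv'⟩) he
    · have h1 : cj (v * g) F1 = cj (v' * g) F1 := congrArg Subtype.val he
      exact congrArg Sum.inl (Subtype.ext (hfree g hg v hv v' hv' h1))
    · exact absurd (congrArg Subtype.val he) (hcross v hv v' hv')
    · exact absurd (congrArg Subtype.val he).symm (hcross v' hv' v hv)
    · have h1 : cj (v * g') F1 = cj (v' * g') F1 := congrArg Subtype.val he
      exact congrArg Sum.inr (Subtype.ext (hfree g' hg' v hv v' hv' h1))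
  have h1 := Nat.card_le_card_of_injective Φ hΦ
  rw [Nat.card_sum, h.card2] at h1
  have h2 : Nat.card P ≤ 25 := h.card_points
  omega

end Hyp

end Cfsg.Agent.LargeExtra.PlaneOff
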