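import Cfsg.Agent.LargeExtra.WCIrrD
import Cfsg.Agent.SporRec.LyReduce

/-!
# Large extraspecial 2-subgroups, case I, any width (helper821)

`irreducible`: `G` finite simple nonabelian, `Large Q z`, `|Q| ≥ 2 ^ 7`, `O₂(C_G(z)) = Q`, `z^G ∩ Q = {z}`:
every subgroup `z ∈ A ≤ Q` normalised by `C_G(z)` is `⟨z⟩` or `Q`.

`irreducible_of_fstar`: the same in the language of S1761.
-/

set_option autoImplicit false

namespace Cfsg.Agent.LargeExtra.WCIrr

open Cfsg.Agent.Co2Type.Quad Cfsg.Agent.LargeExtra.WC Cfsg.Agent.LargeExtra.Base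

variable {G : Type*} [Group G] {Q : Subgroup G} {z : G}

/-- `z^G` -/
def cls (z : G) : Set G := {x | ∃ g : G, g * z * g⁻¹ = x}

open Classical in
/-- `Q^g` for `p = z^g` -/
noncomputable def QQ (Q : Subgroup G) (z p : G) : Subgroup G :=
  if h : ∃ g : G, g * z * g⁻¹ = p then Q.map (MulAut.conj h.choose).toMonoidHom else ⊥

theorem QQ_eq (h : Large Q z) (g : G) : QQ Q z (g * z * g⁻¹) = Q.map (MulAut.conj g).toMonoidHom := by
  have hex : ∃ g' : G, g' * z * g'⁻¹ = g * z * g⁻¹ := ⟨g, rfl⟩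
  rw [QQ, dif_pos hex]
  exact map_eq_of_conj h hex.choose_spec

theorem QQ_self (h : Large Q z) : QQ Q z z = Q := by
  have h1 := QQ_eq h 1
  have e : (1 : G) * z * (1 : G)⁻¹ = z := by group
  rw [e] at h1
  rw [h1]
  ext x
  constructor
  · rintro ⟨y, hy, rfl⟩
    have : (MulAut.conj (1 : G)).toMonoidHom y = y := by
      show 1 * y * (1 : G)⁻¹ = y
      group
    rw [this]; exact hy
  · intro hx
    exact ⟨x, hx, by show 1 * x * (1 : G)⁻¹ = x; group⟩

theorem base (h : Large Q z) (hwc : ∀ g : G, g * z * g⁻¹ ∈ Q → g * z * g⁻¹ = z) :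
    Base (cls z) (QQ Q z) where
  conj_mem := by
    rintro _ ⟨g, rfl⟩ k
    exact ⟨k * g, by group⟩
  exists_conj := by
    rintro _ ⟨g, rfl⟩ _ ⟨k, rfl⟩
    exact ⟨k * g⁻¹, by group⟩
  large := by
    rintro _ ⟨g, rfl⟩
    rw [QQ_eq h]
    exact h.conj g
  Q_conj := by
    rintro _ ⟨g, rfl⟩ k x hx
    have e : k * (g * z * g⁻¹) * k⁻¹ = (k * g) * z * (k * g)⁻¹ := by group
    rw [e, QQ_eq h]
    rw [QQ_eq h] at hx
    obtain ⟨y, hy, rfl⟩ := hx
    refine ⟨y, hy, ?_⟩
    show k * g * y * (k * g)⁻¹ = k * (g * y * g⁻¹) * k⁻¹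
    group
  eq_of_mem := by
    rintro _ ⟨g, rfl⟩ _ ⟨k, rfl⟩ hx
    rw [QQ_eq h] at hx
    obtain ⟨y, hy, hyk⟩ := hx
    have hyk' : g * y * g⁻¹ = k * z * k⁻¹ := hyk
    have h1 : (g⁻¹ * k) * z * (g⁻¹ * k)⁻¹ = y := by
      calc (g⁻¹ * k) * z * (g⁻¹ * k)⁻¹ = g⁻¹ * (k * z * k⁻¹) * g := by group
        _ = y := by rw [← hyk']; group
    have h2 := hwc (g⁻¹ * k) (by rw [h1]; exact hy)
    rw [h1] at h2
    rw [← hyk', h2]

/-- the condition `O₂(C(z)) ≤ Q` is invariant under conjugation -/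
theorem normal_two (h : Large Q z)
    (hO : ∀ N : Subgroup (Subgroup.centralizer ({z} : Set G)), N.Normal → IsPGroup 2 N →
      ∀ x ∈ N, (x : G) ∈ Q) (p : G) (hp : p ∈ cls z)
    (N : Subgroup (Subgroup.centralizer ({p} : Set G))) (hN : N.Normal) (hN2 : IsPGroup 2 N) :
    ∀ x ∈ N, (x : G) ∈ QQ Q z p := by
  obtain ⟨g, rfl⟩ := hp
  rw [QQ_eq h]
  have hc : ∀ x : G, x * z = z * x → (g * x * g⁻¹) * (g * z * g⁻¹) = (g * z * g⁻¹) * (g * x * g⁻¹) := by
    intro x hx
    calc (g * x * g⁻¹) * (g * z * g⁻¹) = g * (x * z) * g⁻¹ := by group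
      _ = _ := by rw [hx]; group
  -- conjugation `C(z) → C(z^g)`
  let φ : Subgroup.centralizer ({z} : Set G) →* Subgroup.centralizer ({g * z * g⁻¹} : Set G) :=
    { toFun := fun x => ⟨g * x * g⁻¹, Subgroup.mem_centralizer_singleton_iff.2
        (hc x (Subgroup.mem_centralizer_singleton_iff.1 x.2))⟩
      map_one' := Subtype.ext (by show g * 1 * g⁻¹ = 1; group)
      map_mul' := fun x y => Subtype.ext (by
        show g * ((x : G) * y) * g⁻¹ = (g * x * g⁻¹) * (g * y * g⁻¹)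
        group) }
  have hφ : Function.Injective φ := by
    intro x y hxy
    apply Subtype.ext
    have h1 : g * (x : G) * g⁻¹ = g * y * g⁻¹ := congrArg Subtype.val hxy
    exact mul_left_cancel (mul_right_cancel h1)
  have h1 : (N.comap φ).Normal := hN.comap φ
  have h2 : IsPGroup 2 (N.comap φ) := hN2.comap_of_injective φ hφ
  intro x hx
  have hxz : (g⁻¹ * (x : G) * g) * z = z * (g⁻¹ * x * g) := by
    have h3 := Subgroup.mem_centralizer_singleton_iff.1 x.2
    calc (g⁻¹ * (x : G) * g) * z = g⁻¹ * ((x : G) * (g * z * g⁻¹)) * g := by group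
      _ = g⁻¹ * ((g * z * g⁻¹) * x) * g := by rw [h3]
      _ = _ := by group
  have h3 := hO (N.comap φ) h1 h2 ⟨g⁻¹ * (x : G) * g, Subgroup.mem_centralizer_singleton_iff.2 hxz⟩ (by
    rw [Subgroup.mem_comap]
    have : φ ⟨g⁻¹ * (x : G) * g, Subgroup.mem_centralizer_singleton_iff.2 hxz⟩ = x := by
      apply Subtype.ext
      show g * (g⁻¹ * (x : G) * g) * g⁻¹ = x
      group
    rw [this]; exact hx)
  refine ⟨_, h3, ?_⟩
  show g * (g⁻¹ * (x : G) * g) * g⁻¹ = x
  group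

/-- a nonabelian simple group has no subgroup of index two -/
theorem index_ne_two [IsSimpleGroup G] (hnc : ∃ a b : G, a * b ≠ b * a) (H : Subgroup G) : H.index ≠ 2 := by
  intro hH
  have hN : H.Normal := Subgroup.normal_of_index_eq_two hH
  rcases hN.eq_bot_or_eq_top with h1 | h1
  · rw [h1, Subgroup.index_bot] at hH
    obtain ⟨a, b, hab⟩ := hnc
    apply hab
    have : IsCyclic G := isCyclic_of_prime_card hH
    exact (IsCyclic.commGroup (α := G)).mul_comm a b
  · rw [h1, Subgroup.index_top] at hH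
    exact absurd hH (by norm_num)

/-- **Case I**, `G` simple. -/
theorem irreducible [Finite G] [IsSimpleGroup G] (h : Large Q z) (h128 : 128 ≤ Nat.card Q)
    (hO : ∀ N : Subgroup (Subgroup.centralizer ({z} : Set G)), N.Normal → IsPGroup 2 N →
      ∀ x ∈ N, (x : G) ∈ Q)
    (hwc : ∀ g : G, g * z * g⁻¹ ∈ Q → g * z * g⁻¹ = z)
    {A : Subgroup G} (hzA : z ∈ A) (hAQ : A ≤ Q) (hA : ∀ c, c * z = z * c → ∀ x ∈ A, c * x * c⁻¹ ∈ A) :
    (∀ m ∈ A, m = 1 ∨ m = z) ∨ A = Q := by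
  have hnc : ∃ a b : G, a * b ≠ b * a := by
    obtain ⟨x, hx, hx1, hxz⟩ : ∃ x ∈ Q, x ≠ 1 ∧ x ≠ z := by
      by_contra hcon
      push Not at hcon
      have h1 : (Q : Set G) ⊆ {1, z} := by
        intro x hx
        simp only [Set.mem_insert_iff, Set.mem_singleton_iff]
        by_cases h2 : x = 1
        · exact Or.inl h2
        · exact Or.inr (hcon x hx h2)
      have h2 : Nat.card Q ≤ 2 := by
        have h3 : Nat.card Q = Set.ncard (Q : Set G) := rfl
        rw [h3]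
        calc _ ≤ Set.ncard ({1, z} : Set G) := Set.ncard_le_ncard h1 (Set.toFinite _)
          _ ≤ Set.ncard ({z} : Set G) + 1 := Set.ncard_insert_le _ _
          _ = 2 := by rw [Set.ncard_singleton]
      omega
    obtain ⟨y, -, hyx⟩ := exists_not_comm h hx hx1 hxz
    refine ⟨y, x, fun h1 => ?_⟩
    rw [hyx] at h1
    exact h.z_ne (mul_eq_left.1 h1)
  have B := base h hwc
  obtain ⟨g, hg1, hg2⟩ := Cfsg.Agent.SporRec.LyReduce.exists_conj_ne z (Base.orderOf_z h) hnc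
  have hz : z ∈ cls z := ⟨1, by group⟩
  have c : Com (cls z) z (g * z * g⁻¹) := ⟨hz, ⟨g, rfl⟩, Ne.symm hg1, hg2.eq⟩
  have hQ : ∀ p ∈ cls z, 128 ≤ Nat.card (QQ Q z p) := by
    intro p hp
    rw [B.card_eq hp hz, QQ_self h]
    exact h128
  have hA' : Inva (QQ Q z) z A := by
    refine ⟨hzA, ?_, hA⟩
    rw [QQ_self h]; exact hAQ
  have h1 := main B (fun H => index_ne_two hnc H) hQ (fun p hp N hN hN2 => normal_two h hO p hp N hN hN2)
    ⟨z, _, c⟩ hz hA'
  rwa [QQ_self h] at h1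

/-- **Case I of S1761**: `z` weakly closed in `F*(C_G(z))`. -/
theorem irreducible_of_fstar [Finite G] [IsSimpleGroup G] (z : G) (hz : orderOf z = 2)
    (hE : Cfsg.IsExtraspecial 2 ↥(Cfsg.generalizedFittingSubgroup ↥(Subgroup.centralizer ({z} : Set G))))
    (n : ℕ) (hn : 3 ≤ n)
    (hcard : Nat.card ↥(Cfsg.generalizedFittingSubgroup ↥(Subgroup.centralizer ({z} : Set G))) =
      2 ^ (2 * n + 1))
    (hwc : ∀ g : G, g * z * g⁻¹ ∈ (Cfsg.generalizedFittingSubgroup
      ↥(Subgroup.centralizer ({z} : Set G))).map (Subgroup.centralizer ({z} : Set G)).subtype →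
      g * z * g⁻¹ = z)
    (A : Subgroup ↥(Subgroup.centralizer ({z} : Set G))) (hAn : A.Normal)
    (hzA : Subgroup.zpowers (⟨z, Subgroup.mem_centralizer_singleton_iff.mpr rfl⟩ :
      ↥(Subgroup.centralizer ({z} : Set G))) ≤ A)
    (hAQ : A ≤ Cfsg.generalizedFittingSubgroup ↥(Subgroup.centralizer ({z} : Set G))) :
    A = Subgroup.zpowers (⟨z, Subgroup.mem_centralizer_singleton_iff.mpr rfl⟩ :
      ↥(Subgroup.centralizer ({z} : Set G))) ∨
    A = Cfsg.generalizedFittingSubgroup ↥(Subgroup.centralizer ({z} : Set G)) := by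
  have h := large_of_genFitting z hz hE
  have hO : ∀ N : Subgroup (Subgroup.centralizer ({z} : Set G)), N.Normal → IsPGroup 2 N →
      ∀ x ∈ N, (x : G) ∈ (Cfsg.generalizedFittingSubgroup
        ↥(Subgroup.centralizer ({z} : Set G))).map (Subgroup.centralizer ({z} : Set G)).subtype :=
    fun N hN hN2 x hx => ⟨x, TwoCentral.le_of_normal_two hN hN2 hx, rfl⟩
  have h128 : 128 ≤ Nat.card ↥((Cfsg.generalizedFittingSubgroup
      ↥(Subgroup.centralizer ({z} : Set G))).map (Subgroup.centralizer ({z} : Set G)).subtype) := by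
    rw [Subgroup.card_map_of_injective (Subgroup.subtype_injective _), hcard]
    calc 128 = 2 ^ 7 := by norm_num
      _ ≤ 2 ^ (2 * n + 1) := Nat.pow_le_pow_right (by norm_num) (by omega)
  have hzA' : (⟨z, Subgroup.mem_centralizer_singleton_iff.mpr rfl⟩ :
      ↥(Subgroup.centralizer ({z} : Set G))) ∈ A := hzA (Subgroup.mem_zpowers _)
  have h1 := irreducible h h128 hO hwc (A := A.map (Subgroup.centralizer ({z} : Set G)).subtype)
    ⟨_, hzA', rfl⟩ (Subgroup.map_mono hAQ) (by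
      rintro c hc _ ⟨x, hx, rfl⟩
      exact ⟨⟨c, Subgroup.mem_centralizer_singleton_iff.2 hc⟩ * x *
        ⟨c, Subgroup.mem_centralizer_singleton_iff.2 hc⟩⁻¹, hAn.conj_mem x hx _, rfl⟩)
  rcases h1 with h1 | h1
  · left
    apply le_antisymm _ hzA
    intro x hx
    rcases h1 x ⟨x, hx, rfl⟩ with h2 | h2
    · have : x = 1 := Subtype.ext h2
      rw [this]; exact one_mem _
    · have : x = ⟨z, Subgroup.mem_centralizer_singleton_iff.mpr rfl⟩ := Subtype.ext h2
      rw [this]; exact Subgroup.mem_zpowers _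
  · right
    exact Subgroup.map_injective (Subgroup.subtype_injective _) h1

end Cfsg.Agent.LargeExtra.WCIrr
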