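import Cfsg.Agent.LargeExtra.Perp
import Cfsg.Agent.LargeExtra.TwoCentral
import Cfsg.Agent.LieClassical.OrthFinite

/-!
# Siegel elements on `V = Q / ⟨z⟩` (helper73)

* `qf h`: the form `h.q` as a `QuadraticForm`; `act_mem_O`: the image of `C_G(z)` preserves it.
* `sg h a w ha hw`: the Siegel element `v ↦ v + b(a,v) w + (b(w,v) + q(w) b(a,v)) a`.
* `eq_sg`: an isometry `f` with `f v ∈ {v, v + a}` on `a^⊥` is a Siegel element.
* for a pair `p`: `X_eq_sg_of_card_le_four`, `X_eq_sg_of_card` (`|V| = 64`): all elements of `p.X` are Siegel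
  elements; `p.W`: the space of parameters, `|p.W| |p.D| = |V|`.
-/

set_option autoImplicit false

namespace Cfsg.Agent.LargeExtra.Siegel

open Cfsg.Agent.Co2Type.Quad Cfsg.Agent.LargeExtra.Base Cfsg.Agent.LargeExtra.TwoCentral
open Cfsg.Agent.LieClassical.OrthCore

variable {G : Type*} [Group G] {Q : Subgroup G} {z : G}

/-- the quadratic form of `V` -/
noncomputable def qf (h : Large Q z) : QuadraticForm (ZMod 2) h.V where
  toFun := h.q
  toFun_smul := by
    intro c v
    rcases zmod_two c with rfl | rfl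
    · rw [zero_smul, h.q_zero, mul_zero, zero_smul]
    · rw [one_smul, mul_one, one_smul]
  exists_companion' := ⟨h.b, fun v w => h.q_add' v w⟩

theorem qf_apply (h : Large Q z) (v : h.V) : qf h v = h.q v := rfl

theorem polar_qf (h : Large Q z) (v w : h.V) : QuadraticMap.polar (qf h) v w = h.b v w := by
  rw [QuadraticMap.polar, qf_apply, qf_apply, qf_apply, h.q_add']
  ring

theorem nondeg_qf (h : Large Q z) : Nondeg (qf h) := fun v hv =>
  h.b_nondeg fun w => by rw [← polar_qf]; exact hv w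

theorem act_mem_O (h : Large Q z) (c : Subgroup.centralizer ({z} : Set G)) : h.act c ∈ O (qf h) :=
  fun v => h.q_act c v

theorem range_le_O (h : Large Q z) : h.act.range ≤ O (qf h) := by
  rintro _ ⟨c, rfl⟩
  exact act_mem_O h c

theorem b_of_mem_O (h : Large Q z) {f : h.V ≃ₗ[ZMod 2] h.V} (hf : f ∈ O (qf h)) (v w : h.V) :
    h.b (f v) (f w) = h.b v w := by
  rw [← polar_qf, ← polar_qf]
  exact polar_map hf v w

theorem q_of_mem_O (h : Large Q z) {f : h.V ≃ₗ[ZMod 2] h.V} (hf : f ∈ O (qf h)) (v : h.V) :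
    h.q (f v) = h.q v := hf v

theorem b_four (h : Large Q z) (u v x y : h.V) :
    h.b (u + v) (x + y) = h.b u x + h.b u y + h.b v x + h.b v y := by
  rw [map_add h.b, LinearMap.add_apply, map_add, map_add, ← add_assoc]

/-- Siegel elements -/
noncomputable def sg (h : Large Q z) (a w : h.V) (ha : h.q a = 0) (hw : h.b a w = 0) :
    h.V ≃ₗ[ZMod 2] h.V :=
  siegel (qf h) a w (by rw [qf_apply]; exact ha) (by rw [polar_qf]; exact hw)

theorem sub_eq (h : Large Q z) (v w : h.V) : v - w = v + w := by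
  rw [sub_eq_add_neg, h.neg_eq]

theorem sg_apply (h : Large Q z) {a w : h.V} (ha : h.q a = 0) (hw : h.b a w = 0) (v : h.V) :
    sg h a w ha hw v = v + h.b a v • w + (h.b w v + h.q w * h.b a v) • a := by
  rw [sg, siegel_apply, polar_qf, polar_qf, qf_apply, sub_eq, sub_eq, add_smul]
  abel

theorem sg_perp (h : Large Q z) {a w : h.V} (ha : h.q a = 0) (hw : h.b a w = 0) {v : h.V}
    (hv : h.b a v = 0) : sg h a w ha hw v = v + h.b w v • a := by
  rw [sg_apply, hv, zero_smul, add_zero, mul_zero, add_zero]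

theorem sg_self (h : Large Q z) {a w : h.V} (ha : h.q a = 0) (hw : h.b a w = 0) :
    sg h a w ha hw a = a := by
  rw [sg_perp h ha hw (h.b_self a), h.b_comm, hw, zero_smul, add_zero]

theorem sg_mem_O (h : Large Q z) {a w : h.V} (ha : h.q a = 0) (hw : h.b a w = 0) :
    sg h a w ha hw ∈ O (qf h) := siegel_mem_O _ _

theorem sg_mul (h : Large Q z) {a w w' : h.V} (ha : h.q a = 0) (hw : h.b a w = 0)
    (hw' : h.b a w' = 0) (h' : h.b a (w + w') = 0) :
    sg h a w ha hw * sg h a w' ha hw' = sg h a (w + w') ha h' := siegel_mul _ _ _ _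

theorem sg_zero (h : Large Q z) {a : h.V} (ha : h.q a = 0) (h0 : h.b a 0 = 0) :
    sg h a 0 ha h0 = 1 := by
  ext v
  rw [sg_apply, smul_zero, add_zero, map_zero, LinearMap.zero_apply, h.q_zero, zero_mul, add_zero,
    zero_smul, add_zero]
  rfl

theorem sg_congr (h : Large Q z) {a w a' w' : h.V} (ha : h.q a = 0) (hw : h.b a w = 0)
    (ha' : h.q a' = 0) (hw' : h.b a' w' = 0) (e1 : a = a') (e2 : w = w') :
    sg h a w ha hw = sg h a' w' ha' hw' := by
  subst e1 e2; rfl

theorem sg_mul_self (h : Large Q z) {a w : h.V} (ha : h.q a = 0) (hw : h.b a w = 0) :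
    sg h a w ha hw * sg h a w ha hw = 1 := by
  have h0 : h.b a 0 = 0 := map_zero _
  have h1 : h.b a (w + w) = 0 := by rw [h.add_self]; exact h0
  rw [sg_mul h ha hw hw h1, ← sg_zero h ha h0]
  exact sg_congr h _ _ _ _ rfl (h.add_self w)

theorem sg_inv (h : Large Q z) {a w : h.V} (ha : h.q a = 0) (hw : h.b a w = 0) :
    (sg h a w ha hw)⁻¹ = sg h a w ha hw := inv_eq_of_mul_eq_one_left (sg_mul_self h ha hw)

theorem sg_conj (h : Large Q z) {f : h.V ≃ₗ[ZMod 2] h.V} (hf : f ∈ O (qf h)) {a w : h.V}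
    (ha : h.q a = 0) (hw : h.b a w = 0) (ha' : h.q (f a) = 0) (hw' : h.b (f a) (f w) = 0) :
    f * sg h a w ha hw * f⁻¹ = sg h (f a) (f w) ha' hw' := siegel_conj hf _ _ _ _

/-- `sg h a w = 1` only for `w ∈ {0, a}` -/
theorem sg_eq_one (h : Large Q z) {a w : h.V} (ha : h.q a = 0) (hw : h.b a w = 0) (h0 : a ≠ 0) :
    sg h a w ha hw = 1 ↔ w = 0 ∨ w = a := by
  constructor
  · intro h1
    apply eq_of_perp h
    intro v hv
    have h2 : sg h a w ha hw v = v := by rw [h1]; rfl
    rw [sg_perp h ha hw hv] at h2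
    have h3 : h.b w v • a = 0 := add_eq_left.1 h2
    rcases smul_eq_zero.1 h3 with h4 | h4
    · exact h4
    · exact absurd h4 h0
  · rintro (rfl | rfl)
    · exact sg_zero h ha hw
    · ext v
      rw [sg_apply, ha, zero_mul, add_zero, add_assoc, h.add_self, add_zero]
      rfl

/-- an isometry with `f v ∈ {v, v + a}` for `v ∈ a^⊥` is a Siegel element -/
theorem eq_sg (h : Large Q z) {a : h.V} (ha : h.q a = 0) (h0 : a ≠ 0) {f : h.V ≃ₗ[ZMod 2] h.V}
    (hf : f ∈ O (qf h)) (hfa : f a = a) (H : ∀ v, h.b a v = 0 → f v = v ∨ f v = v + a) :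
    ∃ (w : h.V) (hw : h.b a w = 0), f = sg h a w ha hw := by
  obtain ⟨y, hy⟩ : ∃ y, h.b a y ≠ 0 := by
    by_contra hcon
    push Not at hcon
    exact h0 (h.b_nondeg hcon)
  have hy1 : h.b a y = 1 := zmod_two_ne hy
  have hif : ∀ v, f (f⁻¹ v) = v := fun v => f.apply_symm_apply v
  have hfi : ∀ v w, h.b (f⁻¹ v) w = h.b v (f w) := by
    intro v w
    rw [← b_of_mem_O h hf (f⁻¹ v) w, hif]
  have hw : h.b a (f⁻¹ y + y) = 0 := by
    rw [h.b_comm, map_add, LinearMap.add_apply, hfi, hfa, h.b_comm y a, hy1]; decide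
  refine ⟨f⁻¹ y + y, hw, ?_⟩
  have key : ∀ v, h.b a v = 0 → f v = v + h.b (f⁻¹ y + y) v • a := by
    intro v hv
    have e : h.b (f⁻¹ y + y) v = h.b y (f v + v) := by
      rw [map_add, LinearMap.add_apply, hfi, map_add]
    rw [e]
    rcases H v hv with h1 | h1
    · rw [h1, h.add_self, map_zero, zero_smul, add_zero]
    · have : f v + v = a := by rw [h1, add_right_comm, h.add_self, zero_add]
      rw [this, h.b_comm, hy1, one_smul]
      exact h1
  generalize f⁻¹ y + y = w at hw key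
  have h1 : (sg h a w ha hw)⁻¹ * f = 1 := by
    rw [sg_inv]
    apply eq_one_of_fix_perp h ha
    · intro v
      have h2 := (O (qf h)).mul_mem (sg_mem_O h ha hw) hf
      exact h2 v
    · intro v hv
      show sg h a w ha hw (f v) = v
      have hv' : h.b a (f v) = 0 := by
        nth_rewrite 1 [← hfa]
        rw [b_of_mem_O h hf]; exact hv
      rw [sg_perp h ha hw hv', key v hv, map_add, map_smul, h.b_comm _ a, hw, smul_zero, add_zero,
        add_assoc, h.add_self, add_zero]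
  rw [inv_mul_eq_one] at h1
  exact h1.symm

/-- the space of parameters of the Siegel elements with centre `a` in a subgroup `X` -/
noncomputable def W (h : Large Q z) {a : h.V} (ha : h.q a = 0) (X : Subgroup (h.V ≃ₗ[ZMod 2] h.V)) :
    Submodule (ZMod 2) h.V where
  carrier := {w | ∃ hw : h.b a w = 0, sg h a w ha hw ∈ X}
  zero_mem' := ⟨map_zero _, by rw [sg_zero]; exact X.one_mem⟩
  add_mem' := by
    rintro w w' ⟨hw, h1⟩ ⟨hw', h2⟩
    have h3 : h.b a (w + w') = 0 := by rw [map_add, hw, hw', add_zero]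
    refine ⟨h3, ?_⟩
    rw [← sg_mul h ha hw hw' h3]
    exact X.mul_mem h1 h2
  smul_mem' := by
    rintro c w ⟨hw, h1⟩
    have h3 : h.b a (c • w) = 0 := by rw [map_smul, hw, smul_zero]
    refine ⟨h3, ?_⟩
    rcases zmod_two c with rfl | rfl
    · rw [sg_congr h ha h3 ha (map_zero _) rfl (zero_smul _ w), sg_zero]
      exact X.one_mem
    · rw [sg_congr h ha h3 ha hw rfl (one_smul _ w)]
      exact h1

theorem mem_W (h : Large Q z) {a : h.V} (ha : h.q a = 0) {X : Subgroup (h.V ≃ₗ[ZMod 2] h.V)}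
    {w : h.V} : w ∈ W h ha X ↔ ∃ hw : h.b a w = 0, sg h a w ha hw ∈ X := Iff.rfl

theorem a_mem_W (h : Large Q z) {a : h.V} (ha : h.q a = 0) (h0 : a ≠ 0)
    (X : Subgroup (h.V ≃ₗ[ZMod 2] h.V)) : a ∈ W h ha X := by
  refine ⟨h.b_self a, ?_⟩
  rw [(sg_eq_one h ha (h.b_self a) h0).2 (Or.inr rfl)]
  exact X.one_mem

/-- `|W| = 2 |X|` when `X` consists of Siegel elements with centre `a` -/
theorem card_W [Finite Q] (h : Large Q z) {a : h.V} (ha : h.q a = 0) (h0 : a ≠ 0)
    {X : Subgroup (h.V ≃ₗ[ZMod 2] h.V)}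
    (hX : ∀ f ∈ X, ∃ (w : h.V) (hw : h.b a w = 0), f = sg h a w ha hw) :
    Nat.card (W h ha X) = 2 * Nat.card X := by
  classical
  let f : Multiplicative (W h ha X) →* X :=
    { toFun := fun w => ⟨sg h a ((Multiplicative.toAdd w : W h ha X) : h.V) ha
        (Multiplicative.toAdd w : W h ha X).2.1, (Multiplicative.toAdd w : W h ha X).2.2⟩
      map_one' := Subtype.ext (sg_zero h ha (map_zero _))
      map_mul' := fun w w' => Subtype.ext (sg_mul h ha (Multiplicative.toAdd w : W h ha X).2.1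
        (Multiplicative.toAdd w' : W h ha X).2.1
        ((Multiplicative.toAdd w : W h ha X) + (Multiplicative.toAdd w' : W h ha X)).2.1).symm }
  have hf : Function.Surjective f := by
    rintro ⟨g, hg⟩
    obtain ⟨w, hw, rfl⟩ := hX g hg
    exact ⟨Multiplicative.ofAdd ⟨w, hw, hg⟩, rfl⟩
  have hk : Nat.card f.ker = 2 := by
    have hm : ∀ w : Multiplicative (W h ha X), w ∈ f.ker ↔
        ((Multiplicative.toAdd w : W h ha X) : h.V) = 0 ∨
        ((Multiplicative.toAdd w : W h ha X) : h.V) = a := by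
      intro w
      rw [MonoidHom.mem_ker, ← sg_eq_one h ha (Multiplicative.toAdd w : W h ha X).2.1 h0]
      constructor
      · intro h1; exact congrArg Subtype.val h1
      · intro h1; exact Subtype.ext h1
    rw [Nat.card_eq_two_iff]
    refine ⟨1, ⟨Multiplicative.ofAdd ⟨a, a_mem_W h ha h0 X⟩, (hm _).2 (Or.inr rfl)⟩, ?_, ?_⟩
    · intro he
      apply h0
      have := congrArg (fun t : f.ker => ((Multiplicative.toAdd (t : Multiplicative (W h ha X)) :
        W h ha X) : h.V)) he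
      exact this.symm
    · ext x
      simp only [Set.mem_insert_iff, Set.mem_singleton_iff, Set.mem_univ, iff_true]
      rcases (hm _).1 x.2 with h1 | h1
      · left; exact Subtype.ext (Subtype.ext h1)
      · right; exact Subtype.ext (Subtype.ext h1)
  have h1 := Subgroup.card_eq_card_quotient_mul_card_subgroup f.ker
  have h2 : Nat.card (Multiplicative (W h ha X) ⧸ f.ker) = Nat.card X :=
    Nat.card_congr (QuotientGroup.quotientKerEquivOfSurjective f hf).toEquiv
  rw [hk, h2] at h1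
  rw [mul_comm, ← h1]
  rfl

/-! ### pairs: step (0), the elements of `X` are Siegel elements -/

section pair

variable {A : Subgroup G} {a : G}

theorem q_va (p : Pair Q z A a) : p.lz.q p.va = 0 := p.q_D p.va_mem_D

theorem H_le_O (p : Pair Q z A a) : p.H ≤ O (qf p.lz) := range_le_O p.lz

theorem X_le_O (p : Pair Q z A a) : p.X ≤ O (qf p.lz) := p.X_le_H.trans (H_le_O p)

/-- `b(v, f v + v) = 0` for `f ∈ X`, `v ∈ ã^⊥` -/
theorem b_delta (p : Pair Q z A a) {f : p.lz.V ≃ₗ[ZMod 2] p.lz.V} (hf : f ∈ p.X) {v : p.lz.V}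
    (hv : p.lz.b p.va v = 0) : p.lz.b v (f v + v) = 0 := by
  have h1 := p.q_D (p.X_perp hf hv)
  rw [p.lz.q_add', q_of_mem_O p.lz (X_le_O p hf), CharTwo.add_self_eq_zero, zero_add] at h1
  rw [map_add, p.lz.b_self, add_zero, p.lz.b_comm]
  exact h1

theorem fix_delta (p : Pair Q z A a) {f : p.lz.V ≃ₗ[ZMod 2] p.lz.V} (hf : f ∈ p.X) (v : p.lz.V) :
    f (f v + v) = f v + v := by
  have h1 : f (f v) = v := by
    have := congrArg (fun g : p.lz.V ≃ₗ[ZMod 2] p.lz.V => g v) (p.X_sq hf)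
    exact this
  rw [map_add, h1, add_comm]

theorem b_va_D (p : Pair Q z A a) {d : p.lz.V} (hd : d ∈ p.D) : p.lz.b p.va d = 0 :=
  p.b_D p.va_mem_D hd

/-- STEP (0): the elements of `X` are Siegel elements with centre `ã` if `|D̃| < 8` or `|X| ≤ 4`. -/
theorem exists_sg [Finite G] (p : Pair Q z A a) (hc : Nat.card p.D < 8 ∨ Nat.card p.X ≤ 4)
    {f : p.lz.V ≃ₗ[ZMod 2] p.lz.V} (hf : f ∈ p.X) :
    ∃ (w : p.lz.V) (hw : p.lz.b p.va w = 0), f = sg p.lz p.va w (q_va p) hw := by
  classical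
  by_cases hex : ∃ r, p.lz.b p.va r = 0 ∧ f r + r ≠ 0 ∧ f r + r ≠ p.va
  · exfalso
    obtain ⟨r1, h1, h10, h1a⟩ := hex
    obtain ⟨r2, h2, h2g⟩ : ∃ r, p.lz.b p.va r = 0 ∧ p.lz.b (f r1 + r1) r ≠ 0 := by
      by_contra hcon
      push Not at hcon
      rcases eq_of_perp p.lz hcon with h3 | h3
      · exact h10 h3
      · exact h1a h3
    have h21 : p.lz.b (f r1 + r1) r2 = 1 := zmod_two_ne h2g
    have hD1 := p.X_perp hf h1
    have hD2 := p.X_perp hf h2
    have h12 : p.lz.b r1 (f r2 + r2) = 1 := by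
      have h3 : p.lz.b p.va (r1 + r2) = 0 := by rw [map_add, h1, h2, add_zero]
      have h4 := b_delta p hf h3
      have h5 : f (r1 + r2) + (r1 + r2) = (f r1 + r1) + (f r2 + r2) := by rw [map_add]; abel
      rw [h5, b_four, b_delta p hf h1, b_delta p hf h2, zero_add, add_zero, p.lz.b_comm r2,
        h21] at h4
      have : ∀ x : ZMod 2, x + 1 = 0 → x = 1 := by decide
      exact this _ h4
    have h11 := b_delta p hf h1
    have h22 := b_delta p hf h2
    have hf1 := fix_delta p hf r1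
    have hf2 := fix_delta p hf r2
    generalize hg1 : f r1 + r1 = g1 at *
    generalize hg2 : f r2 + r2 = g2 at *
    obtain ⟨y, hy⟩ : ∃ y, p.lz.b p.va y ≠ 0 := by
      by_contra hcon
      push Not at hcon
      exact p.va_ne (p.lz.b_nondeg hcon)
    have hy1 : p.lz.b y p.va = 1 := by rw [p.lz.b_comm]; exact zmod_two_ne hy
    have h21' : p.lz.b r2 g1 = 1 := by rw [p.lz.b_comm]; exact h21
    have hr1 : p.lz.b r1 p.va = 0 := by rw [p.lz.b_comm]; exact h1
    have hr2 : p.lz.b r2 p.va = 0 := by rw [p.lz.b_comm]; exact h2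
    rcases hc with hc | hc
    · -- `|D̃| ≥ 8`
      have hsurj : Function.Surjective (fun d : p.D =>
          ((p.lz.b r1 (d : p.lz.V), p.lz.b r2 (d : p.lz.V), p.lz.b y (d : p.lz.V)) :
            ZMod 2 × ZMod 2 × ZMod 2)) := by
        rintro ⟨c1, c2, c3⟩
        refine ⟨⟨c1 • g2 + c2 • g1 + (c3 + c1 * p.lz.b y g2 + c2 * p.lz.b y g1) • p.va,
          p.D.add_mem (p.D.add_mem (p.D.smul_mem _ hD2) (p.D.smul_mem _ hD1))
            (p.D.smul_mem _ p.va_mem_D)⟩, ?_⟩
        simp only [map_add, map_smul, h12, h11, h22, h21', hr1, hr2, hy1, smul_eq_mul, mul_zero,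
          mul_one, add_zero, zero_add, Prod.mk.injEq, true_and]
        have : ∀ a b c : ZMod 2, a + b + (c + a + b) = c := by decide
        exact this _ _ _
      have h3 := Nat.card_le_card_of_surjective _ hsurj
      have h4 : Nat.card (ZMod 2 × ZMod 2 × ZMod 2) = 8 := by
        rw [Nat.card_prod, Nat.card_prod, Nat.card_zmod]
      omega
    · -- `|X| > 4`
      have hfin : Finite (p.lz.V ≃ₗ[ZMod 2] p.lz.V) :=
        Finite.of_injective (fun g => (g : p.lz.V → p.lz.V)) DFunLike.coe_injective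
      let F : p.X → ZMod 2 × ZMod 2 := fun x =>
        (p.lz.b y ((x : p.lz.V ≃ₗ[ZMod 2] p.lz.V) g1 + g1),
          p.lz.b y ((x : p.lz.V ≃ₗ[ZMod 2] p.lz.V) g2 + g2))
      have hF : Function.Surjective F := by
        rintro ⟨c1, c2⟩
        obtain ⟨x, hx, hxd⟩ := p.exists_X (c1 • p.lz.b r2 + c2 • p.lz.b r1) (by
          rw [LinearMap.add_apply, LinearMap.smul_apply, LinearMap.smul_apply, hr1, hr2, smul_zero,
            smul_zero, add_zero])
        refine ⟨⟨x, hx⟩, ?_⟩
        have e1 : x g1 + g1 = c1 • p.va := by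
          rw [hxd g1 hD1, LinearMap.add_apply, LinearMap.smul_apply, LinearMap.smul_apply, h11, h21',
            smul_zero, add_zero, smul_eq_mul, mul_one, add_right_comm, p.lz.add_self, zero_add]
        have e2 : x g2 + g2 = c2 • p.va := by
          rw [hxd g2 hD2, LinearMap.add_apply, LinearMap.smul_apply, LinearMap.smul_apply, h12, h22,
            smul_zero, zero_add, smul_eq_mul, mul_one, add_right_comm, p.lz.add_self, zero_add]
        show (p.lz.b y (x g1 + g1), p.lz.b y (x g2 + g2)) = (c1, c2)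
        rw [e1, e2, map_smul, map_smul, hy1, smul_eq_mul, smul_eq_mul, mul_one, mul_one]
      have hb := hF.bijective_of_nat_card_le (by
        rw [Nat.card_prod, Nat.card_zmod]; exact hc)
      have h3 : F ⟨f, hf⟩ = F 1 := by
        show (p.lz.b y (f g1 + g1), p.lz.b y (f g2 + g2)) = (p.lz.b y (g1 + g1), p.lz.b y (g2 + g2))
        rw [hf1, hf2]
      have h4 : f = 1 := congrArg Subtype.val (hb.1 h3)
      apply h10
      rw [← hg1, h4]
      exact p.lz.add_self r1
  · push Not at hex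
    apply eq_sg p.lz (q_va p) p.va_ne (X_le_O p hf) (p.X_va hf)
    intro v hv
    by_cases h0 : f v + v = 0
    · left
      calc f v = f v + v + v := by rw [add_assoc, p.lz.add_self, add_zero]
        _ = v := by rw [h0, zero_add]
    · right
      calc f v = f v + v + v := by rw [add_assoc, p.lz.add_self, add_zero]
        _ = v + p.va := by rw [hex v hv h0, add_comm]

/-- STEP (0) for `|V| = 64`. -/
theorem exists_sg64 [Finite G] (p : Pair Q z A a) (hV : Nat.card p.lz.V = 64)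
    {f : p.lz.V ≃ₗ[ZMod 2] p.lz.V} (hf : f ∈ p.X) :
    ∃ (w : p.lz.V) (hw : p.lz.b p.va w = 0), f = sg p.lz p.va w (q_va p) hw := by
  apply exists_sg p _ hf
  by_contra hcon
  push Not at hcon
  have h1 := p.card_X
  rw [hV] at h1
  have : 5 * 8 ≤ Nat.card p.X * Nat.card p.D := Nat.mul_le_mul hcon.2 hcon.1
  omega

/-- the space `W̃` of parameters of the Siegel elements in `X` -/
noncomputable def pW (p : Pair Q z A a) : Submodule (ZMod 2) p.lz.V := W p.lz (q_va p) p.X

theorem mem_pW (p : Pair Q z A a) {w : p.lz.V} :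
    w ∈ pW p ↔ ∃ hw : p.lz.b p.va w = 0, sg p.lz p.va w (q_va p) hw ∈ p.X := Iff.rfl

theorem va_mem_pW (p : Pair Q z A a) : p.va ∈ pW p := a_mem_W p.lz (q_va p) p.va_ne p.X

/-- `|W̃| |D̃| = |V|` -/
theorem card_pW [Finite G] (p : Pair Q z A a) (hS : ∀ f ∈ p.X, ∃ (w : p.lz.V)
    (hw : p.lz.b p.va w = 0), f = sg p.lz p.va w (q_va p) hw) :
    Nat.card (pW p) * Nat.card p.D = Nat.card p.lz.V := by
  rw [pW, card_W p.lz (q_va p) p.va_ne hS, ← p.card_X]
  ring

/-- `D̃ ∩ W̃^⊥ = ⟨ã⟩` -/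
theorem eq_of_mem_D_perp [Finite G] (p : Pair Q z A a) (hS : ∀ f ∈ p.X, ∃ (w : p.lz.V)
    (hw : p.lz.b p.va w = 0), f = sg p.lz p.va w (q_va p) hw) {d : p.lz.V} (hd : d ∈ p.D)
    (H : ∀ w ∈ pW p, p.lz.b w d = 0) : d = 0 ∨ d = p.va := by
  apply eq_of_perp p.lz
  intro r hr
  obtain ⟨x, hx, hxd⟩ := p.exists_X (p.lz.b r) (by rw [p.lz.b_comm]; exact hr)
  obtain ⟨w, hw, rfl⟩ := hS x hx
  have h1 := hxd d hd
  rw [sg_perp p.lz (q_va p) hw (b_va_D p hd), H w ⟨hw, hx⟩, zero_smul, add_zero] at h1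
  have h2 : p.lz.b r d • p.va = 0 := add_eq_left.1 h1.symm
  rw [p.lz.b_comm]
  rcases smul_eq_zero.1 h2 with h3 | h3
  · exact h3
  · exact absurd h3 p.va_ne

/-- for `|D̃| = 2` all Siegel elements with centre `ã` lie in `X` -/
theorem sg_mem_X [Finite G] (p : Pair Q z A a) (hD : Nat.card p.D = 2) {w : p.lz.V}
    (hw : p.lz.b p.va w = 0) : sg p.lz p.va w (q_va p) hw ∈ p.X := by
  have hS : ∀ f ∈ p.X, ∃ (w : p.lz.V) (hw : p.lz.b p.va w = 0), f = sg p.lz p.va w (q_va p) hw :=
    fun f hf => exists_sg p (Or.inl (by omega)) hf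
  have h1 := card_pW p hS
  -- compare with `⟨ã⟩^⊥`
  set U : Submodule (ZMod 2) p.lz.V := Submodule.span (ZMod 2) {p.va} with hU
  have hU2 : ∀ v : p.lz.V, v ∈ U ↔ v = 0 ∨ v = p.va := by
    intro v
    rw [hU, Submodule.mem_span_singleton]
    constructor
    · rintro ⟨c, rfl⟩
      rcases zmod_two c with rfl | rfl
      · left; rw [zero_smul]
      · right; rw [one_smul]
    · rintro (rfl | rfl)
      · exact ⟨0, zero_smul _ _⟩
      · exact ⟨1, one_smul _ _⟩
  have hUc : Nat.card U = 2 := by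
    rw [Nat.card_eq_two_iff]
    refine ⟨0, ⟨p.va, (hU2 _).2 (Or.inr rfl)⟩, ?_, ?_⟩
    · intro h2; exact p.va_ne (congrArg Subtype.val h2).symm
    · ext x
      simp only [Set.mem_insert_iff, Set.mem_singleton_iff, Set.mem_univ, iff_true]
      rcases (hU2 _).1 x.2 with h2 | h2
      · left; exact Subtype.ext h2
      · right; exact Subtype.ext h2
  have h2 := Perp.card_perp p.lz U
  have hle : pW p ≤ p.lz.b.orthogonal U := by
    intro v hv
    rw [Perp.mem_perp]
    intro u hu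
    rcases (hU2 u).1 hu with rfl | rfl
    · rw [map_zero, LinearMap.zero_apply]
    · exact (mem_pW p).1 hv |>.1
  rw [hD] at h1
  rw [hUc] at h2
  have h3 : Nat.card (pW p) = Nat.card (p.lz.b.orthogonal U) := by omega
  have hfin : Finite p.lz.V := inferInstance
  have h4 : pW p = p.lz.b.orthogonal U := by
    apply SetLike.coe_injective
    apply Set.eq_of_subset_of_ncard_le hle
    · rw [← Nat.card_coe_set_eq, ← Nat.card_coe_set_eq]
      exact h3.ge
  have h5 : w ∈ pW p := by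
    rw [h4, Perp.mem_perp]
    intro u hu
    rcases (hU2 u).1 hu with rfl | rfl
    · rw [map_zero, LinearMap.zero_apply]
    · exact hw
  exact h5.2

end pair

end Cfsg.Agent.LargeExtra.Siegel
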