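import Cfsg.Agent.LargeExtra.SixCheckAlpha

/-!
# S1762, case II, `|D| = 8`, `W` totally singular, a non-orthogonal pair: `O = A# ∪ B#` (helper416)
-/

set_option autoImplicit false

namespace Cfsg.Agent.LargeExtra.Six

variable {V : Type*} [AddCommGroup V] [Module (ZMod 2) V] {q : V → ZMod 2}
  {b : LinearMap.BilinForm (ZMod 2) V} {H : Subgroup (V ≃ₗ[ZMod 2] V)}
  {O : Set V} {D W : V → Submodule (ZMod 2) V}

open SixFam

/-- coordinates for the pair `(a, c)` with `W a`, `W c` totally singular and disjoint -/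
structure DatA (q : V → ZMod 2) (b : LinearMap.BilinForm (ZMod 2) V) (W : V → Submodule (ZMod 2) V)
    (a c w1 w2 v1 v2 : V) : Prop where
  w1a : b w1 a = 0
  w1c : b w1 c = 0
  w2a : b w2 a = 0
  w2c : b w2 c = 0
  v1a : b v1 a = 0
  v1c : b v1 c = 0
  v2a : b v2 a = 0
  v2c : b v2 c = 0
  qw1 : q w1 = 0
  qw2 : q w2 = 0
  qv1 : q v1 = 0
  qv2 : q v2 = 0
  w12 : b w1 w2 = 0
  v12 : b v1 v2 = 0
  w1v1 : b w1 v1 = 1
  w1v2 : b w1 v2 = 0
  w2v1 : b w2 v1 = 0
  w2v2 : b w2 v2 = 1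
  hWa : ∀ v, v ∈ W a ↔ ∃ r s t : Bool, v = bz r • a + bz s • w1 + bz t • w2
  hWc : ∀ v, v ∈ W c ↔ ∃ r s t : Bool, v = bz r • c + bz s • v1 + bz t • v2

theorem T000_eq : T8 false false false = T000 := rfl

theorem coordA (F : SixFam q b H O D W) {a c w1 w2 v1 v2 : V} (ha : a ∈ O)
    (hc : c ∈ O) (hac : b a c = 1) (d : DatA q b W a c w1 w2 v1 v2) :
    Coord q ![a, c, w1, w2, v1, v2] T000 := by
  rw [← T000_eq]
  apply coord_of F
  · intro x hx
    rw [q_ev_eq F, ← T8_spec false false false x hx]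
    have e0 : (![a, c, w1, w2, v1, v2] : Fin 6 → V) 0 = a := rfl
    have e1 : (![a, c, w1, w2, v1, v2] : Fin 6 → V) 1 = c := rfl
    have e2' : (![a, c, w1, w2, v1, v2] : Fin 6 → V) 2 = w1 := rfl
    have e3' : (![a, c, w1, w2, v1, v2] : Fin 6 → V) 3 = w2 := rfl
    have e4' : (![a, c, w1, w2, v1, v2] : Fin 6 → V) 4 = v1 := rfl
    have e5' : (![a, c, w1, w2, v1, v2] : Fin 6 → V) 5 = v2 := rfl
    rw [e0, e1, e2', e3', e4', e5', F.q_self ha, F.q_self hc, hac, F.b_comm a w1, F.b_comm a w2, F.b_comm a v1,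
      F.b_comm a v2, F.b_comm c w1, F.b_comm c w2, F.b_comm c v1, F.b_comm c v2, d.w1a, d.w1c, d.w2a, d.w2c,
      d.v1a, d.v1c, d.v2a, d.v2c, d.qw1, d.qw2, d.qv1, d.qv2, d.w12, d.v12, d.w1v1, d.w1v2, d.w2v1, d.w2v2]
    simp only [bz, Bool.false_eq_true, if_false]
    ring
  · exact T8_nondeg false false false

section

variable (F : SixFam q b H O D W)
  (hyp : ∀ a ∈ O, ∀ c ∈ O, b a c = 1 → ∃ w1 w2 t1 t2, Dat8 q b D W a c w1 w2 t1 t2 ∧ q w1 = 0 ∧ q w2 = 0 ∧
    b w1 w2 = 0)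

include F hyp in
theorem q_W {a c : V} (ha : a ∈ O) (hc : c ∈ O) (hac : b a c = 1) {w : V} (hw : w ∈ W a) : q w = 0 := by
  obtain ⟨w1, w2, t1, t2, d, h1, h2, h3⟩ := hyp a ha c hc hac
  obtain ⟨r, s, t, rfl⟩ := (d.hW w).1 hw
  have hq : ∀ (t : Bool) (v : V), q (bz t • v) = bz t * q v := by
    intro t v
    cases t
    · simp [bz, F.q_zero]
    · simp [bz]
  simp only [F.q_add, hq, map_add, LinearMap.add_apply, map_smul, LinearMap.smul_apply, smul_eq_mul, h1, h2, h3,
    F.q_self ha, F.b_comm a w1, F.b_comm a w2, d.w1c, d.w2c, mul_zero, add_zero]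

include F hyp in
theorem b_W {a c : V} (ha : a ∈ O) (hc : c ∈ O) (hac : b a c = 1) {v w : V} (hv : v ∈ W a) (hw : w ∈ W a) :
    b v w = 0 := by
  rw [F.b_eq, q_W F hyp ha hc hac ((W a).add_mem hv hw), q_W F hyp ha hc hac hv, q_W F hyp ha hc hac hw]; rfl

theorem good000_dec : ∀ y1 ∈ V0L, ∀ y2 ∈ V0L, good000 y1 y2 = true →
    ∀ x < 64, sp3 1 4 8 x = true → sp3 2 y1 y2 x = true → x = 0 := by decide +kernel

include F hyp in
/-- `W a ∩ W c = 0` -/
theorem W_disj {a c : V} (ha : a ∈ O) (hc : c ∈ O) (hac : b a c = 1) {v : V} (hv : v ∈ W a) (hv' : v ∈ W c) :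
    v = 0 := by
  obtain ⟨w1, w2, t1, t2, d, h1, h2, h3⟩ := hyp a ha c hc hac
  have C := coord8 (β := false) (q1 := false) (q2 := false) F ha hc hac d h1 h2 h3
  obtain ⟨y1, y2, hy1V, hy2V, hy1, hy2, hg, hW⟩ := good_of_check8 (β := false) (q1 := false) (q2 := false) F ha hc
    hac d h1 h2 h3 _ _ check000'
  have he1 : ev (![a, c, w1, w2, t1, t2] : Fin 6 → V) 1 = a := ev_1 _
  have he2 : ev (![a, c, w1, w2, t1, t2] : Fin 6 → V) 2 = c := ev_2 _
  have he4 : ev (![a, c, w1, w2, t1, t2] : Fin 6 → V) 4 = w1 := ev_4 _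
  have he8 : ev (![a, c, w1, w2, t1, t2] : Fin 6 → V) 8 = w2 := ev_8 _
  revert C he1 he2 he4 he8 hW
  generalize (![a, c, w1, w2, t1, t2] : Fin 6 → V) = e
  intro C hW he1 he2 he4 he8
  obtain ⟨x, hx, rfl⟩ := C.surj v
  have e1 : sp3 1 4 8 x = true := by
    rw [sp3_iff C (by norm_num) (by norm_num) (by norm_num) hx, he1, he4, he8]
    exact (d.hW _).1 hv
  have e2 : sp3 2 y1 y2 x = true := by
    rw [sp3_iff C (by norm_num) hy1 hy2 hx, he2]
    exact (hW _).1 hv'
  rw [good000_dec y1 hy1V y2 hy2V hg x hx e1 e2, ev_zero]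

include F hyp in
/-- `(W a)^⊥ = W a` -/
theorem W_perp {a c : V} (ha : a ∈ O) (hc : c ∈ O) (hac : b a c = 1) (h8 : Nat.card (D a) = 8) {v : V}
    (hv : ∀ w ∈ W a, b w v = 0) : v ∈ W a := by
  have := F.finite
  have hW8 : Nat.card (W a) = 8 := by
    have := F.card_DW a ha
    rw [h8] at this; omega
  have h6 := F.card_perp (W a)
  rw [hW8] at h6
  have hle : W a ≤ b.orthogonal (W a) := fun v hv =>
    SixFam.mem_perp.2 fun w hw => b_W F hyp ha hc hac hw hv
  have : W a = b.orthogonal (W a) := by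
    apply SetLike.coe_injective
    apply Set.eq_of_subset_of_ncard_le hle _ (Set.toFinite _)
    rw [← Nat.card_coe_set_eq, ← Nat.card_coe_set_eq]
    show Nat.card (b.orthogonal (W a)) ≤ Nat.card (W a)
    rw [hW8]; omega
  rw [this]
  exact SixFam.mem_perp.2 hv

include F hyp in
/-- existence of the coordinates, with prescribed `v₁` -/
theorem exists_datA {a c : V} (ha : a ∈ O) (hc : c ∈ O) (hac : b a c = 1) (h8 : Nat.card (D a) = 8) {v1 : V}
    (hv1 : v1 ∈ W c) (hv1a : b v1 a = 0) (hv10 : v1 ≠ 0) : ∃ w1 w2 v2, DatA q b W a c w1 w2 v1 v2 := by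
  have hfin := F.finite
  have hca : b c a = 1 := by rw [F.b_comm]; exact hac
  have h8c : Nat.card (D c) = 8 := (F.card_D_eq hc ha).trans h8
  obtain ⟨x, y, hx0, hy0, hxy, hxa, hya, hxW, hyW, hall⟩ := exists_basis_W F hc hca h8c
  -- choose `v2`
  obtain ⟨v2, hv2, hv2a, hall'⟩ : ∃ v2 ∈ W c, b v2 a = 0 ∧
      ∀ v ∈ W c, b v a = 0 → v = 0 ∨ v = v1 ∨ v = v2 ∨ v = v1 + v2 := by
    rcases hall v1 hv1 hv1a with h | h | h | h
    · exact absurd h hv10
    · exact ⟨y, hyW, hya, by rw [h]; exact hall⟩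
    · refine ⟨x, hxW, hxa, fun v hv hva => ?_⟩
      rw [h]
      rcases hall v hv hva with h1 | h1 | h1 | h1
      · exact Or.inl h1
      · exact Or.inr (Or.inr (Or.inl h1))
      · exact Or.inr (Or.inl h1)
      · exact Or.inr (Or.inr (Or.inr (by rw [h1, add_comm])))
    · refine ⟨x, hxW, hxa, fun v hv hva => ?_⟩
      rw [h]
      rcases hall v hv hva with h1 | h1 | h1 | h1
      · exact Or.inl h1
      · exact Or.inr (Or.inr (Or.inl h1))
      · right; right; right
        rw [h1, add_comm x y, add_cancel']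
      · exact Or.inr (Or.inl h1)
  obtain ⟨s1, s2, dc⟩ := exists_dat8_of F hc hca h8c hv1a hv2a hv1 hv2 hall'
  -- dual basis in `W a`
  obtain ⟨x', y', hx0', hy0', hxy', hxc', hyc', hxW', hyW', halla⟩ := exists_basis_W F ha hac h8
  have hW8 : Nat.card (W a) = 8 := by
    have := F.card_DW a ha
    rw [h8] at this; omega
  have h1 := F.card_eq_two_mul (W a) (F.self_W a ha) hac
  rw [hW8] at h1
  let f : {v : W a // b (v : V) c = 0} → ZMod 2 × ZMod 2 := fun v => (b (v : W a) v1, b (v : W a) v2)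
  have hinj : Function.Injective f := by
    intro v w hvw
    have h2 : b ((v : W a) : V) v1 = b ((w : W a) : V) v1 := congrArg Prod.fst hvw
    have h3 : b ((v : W a) : V) v2 = b ((w : W a) : V) v2 := congrArg Prod.snd hvw
    have h4 : ((v : W a) : V) + ((w : W a) : V) ∈ W a := (W a).add_mem v.1.2 w.1.2
    have h5 : ∀ z ∈ W c, b z (((v : W a) : V) + ((w : W a) : V)) = 0 := by
      intro z hz
      rw [F.b_comm]
      obtain ⟨r, s, t, rfl⟩ := (dc.hW z).1 hz
      have e1 : b (((v : W a) : V) + ((w : W a) : V)) c = 0 := by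
        rw [map_add, LinearMap.add_apply, v.2, w.2, add_zero]
      have e2 : b (((v : W a) : V) + ((w : W a) : V)) v1 = 0 := by
        rw [map_add, LinearMap.add_apply, h2, zadd]
      have e3 : b (((v : W a) : V) + ((w : W a) : V)) v2 = 0 := by
        rw [map_add, LinearMap.add_apply, h3, zadd]
      rw [map_add, map_add, map_smul, map_smul, map_smul, e1, e2, e3]
      simp
    have h6 := W_perp F hyp hc ha hca h8c h5
    exact Subtype.ext (Subtype.ext (eq_of_add (W_disj F hyp ha hc hac h4 h6)))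
  have hbij : Function.Bijective f := by
    apply Function.Injective.bijective_of_nat_card_le hinj
    rw [Nat.card_prod, Nat.card_zmod]
    omega
  obtain ⟨w1, hw1⟩ := hbij.2 (1, 0)
  obtain ⟨w2, hw2⟩ := hbij.2 (0, 1)
  have h11 : b ((w1 : W a) : V) v1 = 1 := congrArg Prod.fst hw1
  have h12 : b ((w1 : W a) : V) v2 = 0 := congrArg Prod.snd hw1
  have h21 : b ((w2 : W a) : V) v1 = 0 := congrArg Prod.fst hw2
  have h22 : b ((w2 : W a) : V) v2 = 1 := congrArg Prod.snd hw2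
  have haW := F.self_W a ha
  have hcW := F.self_W c hc
  have hWa : ∀ v, v ∈ W a ↔ ∃ r s t : Bool, v = bz r • a + bz s • ((w1 : W a) : V) + bz t • ((w2 : W a) : V) := by
    intro v
    constructor
    · intro hv
      obtain ⟨r, hr⟩ := exists_bz (b v c)
      have h3 : b (v + bz r • a) c = 0 := by
        rw [map_add, LinearMap.add_apply, map_smul, LinearMap.smul_apply, hac, hr, smul_eq_mul, mul_one, zadd]
      have h4 : v + bz r • a ∈ W a := (W a).add_mem hv ((W a).smul_mem _ haW)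
      obtain ⟨s, hs⟩ := exists_bz (b (v + bz r • a) v1)
      obtain ⟨t, ht⟩ := exists_bz (b (v + bz r • a) v2)
      refine ⟨r, s, t, ?_⟩
      have h5 : bz s • ((w1 : W a) : V) + bz t • ((w2 : W a) : V) ∈ W a :=
        (W a).add_mem ((W a).smul_mem _ w1.1.2) ((W a).smul_mem _ w2.1.2)
      have h6 : b (bz s • ((w1 : W a) : V) + bz t • ((w2 : W a) : V)) c = 0 := by
        rw [map_add, LinearMap.add_apply, map_smul, map_smul, LinearMap.smul_apply, LinearMap.smul_apply, w1.2,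
          w2.2]
        simp
      have h7 : (⟨⟨v + bz r • a, h4⟩, h3⟩ : {v : W a // b (v : V) c = 0}) =
          ⟨⟨bz s • ((w1 : W a) : V) + bz t • ((w2 : W a) : V), h5⟩, h6⟩ := by
        apply hinj
        refine Prod.ext ?_ ?_
        · show b (v + bz r • a) v1 = b (bz s • ((w1 : W a) : V) + bz t • ((w2 : W a) : V)) v1
          rw [hs, map_add, LinearMap.add_apply, map_smul, map_smul, LinearMap.smul_apply, LinearMap.smul_apply,
            h11, h21]; simp
        · show b (v + bz r • a) v2 = b (bz s • ((w1 : W a) : V) + bz t • ((w2 : W a) : V)) v2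
          rw [ht, map_add, LinearMap.add_apply, map_smul, map_smul, LinearMap.smul_apply, LinearMap.smul_apply,
            h12, h22]; simp
      have h8 : v + bz r • a = bz s • ((w1 : W a) : V) + bz t • ((w2 : W a) : V) :=
        congrArg (fun z : {v : W a // b (v : V) c = 0} => ((z.1 : W a) : V)) h7
      rw [add_assoc, ← h8, add_comm, add_assoc, add_self, add_zero]
    · rintro ⟨r, s, t, rfl⟩
      exact (W a).add_mem ((W a).add_mem ((W a).smul_mem _ haW) ((W a).smul_mem _ w1.1.2))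
        ((W a).smul_mem _ w2.1.2)
  exact ⟨w1, w2, v2, b_W F hyp ha hc hac w1.1.2 haW, w1.2, b_W F hyp ha hc hac w2.1.2 haW, w2.2, hv1a,
    b_W F hyp hc ha hca hv1 hcW, hv2a, b_W F hyp hc ha hca hv2 hcW, q_W F hyp ha hc hac w1.1.2,
    q_W F hyp ha hc hac w2.1.2, q_W F hyp hc ha hca hv1, q_W F hyp hc ha hca hv2,
    b_W F hyp ha hc hac w1.1.2 w2.1.2, b_W F hyp hc ha hca hv1 hv2, h11, h12, h21, h22, hWa, dc.hW⟩

end

end Cfsg.Agent.LargeExtra.Six
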