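import Cfsg.Agent.LargeExtra.SixAlpha

/-!
# S1762, case II, `|D| = 8`, `W` totally singular: no `c + v ∈ O`, and `O = A# ∪ B#` (helper416)
-/

set_option autoImplicit false

namespace Cfsg.Agent.LargeExtra.Six

variable {V : Type*} [AddCommGroup V] [Module (ZMod 2) V] {q : V → ZMod 2}
  {b : LinearMap.BilinForm (ZMod 2) V} {H : Subgroup (V ≃ₗ[ZMod 2] V)}
  {O : Set V} {D W : V → Submodule (ZMod 2) V}

open SixFam

section

variable (F : SixFam q b H O D W)
  (hyp : ∀ a ∈ O, ∀ c ∈ O, b a c = 1 → ∃ w1 w2 t1 t2, Dat8 q b D W a c w1 w2 t1 t2 ∧ q w1 = 0 ∧ q w2 = 0 ∧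
    b w1 w2 = 0)

theorem T000_V0L : ∀ x < 64, bn T000 x 1 = false → bn T000 x 2 = false → x ∈ V0L := T8_V0L false false false

include F hyp in
/-- `c + v ∉ O` for `0 ≠ v ∈ W c ∩ a^⊥`. -/
theorem forb {a c : V} (ha : a ∈ O) (hc : c ∈ O) (hac : b a c = 1) (h8 : Nat.card (D a) = 8) {v1 : V}
    (hv1 : v1 ∈ W c) (hv1a : b v1 a = 0) (hv10 : v1 ≠ 0) : c + v1 ∉ O := by
  intro hc2
  have hca : b c a = 1 := by rw [F.b_comm]; exact hac
  have h8c : Nat.card (D c) = 8 := (F.card_D_eq hc ha).trans h8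
  have h8c2 : Nat.card (D (c + v1)) = 8 := (F.card_D_eq hc2 ha).trans h8
  obtain ⟨w1, w2, v2, d⟩ := exists_datA F hyp ha hc hac h8 hv1 hv1a hv10
  have C := coordA F ha hc hac d
  have hac2 : b (c + v1) a = 1 := by rw [map_add, LinearMap.add_apply, hca, hv1a, add_zero]
  have hac2' : b a (c + v1) = 1 := by rw [F.b_comm]; exact hac2
  have hw1W : w1 ∈ W a := (d.hWa _).2 ⟨false, true, false, by simp [bz]⟩
  have hw2W : w2 ∈ W a := (d.hWa _).2 ⟨false, false, true, by simp [bz]⟩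
  have hv2W : v2 ∈ W c := (d.hWc _).2 ⟨false, false, true, by simp [bz]⟩
  have hall_a : ∀ v ∈ W a, b v c = 0 → v = 0 ∨ v = w1 ∨ v = w2 ∨ v = w1 + w2 := by
    intro v hv hvc
    obtain ⟨r, s, t, rfl⟩ := (d.hWa v).1 hv
    rw [map_add, map_add, LinearMap.add_apply, LinearMap.add_apply, map_smul, map_smul, map_smul,
      LinearMap.smul_apply, LinearMap.smul_apply, LinearMap.smul_apply, hac, d.w1c, d.w2c] at hvc
    cases r
    · cases s <;> cases t <;> simp [bz]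
    · simp [bz] at hvc
  have hall_c : ∀ v ∈ W c, b v a = 0 → v = 0 ∨ v = v1 ∨ v = v2 ∨ v = v1 + v2 := by
    intro v hv hvc
    obtain ⟨r, s, t, rfl⟩ := (d.hWc v).1 hv
    rw [map_add, map_add, LinearMap.add_apply, LinearMap.add_apply, map_smul, map_smul, map_smul,
      LinearMap.smul_apply, LinearMap.smul_apply, LinearMap.smul_apply, hca, d.v1a, d.v2a] at hvc
    cases r
    · cases s <;> cases t <;> simp [bz]
    · simp [bz] at hvc
  obtain ⟨t1, t2, da⟩ := exists_dat8_of F ha hac h8 d.w1c d.w2c hw1W hw2W hall_a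
  obtain ⟨s1, s2, dc⟩ := exists_dat8_of F hc hca h8c d.v1a d.v2a hv1 hv2W hall_c
  obtain ⟨u1, u2, r1, r2, d2, hqu1, hqu2, hu12⟩ := hyp _ hc2 a ha hac2
  have hdisj : ∀ v, v ∈ W a → v ∈ W (c + v1) → v = 0 := fun v h1 h2 =>
    W_disj F hyp ha hc2 hac2' h1 h2
  have he1 : ev (![a, c, w1, w2, v1, v2] : Fin 6 → V) 1 = a := ev_1 _
  have he2 : ev (![a, c, w1, w2, v1, v2] : Fin 6 → V) 2 = c := ev_2 _
  have he4 : ev (![a, c, w1, w2, v1, v2] : Fin 6 → V) 4 = w1 := ev_4 _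
  have he8 : ev (![a, c, w1, w2, v1, v2] : Fin 6 → V) 8 = w2 := ev_8 _
  have he16 : ev (![a, c, w1, w2, v1, v2] : Fin 6 → V) 16 = v1 := ev_16 _
  have he32 : ev (![a, c, w1, w2, v1, v2] : Fin 6 → V) 32 = v2 := ev_32 _
  revert C he1 he2 he4 he8 he16 he32
  generalize (![a, c, w1, w2, v1, v2] : Fin 6 → V) = e
  intro C he1 he2 he4 he8 he16 he32
  have he18 : ev e 18 = c + v1 := by
    rw [← he2, ← he16, ← ev_xor]; rfl
  obtain ⟨t1, ht1, rfl⟩ := C.surj t1
  obtain ⟨t2, ht2, rfl⟩ := C.surj t2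
  obtain ⟨s1, hs1, rfl⟩ := C.surj s1
  obtain ⟨s2, hs2, rfl⟩ := C.surj s2
  obtain ⟨u1, hu1, rfl⟩ := C.surj u1
  obtain ⟨u2, hu2, rfl⟩ := C.surj u2
  obtain ⟨r1, hr1, rfl⟩ := C.surj r1
  obtain ⟨r2, hr2, rfl⟩ := C.surj r2
  have hbn : ∀ s < 64, ∀ t < 64, b (ev e s) (ev e t) = bz (bn T000 s t) := fun s hs t ht =>
    b_ev F C hs ht
  have hbn0 : ∀ s < 64, ∀ t < 64, b (ev e s) (ev e t) = 0 → bn T000 s t = false :=
    fun s hs t ht h => bz_eq_zero.1 (by rw [← hbn s hs t ht]; exact h)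
  have hbn1 : ∀ s < 64, ∀ t < 64, b (ev e s) (ev e t) = 1 → bn T000 s t = true :=
    fun s hs t ht h => bz_eq_one.1 (by rw [← hbn s hs t ht]; exact h)
  have hq : ∀ s < 64, q (ev e s) = 0 → T000.testBit s = false := fun s hs h =>
    bz_eq_zero.1 (by rw [← C.q_ev s hs]; exact h)
  have hV : ∀ s < 64, b (ev e s) a = 0 → b (ev e s) c = 0 → s ∈ V0L := fun s hs h1 h2 =>
    T000_V0L s hs (hbn0 s hs 1 (by norm_num) (by rw [he1]; exact h1))
      (hbn0 s hs 2 (by norm_num) (by rw [he2]; exact h2))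
  have hV' : ∀ s < 64, b (ev e s) a = 0 → b (ev e s) (c + v1) = 0 → s ∈ V18L := fun s hs h1 h2 =>
    T000_V18L s hs (hbn0 s hs 1 (by norm_num) (by rw [he1]; exact h1))
      (hbn0 s hs 18 (by norm_num) (by rw [he18]; exact h2))
  -- Gram facts
  have at1 := hq t1 ht1 da.qt1
  have at2 := hq t2 ht2 da.qt2
  have a1 := hbn1 4 (by norm_num) t1 ht1 (by rw [he4]; exact da.w1t1)
  have a2 := hbn0 8 (by norm_num) t1 ht1 (by rw [he8]; exact da.w2t1)
  have a3 := hbn0 4 (by norm_num) t2 ht2 (by rw [he4]; exact da.w1t2)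
  have a4 := hbn1 8 (by norm_num) t2 ht2 (by rw [he8]; exact da.w2t2)
  have a5 := hbn0 t1 ht1 t2 ht2 da.t12
  have cs1 := hq s1 hs1 dc.qt1
  have cs2 := hq s2 hs2 dc.qt2
  have c1 := hbn1 16 (by norm_num) s1 hs1 (by rw [he16]; exact dc.w1t1)
  have c2 := hbn0 32 (by norm_num) s1 hs1 (by rw [he32]; exact dc.w2t1)
  have c3 := hbn0 16 (by norm_num) s2 hs2 (by rw [he16]; exact dc.w1t2)
  have c4 := hbn1 32 (by norm_num) s2 hs2 (by rw [he32]; exact dc.w2t2)
  have c5 := hbn0 s1 hs1 s2 hs2 dc.t12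
  have du1 := hq u1 hu1 hqu1
  have du2 := hq u2 hu2 hqu2
  have du12 := hbn0 u1 hu1 u2 hu2 hu12
  have dr1 := hq r1 hr1 d2.qt1
  have dr2 := hq r2 hr2 d2.qt2
  have d1 := hbn1 u1 hu1 r1 hr1 d2.w1t1
  have d3 := hbn0 u2 hu2 r1 hr1 d2.w2t1
  have d4 := hbn0 u1 hu1 r2 hr2 d2.w1t2
  have d5 := hbn1 u2 hu2 r2 hr2 d2.w2t2
  have d6 := hbn0 r1 hr1 r2 hr2 d2.t12
  have hgood : goodA u1 u2 = true := by
    have hW : ∀ x < 64, sp3 1 4 8 x = true → ev e x ∈ W a := by
      intro x hx h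
      rw [sp3_iff C (by norm_num) (by norm_num) (by norm_num) hx, he1, he4, he8] at h
      exact (d.hWa _).2 h
    have hne : ∀ x < 64, ev e x ∈ W (c + v1) → ev e x ≠ 0 → (!sp3 1 4 8 x) = true := by
      intro x hx h1 h2
      rw [Bool.not_eq_true']
      by_contra h3
      rw [Bool.not_eq_false] at h3
      exact h2 (hdisj _ (hW x hx h3) h1)
    have hu1W : ev e u1 ∈ W (c + v1) := (d2.hW _).2 ⟨false, true, false, by simp [bz]⟩
    have hu2W : ev e u2 ∈ W (c + v1) := (d2.hW _).2 ⟨false, false, true, by simp [bz]⟩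
    have hne0 : ∀ x y : V, b x y = 1 → x ≠ 0 := fun x y h h' => by
      rw [h', map_zero, LinearMap.zero_apply] at h; exact absurd h (by decide)
    simp only [goodA, List.all_cons, List.all_nil, Bool.and_true, Bool.and_eq_true]
    refine ⟨hne u1 hu1 hu1W (hne0 _ _ d2.w1t1), hne u2 hu2 hu2W (hne0 _ _ d2.w2t2),
      hne _ (xor_lt hu1 hu2) ?_ ?_⟩
    · rw [ev_xor]; exact (W _).add_mem hu1W hu2W
    · rw [ev_xor]
      refine hne0 _ (ev e r1) ?_
      rw [map_add, LinearMap.add_apply, d2.w1t1, d2.w2t1, add_zero]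
  have hM : ∀ E ∈ famA t1 t2 s1 s2 u1 u2 r1 r2, Means O D W e E := by
    intro E hE
    simp only [famA, List.mem_cons, List.not_mem_nil, or_false] at hE
    rcases hE with rfl | rfl | rfl
    · refine ⟨by norm_num, by rw [he1]; exact ha, ?_, ?_⟩
      · intro s hs
        rw [he1, da.hW, ← he1, ← he4, ← he8]
        exact sp3_iff C (by norm_num) (by norm_num) (by norm_num) hs
      · intro s hs
        rw [he1, da.hD, ← he1]
        exact sp3_iff C (by norm_num) ht1 ht2 hs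
    · refine ⟨by norm_num, by rw [he2]; exact hc, ?_, ?_⟩
      · intro s hs
        rw [he2, dc.hW, ← he2, ← he16, ← he32]
        exact sp3_iff C (by norm_num) (by norm_num) (by norm_num) hs
      · intro s hs
        rw [he2, dc.hD, ← he2]
        exact sp3_iff C (by norm_num) hs1 hs2 hs
    · refine ⟨by norm_num, by rw [he18]; exact hc2, ?_, ?_⟩
      · intro s hs
        rw [he18, d2.hW, ← he18]
        exact sp3_iff C (by norm_num) hu1 hu2 hs
      · intro s hs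
        rw [he18, d2.hD, ← he18]
        exact sp3_iff C (by norm_num) hr1 hr2 hs
  have hchk := checkA_T000
  unfold checkA at hchk
  rw [List.all_eq_true] at hchk
  have g := hchk t1 (hV t1 ht1 da.t1c da.t1d)
  rw [at1, a1, a2, Bool.false_or, Bool.not_true, Bool.false_or, Bool.false_or, List.all_eq_true] at g
  have g := g t2 (hV t2 ht2 da.t2c da.t2d)
  rw [at2, a3, a4, a5, Bool.false_or, Bool.false_or, Bool.not_true, Bool.false_or, Bool.false_or,
    List.all_eq_true] at g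
  have g := g s1 (hV s1 hs1 dc.t1d dc.t1c)
  rw [cs1, c1, c2, Bool.false_or, Bool.not_true, Bool.false_or, Bool.false_or, List.all_eq_true] at g
  have g := g s2 (hV s2 hs2 dc.t2d dc.t2c)
  rw [cs2, c3, c4, c5, Bool.false_or, Bool.false_or, Bool.not_true, Bool.false_or, Bool.false_or] at g
  unfold checkA2 at g
  rw [List.all_eq_true] at g
  have g := g u1 (hV' u1 hu1 d2.w1d d2.w1c)
  rw [du1, Bool.false_or, List.all_eq_true] at g
  have g := g u2 (hV' u2 hu2 d2.w2d d2.w2c)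
  rw [du2, du12, hgood, Bool.false_or, Bool.false_or, Bool.not_true, Bool.false_or, List.all_eq_true] at g
  have g := g r1 (hV' r1 hr1 d2.t1d d2.t1c)
  rw [dr1, d1, d3, Bool.false_or, Bool.not_true, Bool.false_or, Bool.false_or, List.all_eq_true] at g
  have g := g r2 (hV' r2 hr2 d2.t2d d2.t2c)
  rw [dr2, d4, d5, d6, Bool.false_or, Bool.false_or, Bool.not_true, Bool.false_or, Bool.false_or] at g
  unfold leafA at g
  rw [List.any_eq_true] at g
  obtain ⟨ws, -, h5⟩ := g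
  rw [sound F C _ hM] at h5
  exact absurd h5 (by decide)

end

end Cfsg.Agent.LargeExtra.Six
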