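import Cfsg.Agent.LargeExtra.SixModel
import Cfsg.Agent.LargeExtra.Perp

/-!
# S1762, case II: elementary linear algebra in a `SixFam` (helper416)
-/

set_option autoImplicit false

namespace Cfsg.Agent.LargeExtra.Six

open Cfsg.Agent.LargeExtra.Perp

variable {V : Type*} [AddCommGroup V] [Module (ZMod 2) V] {q : V → ZMod 2}
  {b : LinearMap.BilinForm (ZMod 2) V} {H : Subgroup (V ≃ₗ[ZMod 2] V)}
  {O : Set V} {D W : V → Submodule (ZMod 2) V}

theorem ne_zero_iff {c : ZMod 2} : c ≠ 0 ↔ c = 1 := by revert c; decide

namespace SixFam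

theorem isRefl (F : SixFam q b H O D W) : b.IsRefl := fun v w h => by rw [F.b_comm]; exact h

theorem nondegenerate (F : SixFam q b H O D W) : b.Nondegenerate := by
  have := F.finite
  refine ⟨fun v hv => F.nondeg v hv, fun v hv => F.nondeg v fun w => ?_⟩
  rw [F.b_comm]; exact hv w

theorem card_perp (F : SixFam q b H O D W) (S : Submodule (ZMod 2) V) :
    Nat.card S * Nat.card (b.orthogonal S) = 64 := by
  have := F.finite
  rw [card_orthogonal F.nondegenerate F.isRefl, F.card]

theorem mem_perp {S : Submodule (ZMod 2) V} {v : V} :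
    v ∈ b.orthogonal S ↔ ∀ w ∈ S, b w v = 0 := LinearMap.BilinForm.mem_orthogonal_iff

theorem mem_of_perp (F : SixFam q b H O D W) (S : Submodule (ZMod 2) V) {v : V}
    (h : ∀ w, (∀ x ∈ S, b x w = 0) → b w v = 0) : v ∈ S := by
  have := F.finite
  exact mem_of_forall F.nondegenerate F.isRefl S h

/-- a vector orthogonal to `x^⊥` is `0` or `x`. -/
theorem eq_of_perp (F : SixFam q b H O D W) {x y : V} (h : ∀ v, b x v = 0 → b y v = 0) :
    y = 0 ∨ y = x := by
  have h1 : y ∈ Submodule.span (ZMod 2) {x} := by
    apply F.mem_of_perp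
    intro w hw
    rw [F.b_comm]
    exact h w (hw x (Submodule.mem_span_singleton_self x))
  obtain ⟨c, rfl⟩ := Submodule.mem_span_singleton.1 h1
  rcases zm c with rfl | rfl
  · left; exact zero_smul _ _
  · right; exact one_smul _ _

theorem exists_one (F : SixFam q b H O D W) {x : V} (hx : x ≠ 0) : ∃ y, b x y = 1 := by
  by_contra hcon
  push Not at hcon
  exact hx (F.nondeg x fun w => by
    rcases zm (b x w) with h | h
    · exact h
    · exact absurd h (hcon w))

/-- a dual vector -/
theorem exists_dual (F : SixFam q b H O D W) {x y : V} (hx : x ≠ 0) (hxy : x ≠ y) :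
    ∃ v, b x v = 1 ∧ b y v = 0 := by
  by_contra hcon
  push Not at hcon
  rcases F.eq_of_perp (x := y) (y := x) (fun v hv => by
    rcases zm (b x v) with h | h
    · exact h
    · exact absurd hv (hcon v h)) with h | h
  · exact hx h
  · exact hxy h

/-- projection to `⟨a, c⟩^⊥` -/
def pj (b : LinearMap.BilinForm (ZMod 2) V) (a c v : V) : V := v + b v c • a + b v a • c

theorem pj_left (F : SixFam q b H O D W) {a c : V} (hac : b a c = 1) (v : V) : b (pj b a c v) a = 0 := by
  simp only [pj, map_add, LinearMap.add_apply, map_smul, LinearMap.smul_apply, smul_eq_mul, F.b_self,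
    F.b_comm c a, hac, mul_zero, mul_one, add_zero, zadd]

theorem pj_right (F : SixFam q b H O D W) {a c : V} (hac : b a c = 1) (v : V) : b (pj b a c v) c = 0 := by
  simp only [pj, map_add, LinearMap.add_apply, map_smul, LinearMap.smul_apply, smul_eq_mul, F.b_self,
    hac, mul_zero, mul_one, add_zero, zadd]

theorem pj_of_perp (F : SixFam q b H O D W) {a c x : V} (hxa : b x a = 0) (hxc : b x c = 0) (v : V) :
    b x (pj b a c v) = b x v := by
  simp only [pj, map_add, map_smul, smul_eq_mul, hxa, hxc, mul_zero, add_zero]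

/-- `|S| = 2 |S ∩ d^⊥|` for `c ∈ S` with `b c d = 1`. -/
theorem card_eq_two_mul (F : SixFam q b H O D W) (S : Submodule (ZMod 2) V) {c d : V} (hc : c ∈ S)
    (hcd : b c d = 1) : Nat.card S = 2 * Nat.card {v : S // b (v : V) d = 0} := by
  have e : S ≃ {v : S // b (v : V) d = 0} × ZMod 2 :=
    { toFun := fun v => (⟨⟨(v : V) + b (v : V) d • c, S.add_mem v.2 (S.smul_mem _ hc)⟩, by
        show b ((v : V) + b (v : V) d • c) d = 0
        rw [map_add, LinearMap.add_apply, map_smul, LinearMap.smul_apply, hcd, smul_eq_mul, mul_one, zadd]⟩,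
        b (v : V) d)
      invFun := fun p => ⟨(p.1 : S) + p.2 • c, S.add_mem p.1.1.2 (S.smul_mem _ hc)⟩
      left_inv := by
        intro v
        apply Subtype.ext
        show (v : V) + b (v : V) d • c + b (v : V) d • c = v
        rw [add_cancel']
      right_inv := by
        rintro ⟨⟨⟨v, hv⟩, hvd⟩, t⟩
        have hvd' : b v d = 0 := hvd
        have h1 : b (v + t • c) d = t := by
          rw [map_add, LinearMap.add_apply, hvd', zero_add, map_smul, LinearMap.smul_apply, hcd, smul_eq_mul,
            mul_one]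
        refine Prod.ext (Subtype.ext (Subtype.ext ?_)) h1
        show v + t • c + b (v + t • c) d • c = v
        rw [h1, add_cancel'] }
  rw [Nat.card_congr e, Nat.card_prod, Nat.card_zmod, mul_comm]

end SixFam

/-- a set of four vectors closed under addition -/
theorem exists_of_four {S : Type*} [AddCommGroup S] [Module (ZMod 2) S] (h4 : Nat.card S = 4) :
    ∃ x y : S, x ≠ 0 ∧ y ≠ 0 ∧ x ≠ y ∧ ∀ v, v = 0 ∨ v = x ∨ v = y ∨ v = x + y := by
  classical
  have hf : Finite S := Nat.finite_of_card_ne_zero (by rw [h4]; norm_num)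
  have : Fintype S := Fintype.ofFinite S
  have hc : (Finset.univ : Finset S).card = 4 := by
    rw [Finset.card_univ, ← Nat.card_eq_fintype_card, h4]
  obtain ⟨x, -, hx⟩ := Finset.exists_mem_notMem_of_card_lt_card (s := {0}) (t := (Finset.univ : Finset S))
    (by rw [hc, Finset.card_singleton]; norm_num)
  obtain ⟨y, -, hy⟩ := Finset.exists_mem_notMem_of_card_lt_card (s := {0, x}) (t := (Finset.univ : Finset S))
    (by
      rw [hc]
      exact lt_of_le_of_lt (Finset.card_le_two) (by norm_num))
  simp only [Finset.mem_singleton] at hx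
  simp only [Finset.mem_insert, Finset.mem_singleton, not_or] at hy
  refine ⟨x, y, hx, hy.1, fun h => hy.2 h.symm, fun v => ?_⟩
  by_contra hv
  push Not at hv
  obtain ⟨h1, h2, h3, h5⟩ := hv
  have hxy : x + y ≠ 0 := fun h => hy.2 (eq_of_add h).symm
  have hxyx : x + y ≠ x := fun h => hy.1 (by simpa using h)
  have hxyy : x + y ≠ y := fun h => hx (by simpa using h)
  have hle : ({0, x, y, x + y, v} : Finset S).card ≤ 4 := by
    rw [← hc]; exact Finset.card_le_card (Finset.subset_univ _)
  rw [Finset.card_insert_of_notMem, Finset.card_insert_of_notMem, Finset.card_insert_of_notMem,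
    Finset.card_insert_of_notMem, Finset.card_singleton] at hle
  · omega
  · simp only [Finset.mem_singleton]; exact fun h => h5 h.symm
  · simp only [Finset.mem_insert, Finset.mem_singleton, not_or]
    exact ⟨fun h => hxyy h.symm, fun h => h3 h.symm⟩
  · simp only [Finset.mem_insert, Finset.mem_singleton, not_or]
    exact ⟨fun h => hy.2 h.symm, fun h => hxyx h.symm, fun h => h2 h.symm⟩
  · simp only [Finset.mem_insert, Finset.mem_singleton, not_or]
    exact ⟨fun h => hx h.symm, fun h => hy.1 h.symm, fun h => hxy h.symm, fun h => h1 h.symm⟩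

end Cfsg.Agent.LargeExtra.Six
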