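import Cfsg.Agent.LargeExtra.SixEightGood

/-!
# S1762, case II, `|D| = 8`, `W` totally singular: the finite checks (helper416)
-/

set_option autoImplicit false

namespace Cfsg.Agent.LargeExtra.Six

/-- the vectors orthogonal to `a = 1` and `c + v₁ = 18` -/
def V18L : List ℕ := [0, 5, 8, 13, 16, 21, 24, 29, 32, 37, 40, 45, 48, 53, 56, 61]

/-- the family `a`, `c`, `c + v₁` -/
def famA (t1 t2 s1 s2 u1 u2 r1 r2 : ℕ) : List Ent :=
  [⟨1, sp3 1 4 8, sp3 1 t1 t2⟩, ⟨2, sp3 2 16 32, sp3 2 s1 s2⟩, ⟨18, sp3 18 u1 u2, sp3 18 r1 r2⟩]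

/-- `W a ∩ W c₂ = 0` -/
def goodA (u1 u2 : ℕ) : Bool := [u1, u2, u1 ^^^ u2].all fun u => !sp3 1 4 8 u

def wordsA (u1 u2 : ℕ) : List (List (ℕ × ℕ)) :=
  [[(1, 4)], [(1, 8)], [(1, 12)], [(2, 16)], [(2, 32)], [(2, 48)], [(18, u1)], [(18, u2)], [(18, u1 ^^^ u2)]]

def leafA (T t1 t2 s1 s2 u1 u2 r1 r2 : ℕ) : Bool :=
  (wordsA u1 u2).any (chk T (famA t1 t2 s1 s2 u1 u2 r1 r2) [4, 8, 16, 32, t1, t2, s1, s2, u1, u2, r1, r2])

def checkA2 (T t1 t2 s1 s2 : ℕ) : Bool :=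
  V18L.all fun u1 => T.testBit u1 || V18L.all fun u2 => T.testBit u2 || (bn T u1 u2 || (!goodA u1 u2 ||
    V18L.all fun r1 => T.testBit r1 || (!bn T u1 r1 || (bn T u2 r1 ||
      V18L.all fun r2 => T.testBit r2 || (bn T u1 r2 || (!bn T u2 r2 || (bn T r1 r2 ||
        leafA T t1 t2 s1 s2 u1 u2 r1 r2)))))))

def checkA (T : ℕ) : Bool :=
  V0L.all fun t1 => T.testBit t1 || (!bn T 4 t1 || (bn T 8 t1 ||
    V0L.all fun t2 => T.testBit t2 || (bn T 4 t2 || (!bn T 8 t2 || (bn T t1 t2 ||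
      V0L.all fun s1 => T.testBit s1 || (!bn T 16 s1 || (bn T 32 s1 ||
        V0L.all fun s2 => T.testBit s2 || (bn T 16 s2 || (!bn T 32 s2 || (bn T s1 s2 ||
          checkA2 T t1 t2 s1 s2))))))))))

set_option maxRecDepth 100000 in
theorem checkA_T000 : checkA T000 = true := by decide +kernel

/-- `V18L` -/
theorem T000_V18L : ∀ x < 64, bn T000 x 1 = false → bn T000 x 18 = false → x ∈ V18L := by
  decide +kernel

end Cfsg.Agent.LargeExtra.Six
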