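import Cfsg.Agent.LargeExtra.SixModel

/-!
# S1762, case II, `|D| = 8`: the finite checks (helper416)
-/

set_option autoImplicit false

namespace Cfsg.Agent.LargeExtra.Six

/-- the vectors orthogonal to `a = 1` and `b = 2` -/
def V0L : List ℕ := [0, 4, 8, 12, 16, 20, 24, 28, 32, 36, 40, 44, 48, 52, 56, 60]

/-- characteristic function of the span of `x, y, z` -/
def sp3 (x y z v : ℕ) : Bool :=
  ((v == 0 || v == x) || (v == y || v == (x ^^^ y))) ||
    ((v == z || v == (x ^^^ z)) || (v == (y ^^^ z) || v == (x ^^^ y ^^^ z)))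

/-- the family consisting of `a` and `b` -/
def fam8 (w1 w2 t1 t2 : ℕ) : List Ent :=
  [⟨1, sp3 1 4 8, sp3 1 16 32⟩, ⟨2, sp3 2 w1 w2, sp3 2 t1 t2⟩]

/-- all possibilities for `W b`, `D b` are good or killed by a word. -/
def check8 (T : ℕ) (β q1 q2 : Bool) (good : ℕ → ℕ → Bool) (words : ℕ → ℕ → List (List (ℕ × ℕ))) :
    Bool :=
  V0L.all fun w1 => (T.testBit w1 != q1) || V0L.all fun w2 => (T.testBit w2 != q2) ||
    ((bn T w1 w2 != β) || (good w1 w2 ||
      V0L.all fun t1 => T.testBit t1 || (!bn T w1 t1 || (bn T w2 t1 ||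
        V0L.all fun t2 => T.testBit t2 || (bn T w1 t2 || (!bn T w2 t2 || (bn T t1 t2 ||
          (words w1 w2).any (chk T (fam8 w1 w2 t1 t2) [4, 8, 16, 32, w1, w2, t1, t2]))))))))

/-- `q = x₀x₁ + x₂x₄ + x₃x₅ + β x₂x₃ + q₁ x₂ + q₂ x₃` -/
def T000 : ℕ := 9761683620345972872
def T010 : ℕ := 8613283239102543992
def T111 : ℕ := 8685341932635322232
def T100 : ℕ := 8608779708193601672

def words000 (w1 w2 : ℕ) : List (List (ℕ × ℕ)) :=
  [[(1, 8), (2, w1), (1, 8), (2, w1)], [(2, w1), (1, 8), (2, w1 ^^^ w2), (1, 8), (2, w1)]]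
def words010 (w1 w2 : ℕ) : List (List (ℕ × ℕ)) :=
  [[(1, 8), (2, w1), (1, 8)], [(1, 8), (2, w1), (1, 12), (2, w1), (1, 8)]]
def words111 (w1 w2 : ℕ) : List (List (ℕ × ℕ)) :=
  [[(1, 4), (2, w2), (1, 8)], [(1, 4), (2, w2), (1, 4), (2, w2), (1, 4)],
    [(1, 4), (2, w1 ^^^ w2), (1, 4), (2, w1 ^^^ w2), (1, 4)]]
def words100 (w1 w2 : ℕ) : List (List (ℕ × ℕ)) :=
  [[(2, w1 ^^^ w2), (1, 8), (2, w1), (1, 8), (2, w1 ^^^ w2)],
    [(2, w1 ^^^ w2), (1, 4), (2, w1), (1, 4), (2, w1 ^^^ w2)]]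

def good000 (w1 w2 : ℕ) : Bool := [w1, w2, w1 ^^^ w2].all fun w => w != 0 && (w != 4 && (w != 8 && w != 12))
def good100 (w1 w2 : ℕ) : Bool := !bn T100 60 w1 && !bn T100 60 w2

set_option maxRecDepth 100000 in
theorem check000 : check8 T000 false false false good000 words000 = true := by decide +kernel

set_option maxRecDepth 100000 in
theorem check010 : check8 T010 false true false (fun _ _ => false) words010 = true := by decide +kernel

set_option maxRecDepth 100000 in
theorem check111 : check8 T111 true true true (fun _ _ => false) words111 = true := by decide +kernel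

set_option maxRecDepth 100000 in
theorem check100 : check8 T100 true false false good100 words100 = true := by decide +kernel

end Cfsg.Agent.LargeExtra.Six
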