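import Cfsg.Agent.LargeExtra.SixBasic
import Cfsg.Agent.LargeExtra.SixCheckEight

/-!
# S1762, case II, `|D| = 8`, a non-orthogonal pair: coordinates and the result of the finite check (helper416)
-/

set_option autoImplicit false

namespace Cfsg.Agent.LargeExtra.Six

variable {V : Type*} [AddCommGroup V] [Module (ZMod 2) V] {q : V → ZMod 2}
  {b : LinearMap.BilinForm (ZMod 2) V} {H : Subgroup (V ≃ₗ[ZMod 2] V)}
  {O : Set V} {D W : V → Submodule (ZMod 2) V}

open SixFam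

/-- the shape of `W c` and `D c` relative to a non-orthogonal `d` -/
structure Dat8 (q : V → ZMod 2) (b : LinearMap.BilinForm (ZMod 2) V) (D W : V → Submodule (ZMod 2) V)
    (c d w1 w2 t1 t2 : V) : Prop where
  w1c : b w1 c = 0
  w1d : b w1 d = 0
  w2c : b w2 c = 0
  w2d : b w2 d = 0
  t1c : b t1 c = 0
  t1d : b t1 d = 0
  t2c : b t2 c = 0
  t2d : b t2 d = 0
  qt1 : q t1 = 0
  qt2 : q t2 = 0
  t12 : b t1 t2 = 0
  w1t1 : b w1 t1 = 1
  w1t2 : b w1 t2 = 0
  w2t1 : b w2 t1 = 0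
  w2t2 : b w2 t2 = 1
  hW : ∀ v, v ∈ W c ↔ ∃ r s t : Bool, v = bz r • c + bz s • w1 + bz t • w2
  hD : ∀ v, v ∈ D c ↔ ∃ r s t : Bool, v = bz r • c + bz s • t1 + bz t • t2

/-- a basis of `W a ∩ c^⊥` -/
theorem exists_basis_W (F : SixFam q b H O D W) {a c : V} (ha : a ∈ O) (hac : b a c = 1)
    (h8 : Nat.card (D a) = 8) : ∃ x y, x ≠ 0 ∧ y ≠ 0 ∧ x ≠ y ∧ b x c = 0 ∧ b y c = 0 ∧ x ∈ W a ∧ y ∈ W a ∧
      ∀ v ∈ W a, b v c = 0 → v = 0 ∨ v = x ∨ v = y ∨ v = x + y := by
  have hW8 : Nat.card (W a) = 8 := by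
    have := F.card_DW a ha
    rw [h8] at this; omega
  have h1 := F.card_eq_two_mul (W a) (F.self_W a ha) hac
  rw [hW8] at h1
  let P : Submodule (ZMod 2) V := W a ⊓ LinearMap.ker (b.flip c)
  have hP : ∀ v, v ∈ P ↔ v ∈ W a ∧ b v c = 0 := fun v => by
    rw [Submodule.mem_inf, LinearMap.mem_ker]; rfl
  have hcard : Nat.card P = 4 := by
    have e : {v : W a // b (v : V) c = 0} ≃ P :=
      { toFun := fun v => ⟨v.1.1, (hP _).2 ⟨v.1.2, v.2⟩⟩
        invFun := fun v => ⟨⟨v.1, ((hP _).1 v.2).1⟩, ((hP _).1 v.2).2⟩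
        left_inv := fun v => rfl
        right_inv := fun v => rfl }
    rw [← Nat.card_congr e]
    omega
  obtain ⟨x, y, hx, hy, hxy, hall⟩ := exists_of_four hcard
  refine ⟨x, y, fun h => hx (Subtype.ext h), fun h => hy (Subtype.ext h), fun h => hxy (Subtype.ext h),
    ((hP _).1 x.2).2, ((hP _).1 y.2).2, ((hP _).1 x.2).1, ((hP _).1 y.2).1, fun v hv hvc => ?_⟩
  rcases hall ⟨v, (hP v).2 ⟨hv, hvc⟩⟩ with h | h | h | h
  · left; exact congrArg Subtype.val h
  · right; left; exact congrArg Subtype.val h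
  · right; right; left; exact congrArg Subtype.val h
  · right; right; right; exact congrArg Subtype.val h

/-- From a basis of `W a ∩ c^⊥` to the full data. -/
theorem exists_dat8_of (F : SixFam q b H O D W) {a c x y : V} (ha : a ∈ O) (hac : b a c = 1)
    (h8 : Nat.card (D a) = 8) (hxc : b x c = 0) (hyc : b y c = 0) (hxW : x ∈ W a) (hyW : y ∈ W a)
    (hall : ∀ v ∈ W a, b v c = 0 → v = 0 ∨ v = x ∨ v = y ∨ v = x + y) :
    ∃ t1 t2, Dat8 q b D W a c x y t1 t2 := by
  have hfin := F.finite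
  -- the elements of `W a`
  have hW : ∀ v, v ∈ W a ↔ ∃ r s t : Bool, v = bz r • a + bz s • x + bz t • y := by
    intro v
    constructor
    · intro hv
      obtain ⟨r, hr⟩ := exists_bz (b v c)
      have h1 : b (v + bz r • a) c = 0 := by
        rw [map_add, LinearMap.add_apply, map_smul, LinearMap.smul_apply, hac, hr, smul_eq_mul, mul_one, zadd]
      have h2 : v + bz r • a ∈ W a := (W a).add_mem hv ((W a).smul_mem _ (F.self_W a ha))
      have h3 : v = (v + bz r • a) + bz r • a := by rw [add_cancel']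
      rcases hall _ h2 h1 with h | h | h | h
      · exact ⟨r, false, false, by rw [h3, h]; simp [bz]⟩
      · refine ⟨r, true, false, ?_⟩
        rw [h3, h]; simp [bz]; abel
      · refine ⟨r, false, true, ?_⟩
        rw [h3, h]; simp [bz]; abel
      · refine ⟨r, true, true, ?_⟩
        rw [h3, h]; simp [bz]; abel
    · rintro ⟨r, s, t, rfl⟩
      exact (W a).add_mem ((W a).add_mem ((W a).smul_mem _ (F.self_W a ha)) ((W a).smul_mem _ hxW))
        ((W a).smul_mem _ hyW)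
  have hxa : b x a = 0 := by rw [F.b_comm]; exact F.perp_W a ha x hxW
  have hya : b y a = 0 := by rw [F.b_comm]; exact F.perp_W a ha y hyW
  -- `D a ∩ c^⊥`
  have h1 := F.card_eq_two_mul (D a) (F.self_D a ha) hac
  rw [h8] at h1
  let f : {v : D a // b (v : V) c = 0} → ZMod 2 × ZMod 2 := fun v => (b x (v : D a), b y (v : D a))
  have hinj : Function.Injective f := by
    intro v w hvw
    have h2 : b x ((v : D a) : V) = b x ((w : D a) : V) := congrArg Prod.fst hvw
    have h3 : b y ((v : D a) : V) = b y ((w : D a) : V) := congrArg Prod.snd hvw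
    have h4 : ((v : D a) : V) + ((w : D a) : V) ∈ D a := (D a).add_mem v.1.2 w.1.2
    have h5 : ∀ z ∈ W a, b (((v : D a) : V) + ((w : D a) : V)) z = 0 := by
      intro z hz
      obtain ⟨r, s, t, rfl⟩ := (hW z).1 hz
      have e1 : b (((v : D a) : V) + ((w : D a) : V)) a = 0 := F.b_D ha h4 (F.self_D a ha)
      have e2 : b (((v : D a) : V) + ((w : D a) : V)) x = 0 := by
        rw [F.b_comm, map_add, h2, zadd]
      have e3 : b (((v : D a) : V) + ((w : D a) : V)) y = 0 := by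
        rw [F.b_comm, map_add, h3, zadd]
      rw [map_add, map_add, map_smul, map_smul, map_smul, e1, e2, e3]
      simp
    have h6 : b (((v : D a) : V) + ((w : D a) : V)) c = 0 := by
      rw [map_add, LinearMap.add_apply, v.2, w.2, add_zero]
    rcases F.cap a ha _ h4 h5 with h7 | h7
    · exact Subtype.ext (Subtype.ext (eq_of_add h7))
    · rw [h7, hac] at h6
      exact absurd h6 (by decide)
  have hbij : Function.Bijective f := by
    have : Finite {v : D a // b (v : V) c = 0} := inferInstance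
    apply Function.Injective.bijective_of_nat_card_le hinj
    rw [Nat.card_prod, Nat.card_zmod]
    omega
  obtain ⟨t1, ht1⟩ := hbij.2 (1, 0)
  obtain ⟨t2, ht2⟩ := hbij.2 (0, 1)
  have h11 : b x ((t1 : D a) : V) = 1 := congrArg Prod.fst ht1
  have h12 : b y ((t1 : D a) : V) = 0 := congrArg Prod.snd ht1
  have h21 : b x ((t2 : D a) : V) = 0 := congrArg Prod.fst ht2
  have h22 : b y ((t2 : D a) : V) = 1 := congrArg Prod.snd ht2
  have haD := F.self_D a ha
  refine ⟨t1, t2, hxa, hxc, hya, hyc, F.b_D ha t1.1.2 haD, t1.2, F.b_D ha t2.1.2 haD, t2.2,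
    F.q_D a ha _ t1.1.2, F.q_D a ha _ t2.1.2, F.b_D ha t1.1.2 t2.1.2, h11, h21, h12, h22, hW, fun v => ?_⟩
  constructor
  · intro hv
    obtain ⟨r, hr⟩ := exists_bz (b v c)
    have h3 : b (v + bz r • a) c = 0 := by
      rw [map_add, LinearMap.add_apply, map_smul, LinearMap.smul_apply, hac, hr, smul_eq_mul, mul_one, zadd]
    have h4 : v + bz r • a ∈ D a := (D a).add_mem hv ((D a).smul_mem _ haD)
    obtain ⟨s, hs⟩ := exists_bz (b x (v + bz r • a))
    obtain ⟨t, ht⟩ := exists_bz (b y (v + bz r • a))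
    refine ⟨r, s, t, ?_⟩
    have h5 : bz s • ((t1 : D a) : V) + bz t • ((t2 : D a) : V) ∈ D a :=
      (D a).add_mem ((D a).smul_mem _ t1.1.2) ((D a).smul_mem _ t2.1.2)
    have h6 : b (bz s • ((t1 : D a) : V) + bz t • ((t2 : D a) : V)) c = 0 := by
      rw [map_add, LinearMap.add_apply, map_smul, map_smul, LinearMap.smul_apply, LinearMap.smul_apply, t1.2, t2.2]
      simp
    have h7 : (⟨⟨v + bz r • a, h4⟩, h3⟩ : {v : D a // b (v : V) c = 0}) =
        ⟨⟨bz s • ((t1 : D a) : V) + bz t • ((t2 : D a) : V), h5⟩, h6⟩ := by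
      apply hinj
      refine Prod.ext ?_ ?_
      · show b x (v + bz r • a) = b x (bz s • ((t1 : D a) : V) + bz t • ((t2 : D a) : V))
        rw [hs, map_add, map_smul, map_smul, h11, h21]; simp
      · show b y (v + bz r • a) = b y (bz s • ((t1 : D a) : V) + bz t • ((t2 : D a) : V))
        rw [ht, map_add, map_smul, map_smul, h12, h22]; simp
    have h8 : v + bz r • a = bz s • ((t1 : D a) : V) + bz t • ((t2 : D a) : V) :=
      congrArg (fun z : {v : D a // b (v : V) c = 0} => ((z.1 : D a) : V)) h7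
    rw [add_assoc, ← h8, add_comm, add_assoc, add_self, add_zero]
  · rintro ⟨r, s, t, rfl⟩
    exact (D a).add_mem ((D a).add_mem ((D a).smul_mem _ haD) ((D a).smul_mem _ t1.1.2))
      ((D a).smul_mem _ t2.1.2)

/-- the four types -/
def Typ (β q1 q2 : Bool) : Prop :=
  (β = false ∧ q1 = false ∧ q2 = false) ∨ (β = false ∧ q1 = true ∧ q2 = false) ∨
    (β = true ∧ q1 = true ∧ q2 = true) ∨ (β = true ∧ q1 = false ∧ q2 = false)

/-- normalised data -/
theorem exists_dat8 (F : SixFam q b H O D W) {a c : V} (ha : a ∈ O) (hac : b a c = 1)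
    (h8 : Nat.card (D a) = 8) :
    ∃ (β q1 q2 : Bool) (w1 w2 t1 t2 : V), Typ β q1 q2 ∧ Dat8 q b D W a c w1 w2 t1 t2 ∧
      q w1 = bz q1 ∧ q w2 = bz q2 ∧ b w1 w2 = bz β := by
  obtain ⟨x, y, hx, hy, hxy, hxc, hyc, hxW, hyW, hall⟩ := exists_basis_W F ha hac h8
  -- replacing the basis
  have h1 : ∀ v ∈ W a, b v c = 0 → v = 0 ∨ v = y ∨ v = x ∨ v = y + x := fun v hv hv' => by
    rcases hall v hv hv' with h | h | h | h
    · exact Or.inl h
    · exact Or.inr (Or.inr (Or.inl h))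
    · exact Or.inr (Or.inl h)
    · exact Or.inr (Or.inr (Or.inr (by rw [h, add_comm])))
  have e1 : x + (x + y) = y := by rw [← add_assoc, add_self, zero_add]
  have e2 : (x + y) + y = x := add_cancel' x y
  have h2 : ∀ v ∈ W a, b v c = 0 → v = 0 ∨ v = x ∨ v = x + y ∨ v = x + (x + y) := fun v hv hv' => by
    rcases hall v hv hv' with h | h | h | h
    · exact Or.inl h
    · exact Or.inr (Or.inl h)
    · exact Or.inr (Or.inr (Or.inr (by rw [h, e1])))
    · exact Or.inr (Or.inr (Or.inl h))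
  have h3 : ∀ v ∈ W a, b v c = 0 → v = 0 ∨ v = x + y ∨ v = y ∨ v = (x + y) + y := fun v hv hv' => by
    rcases hall v hv hv' with h | h | h | h
    · exact Or.inl h
    · exact Or.inr (Or.inr (Or.inr (by rw [h, e2])))
    · exact Or.inr (Or.inr (Or.inl h))
    · exact Or.inr (Or.inl h)
  have hxyc : b (x + y) c = 0 := by rw [map_add, LinearMap.add_apply, hxc, hyc, add_zero]
  have hxyW : x + y ∈ W a := (W a).add_mem hxW hyW
  have hqs : q (x + y) = q x + q y + b x y := F.q_add x y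
  have hb1 : b x (x + y) = b x y := by rw [map_add, F.b_self, zero_add]
  have hb2 : b (x + y) y = b x y := by rw [map_add, LinearMap.add_apply, F.b_self, add_zero]
  rcases zm (b x y) with hb | hb <;> rcases zm (q x) with hqx | hqx <;> rcases zm (q y) with hqy | hqy
  · obtain ⟨t1, t2, d⟩ := exists_dat8_of F ha hac h8 hxc hyc hxW hyW hall
    exact ⟨false, false, false, x, y, t1, t2, Or.inl ⟨rfl, rfl, rfl⟩, d, hqx, hqy, hb⟩
  · obtain ⟨t1, t2, d⟩ := exists_dat8_of F ha hac h8 hyc hxc hyW hxW h1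
    exact ⟨false, true, false, y, x, t1, t2, Or.inr (Or.inl ⟨rfl, rfl, rfl⟩), d, hqy, hqx,
      by rw [F.b_comm]; exact hb⟩
  · obtain ⟨t1, t2, d⟩ := exists_dat8_of F ha hac h8 hxc hyc hxW hyW hall
    exact ⟨false, true, false, x, y, t1, t2, Or.inr (Or.inl ⟨rfl, rfl, rfl⟩), d, hqx, hqy, hb⟩
  · obtain ⟨t1, t2, d⟩ := exists_dat8_of F ha hac h8 hxc hxyc hxW hxyW h2
    exact ⟨false, true, false, x, x + y, t1, t2, Or.inr (Or.inl ⟨rfl, rfl, rfl⟩), d, hqx,
      by rw [hqs, hqx, hqy, hb]; rfl, by rw [hb1, hb]; rfl⟩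
  · obtain ⟨t1, t2, d⟩ := exists_dat8_of F ha hac h8 hxc hyc hxW hyW hall
    exact ⟨true, false, false, x, y, t1, t2, Or.inr (Or.inr (Or.inr ⟨rfl, rfl, rfl⟩)), d, hqx, hqy, hb⟩
  · obtain ⟨t1, t2, d⟩ := exists_dat8_of F ha hac h8 hxc hxyc hxW hxyW h2
    exact ⟨true, false, false, x, x + y, t1, t2, Or.inr (Or.inr (Or.inr ⟨rfl, rfl, rfl⟩)), d, hqx,
      by rw [hqs, hqx, hqy, hb]; rfl, by rw [hb1, hb]; rfl⟩
  · obtain ⟨t1, t2, d⟩ := exists_dat8_of F ha hac h8 hxyc hyc hxyW hyW h3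
    exact ⟨true, false, false, x + y, y, t1, t2, Or.inr (Or.inr (Or.inr ⟨rfl, rfl, rfl⟩)), d,
      by rw [hqs, hqx, hqy, hb]; rfl, hqy, by rw [hb2, hb]; rfl⟩
  · obtain ⟨t1, t2, d⟩ := exists_dat8_of F ha hac h8 hxc hyc hxW hyW hall
    exact ⟨true, true, true, x, y, t1, t2, Or.inr (Or.inr (Or.inl ⟨rfl, rfl, rfl⟩)), d, hqx, hqy, hb⟩

/-- transport of the data by `H` -/
theorem Dat8.transport (F : SixFam q b H O D W) {a c w1 w2 t1 t2 : V} (ha : a ∈ O)
    (d : Dat8 q b D W a c w1 w2 t1 t2) {a' c' : V} (ha' : a' ∈ O) (hac' : b a' c' = 1) :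
    ∃ w1' w2' t1' t2', Dat8 q b D W a' c' w1' w2' t1' t2' ∧ q w1' = q w1 ∧ q w2' = q w2 ∧
      b w1' w2' = b w1 w2 := by
  obtain ⟨h, hh, rfl⟩ := F.trans a ha a' ha'
  have hinv : ∀ v, h (h.symm v) = v := h.apply_symm_apply
  have hqa : q a = 0 := F.q_self ha
  have e1 : ∀ (v : V) (t : ZMod 2), h v + t • h a = h (v + t • a) := fun v t => by
    rw [map_add, map_smul]
  have hqs : ∀ (v : V) (t : ZMod 2), b v a = 0 → q (v + t • a) = q v := by
    intro v t hva
    rcases zm t with rfl | rfl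
    · rw [zero_smul, add_zero]
    · rw [one_smul, F.q_add, hva, hqa, add_zero, add_zero]
  have hl : ∀ (v : V) (t : ZMod 2), b v a = 0 → b (h (v + t • a)) (h a) = 0 := fun v t hva => by
    rw [F.b_H hh, map_add, LinearMap.add_apply, map_smul, LinearMap.smul_apply, F.b_self, hva, smul_zero,
      add_zero]
  have hr : ∀ v : V, b (h (v + b (h v) c' • a)) c' = 0 := fun v => by
    rw [← e1, map_add, LinearMap.add_apply, map_smul, LinearMap.smul_apply, hac', smul_eq_mul, mul_one, zadd]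
  have hb : ∀ (v w : V) (s t : ZMod 2), b v a = 0 → b w a = 0 →
      b (h (v + s • a)) (h (w + t • a)) = b v w := fun v w s t hv hw => by
    rw [F.b_H hh]
    simp only [map_add, LinearMap.add_apply, map_smul, LinearMap.smul_apply, smul_eq_mul, F.b_self,
      F.b_comm a w, hv, hw, mul_zero, add_zero]
  have hq : ∀ (v : V) (t : ZMod 2), b v a = 0 → q (h (v + t • a)) = q v := fun v t hv => by
    rw [F.q_H h hh, hqs v t hv]
  -- spans
  have hspan : ∀ (x y : V) (s0 t0 : ZMod 2) (v : V),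
      (∃ r s t : Bool, h.symm v = bz r • a + bz s • x + bz t • y) ↔
        ∃ r s t : Bool, v = bz r • h a + bz s • h (x + s0 • a) + bz t • h (y + t0 • a) := by
    intro x y s0 t0 v
    obtain ⟨s1, rfl⟩ := exists_bz s0
    obtain ⟨t1, rfl⟩ := exists_bz t0
    constructor
    · rintro ⟨r, s, t, e⟩
      refine ⟨r ^^ ((s && s1) ^^ (t && t1)), s, t, ?_⟩
      rw [h.symm_apply_eq] at e
      rw [e, bz_xor, bz_xor, bz_and, bz_and]
      simp only [map_add, map_smul, smul_add, add_smul, mul_smul]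
      have e2 : ∀ z1 z2 z3 z4 z5 : V, z1 + z2 + z3 = z1 + (z4 + z5) + (z2 + z4) + (z3 + z5) := by
        intro z1 z2 z3 z4 z5
        calc z1 + z2 + z3 = z1 + z2 + z3 + (z4 + z4) + (z5 + z5) := by
              rw [add_self, add_self, add_zero, add_zero]
          _ = _ := by abel
      exact e2 _ _ _ _ _
    · rintro ⟨r, s, t, e⟩
      refine ⟨r ^^ ((s && s1) ^^ (t && t1)), s, t, ?_⟩
      rw [h.symm_apply_eq]
      rw [e, bz_xor, bz_xor, bz_and, bz_and]
      simp only [map_add, map_smul, smul_add, add_smul, mul_smul]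
      abel
  refine ⟨h (w1 + b (h w1) c' • a), h (w2 + b (h w2) c' • a), h (t1 + b (h t1) c' • a),
    h (t2 + b (h t2) c' • a), ⟨hl _ _ d.w1c, hr _, hl _ _ d.w2c, hr _, hl _ _ d.t1c, hr _, hl _ _ d.t2c, hr _,
    ?_, ?_, ?_, ?_, ?_, ?_, ?_, ?_, ?_⟩, hq _ _ d.w1c, hq _ _ d.w2c, hb _ _ _ _ d.w1c d.w2c⟩
  · rw [hq _ _ d.t1c, d.qt1]
  · rw [hq _ _ d.t2c, d.qt2]
  · rw [hb _ _ _ _ d.t1c d.t2c, d.t12]
  · rw [hb _ _ _ _ d.w1c d.t1c, d.w1t1]
  · rw [hb _ _ _ _ d.w1c d.t2c, d.w1t2]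
  · rw [hb _ _ _ _ d.w2c d.t1c, d.w2t1]
  · rw [hb _ _ _ _ d.w2c d.t2c, d.w2t2]
  · intro v
    have h1 : v ∈ W (h a) ↔ h.symm v ∈ W a := by
      rw [← F.W_map_iff hh ha, hinv]
    rw [h1, d.hW, hspan]
  · intro v
    have h1 : v ∈ D (h a) ↔ h.symm v ∈ D a := by
      rw [← F.D_map_iff hh ha, hinv]
    rw [h1, d.hD, hspan]

end Cfsg.Agent.LargeExtra.Six
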