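import Cfsg.Agent.LargeExtra.SixEight

/-!
# S1762, case II, `|D| = 8`, a non-orthogonal pair: what is left by the finite check (helper416)
-/

set_option autoImplicit false

namespace Cfsg.Agent.LargeExtra.Six

variable {V : Type*} [AddCommGroup V] [Module (ZMod 2) V] {q : V → ZMod 2}
  {b : LinearMap.BilinForm (ZMod 2) V} {H : Subgroup (V ≃ₗ[ZMod 2] V)}
  {O : Set V} {D W : V → Submodule (ZMod 2) V}

open SixFam

/-- `q = x₀x₁ + x₂x₄ + x₃x₅ + β x₂x₃ + q₁ x₂ + q₂ x₃` -/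
def T8 (β q1 q2 : Bool) : ℕ :=
  match β, q1, q2 with
  | false, false, false => 9761683620345972872
  | false, false, true => 8680838401726379912
  | false, true, false => 8613283239102543992
  | false, true, true => 9838245844787693432
  | true, false, false => 8608779708193601672
  | true, false, true => 9833742313878751112
  | true, true, false => 9766187151254915192
  | true, true, true => 8685341932635322232

theorem T8_spec : ∀ β q1 q2 : Bool, ∀ x < 64,
    bz (x.testBit 2) * bz q1 + bz (x.testBit 3) * bz q2 + bz (x.testBit 0) * bz (x.testBit 1) +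
      bz (x.testBit 2) * bz (x.testBit 4) + bz (x.testBit 3) * bz (x.testBit 5) +
      bz (x.testBit 2) * bz (x.testBit 3) * bz β =
        bz ((T8 β q1 q2).testBit x) := by decide +kernel

theorem T8_nondeg : ∀ β q1 q2 : Bool, ∀ x < 64, x ≠ 0 → ∃ y < 64, bn (T8 β q1 q2) x y = true := by
  decide +kernel

theorem T8_V0L : ∀ β q1 q2 : Bool, ∀ x < 64, bn (T8 β q1 q2) x 1 = false →
    bn (T8 β q1 q2) x 2 = false → x ∈ V0L := by
  decide +kernel

/-- coordinates from `Dat8` -/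
theorem coord8 (F : SixFam q b H O D W) {a c w1 w2 t1 t2 : V} {β q1 q2 : Bool} (ha : a ∈ O)
    (hc : c ∈ O) (hac : b a c = 1) (d : Dat8 q b D W a c w1 w2 t1 t2) (hq1 : q w1 = bz q1)
    (hq2 : q w2 = bz q2) (hβ : b w1 w2 = bz β) : Coord q ![a, c, w1, w2, t1, t2] (T8 β q1 q2) := by
  apply coord_of F
  · intro x hx
    rw [q_ev_eq F, ← T8_spec β q1 q2 x hx]
    have e0 : (![a, c, w1, w2, t1, t2] : Fin 6 → V) 0 = a := rfl
    have e1 : (![a, c, w1, w2, t1, t2] : Fin 6 → V) 1 = c := rfl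
    have e2' : (![a, c, w1, w2, t1, t2] : Fin 6 → V) 2 = w1 := rfl
    have e3' : (![a, c, w1, w2, t1, t2] : Fin 6 → V) 3 = w2 := rfl
    have e4' : (![a, c, w1, w2, t1, t2] : Fin 6 → V) 4 = t1 := rfl
    have e5' : (![a, c, w1, w2, t1, t2] : Fin 6 → V) 5 = t2 := rfl
    rw [e0, e1, e2', e3', e4', e5', F.q_self ha, F.q_self hc, hac, F.b_comm a w1, F.b_comm a w2, F.b_comm a t1,
      F.b_comm a t2, F.b_comm c w1, F.b_comm c w2, F.b_comm c t1, F.b_comm c t2, d.w1c, d.w1d, d.w2c, d.w2d,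
      d.t1c, d.t1d, d.t2c, d.t2d, d.qt1, d.qt2, d.t12, d.w1t1, d.w1t2, d.w2t1, d.w2t2, hq1, hq2, hβ]
    ring
  · exact T8_nondeg β q1 q2

/-- membership in a span of three coded vectors -/
theorem sp3_iff {e : Fin 6 → V} {T : ℕ} (C : Coord q e T) {x y z s : ℕ} (hx : x < 64) (hy : y < 64)
    (hz : z < 64) (hs : s < 64) : sp3 x y z s = true ↔
      ∃ r1 r2 r3 : Bool, ev e s = bz r1 • ev e x + bz r2 • ev e y + bz r3 • ev e z := by
  have hi : ∀ t < 64, ev e s = ev e t ↔ s = t := fun t ht => ⟨fun h => C.inj s hs t ht h, fun h => by rw [h]⟩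
  have h0 : ∀ r1 r2 r3 : Bool, ev e s = bz r1 • ev e x + bz r2 • ev e y + bz r3 • ev e z ↔
      s = ((if r1 then x else 0) ^^^ (if r2 then y else 0)) ^^^ (if r3 then z else 0) := by
    intro r1 r2 r3
    rw [← hi _ (xor_lt (xor_lt (by split <;> omega) (by split <;> omega)) (by split <;> omega)), ev_xor,
      ev_xor, ev_if, ev_if, ev_if]
  simp only [h0, Bool.exists_bool]
  simp only [sp3, Bool.or_eq_true, beq_iff_eq, if_true, Bool.false_eq_true, if_false, Nat.zero_xor, Nat.xor_zero]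
  tauto

/-- The result of the finite check. -/
theorem good_of_check8 (F : SixFam q b H O D W) {a c w1 w2 t1 t2 : V} {β q1 q2 : Bool} (ha : a ∈ O)
    (hc : c ∈ O) (hac : b a c = 1) (d : Dat8 q b D W a c w1 w2 t1 t2) (hq1 : q w1 = bz q1)
    (hq2 : q w2 = bz q2) (hβ : b w1 w2 = bz β) (good : ℕ → ℕ → Bool) (words : ℕ → ℕ → List (List (ℕ × ℕ)))
    (hchk : check8 (T8 β q1 q2) β q1 q2 good words = true) :
    ∃ y1 y2 : ℕ, y1 ∈ V0L ∧ y2 ∈ V0L ∧ y1 < 64 ∧ y2 < 64 ∧ good y1 y2 = true ∧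
      (∀ v, v ∈ W c ↔ ∃ r1 r2 r3 : Bool, v = bz r1 • c + bz r2 • ev ![a, c, w1, w2, t1, t2] y1 +
        bz r3 • ev ![a, c, w1, w2, t1, t2] y2) := by
  have hca : b c a = 1 := by rw [F.b_comm]; exact hac
  have C := coord8 F ha hc hac d hq1 hq2 hβ
  obtain ⟨w1', w2', t1', t2', d', hq1', hq2', hβ'⟩ := d.transport F ha hc hca
  have he1 : ev (![a, c, w1, w2, t1, t2] : Fin 6 → V) 1 = a := ev_1 _
  have he2 : ev (![a, c, w1, w2, t1, t2] : Fin 6 → V) 2 = c := ev_2 _
  have he4 : ev (![a, c, w1, w2, t1, t2] : Fin 6 → V) 4 = w1 := ev_4 _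
  have he8 : ev (![a, c, w1, w2, t1, t2] : Fin 6 → V) 8 = w2 := ev_8 _
  have he16 : ev (![a, c, w1, w2, t1, t2] : Fin 6 → V) 16 = t1 := ev_16 _
  have he32 : ev (![a, c, w1, w2, t1, t2] : Fin 6 → V) 32 = t2 := ev_32 _
  revert C he1 he2 he4 he8 he16 he32
  generalize (![a, c, w1, w2, t1, t2] : Fin 6 → V) = e
  intro C he1 he2 he4 he8 he16 he32
  obtain ⟨y1, hy1, rfl⟩ := C.surj w1'
  obtain ⟨y2, hy2, rfl⟩ := C.surj w2'
  obtain ⟨z1, hz1, rfl⟩ := C.surj t1'
  obtain ⟨z2, hz2, rfl⟩ := C.surj t2'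
  have hbn : ∀ s < 64, ∀ t < 64, b (ev e s) (ev e t) = bz (bn (T8 β q1 q2) s t) := fun s hs t ht =>
    b_ev F C hs ht
  have hbn0 : ∀ s < 64, ∀ t < 64, b (ev e s) (ev e t) = 0 → bn (T8 β q1 q2) s t = false :=
    fun s hs t ht h => bz_eq_zero.1 (by rw [← hbn s hs t ht]; exact h)
  have hbn1 : ∀ s < 64, ∀ t < 64, b (ev e s) (ev e t) = 1 → bn (T8 β q1 q2) s t = true :=
    fun s hs t ht h => bz_eq_one.1 (by rw [← hbn s hs t ht]; exact h)
  have hV : ∀ s < 64, b (ev e s) a = 0 → b (ev e s) c = 0 → s ∈ V0L := fun s hs h1 h2 =>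
    T8_V0L _ _ _ s hs (hbn0 s hs 1 (by norm_num) (by rw [he1]; exact h1))
      (hbn0 s hs 2 (by norm_num) (by rw [he2]; exact h2))
  have hy1V := hV y1 hy1 d'.w1d d'.w1c
  have hy2V := hV y2 hy2 d'.w2d d'.w2c
  have hz1V := hV z1 hz1 d'.t1d d'.t1c
  have hz2V := hV z2 hz2 d'.t2d d'.t2c
  have hq : ∀ s < 64, ∀ r : Bool, q (ev e s) = bz r → (T8 β q1 q2).testBit s = r := fun s hs r h =>
    bz_inj (by rw [← C.q_ev s hs]; exact h)
  have g1 := hq y1 hy1 q1 (hq1'.trans hq1)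
  have g2 := hq y2 hy2 q2 (hq2'.trans hq2)
  have g3 := hq z1 hz1 false d'.qt1
  have g4 := hq z2 hz2 false d'.qt2
  have g5 : bn (T8 β q1 q2) y1 y2 = β := bz_inj (by rw [← hbn y1 hy1 y2 hy2, hβ', hβ])
  have g6 := hbn1 y1 hy1 z1 hz1 d'.w1t1
  have g7 := hbn0 y2 hy2 z1 hz1 d'.w2t1
  have g8 := hbn0 y1 hy1 z2 hz2 d'.w1t2
  have g9 := hbn1 y2 hy2 z2 hz2 d'.w2t2
  have g10 := hbn0 z1 hz1 z2 hz2 d'.t12
  refine ⟨y1, y2, hy1V, hy2V, hy1, hy2, ?_, fun v => d'.hW v⟩
  have hM : ∀ E ∈ fam8 y1 y2 z1 z2, Means O D W e E := by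
    intro E hE
    simp only [fam8, List.mem_cons, List.not_mem_nil, or_false] at hE
    rcases hE with rfl | rfl
    · refine ⟨by norm_num, by rw [he1]; exact ha, ?_, ?_⟩
      · intro s hs
        rw [he1, d.hW, ← he1, ← he4, ← he8]
        exact sp3_iff C (by norm_num) (by norm_num) (by norm_num) hs
      · intro s hs
        rw [he1, d.hD, ← he1, ← he16, ← he32]
        exact sp3_iff C (by norm_num) (by norm_num) (by norm_num) hs
    · refine ⟨by norm_num, by rw [he2]; exact hc, ?_, ?_⟩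
      · intro s hs
        rw [he2, d'.hW, ← he2]
        exact sp3_iff C (by norm_num) hy1 hy2 hs
      · intro s hs
        rw [he2, d'.hD, ← he2]
        exact sp3_iff C (by norm_num) hz1 hz2 hs
  unfold check8 at hchk
  rw [List.all_eq_true] at hchk
  have h1 := hchk y1 hy1V
  simp only [Bool.or_eq_true, bne_iff_ne, ne_eq] at h1
  rcases h1 with h1 | h1
  · exact absurd g1 h1
  rw [List.all_eq_true] at h1
  have h2 := h1 y2 hy2V
  simp only [Bool.or_eq_true, bne_iff_ne, ne_eq] at h2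
  rcases h2 with h2 | h2 | h2 | h2
  · exact absurd g2 h2
  · exact absurd g5 h2
  · exact h2
  exfalso
  rw [List.all_eq_true] at h2
  have h3 := h2 z1 hz1V
  simp only [Bool.or_eq_true, Bool.not_eq_true'] at h3
  rcases h3 with h3 | h3 | h3 | h3
  · rw [g3] at h3; exact absurd h3 (by decide)
  · rw [g6] at h3; exact absurd h3 (by decide)
  · rw [g7] at h3; exact absurd h3 (by decide)
  rw [List.all_eq_true] at h3
  have h4 := h3 z2 hz2V
  simp only [Bool.or_eq_true, Bool.not_eq_true'] at h4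
  rcases h4 with h4 | h4 | h4 | h4 | h4
  · rw [g4] at h4; exact absurd h4 (by decide)
  · rw [g8] at h4; exact absurd h4 (by decide)
  · rw [g9] at h4; exact absurd h4 (by decide)
  · rw [g10] at h4; exact absurd h4 (by decide)
  rw [List.any_eq_true] at h4
  obtain ⟨ws, -, h5⟩ := h4
  rw [sound F C _ hM] at h5
  exact absurd h5 (by decide)

theorem check000' : check8 (T8 false false false) false false false good000 words000 = true := check000
theorem check010' : check8 (T8 false true false) false true false (fun _ _ => false) words010 = true := check010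
theorem check111' : check8 (T8 true true true) true true true (fun _ _ => false) words111 = true := check111
theorem check100' : check8 (T8 true false false) true false false good100 words100 = true := check100

/-- `|D| = 8` and a non-orthogonal pair: either `W a` is totally singular, or it is hyperbolic modulo `a`. -/
theorem typ_of_pair (F : SixFam q b H O D W) {a c : V} (ha : a ∈ O) (hc : c ∈ O) (hac : b a c = 1)
    (h8 : Nat.card (D a) = 8) :
    (∃ w1 w2 t1 t2, Dat8 q b D W a c w1 w2 t1 t2 ∧ q w1 = 0 ∧ q w2 = 0 ∧ b w1 w2 = 0) ∨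
    (∃ w1 w2 t1 t2, Dat8 q b D W a c w1 w2 t1 t2 ∧ q w1 = 0 ∧ q w2 = 0 ∧ b w1 w2 = 1) := by
  obtain ⟨β, q1, q2, w1, w2, t1, t2, ht, d, h1, h2, h3⟩ := exists_dat8 F ha hac h8
  rcases ht with ⟨rfl, rfl, rfl⟩ | ⟨rfl, rfl, rfl⟩ | ⟨rfl, rfl, rfl⟩ | ⟨rfl, rfl, rfl⟩
  · left; exact ⟨w1, w2, t1, t2, d, h1, h2, h3⟩
  · obtain ⟨y1, y2, -, -, -, -, h4, -⟩ := good_of_check8 F ha hc hac d h1 h2 h3 _ _ check010'
    exact absurd h4 (by decide)
  · obtain ⟨y1, y2, -, -, -, -, h4, -⟩ := good_of_check8 F ha hc hac d h1 h2 h3 _ _ check111'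
    exact absurd h4 (by decide)
  · right; exact ⟨w1, w2, t1, t2, d, h1, h2, h3⟩

end Cfsg.Agent.LargeExtra.Six
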