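import Cfsg.Agent.LargeExtra.SixFam

/-!
# S1762, case II: coordinates for `SixFam` and a kernel-checkable inconsistency test (helper416)

Vectors of `F₂⁶` are coded by natural numbers `x < 64`; a quadratic form is coded by the natural number `T` whose
`x`-th bit is `q(x)`.
-/

set_option autoImplicit false

namespace Cfsg.Agent.LargeExtra.Six

/-! ### the computable side -/

/-- polar form -/
def bn (T x y : ℕ) : Bool := (T.testBit (x ^^^ y)) ^^ ((T.testBit x) ^^ (T.testBit y))

/-- Siegel map -/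
def rn (T c w v : ℕ) : ℕ :=
  v ^^^ ((if bn T v w then c else 0) ^^^ ((if bn T v c then w else 0) ^^^
    (if T.testBit w && bn T v c then c else 0)))

/-- action of a word -/
def wact (T : ℕ) (ws : List (ℕ × ℕ)) (x : ℕ) : ℕ := ws.foldl (fun v p => rn T p.1 p.2 v) x

/-- one member of a family: `c` and the characteristic functions of `W c`, `D c`. -/
structure Ent where
  c : ℕ
  wm : ℕ → Bool
  dm : ℕ → Bool

/-- all letters of the word are available -/
def valid (fam : List Ent) (ws : List (ℕ × ℕ)) : Bool :=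
  ws.all fun p => Nat.blt p.2 64 && fam.any fun E => (E.c == p.1) && E.wm p.2

/-- the word `ws` maps `E.c` to `E'.c` but not (`W`, `D`) to (`W`, `D`), seen on a test vector of `vs`. -/
def bad2 (T : ℕ) (vs : List ℕ) (ws : List (ℕ × ℕ)) (E E' : Ent) : Bool :=
  (wact T ws E.c == E'.c) && vs.any fun v => Nat.blt v 64 &&
    ((E.wm v && !E'.wm (wact T ws v)) || (E.dm v && !E'.dm (wact T ws v)))

/-- the word shows that the family is inconsistent -/
def chk (T : ℕ) (fam : List Ent) (vs : List ℕ) (ws : List (ℕ × ℕ)) : Bool :=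
  valid fam ws && fam.any fun E => fam.any fun E' => bad2 T vs ws E E'

/-- `Bool` to `ZMod 2` -/
def bz (t : Bool) : ZMod 2 := if t then 1 else 0

theorem bz_xor (s t : Bool) : bz (s ^^ t) = bz s + bz t := by revert s t; decide

theorem bz_and (s t : Bool) : bz (s && t) = bz s * bz t := by revert s t; decide

theorem bz_inj {s t : Bool} (h : bz s = bz t) : s = t := by revert s t; decide

theorem bz_eq_zero {s : Bool} : bz s = 0 ↔ s = false := by revert s; decide

theorem bz_eq_one {s : Bool} : bz s = 1 ↔ s = true := by revert s; decide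

theorem exists_bz (t : ZMod 2) : ∃ s : Bool, t = bz s := by
  rcases zm t with h | h
  · exact ⟨false, h⟩
  · exact ⟨true, h⟩

/-! ### evaluation -/

section ev

variable {V : Type*} [AddCommGroup V] [Module (ZMod 2) V]

/-- the vector with code `x` -/
def ev (e : Fin 6 → V) (x : ℕ) : V :=
  bz (x.testBit 0) • e 0 + bz (x.testBit 1) • e 1 + bz (x.testBit 2) • e 2 + bz (x.testBit 3) • e 3 +
    bz (x.testBit 4) • e 4 + bz (x.testBit 5) • e 5

theorem ev_xor (e : Fin 6 → V) (x y : ℕ) : ev e (x ^^^ y) = ev e x + ev e y := by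
  simp only [ev, Nat.testBit_xor, bz_xor, add_smul]
  abel

theorem ev_zero (e : Fin 6 → V) : ev e 0 = 0 := by
  simp [ev, bz]

theorem ev_1 (e : Fin 6 → V) : ev e 1 = e 0 := by
  unfold ev
  rw [show bz (Nat.testBit 1 0) = 1 by decide, show bz (Nat.testBit 1 1) = 0 by decide,
    show bz (Nat.testBit 1 2) = 0 by decide, show bz (Nat.testBit 1 3) = 0 by decide,
    show bz (Nat.testBit 1 4) = 0 by decide, show bz (Nat.testBit 1 5) = 0 by decide]
  simp only [zero_smul, one_smul, add_zero]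

theorem ev_2 (e : Fin 6 → V) : ev e 2 = e 1 := by
  unfold ev
  rw [show bz (Nat.testBit 2 0) = 0 by decide, show bz (Nat.testBit 2 1) = 1 by decide,
    show bz (Nat.testBit 2 2) = 0 by decide, show bz (Nat.testBit 2 3) = 0 by decide,
    show bz (Nat.testBit 2 4) = 0 by decide, show bz (Nat.testBit 2 5) = 0 by decide]
  simp only [zero_smul, one_smul, add_zero, zero_add]

theorem ev_4 (e : Fin 6 → V) : ev e 4 = e 2 := by
  unfold ev
  rw [show bz (Nat.testBit 4 0) = 0 by decide, show bz (Nat.testBit 4 1) = 0 by decide,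
    show bz (Nat.testBit 4 2) = 1 by decide, show bz (Nat.testBit 4 3) = 0 by decide,
    show bz (Nat.testBit 4 4) = 0 by decide, show bz (Nat.testBit 4 5) = 0 by decide]
  simp only [zero_smul, one_smul, add_zero, zero_add]

theorem ev_8 (e : Fin 6 → V) : ev e 8 = e 3 := by
  unfold ev
  rw [show bz (Nat.testBit 8 0) = 0 by decide, show bz (Nat.testBit 8 1) = 0 by decide,
    show bz (Nat.testBit 8 2) = 0 by decide, show bz (Nat.testBit 8 3) = 1 by decide,
    show bz (Nat.testBit 8 4) = 0 by decide, show bz (Nat.testBit 8 5) = 0 by decide]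
  simp only [zero_smul, one_smul, add_zero, zero_add]

theorem ev_16 (e : Fin 6 → V) : ev e 16 = e 4 := by
  unfold ev
  rw [show bz (Nat.testBit 16 0) = 0 by decide, show bz (Nat.testBit 16 1) = 0 by decide,
    show bz (Nat.testBit 16 2) = 0 by decide, show bz (Nat.testBit 16 3) = 0 by decide,
    show bz (Nat.testBit 16 4) = 1 by decide, show bz (Nat.testBit 16 5) = 0 by decide]
  simp only [zero_smul, one_smul, add_zero, zero_add]

theorem ev_32 (e : Fin 6 → V) : ev e 32 = e 5 := by
  unfold ev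
  rw [show bz (Nat.testBit 32 0) = 0 by decide, show bz (Nat.testBit 32 1) = 0 by decide,
    show bz (Nat.testBit 32 2) = 0 by decide, show bz (Nat.testBit 32 3) = 0 by decide,
    show bz (Nat.testBit 32 4) = 0 by decide, show bz (Nat.testBit 32 5) = 1 by decide]
  simp only [zero_smul, one_smul, add_zero, zero_add]

theorem ev_if (e : Fin 6 → V) (t : Bool) (c : ℕ) : ev e (if t then c else 0) = bz t • ev e c := by
  cases t
  · simp [bz, ev_zero]
  · simp [bz]

theorem xor_lt {x y : ℕ} (hx : x < 64) (hy : y < 64) : x ^^^ y < 64 := Nat.xor_lt_two_pow (n := 6) hx hy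

/-- Coordinates: `T` codes `q ∘ ev e`, and `ev e` is bijective. -/
structure Coord (q : V → ZMod 2) (e : Fin 6 → V) (T : ℕ) : Prop where
  q_ev : ∀ x < 64, q (ev e x) = bz (T.testBit x)
  inj : ∀ x < 64, ∀ y < 64, ev e x = ev e y → x = y
  surj : ∀ v, ∃ x < 64, ev e x = v

end ev

section coord

variable {V : Type*} [AddCommGroup V] [Module (ZMod 2) V] {q : V → ZMod 2}
  {b : LinearMap.BilinForm (ZMod 2) V} {H : Subgroup (V ≃ₗ[ZMod 2] V)}
  {O : Set V} {D W : V → Submodule (ZMod 2) V} {e : Fin 6 → V} {T : ℕ}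

theorem rn_lt {T c w v : ℕ} (hc : c < 64) (hw : w < 64) (hv : v < 64) : rn T c w v < 64 := by
  unfold rn
  apply xor_lt hv
  apply xor_lt (by split <;> omega)
  apply xor_lt (by split <;> omega) (by split <;> omega)

theorem b_ev (F : SixFam q b H O D W) (C : Coord q e T) {x y : ℕ} (hx : x < 64) (hy : y < 64) :
    b (ev e x) (ev e y) = bz (bn T x y) := by
  rw [F.b_eq, ← ev_xor, C.q_ev _ (xor_lt hx hy), C.q_ev x hx, C.q_ev y hy, bn, bz_xor, bz_xor]
  ring

theorem sg_ev (F : SixFam q b H O D W) (C : Coord q e T) {c w v : ℕ} (hc : c < 64) (hw : w < 64)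
    (hv : v < 64) : sg q b (ev e c) (ev e w) (ev e v) = ev e (rn T c w v) := by
  unfold rn sg
  rw [ev_xor, ev_xor, ev_xor, ev_if, ev_if, ev_if, b_ev F C hv hw, b_ev F C hv hc, C.q_ev w hw, bz_and]
  abel

/-- what the entries of a family mean -/
structure Means (O : Set V) (D W : V → Submodule (ZMod 2) V) (e : Fin 6 → V) (E : Ent) : Prop where
  lt : E.c < 64
  mem : ev e E.c ∈ O
  hW : ∀ x < 64, E.wm x = true ↔ ev e x ∈ W (ev e E.c)
  hD : ∀ x < 64, E.dm x = true ↔ ev e x ∈ D (ev e E.c)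

theorem exists_word (F : SixFam q b H O D W) (C : Coord q e T) (fam : List Ent)
    (hfam : ∀ E ∈ fam, Means O D W e E) (ws : List (ℕ × ℕ)) (hv : valid fam ws = true) :
    ∃ h ∈ H, ∀ x < 64, wact T ws x < 64 ∧ h (ev e x) = ev e (wact T ws x) := by
  induction ws with
  | nil => exact ⟨1, H.one_mem, fun x hx => ⟨hx, rfl⟩⟩
  | cons p ws ih =>
    have hv' : (Nat.blt p.2 64 && fam.any fun E => (E.c == p.1) && E.wm p.2) = true ∧ valid fam ws = true := by
      simpa [valid] using hv
    obtain ⟨h, hh, hx⟩ := ih hv'.2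
    have h1 := hv'.1
    simp only [Bool.and_eq_true, List.any_eq_true, beq_iff_eq] at h1
    obtain ⟨h2, E, hE, h3, h4⟩ := h1
    have h2' : p.2 < 64 := by rwa [Nat.blt_eq] at h2
    have hm := hfam E hE
    have h5 := (hm.hW p.2 h2').1 h4
    obtain ⟨k, hk, hk'⟩ := F.siegel _ hm.mem _ h5
    refine ⟨h * k, H.mul_mem hh hk, fun x hx0 => ?_⟩
    have h6 : k (ev e x) = ev e (rn T p.1 p.2 x) := by
      rw [hk', sg_ev F C hm.lt h2' hx0, h3]
    have h7 : rn T p.1 p.2 x < 64 := rn_lt (h3 ▸ hm.lt) h2' hx0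
    have h8 := hx _ h7
    refine ⟨h8.1, ?_⟩
    show h (k (ev e x)) = _
    rw [h6]
    exact h8.2

/-- Soundness of the inconsistency test. -/
theorem sound (F : SixFam q b H O D W) (C : Coord q e T) (fam : List Ent)
    (hfam : ∀ E ∈ fam, Means O D W e E) (vs : List ℕ) (ws : List (ℕ × ℕ)) : chk T fam vs ws = false := by
  by_contra hcon
  rw [Bool.not_eq_false, chk, Bool.and_eq_true] at hcon
  obtain ⟨hv, hcon⟩ := hcon
  simp only [List.any_eq_true] at hcon
  obtain ⟨E, hE, E', hE', h1⟩ := hcon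
  obtain ⟨h, hh, hx⟩ := exists_word F C fam hfam ws hv
  simp only [bad2, Bool.and_eq_true, List.any_eq_true, beq_iff_eq, Bool.or_eq_true,
    Bool.not_eq_true'] at h1
  obtain ⟨h2, v, -, h3, h4⟩ := h1
  have hv64 : v < 64 := by rwa [Nat.blt_eq] at h3
  have hE1 := hfam E hE
  have hE2 := hfam E' hE'
  obtain ⟨h5, h6⟩ := hx _ hE1.lt
  obtain ⟨h7, h8⟩ := hx _ hv64
  rw [h2] at h6
  rcases h4 with ⟨h9, h10⟩ | ⟨h9, h10⟩
  · have := F.W_map h hh _ hE1.mem _ ((hE1.hW v hv64).1 h9)
    rw [h6, h8] at this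
    rw [(hE2.hW _ h7).2 this] at h10
    exact absurd h10 (by decide)
  · have := F.D_map h hh _ hE1.mem _ ((hE1.hD v hv64).1 h9)
    rw [h6, h8] at this
    rw [(hE2.hD _ h7).2 this] at h10
    exact absurd h10 (by decide)

/-! ### construction of coordinates from a Gram matrix -/

/-- `q (ev e x)` in terms of the Gram matrix -/
theorem q_ev_eq (F : SixFam q b H O D W) (e : Fin 6 → V) (x : ℕ) :
    q (ev e x) = bz (x.testBit 0) * q (e 0) + bz (x.testBit 1) * q (e 1) + bz (x.testBit 2) * q (e 2) +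
      bz (x.testBit 3) * q (e 3) + bz (x.testBit 4) * q (e 4) + bz (x.testBit 5) * q (e 5) +
      bz (x.testBit 0) * bz (x.testBit 1) * b (e 0) (e 1) +
      bz (x.testBit 0) * bz (x.testBit 2) * b (e 0) (e 2) +
      bz (x.testBit 0) * bz (x.testBit 3) * b (e 0) (e 3) +
      bz (x.testBit 0) * bz (x.testBit 4) * b (e 0) (e 4) +
      bz (x.testBit 0) * bz (x.testBit 5) * b (e 0) (e 5) +
      bz (x.testBit 1) * bz (x.testBit 2) * b (e 1) (e 2) +
      bz (x.testBit 1) * bz (x.testBit 3) * b (e 1) (e 3) +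
      bz (x.testBit 1) * bz (x.testBit 4) * b (e 1) (e 4) +
      bz (x.testBit 1) * bz (x.testBit 5) * b (e 1) (e 5) +
      bz (x.testBit 2) * bz (x.testBit 3) * b (e 2) (e 3) +
      bz (x.testBit 2) * bz (x.testBit 4) * b (e 2) (e 4) +
      bz (x.testBit 2) * bz (x.testBit 5) * b (e 2) (e 5) +
      bz (x.testBit 3) * bz (x.testBit 4) * b (e 3) (e 4) +
      bz (x.testBit 3) * bz (x.testBit 5) * b (e 3) (e 5) +
      bz (x.testBit 4) * bz (x.testBit 5) * b (e 4) (e 5) := by
  have hq : ∀ (t : Bool) (v : V), q (bz t • v) = bz t * q v := by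
    intro t v
    cases t
    · simp [bz, F.q_zero]
    · simp [bz]
  simp only [ev, F.q_add, hq, map_add, LinearMap.add_apply, map_smul, LinearMap.smul_apply, smul_eq_mul]
  ring

/-- A Gram matrix computed by `T` gives coordinates. -/
theorem coord_of (F : SixFam q b H O D W) (e : Fin 6 → V) (T : ℕ)
    (hT : ∀ x < 64, q (ev e x) = bz (T.testBit x))
    (hn : ∀ x < 64, x ≠ 0 → ∃ y < 64, bn T x y = true) : Coord q e T := by
  have hb : ∀ x < 64, ∀ y < 64, b (ev e x) (ev e y) = bz (bn T x y) := by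
    intro x hx y hy
    rw [F.b_eq, ← ev_xor, hT _ (xor_lt hx hy), hT x hx, hT y hy, bn, bz_xor, bz_xor]
    ring
  have hinj : ∀ x < 64, ∀ y < 64, ev e x = ev e y → x = y := by
    intro x hx y hy hxy
    by_contra hne
    have h1 : x ^^^ y ≠ 0 := fun h => hne (Nat.xor_eq_zero_iff.1 h)
    obtain ⟨w, hw, h2⟩ := hn _ (xor_lt hx hy) h1
    have h3 := hb _ (xor_lt hx hy) w hw
    rw [ev_xor, hxy, add_self, map_zero, LinearMap.zero_apply, h2] at h3
    exact absurd h3 (by decide)
  refine ⟨hT, hinj, ?_⟩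
  have := F.finite
  have hf : Function.Injective (fun x : Fin 64 => ev e x) := fun x y hxy =>
    Fin.ext (hinj x x.2 y y.2 hxy)
  have hs : Function.Surjective (fun x : Fin 64 => ev e x) := by
    have hc : Nat.card (Fin 64) = Nat.card V := by rw [F.card, Nat.card_fin]
    exact (Function.Injective.bijective_of_nat_card_le hf (by rw [hc])).2
  intro v
  obtain ⟨x, hx⟩ := hs v
  exact ⟨x, x.2, hx⟩

end coord

end Cfsg.Agent.LargeExtra.Six
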