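import Cfsg.Agent.LargeExtra.SixBasic

/-!
# S1762, case II: the orbit `O` consists of pairwise orthogonal vectors (helper416)
-/

set_option autoImplicit false

namespace Cfsg.Agent.LargeExtra.Six

variable {V : Type*} [AddCommGroup V] [Module (ZMod 2) V] {q : V → ZMod 2}
  {b : LinearMap.BilinForm (ZMod 2) V} {H : Subgroup (V ≃ₗ[ZMod 2] V)}
  {O : Set V} {D W : V → Submodule (ZMod 2) V}

/-- no nontrivial normal `2`-subgroup -/
def NoTwo (H : Subgroup (V ≃ₗ[ZMod 2] V)) : Prop :=
  ∀ N : Subgroup (V ≃ₗ[ZMod 2] V), N ≤ H → (∀ g ∈ H, ∀ n ∈ N, g * n * g⁻¹ ∈ N) → IsPGroup 2 N → N = ⊥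

open SixFam

section

variable (F : SixFam q b H O D W) (hperp : ∀ a ∈ O, ∀ c ∈ O, b a c = 0)

include hperp in
theorem T_iso {v w : V} (hv : v ∈ Submodule.span (ZMod 2) O) (hw : w ∈ Submodule.span (ZMod 2) O) :
    b v w = 0 := by
  induction hv using Submodule.span_induction with
  | mem a ha =>
    induction hw using Submodule.span_induction with
    | mem c hc => exact hperp a ha c hc
    | zero => exact map_zero _
    | add x y _ _ hx hy => rw [map_add, hx, hy, add_zero]
    | smul t x _ hx => rw [map_smul, hx, smul_zero]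
  | zero => rw [map_zero, LinearMap.zero_apply]
  | add x y _ _ hx hy => rw [map_add, LinearMap.add_apply, hx, hy, add_zero]
  | smul t x _ hx => rw [map_smul, LinearMap.smul_apply, hx, smul_zero]

include F hperp in
theorem T_q {v : V} (hv : v ∈ Submodule.span (ZMod 2) O) : q v = 0 := by
  induction hv using Submodule.span_induction with
  | mem a ha => exact F.q_self ha
  | zero => exact F.q_zero
  | add x y hx' hy' hx hy => rw [F.q_add, hx, hy, T_iso hperp hx' hy', add_zero, add_zero]
  | smul t x _ hx =>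
    rcases zm t with rfl | rfl
    · rw [zero_smul]; exact F.q_zero
    · rw [one_smul]; exact hx

include F in
theorem T_H {h : V ≃ₗ[ZMod 2] V} (hh : h ∈ H) {v : V} (hv : v ∈ Submodule.span (ZMod 2) O) :
    h v ∈ Submodule.span (ZMod 2) O := by
  induction hv using Submodule.span_induction with
  | mem a ha => exact Submodule.subset_span (F.stable h hh a ha)
  | zero => rw [map_zero]; exact zero_mem _
  | add x y _ _ hx hy => rw [map_add]; exact add_mem hx hy
  | smul t x _ hx => rw [map_smul]; exact Submodule.smul_mem _ _ hx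

/-- the subgroup of `H` acting trivially on `T` and `T^⊥ / T` -/
def NT (F : SixFam q b H O D W) (T : Submodule (ZMod 2) V) (hT : ∀ h ∈ H, ∀ v ∈ T, h v ∈ T) :
    Subgroup (V ≃ₗ[ZMod 2] V) where
  carrier := {h | h ∈ H ∧ (∀ v ∈ T, h v = v) ∧ ∀ v, (∀ t ∈ T, b t v = 0) → h v + v ∈ T}
  one_mem' := ⟨H.one_mem, fun _ _ => rfl, fun v _ => by
    show v + v ∈ T
    rw [add_self]; exact T.zero_mem⟩
  mul_mem' := by
    rintro h k ⟨hh, hh1, hh2⟩ ⟨hk, hk1, hk2⟩
    refine ⟨H.mul_mem hh hk, fun v hv => ?_, fun v hv => ?_⟩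
    · show h (k v) = v
      rw [hk1 v hv, hh1 v hv]
    · show h (k v) + v ∈ T
      have h1 : ∀ t ∈ T, b t (k v) = 0 := fun t ht => by
        rw [← hk1 t ht, F.b_H hk]; exact hv t ht
      have h2 : h (k v) + v = (h (k v) + k v) + (k v + v) := by
        rw [add_assoc, ← add_assoc (k v), add_self, zero_add]
      rw [h2]
      exact T.add_mem (hh2 _ h1) (hk2 v hv)
  inv_mem' := by
    rintro h ⟨hh, hh1, hh2⟩
    have e : ∀ v, h ((h⁻¹ : V ≃ₗ[ZMod 2] V) v) = v := fun v => h.apply_symm_apply v
    have h1 : ∀ v ∈ T, (h⁻¹ : V ≃ₗ[ZMod 2] V) v = v := fun v hv => by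
      apply h.injective
      rw [e, hh1 v hv]
    refine ⟨H.inv_mem hh, h1, fun v hv => ?_⟩
    have h2 : ∀ t ∈ T, b t ((h⁻¹ : V ≃ₗ[ZMod 2] V) v) = 0 := fun t ht => by
      rw [← F.b_H hh, e, hh1 t ht]; exact hv t ht
    have h3 := hh2 _ h2
    rw [e, add_comm] at h3
    exact h3

include F in
theorem NT_cap (hO2 : NoTwo H) (T : Submodule (ZMod 2) V) (hT : ∀ h ∈ H, ∀ v ∈ T, h v ∈ T)
    (hiso : ∀ v ∈ T, ∀ w ∈ T, b v w = 0) {h : V ≃ₗ[ZMod 2] V} (hh : h ∈ H)
    (h1 : ∀ v ∈ T, h v = v) (h2 : ∀ v, (∀ t ∈ T, b t v = 0) → h v + v ∈ T) : h = 1 := by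
  have h0 : NT F T hT = ⊥ := by
    apply hO2
    · rintro h ⟨hh, -, -⟩; exact hh
    · rintro g hg n ⟨hn, hn1, hn2⟩
      have e : ∀ v, g ((g⁻¹ : V ≃ₗ[ZMod 2] V) v) = v := fun v => g.apply_symm_apply v
      have e' : ∀ v, (g⁻¹ : V ≃ₗ[ZMod 2] V) (g v) = v := fun v => g.symm_apply_apply v
      refine ⟨H.mul_mem (H.mul_mem hg hn) (H.inv_mem hg), fun v hv => ?_, fun v hv => ?_⟩
      · show g (n ((g⁻¹ : V ≃ₗ[ZMod 2] V) v)) = v
        rw [hn1 _ (hT _ (H.inv_mem hg) v hv), e]
      · show g (n ((g⁻¹ : V ≃ₗ[ZMod 2] V) v)) + v ∈ T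
        have h3 : g (n ((g⁻¹ : V ≃ₗ[ZMod 2] V) v)) + v =
            g (n ((g⁻¹ : V ≃ₗ[ZMod 2] V) v) + (g⁻¹ : V ≃ₗ[ZMod 2] V) v) := by rw [map_add, e]
        rw [h3]
        refine hT g hg _ (hn2 _ fun t ht => ?_)
        rw [← F.b_H hg, e]
        exact hv _ (hT g hg t ht)
    · rintro ⟨n, hn, hn1, hn2⟩
      refine ⟨2, Subtype.ext ?_⟩
      show n ^ (2 ^ 2) = 1
      -- `n v + v ∈ T^⊥`, `n` acts trivially on `T` and `T^⊥ / T`
      have h3 : ∀ v, ∀ t ∈ T, b t (n v + v) = 0 := by
        intro v t ht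
        rw [map_add]
        nth_rewrite 1 [← hn1 t ht]
        rw [F.b_H hn, zadd]
      have h4 : ∀ v, n (n v) + v ∈ T := by
        intro v
        have h5 := hn2 _ (h3 v)
        have h6 : n (n v + v) + (n v + v) = n (n v) + v := by
          rw [map_add, ← add_assoc, add_assoc (n (n v)), add_self, add_zero]
        rw [h6] at h5
        exact h5
      have h7 : n ^ 4 = 1 := by
        ext v
        show n (n (n (n v))) = v
        have h8 := h4 v
        have h9 := h4 (n (n v))
        -- `n (n (n (n v))) + n (n v) = n (n (n (n v) + v))` and `n` fixes `T`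
        have h10 : n (n (n (n v) + v)) = n (n v) + v := by
          rw [hn1 _ h8, hn1 _ h8]
        rw [map_add, map_add] at h10
        have h11 : n (n (n (n v))) = (n (n v) + v) + n (n v) := by
          rw [← h10, add_cancel']
        rw [h11, add_comm, ← add_assoc, add_self, zero_add]
      exact h7
  have h3 : h ∈ NT F T hT := ⟨hh, h1, h2⟩
  rw [h0, Subgroup.mem_bot] at h3
  exact h3

include F hperp in
/-- `W c ∩ T^⊥ = ⟨c⟩` -/
theorem W_cap_T (hO2 : NoTwo H) {c w : V} (hc : c ∈ O) (hw : w ∈ W c)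
    (hwT : ∀ t ∈ Submodule.span (ZMod 2) O, b t w = 0) : w = 0 ∨ w = c := by
  obtain ⟨h, hh, e⟩ := F.siegel c hc w hw
  have hcT : c ∈ Submodule.span (ZMod 2) O := Submodule.subset_span hc
  have h1 : h = 1 := by
    apply NT_cap F hO2 (Submodule.span (ZMod 2) O) (fun h hh v hv => T_H F hh hv)
      (fun v hv w hw => T_iso hperp hv hw) hh
    · intro v hv
      rw [e, sg, hwT v hv, T_iso hperp hv hcT, mul_zero, zero_smul, zero_smul, add_zero, add_zero, add_zero]
    · intro v hv
      have h2 : b v c = 0 := by rw [F.b_comm]; exact hv c hcT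
      rw [e, sg, h2, mul_zero, zero_smul, zero_smul, add_zero, add_zero, add_comm, ← add_assoc, add_self, zero_add]
      exact Submodule.smul_mem _ _ hcT
  obtain ⟨v, hv⟩ := F.exists_one (F.zero c hc)
  have hv' : b v c = 1 := by rw [F.b_comm]; exact hv
  have h2 := e v
  rw [h1] at h2
  have h3 : v = sg q b c w v := h2
  rw [sg, hv', one_smul, mul_one] at h3
  have h4 : b v w • c + w + q w • c = 0 := by
    have : v + (b v w • c + w + q w • c) = v := by
      rw [← add_assoc, ← add_assoc]; exact h3.symm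
    simpa using this
  have h5 : w = (b v w + q w) • c := by
    apply eq_of_add
    rw [← h4, add_smul]; abel
  rcases zm (b v w + q w) with h6 | h6
  · left; rw [h5, h6, zero_smul]
  · right; rw [h5, h6, one_smul]

theorem card_submodule (F : SixFam q b H O D W) (S : Submodule (ZMod 2) V) :
    Nat.card S = 2 ^ Module.finrank (ZMod 2) S := by
  have := F.finite
  rw [Module.natCard_eq_pow_finrank (K := ZMod 2) (V := S), Nat.card_zmod]

theorem finrank_eq (F : SixFam q b H O D W) : Module.finrank (ZMod 2) V = 6 := by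
  have := F.finite
  have h1 := Module.natCard_eq_pow_finrank (K := ZMod 2) (V := V)
  rw [F.card, Nat.card_zmod] at h1
  exact (Nat.pow_right_injective (le_refl 2) (by norm_num; exact h1)).symm

include F hperp in
/-- `|W c| ≤ |T|` -/
theorem card_W_le (hO2 : NoTwo H) {c : V} (hc : c ∈ O) :
    Nat.card (W c) ≤ Nat.card (Submodule.span (ZMod 2) O) := by
  have := F.finite
  have : Module.Finite (ZMod 2) V := Module.Finite.of_finite
  set T := Submodule.span (ZMod 2) O with hT
  rw [card_submodule F, card_submodule F]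
  apply Nat.pow_le_pow_right (by norm_num)
  have h1 := Submodule.finrank_sup_add_finrank_inf_eq (W c) (b.orthogonal T)
  have hcT : c ∈ T := Submodule.subset_span hc
  have h2 : Module.finrank (ZMod 2) ↥(W c ⊓ b.orthogonal T) ≤ 1 := by
    have h3 : W c ⊓ b.orthogonal T ≤ Submodule.span (ZMod 2) {c} := by
      rintro w ⟨hw1, hw2⟩
      rcases W_cap_T F hperp hO2 hc hw1 (SixFam.mem_perp.1 hw2) with h | h
      · rw [h]; exact zero_mem _
      · rw [h]; exact Submodule.mem_span_singleton_self c
    exact (Submodule.finrank_mono h3).trans (finrank_span_singleton (F.zero c hc)).le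
  have h3 : Module.finrank (ZMod 2) ↥(W c ⊔ b.orthogonal T) ≤ 5 := by
    have h4 : W c ⊔ b.orthogonal T ≤ b.orthogonal (Submodule.span (ZMod 2) {c}) := by
      rw [sup_le_iff]
      constructor
      · intro w hw
        rw [SixFam.mem_perp]
        intro v hv
        obtain ⟨t, rfl⟩ := Submodule.mem_span_singleton.1 hv
        rw [map_smul, LinearMap.smul_apply, F.perp_W c hc w hw, smul_zero]
      · intro w hw
        rw [SixFam.mem_perp] at hw ⊢
        intro v hv
        obtain ⟨t, rfl⟩ := Submodule.mem_span_singleton.1 hv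
        exact hw _ (T.smul_mem t hcT)
    have h5 := Submodule.finrank_mono h4
    have h6 := F.card_perp (Submodule.span (ZMod 2) {c})
    rw [card_submodule F, card_submodule F, finrank_span_singleton (F.zero c hc)] at h6
    have h7 : Module.finrank (ZMod 2) ↥(b.orthogonal (Submodule.span (ZMod 2) {c})) = 5 := by
      have h8 : 2 ^ Module.finrank (ZMod 2) ↥(b.orthogonal (Submodule.span (ZMod 2) {c})) = 2 ^ 5 := by
        norm_num at h6 ⊢; omega
      exact Nat.pow_right_injective (le_refl 2) h8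
    omega
  have h4 : Module.finrank (ZMod 2) T + Module.finrank (ZMod 2) (b.orthogonal T) = 6 := by
    have h6 := F.card_perp T
    rw [card_submodule F, card_submodule F, ← pow_add] at h6
    exact Nat.pow_right_injective (le_refl 2) (h6.trans (by norm_num))
  omega

include F hperp in
theorem card_T_le : Nat.card (Submodule.span (ZMod 2) O) ≤ 8 := by
  have := F.finite
  have h6 := F.card_perp (Submodule.span (ZMod 2) O)
  have h7 : Nat.card (Submodule.span (ZMod 2) O) ≤ Nat.card (b.orthogonal (Submodule.span (ZMod 2) O)) := by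
    have hle : Submodule.span (ZMod 2) O ≤ b.orthogonal (Submodule.span (ZMod 2) O) := fun v hv =>
      SixFam.mem_perp.2 fun w hw => T_iso hperp hw hv
    exact Nat.card_le_card_of_injective _ (Submodule.inclusion_injective hle)
  nlinarith

include F hperp in
/-- In the orthogonal case `|D c| ≥ 8`. -/
theorem eight_le_card_D (hO2 : NoTwo H) {c : V} (hc : c ∈ O) : 8 ≤ Nat.card (D c) := by
  have h1 := card_W_le F hperp hO2 hc
  have h2 := card_T_le F hperp
  have h3 := F.card_DW c hc
  nlinarith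

end

end Cfsg.Agent.LargeExtra.Six
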