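import Cfsg.Agent.SporadicRecognition.CosetCertHyp

/-!
Certified coset enumerations for the projective plane argument (`SuzPlane`): in the group generated by
`x, y, r, t, u` the subgroup generated by `x, y, r, r^t, r^u, t` and `u t u v t⁻¹ u⁻¹`, for the 16 elements `v`
of `⟨z, y, r, r^u⟩`.
-/

set_option autoImplicit false
set_option maxRecDepth 100000

namespace Cfsg.Agent.LargeExtra.SuzPlaneCert

open Cfsg.Agent.SporadicRecognition.CosetCert Cfsg.Agent.SporadicRecognition.CosetCertHyp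

def rels : List (List Nat) := [[3,3,3], [5,5,5], [1,3,1,3], [0,5,0,5], [2,0,2,0], [2,1,2,1], [4,0,3,1,0,1], [2,3,2,3,2,3], [2,5,2,5,2,5], [4,0,1,0,1,3,0], [6,0,1,0,1,5,1], [0,1,0,1,0,1,0,1], [6,1,5,1,0,1,0,1], [3,6,3,6,3,6,3,6], [0,6,2,5,0,6,2,5,2], [1,4,2,3,1,4,2,3,2], [3,5,3,5,3,5,3,5,3,5], [4,2,3,6,2,5,4,2,3,6,2,5,0,1,0,1,2]]

namespace K0

noncomputable def tree : Tr := (.L 0xa87ffffe05753ff896473a4fff99bff64fff71a3839cfff96163fffff6dd864acfff3d4d47e3ff861554a0cb144de8397ff511336b0504185a75dbff20d245247fffffff107fffffff3ffc73310522843108411f)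
noncomputable def wtree : WT := (.N 5 (.N 2 (.N 1 (.L 1 [5,1,0,1,0,1,6]) (.L 6 [5,5])) (.N 3 (.L 0 [5,0,5]) (.N 4 (.L 1 [6,1,0,1,0,5]) (.L 0 [4,1,0,1,0,3])))) (.N 8 (.N 6 (.L 1 [4,1,4]) (.N 7 (.L 3 [4,4]) (.L 0 [3,1,0,1,4]))) (.N 9 (.L 5 [1,0,1,0,5,1]) (.N 10 (.L 5 [1,5,1,0,1,0,1]) (.L 7 [5,4,5,4,5,4,5,4])))))
noncomputable def stree : ST := (.N 2 (.N 1 (.L 0 [] []) (.L 1 [] [])) (.N 3 (.L 2 [] []) (.N 4 (.L 7 [4] []) (.L 5 [5,3] [5,3]))))
noncomputable def C : Cert where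
  data := tree
  lm := 15
  rb := 84
  fb := 10
  mask := 1023
  B := 16
  k := 7
  N := 8
  inv := fun x => bif Nat.beq x 0 then 0 else bif Nat.beq x 1 then 1 else bif Nat.beq x 2 then 2 else bif Nat.beq x 3 then 4 else bif Nat.beq x 4 then 3 else bif Nat.beq x 5 then 6 else bif Nat.beq x 6 then 5 else x
  words := wtree
  subs := stree

def subw : List (List Nat) := [[0], [1], [2], [4,2,3], [6,2,5], [3], [4], [5,3,5,4,6]]
theorem c0 : Part C 0 8 1 := runChunk_sound C 1 (by decide +kernel : runChunk C 8 255 0x20100020200930001000273008301000053430045016300534301020202003302130102020003230000000100000002020214251505 15 32767 0x4aae945c051a337a40ec91c01a8000 0 8 = 2)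
theorem part : Part C 0 C.N 1 := c0
theorem check : checkHyp C rels subw = true := by decide +kernel

end K0

namespace K1

noncomputable def tree : Tr := (.L 0x91bffffe15fffff5d55809dfffffffffffff4dd691a1bff8d5e3fffff521160a94f5a5665fffff955276ace27418d4827ff625f54b0cb1ffdc9397ff6d1a36b47ff187ff75fff20d945247fffffff107fffffff3ffc73310522843108411f)
noncomputable def wtree : WT := (.N 5 (.N 2 (.N 1 (.L 1 [5,1,0,1,0,1,6]) (.L 0 [5,0,5])) (.N 3 (.L 1 [6,1,0,1,0,5]) (.N 4 (.L 4 [1,3,1]) (.L 3 [0,3,1,0,1])))) (.N 7 (.N 6 (.L 0 [4,1,0,1,0,3]) (.L 3 [4,4])) (.N 8 (.L 6 [0,5,0]) (.N 9 (.L 7 [6,0,1,0,1,5,1]) (.L 7 [5,1,6,1,0,1,0])))))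
noncomputable def stree : ST := (.N 2 (.N 1 (.L 0 [] []) (.L 1 [] [])) (.N 3 (.L 2 [] []) (.N 4 (.L 7 [4] []) (.L 1 [5,3,5,0,1,0] [5,3]))))
noncomputable def C : Cert where
  data := tree
  lm := 15
  rb := 84
  fb := 10
  mask := 1023
  B := 16
  k := 7
  N := 9
  inv := fun x => bif Nat.beq x 0 then 0 else bif Nat.beq x 1 then 1 else bif Nat.beq x 2 then 2 else bif Nat.beq x 3 then 4 else bif Nat.beq x 4 then 3 else bif Nat.beq x 5 then 6 else bif Nat.beq x 6 then 5 else x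
  words := wtree
  subs := stree

def subw : List (List Nat) := [[0], [1], [2], [4,2,3], [6,2,5], [3], [4], [5,3,5,0,1,0,1,4,6]]
theorem c0 : Part C 0 9 1 := runChunk_sound C 1 (by decide +kernel : runChunk C 8 255 0x2000045010000000000010200020200000201016484000084027302016300025301003302002302000100430003130000000100000002020214251505 15 32767 0x86b00e024eb0be547a40e955c01a8000 0 9 = 2)
theorem part : Part C 0 C.N 1 := c0
theorem check : checkHyp C rels subw = true := by decide +kernel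

end K1

namespace K2

noncomputable def tree : Tr := (.L 0xa1677ffe1778fff8de563a97ff9a1b3823ff8a1d74a54f5fffff613ff456486acfff418d469bff499954b0cb1ffd76397ff591536b4534185f871fff20d445247fffffff107fffffff3ffc73310522843108411f)
noncomputable def wtree : WT := (.N 5 (.N 2 (.N 1 (.L 1 [5,1,0,1,0,1,6]) (.L 6 [5,5])) (.N 3 (.L 0 [5,0,5]) (.N 4 (.L 1 [6,1,0,1,0,5]) (.L 4 [1,3,1])))) (.N 8 (.N 6 (.L 0 [4,1,0,1,0,3]) (.N 7 (.L 3 [4,4]) (.L 1 [4,1,4]))) (.N 9 (.L 0 [3,1,0,1,4]) (.N 10 (.L 5 [4,6,4,6,4,6,4,6,4]) (.L 7 [6,0,1,0,1,5,1])))))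
noncomputable def stree : ST := (.N 2 (.N 1 (.L 0 [] []) (.L 1 [] [])) (.N 3 (.L 2 [] []) (.N 4 (.L 7 [4] []) (.L 1 [5,3,5] [5,3]))))
noncomputable def C : Cert where
  data := tree
  lm := 15
  rb := 84
  fb := 10
  mask := 1023
  B := 16
  k := 7
  N := 8
  inv := fun x => bif Nat.beq x 0 then 0 else bif Nat.beq x 1 then 1 else bif Nat.beq x 2 then 2 else bif Nat.beq x 3 then 4 else bif Nat.beq x 4 then 3 else bif Nat.beq x 5 then 6 else bif Nat.beq x 6 then 5 else x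
  words := wtree
  subs := stree

def subw : List (List Nat) := [[0], [1], [2], [4,2,3], [6,2,5], [3], [4], [5,3,5,1,4,6]]
theorem c0 : Part C 0 8 1 := runChunk_sound C 1 (by decide +kernel : runChunk C 8 255 0x200020100020200930163007353010000020045830002016300025301004302003302130102020003230000000100000002020214251505 15 32767 0x1471c5e383f437e88e995c01a8000 0 8 = 2)
theorem part : Part C 0 C.N 1 := c0
theorem check : checkHyp C rels subw = true := by decide +kernel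

end K2

namespace K3

noncomputable def tree : Tr := (.L 0x6d7ffffffffffff4dd551853fffffff713ff52116080cf579fff7cfffffd2768c5d7418d4fffffffd684884b1fffff397ff69193690574187fffffff20d845247fffffff107fffffff3ffc73310522843108411f)
noncomputable def wtree : WT := (.N 5 (.N 2 (.N 1 (.L 1 [5,1,0,1,0,1,6]) (.L 6 [5,5])) (.N 3 (.L 0 [5,0,5]) (.N 4 (.L 1 [6,1,0,1,0,5]) (.L 7 [4,0,1,0,1,3,0])))) (.N 7 (.N 6 (.L 3 [1,4,1]) (.L 6 [0,5,0])) (.N 8 (.L 5 [6,6]) (.N 9 (.L 3 [0,3,1,0,1]) (.L 7 [3,6,3,6,3,6,3,6])))))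
noncomputable def stree : ST := (.N 2 (.N 1 (.L 0 [] []) (.L 1 [] [])) (.N 3 (.L 2 [] []) (.N 4 (.L 7 [4] []) (.L 0 [5,3,5,0,1] [5,3]))))
noncomputable def C : Cert where
  data := tree
  lm := 15
  rb := 84
  fb := 10
  mask := 1023
  B := 16
  k := 7
  N := 8
  inv := fun x => bif Nat.beq x 0 then 0 else bif Nat.beq x 1 then 1 else bif Nat.beq x 2 then 2 else bif Nat.beq x 3 then 4 else bif Nat.beq x 4 then 3 else bif Nat.beq x 5 then 6 else bif Nat.beq x 6 then 5 else x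
  words := wtree
  subs := stree

def subw : List (List Nat) := [[0], [1], [2], [4,2,3], [6,2,5], [3], [4], [5,3,5,0,1,0,4,6]]
theorem c0 : Part C 0 8 1 := runChunk_sound C 1 (by decide +kernel : runChunk C 8 255 0x14500000053000201017300830000026302010000000201000002003302130100000003230000000100000002020214251505 14 16383 0x11a507024e567955c60700d4000 0 8 = 2)
theorem part : Part C 0 C.N 1 := c0
theorem check : checkHyp C rels subw = true := by decide +kernel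

end K3

namespace K4

noncomputable def tree : Tr := (.L 0xb63fffffff913ffa16a83bd7fffffff80fff8de993b17ffae5f3fffff8a3ff479505757ffffd25ffdb66c0dc6458e49a5369e5a54b8cc154e593d584651736c454418618ffc8324d645287fffffff107fffffff3ffc73350522c43108411f)
noncomputable def wtree : WT := (.N 7 (.N 3 (.N 1 (.L 1 [5,1,0,1,0,1,6]) (.N 2 (.L 6 [5,5]) (.L 0 [5,0,5]))) (.N 5 (.N 4 (.L 2 [5,2,5,2,5]) (.L 1 [6,1,0,1,0,5])) (.N 6 (.L 0 [4,1,0,1,0,3]) (.L 0 [2,0,2])))) (.N 10 (.N 8 (.L 6 [0,5,0]) (.N 9 (.L 7 [0,2,6,2,5,0,6,2,5]) (.L 1 [4,1,4]))) (.N 12 (.N 11 (.L 3 [4,4]) (.L 0 [3,1,0,1,4])) (.N 13 (.L 5 [1,0,1,0,5,1]) (.L 7 [2,4,2,3,6,2,5,4,2,3,6,2,5,0,1,0,1])))))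
noncomputable def stree : ST := (.N 3 (.N 1 (.L 0 [] []) (.N 2 (.L 1 [] []) (.L 2 [] []))) (.N 4 (.L 2 [6] [6]) (.N 5 (.L 7 [4] []) (.L 2 [5,3,5] [5,3]))))
noncomputable def C : Cert where
  data := tree
  lm := 15
  rb := 84
  fb := 10
  mask := 1023
  B := 16
  k := 7
  N := 9
  inv := fun x => bif Nat.beq x 0 then 0 else bif Nat.beq x 1 then 1 else bif Nat.beq x 2 then 2 else bif Nat.beq x 3 then 4 else bif Nat.beq x 4 then 3 else bif Nat.beq x 5 then 6 else bif Nat.beq x 6 then 5 else x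
  words := wtree
  subs := stree

def subw : List (List Nat) := [[0], [1], [2], [4,2,3], [6,2,5], [3], [4], [5,3,5,2,4,6]]
theorem c0 : Part C 0 9 1 := runChunk_sound C 1 (by decide +kernel : runChunk C 8 255 0x1000202000000010002b300c3010000930001020000550063730201a302935301020202334302130102003503230000000100000002020214251505 16 65535 0x6417465700d6008684376447235700450000 0 9 = 2)
theorem part : Part C 0 C.N 1 := c0
theorem check : checkHyp C rels subw = true := by decide +kernel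

end K4

namespace K5

noncomputable def tree : Tr := (.L 0xc8fff922e3ffda56265a1c0fffaebffffea8669680c523aa67ffb13ff51d79199626ffffffffff561260a150585ffffffffffd376d4607458e4ffdba9e1f54cccc1ffed83d7ff791d36d07ff186f9ffc8324dc45287fffffff107fffffff3ffc73350522c43108411f)
noncomputable def wtree : WT := (.N 8 (.N 4 (.N 2 (.N 1 (.L 1 [5,1,0,1,0,1,6]) (.L 0 [5,0,5])) (.N 3 (.L 1 [6,1,0,1,0,5]) (.L 0 [4,1,0,1,0,3]))) (.N 6 (.N 5 (.L 6 [0,5,0]) (.L 5 [6,6])) (.N 7 (.L 6 [1,6,0,1,0,1]) (.L 0 [2,0,2])))) (.N 12 (.N 10 (.N 9 (.L 7 [6,1,0,1,0,5,1]) (.L 5 [1,5,1,0,1,0,1])) (.N 11 (.L 2 [0,6,2,5,0,6,2,5]) (.L 5 [2,5,0,6,2,5,2,0]))) (.N 14 (.N 13 (.L 3 [1,4,1]) (.L 4 [1,0,1,4,0])) (.N 15 (.L 4 [0,4,1,0,1,0]) (.L 7 [4,5,4,5,4,5,4,5])))))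
noncomputable def stree : ST := (.N 3 (.N 1 (.L 0 [] []) (.N 2 (.L 1 [] []) (.L 2 [] []))) (.N 4 (.L 2 [6] [6]) (.N 5 (.L 7 [4] []) (.L 2 [5,3,5,0,1,0,1] [5,3]))))
noncomputable def C : Cert where
  data := tree
  lm := 15
  rb := 84
  fb := 10
  mask := 1023
  B := 16
  k := 7
  N := 10
  inv := fun x => bif Nat.beq x 0 then 0 else bif Nat.beq x 1 then 1 else bif Nat.beq x 2 then 2 else bif Nat.beq x 3 then 4 else bif Nat.beq x 4 then 3 else bif Nat.beq x 5 then 6 else bif Nat.beq x 6 then 5 else x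
  words := wtree
  subs := stree

def subw : List (List Nat) := [[0], [1], [2], [4,2,3], [6,2,5], [3], [4], [5,3,5,0,1,0,1,2,4,6]]
theorem c0 : Part C 0 10 1 := runChunk_sound C 1 (by decide +kernel : runChunk C 8 255 0x2d30055017300b30000a30201639300c3000102020000000002010153000000000243020100026433010002020023020001e3003503130000000100000002020214251505 15 32767 0x140b80f6500e021a3038717504ea15c0228000 0 10 = 2)
theorem part : Part C 0 C.N 1 := c0
theorem check : checkHyp C rels subw = true := by decide +kernel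

end K5

namespace K6

noncomputable def tree : Tr := (.L 0xe5b76ffe75913ffa57ff3cdbfffffff84fffffeaa3c5f07b5de3fffff8e6084e16e8be323b1945499d71ed505daab7d4fff4df4a6f0fff458e49a957a29c54e8cc15ce5a3d5a46d1936f4564186297e08324d845287fffffff107fffffff3ffc73350522c43108411f)
noncomputable def wtree : WT := (.N 8 (.N 4 (.N 2 (.N 1 (.L 1 [5,1,0,1,0,1,6]) (.L 6 [5,5])) (.N 3 (.L 0 [5,0,5]) (.L 2 [5,2,5,2,5]))) (.N 6 (.N 5 (.L 1 [6,1,0,1,0,5]) (.L 0 [4,1,0,1,0,3])) (.N 7 (.L 0 [2,0,2]) (.L 1 [4,1,4])))) (.N 12 (.N 10 (.N 9 (.L 3 [4,4]) (.L 0 [3,1,0,1,4])) (.N 11 (.L 4 [1,2,4,2,3,1,4,2]) (.L 5 [1,0,1,0,5,1]))) (.N 14 (.N 13 (.L 5 [0,6,0]) (.L 7 [6,6,6])) (.N 15 (.L 5 [1,5,1,0,1,0,1]) (.L 7 [6,3,6,3,6,3,6,3])))))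
noncomputable def stree : ST := (.N 3 (.N 1 (.L 0 [] []) (.N 2 (.L 1 [] []) (.L 2 [] []))) (.N 4 (.L 2 [6] [6]) (.N 5 (.L 7 [4] []) (.L 2 [5,3,5,1] [5,3]))))
noncomputable def C : Cert where
  data := tree
  lm := 15
  rb := 84
  fb := 10
  mask := 1023
  B := 16
  k := 7
  N := 10
  inv := fun x => bif Nat.beq x 0 then 0 else bif Nat.beq x 1 then 1 else bif Nat.beq x 2 then 2 else bif Nat.beq x 3 then 4 else bif Nat.beq x 4 then 3 else bif Nat.beq x 5 then 6 else bif Nat.beq x 6 then 5 else x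
  words := wtree
  subs := stree

def subw : List (List Nat) := [[0], [1], [2], [4,2,3], [6,2,5], [3], [4], [5,3,5,1,2,4,6]]
theorem c0 : Part C 0 10 1 := runChunk_sound C 1 (by decide +kernel : runChunk C 8 255 0x20002010002000000000100009302b3010000735302c3740255016301e3a3840002840002018302735301020202334302130102023503230000000100000002020214251505 16 65535 0x6417671700d600f3645794376447235700450000 0 10 = 2)
theorem part : Part C 0 C.N 1 := c0
theorem check : checkHyp C rels subw = true := by decide +kernel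

end K6

namespace K7

noncomputable def tree : Tr := (.L 0x923fffffffffd85ffd680957ffffffffffff51d791a1bff897ffffe77561260a55058dffffffffffd376b4617458e4ffd9999e054a8cc16cfff3d5e47d1d36b05a4187ffad48324dc45287fffffff107fffffff3ffc73350522c43108411f)
noncomputable def wtree : WT := (.N 6 (.N 3 (.N 1 (.L 1 [5,1,0,1,0,1,6]) (.N 2 (.L 6 [5,5]) (.L 0 [5,0,5]))) (.N 4 (.L 2 [5,2,5,2,5]) (.N 5 (.L 1 [6,1,0,1,0,5]) (.L 0 [4,1,0,1,0,3])))) (.N 9 (.N 7 (.L 6 [0,5,0]) (.N 8 (.L 5 [6,6]) (.L 7 [2,0,2,0]))) (.N 11 (.N 10 (.L 7 [6,1,0,1,0,5,1]) (.L 2 [1,2,1])) (.N 12 (.L 7 [1,2,4,2,3,6,2,5,4,2,3,6,2,5,0,1,0]) (.L 7 [0,3,1,0,1,4])))))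
noncomputable def stree : ST := (.N 3 (.N 1 (.L 0 [] []) (.N 2 (.L 1 [] []) (.L 2 [] []))) (.N 4 (.L 2 [6] [6]) (.N 5 (.L 7 [4] []) (.L 2 [5,3,5,0,1,0] [5,3]))))
noncomputable def C : Cert where
  data := tree
  lm := 15
  rb := 84
  fb := 10
  mask := 1023
  B := 16
  k := 7
  N := 9
  inv := fun x => bif Nat.beq x 0 then 0 else bif Nat.beq x 1 then 1 else bif Nat.beq x 2 then 2 else bif Nat.beq x 3 then 4 else bif Nat.beq x 4 then 3 else bif Nat.beq x 5 then 6 else bif Nat.beq x 6 then 5 else x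
  words := wtree
  subs := stree

def subw : List (List Nat) := [[0], [1], [2], [4,2,3], [6,2,5], [3], [4], [5,3,5,0,1,0,2,4,6]]
theorem c0 : Part C 0 9 1 := runChunk_sound C 1 (by decide +kernel : runChunk C 8 255 0x5500010000000000010200020000a30201017300000000026302010002745301020002334302130100343503230000000100000002020214251505 15 32767 0x83012c02cf2ab8237018c8d5c0228000 0 9 = 2)
theorem part : Part C 0 C.N 1 := c0
theorem check : checkHyp C rels subw = true := by decide +kernel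

end K7

namespace K8

noncomputable def tree : Tr := (.L 0xb63fffffff913ffa16a83bd7fffffff80fff8de993b17ffae5f3fffff8a3ff4795d5497ffffd05ffdb62c0d36718e49a5169e5a54b8cc154e593d584651736c454418618ffc8324d645287fffffff107fffffff3ffc73350522c43108411f)
noncomputable def wtree : WT := (.N 7 (.N 3 (.N 1 (.L 1 [5,1,0,1,0,1,6]) (.N 2 (.L 6 [5,5]) (.L 0 [5,0,5]))) (.N 5 (.N 4 (.L 2 [5,2,5,2,5]) (.L 1 [6,1,0,1,0,5])) (.N 6 (.L 0 [4,1,0,1,0,3]) (.L 0 [2,0,2])))) (.N 10 (.N 8 (.L 5 [0,6,0]) (.N 9 (.L 7 [5,0,2,6,2,5,0,6,2]) (.L 1 [4,1,4]))) (.N 12 (.N 11 (.L 3 [4,4]) (.L 0 [3,1,0,1,4])) (.N 13 (.L 5 [1,0,1,0,5,1]) (.L 7 [2,4,2,3,6,2,5,4,2,3,6,2,5,0,1,0,1])))))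
noncomputable def stree : ST := (.N 3 (.N 1 (.L 0 [] []) (.N 2 (.L 1 [] []) (.L 2 [] []))) (.N 4 (.L 2 [6] [6]) (.N 5 (.L 7 [4] []) (.L 5 [5,3,2] [5,3]))))
noncomputable def C : Cert where
  data := tree
  lm := 15
  rb := 84
  fb := 10
  mask := 1023
  B := 16
  k := 7
  N := 9
  inv := fun x => bif Nat.beq x 0 then 0 else bif Nat.beq x 1 then 1 else bif Nat.beq x 2 then 2 else bif Nat.beq x 3 then 4 else bif Nat.beq x 4 then 3 else bif Nat.beq x 5 then 6 else bif Nat.beq x 6 then 5 else x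
  words := wtree
  subs := stree

def subw : List (List Nat) := [[0], [1], [2], [4,2,3], [6,2,5], [3], [4], [5,3,2,5,4,6]]
theorem c0 : Part C 0 9 1 := runChunk_sound C 1 (by decide +kernel : runChunk C 8 255 0x1000202000000010002b300c3010000930002550000010063027301a302935301020202334302130102003503230000000100000002020214251505 16 65535 0x6417465700d6008384376447235700450000 0 9 = 2)
theorem part : Part C 0 C.N 1 := c0
theorem check : checkHyp C rels subw = true := by decide +kernel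

end K8

namespace K9

noncomputable def tree : Tr := (.L 0x9a7fff8a9fff744fff7c580e382bffffff6ed683fff72d7ef3a85a4da6d6236ce90870e66d45274e63c5ffffff38bffffff29e660834a88dfff3ac86d84f598736b5c8fffffffff309fff19688cfffffffffffff32a2c809c55aa5ebffffff92d2872e91aa6586565948a0454b2a82460ae520550cffffff8effff2676b033ec2261c478fa2d7af4c54ac318142376f1e54844a44636b214040c16ae64d1031234445141fffffffff081fffffffff3fff0e31a40a2161061041021f)
noncomputable def wtree : WT := (.N 10 (.N 5 (.N 2 (.N 1 (.L 1 [5,1,0,1,0,1,6]) (.L 6 [5,5])) (.N 3 (.L 0 [5,0,5]) (.N 4 (.L 2 [5,2,5,2,5]) (.L 1 [6,1,0,1,0,5])))) (.N 7 (.N 6 (.L 0 [4,1,0,1,0,3]) (.L 7 [0,6,0,6])) (.N 8 (.L 6 [1,6,0,1,0,1]) (.N 9 (.L 5 [6,6]) (.L 3 [4,4]))))) (.N 15 (.N 12 (.N 11 (.L 1 [4,1,4]) (.L 0 [3,1,0,1,4])) (.N 13 (.L 7 [6,1,5,1,0,1,0,1]) (.N 14 (.L 5 [1,0,1,0,5,1]) (.L 2 [0,2,0])))) (.N 17 (.N 16 (.L 2 [1,2,1]) (.L 4 [2,1,4,2,3,1,4,2])) (.N 18 (.L 7 [2,0,2,0]) (.N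 19 (.L 6 [2,5,2,5,2]) (.L 7 [2,3,6,2,5,4,2,3,2,1,0,1,0,6,2,5,4]))))))
noncomputable def stree : ST := (.N 3 (.N 1 (.L 0 [] []) (.N 2 (.L 1 [] []) (.L 2 [] []))) (.N 4 (.L 2 [6] [6]) (.N 5 (.L 7 [4] []) (.L 5 [5,3,5,0,1,0,1,6,2] [5,3]))))
noncomputable def C : Cert where
  data := tree
  lm := 15
  rb := 100
  fb := 12
  mask := 4095
  B := 32
  k := 7
  N := 15
  inv := fun x => bif Nat.beq x 0 then 0 else bif Nat.beq x 1 then 1 else bif Nat.beq x 2 then 2 else bif Nat.beq x 3 then 4 else bif Nat.beq x 4 then 3 else bif Nat.beq x 5 then 6 else bif Nat.beq x 6 then 5 else x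
  words := wtree
  subs := stree

def subw : List (List Nat) := [[0], [1], [2], [4,2,3], [6,2,5], [3], [4], [5,3,5,0,1,0,1,6,2,5,4,6]]
theorem c0 : Part C 0 15 1 := runChunk_sound C 1 (by decide +kernel : runChunk C 9 511 0x69800020001008000001004000259c8c040149bcd465309954000000800000200b5000026a350040200000000100008000000000040139a0c00000100404b45a40dc8b401004020200001c600010080401499d146530080804021990c04130080804350188c00000000400000000804020a0942a05 17 131071 0x3a19c018c013300333259dd02e011664abe105f08aec437c22390d5c008a0000 0 15 = 2)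
theorem part : Part C 0 C.N 1 := c0
theorem check : checkHyp C rels subw = true := by decide +kernel

end K9

namespace K10

noncomputable def tree : Tr := (.L 0x76ffffffaf5589fffffb2b388efde1c7ff4e706d5d31c3671fffffa43537ffd55a6a46ec858c2fffffe5a3ffa3628ab0aca3fff6d65e5adb4858ea56205be57a9ffc933cb172a41514fffffee209bfff69226648b0e45d8ea18620548c6304d9adc1ea790fa1d3690269030a8b4b420c499c45143ffffffff083ffffffff3ffe1cc6a0521620c410811f)
noncomputable def wtree : WT := (.N 7 (.N 3 (.N 1 (.L 1 [5,1,0,1,0,1,6]) (.N 2 (.L 6 [5,5]) (.L 0 [5,0,5]))) (.N 5 (.N 4 (.L 2 [5,2,5,2,5]) (.L 1 [6,1,0,1,0,5])) (.N 6 (.L 0 [4,1,0,1,0,3]) (.L 3 [4,4])))) (.N 11 (.N 9 (.N 8 (.L 1 [4,1,4]) (.L 0 [3,1,0,1,4])) (.N 10 (.L 7 [5,1,6,0,1,0,1]) (.L 7 [2,0,2,0]))) (.N 13 (.N 12 (.L 6 [1,0,1,0,1,6,1]) (.L 2 [1,0,1,0,6,2,5,4,2,3,6,2,5,4,2,3])) (.N 14 (.L 6 [0,5,0]) (.L 7 [2,5,0,2,6,2,5,0,6])))))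
noncomputable def stree : ST := (.N 3 (.N 1 (.L 0 [] []) (.N 2 (.L 1 [] []) (.L 2 [] []))) (.N 4 (.L 2 [6] [6]) (.N 5 (.L 7 [4] []) (.L 5 [5,3,5,1,6,2] [5,3]))))
noncomputable def C : Cert where
  data := tree
  lm := 15
  rb := 92
  fb := 11
  mask := 2047
  B := 16
  k := 7
  N := 12
  inv := fun x => bif Nat.beq x 0 then 0 else bif Nat.beq x 1 then 1 else bif Nat.beq x 2 then 2 else bif Nat.beq x 3 then 4 else bif Nat.beq x 4 then 3 else bif Nat.beq x 5 then 6 else bif Nat.beq x 6 then 5 else x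
  words := wtree
  subs := stree

def subw : List (List Nat) := [[0], [1], [2], [4,2,3], [6,2,5], [3], [4], [5,3,5,1,6,2,5,4,6]]
theorem c0 : Part C 0 12 1 := runChunk_sound C 1 (by decide +kernel : runChunk C 8 255 0x201000002b3020001c302830000016300735313550000010023d30100940294940202b4b40001b4010200008402000202016354735301020202334302130102023503230000000100000002020214251505 16 65535 0x541700e3009600a36a17a65785576437a637235700450000 0 12 = 2)
theorem part : Part C 0 C.N 1 := c0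
theorem check : checkHyp C rels subw = true := by decide +kernel

end K10

namespace K11

noncomputable def tree : Tr := (.L 0x9de56717ffffdaafffff2bdfff627ffffdbbb67ff5ba19afffffffeb8b29680c17fffffffffea951d791cdbffa57ffffe8a561260d15059affffffffffd376e05db458e4fff25c5e454d4cc17cfff3d6248d2136dc5e4187ffd948324e045287fffffff107fffffff3ffc73350522c43108411f)
noncomputable def wtree : WT := (.N 6 (.N 3 (.N 1 (.L 1 [5,1,0,1,0,1,6]) (.N 2 (.L 6 [5,5]) (.L 0 [5,0,5]))) (.N 4 (.L 2 [5,2,5,2,5]) (.N 5 (.L 1 [6,1,0,1,0,5]) (.L 0 [4,1,0,1,0,3])))) (.N 9 (.N 7 (.L 7 [0,6,0,6]) (.N 8 (.L 2 [0,6,2,5,0,6,2,5]) (.L 1 [2,1,2]))) (.N 10 (.L 7 [6,1,0,1,0,5,1]) (.N 11 (.L 7 [1,2,4,2,3,6,2,5,4,2,3,6,2,5,0,1,0]) (.L 7 [3,1,0,1,4,0])))))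
noncomputable def stree : ST := (.N 3 (.N 1 (.L 0 [] []) (.N 2 (.L 1 [] []) (.L 2 [] []))) (.N 4 (.L 2 [6] [6]) (.N 5 (.L 7 [4] []) (.L 5 [5,3,5,0,1,0,6,2] [5,3]))))
noncomputable def C : Cert where
  data := tree
  lm := 15
  rb := 84
  fb := 10
  mask := 1023
  B := 16
  k := 7
  N := 11
  inv := fun x => bif Nat.beq x 0 then 0 else bif Nat.beq x 1 then 1 else bif Nat.beq x 2 then 2 else bif Nat.beq x 3 then 4 else bif Nat.beq x 4 then 3 else bif Nat.beq x 5 then 6 else bif Nat.beq x 6 then 5 else x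
  words := wtree
  subs := stree

def subw : List (List Nat) := [[0], [1], [2], [4,2,3], [6,2,5], [3], [4], [5,3,5,0,1,0,6,2,5,4,6]]
theorem c0 : Part C 0 11 1 := runChunk_sound C 1 (by decide +kernel : runChunk C 8 255 0x1355000001000000010000020200020000000283010000000073010200a40000a40201010200000000020202010074745301020002334302130100343503230000000100000002020214251505 15 32767 0x19bc0b8093d2ae028f2ab823701668d5c0228000 0 11 = 2)
theorem part : Part C 0 C.N 1 := c0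
theorem check : checkHyp C rels subw = true := by decide +kernel

end K11

namespace K12

noncomputable def tree : Tr := (.N 16 (.L 0xfffca6649892f46346be2ab22f3fffc4ae22288648846421f32104fffa1a96ab01985aa64500cb951fff9f34fdb2fa70c1d95b307ad2fffc9c1df26c533235e0e0a74b3fffa7459ee60a2d1afd8c9472c3fffacd509c5432f5ab50c5658a4273909860bffffff8b23ffe46622937ffc50fffffff8ba7ffe4a75fff8aa0a0aa7351909192e24c82fff88148928f0457899d05c4896fff8ca444c1c43561e34dd84054fff86046c668c0f28f107c83a36fff8d101825cb2b5040c24638450a0ffffffffff040ffffffffff3fff838c3480a20b08184082021f) (.L 0xfffd3ee9b74369ea52ee8b749a3fffce6a775338966cdea6b547b3fffbb32560ff58173dd5f6ef316fffb9d1d2ce2d98d3531b5adf62867b32da63fffffffffdf33fff6fffbae18e8cb4a0daf2d868dd82fffadb961508e7ecbd662e0bae5fffb159cb13fb64b2aa982caf428f3ffffffffff523ffffffffff38e3ffffffea07549ffffffffff4fffb45d3d7051838a6b928ef191))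
noncomputable def wtree : WT := (.N 16 (.N 8 (.N 4 (.N 2 (.N 1 (.L 1 [5,1,0,1,0,1,6]) (.L 6 [5,5])) (.N 3 (.L 0 [5,0,5]) (.L 2 [5,2,5,2,5]))) (.N 6 (.N 5 (.L 1 [6,1,0,1,0,5]) (.L 0 [4,1,0,1,0,3])) (.N 7 (.L 0 [2,0,2]) (.L 7 [2,5,2,5,2,5])))) (.N 12 (.N 10 (.N 9 (.L 3 [4,4]) (.L 1 [4,1,4])) (.N 11 (.L 0 [3,1,0,1,4]) (.L 6 [2,5,2,5,2]))) (.N 14 (.N 13 (.L 5 [1,0,1,0,5,1]) (.L 2 [1,2,1])) (.N 15 (.L 6 [1,0,1,0,1,6,1]) (.L 5 [6,6]))))) (.N 24 (.N 20 (.N 18 (.N 17 (.L 0 [6,0,6]) (.L 1 [2,1,2])) (.N 19 (.L 3 [2,4,2,4,2]) (.L 5 [2,5,0,6,2,5,0,2]))) (.N 22 (.N 21 (.L 3 [5,4,5,4,5,4,5]) (.L 4 [6,2,5,4,2,3,2,1,0,1,0,6,2,5,4,2])) (.N 23 (.L 4 [1,0,1,4,0]) (.L 4 [0,4,0,1,0,1])))) (.N 28 (.N 26 (.N 25 (.L 7 [1,3,1,3]) (.L 7 [1,0,1,4,0,3])) (.N 27 (.L 0 [1,4,0,3,1]) (.L 5 [0,1,0,1,5,1]))) (.N 30 (.N 29 (.L 6 [1,6,0,1,0,1]) (.L 2 [4,2,4,2,4])) (.N 31 (.L 6 [4,5,4,5,4,5,4]) (.L 5 [4,6,4,6,4,6,4,6,4]))))))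
noncomputable def stree : ST := (.N 3 (.N 1 (.L 0 [] []) (.N 2 (.L 1 [] []) (.L 2 [] []))) (.N 4 (.L 2 [6] [6]) (.N 5 (.L 7 [4] []) (.L 5 [5,3,5,2,6,2] [5,3]))))
noncomputable def C : Cert where
  data := tree
  lm := 15
  rb := 108
  fb := 13
  mask := 8191
  B := 32
  k := 7
  N := 27
  inv := fun x => bif Nat.beq x 0 then 0 else bif Nat.beq x 1 then 1 else bif Nat.beq x 2 then 2 else bif Nat.beq x 3 then 4 else bif Nat.beq x 4 then 3 else bif Nat.beq x 5 then 6 else bif Nat.beq x 6 then 5 else x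
  words := wtree
  subs := stree

def subw : List (List Nat) := [[0], [1], [2], [4,2,3], [6,2,5], [3], [4], [5,3,5,2,6,2,5,4,6]]
theorem c0 : Part C 0 27 21 := runChunk_sound C 21 (by decide +kernel : runChunk C 9 511 0x2f980803d34980bc60201007a6935180404020100804020130c04830080804010100000002180004020120c0202318080373a18cc040259ccc052300c4cc60000000020000000000000a0c00000004c0563010080223e1ecc04010124c0564b200506d3b268c04f3a9809a60181acc04029180626630100804010100804e30100802020128c04c300a0c04932984caa0000004002300004000001000c6024200804010100802020100804020100804014180926530080804021990c04130080804350188c00000000400000000804020a0942a05 17 131071 0x60c000000000000344dc032c0000000000000000000000000000000000007683038000000000000000000000008a0000 0 27 = 22)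
theorem part : Part C 0 C.N 21 := c0
theorem check : checkHyp C rels subw = true := by decide +kernel

end K12

namespace K13

noncomputable def tree : Tr := (.L 0xa1e767d7ffffddcfffff2c67ff6efffffdedfffff5ca1ccfffffffd9afff0a2ce7ffb63ffffdab5e6fb1d1bffffffffffff629580d9ecafffffffee64dd691f46b6a97ffffe9c521160f04f5ffffffffffd59276ec60d418d4fffffdd6654e0cb188fff397ff952436e8614187ffe57ff20e345247fffffff107fffffff3ffc73310522843108411f)
noncomputable def wtree : WT := (.N 6 (.N 3 (.N 1 (.L 1 [5,1,0,1,0,1,6]) (.N 2 (.L 6 [5,5]) (.L 0 [5,0,5]))) (.N 4 (.L 1 [6,1,0,1,0,5]) (.N 5 (.L 0 [4,1,0,1,0,3]) (.L 7 [0,6,0,6])))) (.N 9 (.N 7 (.L 6 [1,6,0,1,0,1]) (.N 8 (.L 2 [6,2,6,2,6]) (.L 0 [2,6,2,5,0,6,2,5]))) (.N 10 (.L 7 [5,0,5,0]) (.N 11 (.L 7 [1,2,1,2]) (.L 7 [3,1,0,1,4,0])))))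
noncomputable def stree : ST := (.N 2 (.N 1 (.L 0 [] []) (.L 1 [] [])) (.N 3 (.L 2 [] []) (.N 4 (.L 7 [4] []) (.L 5 [5,3,5,0,1,0,1,2,6,2] [5,3]))))
noncomputable def C : Cert where
  data := tree
  lm := 15
  rb := 84
  fb := 10
  mask := 1023
  B := 16
  k := 7
  N := 13
  inv := fun x => bif Nat.beq x 0 then 0 else bif Nat.beq x 1 then 1 else bif Nat.beq x 2 then 2 else bif Nat.beq x 3 then 4 else bif Nat.beq x 4 then 3 else bif Nat.beq x 5 then 6 else bif Nat.beq x 6 then 5 else x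
  words := wtree
  subs := stree

def subw : List (List Nat) := [[0], [1], [2], [4,2,3], [6,2,5], [3], [4], [5,3,5,0,1,0,1,2,6,2,5,4,6]]
theorem c0 : Part C 0 13 1 := runChunk_sound C 1 (by decide +kernel : runChunk C 8 255 0x134500000100000001000002000002000000010002000200000201830000000000020163000000730102c4c40000c40201010000000094020202010000334301020002003302130100340003230000000100000002020214251505 15 32767 0x560126029bd03fa27b20e119c22b823701668d5c01a8000 0 13 = 2)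
theorem part : Part C 0 C.N 1 := c0
theorem check : checkHyp C rels subw = true := by decide +kernel

end K13

namespace K14

noncomputable def tree : Tr := (.L 0xdf3fffffffa93ffb57ff3ec7fffffff9cfffffeed3d9728bde43fffffa726b4d23ff657ffffd79ffe162cdfff563ffffd8afffff5f4569c6fffffd37ffe372d5b0bfffffffd4845a281f04f5ffffffffff49fff6e85aa418d4fffffb36054e0cb170ebd397ff7d1e36e45b41868c96fff20dd45247fffffff107fffffff3ffc73310522843108411f)
noncomputable def wtree : WT := (.N 5 (.N 2 (.N 1 (.L 1 [5,1,0,1,0,1,6]) (.L 6 [5,5])) (.N 3 (.L 0 [5,0,5]) (.N 4 (.L 1 [6,1,0,1,0,5]) (.L 0 [4,1,0,1,0,3])))) (.N 8 (.N 6 (.L 0 [2,6,2,5,0,6,2,5]) (.N 7 (.L 1 [4,1,4]) (.L 0 [3,1,0,1,4]))) (.N 9 (.L 5 [1,0,1,0,5,1]) (.N 10 (.L 5 [0,6,0]) (.L 7 [6,6,6])))))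
noncomputable def stree : ST := (.N 2 (.N 1 (.L 0 [] []) (.L 1 [] [])) (.N 3 (.L 2 [] []) (.N 4 (.L 7 [4] []) (.L 5 [5,3,5,1,2,6,2] [5,3]))))
noncomputable def C : Cert where
  data := tree
  lm := 15
  rb := 84
  fb := 10
  mask := 1023
  B := 16
  k := 7
  N := 13
  inv := fun x => bif Nat.beq x 0 then 0 else bif Nat.beq x 1 then 1 else bif Nat.beq x 2 then 2 else bif Nat.beq x 3 then 4 else bif Nat.beq x 4 then 3 else bif Nat.beq x 5 then 6 else bif Nat.beq x 6 then 5 else x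
  words := wtree
  subs := stree

def subw : List (List Nat) := [[0], [1], [2], [4,2,3], [6,2,5], [3], [4], [5,3,5,1,2,6,2,5,4,6]]
theorem c0 : Part C 0 13 1 := runChunk_sound C 1 (by decide +kernel : runChunk C 8 255 0x1000200000000010000730283010000634300450000010023000100000200000293000001000202000000020153010000000002000202010000634301020202003302130102020003230000000100000002020214251505 16 65535 0xa41702479757682700a60467970704570237a447235700350000 0 13 = 2)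
theorem part : Part C 0 C.N 1 := c0
theorem check : checkHyp C rels subw = true := by decide +kernel

end K14

namespace K15

noncomputable def tree : Tr := (.N 16 (.L 0xfffe6dd917289e9f7524597752d02fffd5924524f853b1259d401508e3fffd0c8482ce0d350e39c3a3504f3fffdc5a4e44c83373a25b3938d0d4291c9c61e17ffffffc70bfffffff2fffd1ce1a2a086815074c312549252d206cbffffffffffc609fffffff2fffd18f5449b9a6c6464a302c5880fffcbcb44399d8635cb89141c5c91fffcb062b158565f54a8b15204860fffc40528316d4594d4524d444c76fffc7cc11183843d3d2903f3c9854fffc301210cf0f0f1490425108c36fffc8040604d8e3334203090c88450a07ffffffffff0407ffffffffff3fffc1c30d101420b040c10204041f) (.L 0xfffebdfb07ea9ca76eb9fab7eb5e3fffec9eb17a91da14299ea57ab1f3fffe79c9c42810a37a54f984269c2fffe4909d7651ba97e34e906e65d2fffe2db8c6ea1f937220d8f7229b2fffdcd17235c196d261d17749d5137947ffffffdac96f6bffffffffff47e21a93fffffff6623ffffffffff37c23ffffffd8886863fff655bfff47d1fffffffffff601ffff645ffff37f1fffffffd787ffffffffffffff4834bffffffd7535a1bffffffffff3802ffff69616065c53ffffffffff4fffd549573e14b841940678694cb2fffd3cd7469ec97a6a19a4c19d9a1))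
noncomputable def wtree : WT := (.N 15 (.N 7 (.N 3 (.N 1 (.L 1 [5,1,0,1,0,1,6]) (.N 2 (.L 6 [5,5]) (.L 0 [5,0,5]))) (.N 5 (.N 4 (.L 2 [5,2,5,2,5]) (.L 1 [6,1,0,1,0,5])) (.N 6 (.L 0 [4,1,0,1,0,3]) (.L 7 [0,6,0,6])))) (.N 11 (.N 9 (.N 8 (.L 7 [6,2,5,0,6,2,5,2,0]) (.L 1 [0,1,0,5,1,6])) (.N 10 (.L 3 [4,4]) (.L 1 [4,1,4]))) (.N 13 (.N 12 (.L 0 [3,1,0,1,4]) (.L 6 [1,0,1,0,1,6,1])) (.N 14 (.L 5 [0,6,0]) (.L 6 [1,6,1,0,1,0]))))) (.N 23 (.N 19 (.N 17 (.N 16 (.L 0 [2,0,2]) (.L 5 [1,0,1,0,5,1])) (.N 18 (.L 5 [2,6,2,6,2]) (.L 6 [0,6,2,5,0,2,6,2]))) (.N 21 (.N 20 (.L 1 [3,1,3]) (.L 5 [4,6,4,6,4,6,4,6,4])) (.N 22 (.L 6 [4,5,4,5,4,5,4]) (.L 1 [5,1,6,0,1,0])))) (.N 27 (.N 25 (.N 24 (.L 7 [3,1,0,1,4,0]) (.L 7 [0,4,0,1,0,1,3])) (.N 26 (.L 7 [1,0,1,0,3,0,4]) (.L 2 [1,2,1]))) (.N 29 (.N 28 (.L 6 [2,5,2,5,2]) (.L 1 [2,1,2])) (.N 30 (.L 3 [2,4,2,4,2]) (.L 2 [4,2,4,2,4]))))))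
noncomputable def stree : ST := (.N 3 (.N 1 (.L 0 [] []) (.N 2 (.L 1 [] []) (.L 2 [] []))) (.N 4 (.L 2 [6] [6]) (.N 5 (.L 7 [4] []) (.L 5 [5,3,5,0,1,0,2,6,2] [5,3]))))
noncomputable def C : Cert where
  data := tree
  lm := 15
  rb := 116
  fb := 14
  mask := 16383
  B := 64
  k := 7
  N := 31
  inv := fun x => bif Nat.beq x 0 then 0 else bif Nat.beq x 1 then 1 else bif Nat.beq x 2 then 2 else bif Nat.beq x 3 then 4 else bif Nat.beq x 4 then 3 else bif Nat.beq x 5 then 6 else bif Nat.beq x 6 then 5 else x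
  words := wtree
  subs := stree

def subw : List (List Nat) := [[0], [1], [2], [4,2,3], [6,2,5], [3], [4], [5,3,5,0,1,0,2,6,2,5,4,6]]
theorem c0 : Part C 0 31 21 := runChunk_sound C 21 (by decide +kernel : runChunk C 9 511 0x1530100803e351808054301007c6a35980804024980404020144c049300809e7b30100ba601e1bcc2602010040563118000001498000000010000001000000000000052600010000000000040133000000001000000000000000401000000000a180526000000004029a4d00202010080584c268c0202d9c4c05d300f0de72369808020201009860201004040259d4e06014980946530995400000080000e300c924802013cc04000000002000000a26020100906014a00804024a00404b45a00804b40100402020100804020100804014980946530080804021990c04130080804350188c00000000400000000804020a0942a05 19 524287 0x1733ac6e00618eb0bd46370032c75d9c0000000000000000000000000000000cc0000000398000000000000000000000000000000000002280000 0 31 = 22)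
theorem part : Part C 0 C.N 21 := c0
theorem check : checkHyp C rels subw = true := by decide +kernel

end K15

end Cfsg.Agent.LargeExtra.SuzPlaneCert
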