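import Cfsg.Agent.LargeExtra.PlaneOff
import Cfsg.Agent.LargeExtra.ElemSixteen
import Cfsg.Agent.LargeExtra.CertLoop
import Cfsg.Agent.LargeExtra.SuzPlaneCert

/-!
The relation `(r t u)^5 = 1` in `C_G(A₄) ≅ L₃(4)` for groups of Suzuki type.
-/

set_option autoImplicit false
set_option linter.unusedSectionVars false

namespace Cfsg.Agent.LargeExtra.SuzPlane

open Cfsg.Agent.LargeExtra.PlaneOff Cfsg.Agent.LargeExtra.ElemSixteen

variable {M : Type*} [Group M]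

structure Rels (x y r t u : M) : Prop where
  x2 : x * x = 1
  y2 : y * y = 1
  r2 : r * r = 1
  xy4 : (x * y) ^ 4 = 1
  t3 : t ^ 3 = 1
  u3 : u ^ 3 = 1
  tz : t⁻¹ * (x * y) ^ 2 * t = x
  tx : t⁻¹ * x * t = (x * y) ^ 2 * x
  ty : y * t * y * t = 1
  uz : u⁻¹ * (x * y) ^ 2 * u = y
  uy : u⁻¹ * y * u = (x * y) ^ 2 * y
  ux : x * u * x * u = 1
  rx : r * x = x * r
  ry : r * y = y * r
  rt : (r * t) ^ 3 = 1
  ru : (r * u) ^ 3 = 1
  ab : ((t⁻¹ * r * t) * (u⁻¹ * r * u)) ^ 2 = (x * y) ^ 2 * r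

/-- inverse of an involution -/
theorem inv_of_sq {e : M} (h : e * e = 1) : e⁻¹ = e := inv_eq_of_mul_eq_one_right h

namespace Rels

variable {x y r t u : M} (h : Rels x y r t u)
include h

theorem z2 : (x * y) ^ 2 * (x * y) ^ 2 = 1 := by rw [← pow_add]; exact h.xy4

theorem yxy : y * x * y = (x * y) ^ 2 * x := by
  have h1 := h.xy4
  have hx := inv_of_sq h.x2
  have hy := inv_of_sq h.y2
  have h2 : (x * y) ^ 2 = (y * x) ^ 2 := by
    have h3 : ((x * y) ^ 2)⁻¹ = (x * y) ^ 2 := inv_of_sq h.z2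
    rw [← h3, ← inv_pow, mul_inv_rev, hx, hy]
  calc y * x * y = (y * x) ^ 2 * x := by
        rw [pow_two]
        calc y * x * y = y * x * y * (x * x) := by rw [h.x2, mul_one]
          _ = y * x * (y * x) * x := by group
    _ = (x * y) ^ 2 * x := by rw [h2]

theorem yx2 : (y * x) ^ 2 = (x * y) ^ 2 := by
  have h3 : ((x * y) ^ 2)⁻¹ = (x * y) ^ 2 := inv_of_sq h.z2
  rw [← h3, ← inv_pow, mul_inv_rev, inv_of_sq h.x2, inv_of_sq h.y2]

theorem zx : (x * y) ^ 2 * x = x * (x * y) ^ 2 := by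
  have h1 : (x * y) ^ 2 * x = x * (y * x) ^ 2 := by rw [pow_two, pow_two]; group
  rw [h1, h.yx2]

theorem zy : (x * y) ^ 2 * y = y * (x * y) ^ 2 := by
  have h1 : (y * x) ^ 2 * y = y * (x * y) ^ 2 := by rw [pow_two, pow_two]; group
  rw [← h1, h.yx2]

theorem zr : (x * y) ^ 2 * r = r * (x * y) ^ 2 := by
  have h1 : r * (x * y) = (x * y) * r := by rw [← mul_assoc, h.rx, mul_assoc, h.ry, mul_assoc]
  have h2 : Commute r (x * y) := h1
  exact (h2.pow_right 2).eq.symm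

theorem ty' : y * t * y = t⁻¹ := eq_inv_of_mul_eq_one_left h.ty

theorem ux' : x * u * x = u⁻¹ := eq_inv_of_mul_eq_one_left h.ux

theorem swap : Rels y x r u t where
  x2 := h.y2
  y2 := h.x2
  r2 := h.r2
  xy4 := by
    rw [show (y * x) ^ 4 = (y * x) ^ 2 * (y * x) ^ 2 by rw [← pow_add], h.yx2, h.z2]
  t3 := h.u3
  u3 := h.t3
  tz := by rw [h.yx2]; exact h.uz
  tx := by rw [h.yx2]; exact h.uy
  ty := h.ux
  uz := by rw [h.yx2]; exact h.tz
  uy := by rw [h.yx2]; exact h.tx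
  ux := h.ty
  rx := h.ry
  ry := h.rx
  rt := h.ru
  ru := h.rt
  ab := by
    have ha : (t⁻¹ * r * t)⁻¹ = t⁻¹ * r * t := by
      rw [mul_inv_rev, mul_inv_rev, inv_inv, inv_of_sq h.r2, mul_assoc]
    have hb : (u⁻¹ * r * u)⁻¹ = u⁻¹ * r * u := by
      rw [mul_inv_rev, mul_inv_rev, inv_inv, inv_of_sq h.r2, mul_assoc]
    have h1 : u⁻¹ * r * u * (t⁻¹ * r * t) = (t⁻¹ * r * t * (u⁻¹ * r * u))⁻¹ := by
      rw [mul_inv_rev, ha, hb]
    rw [h1, inv_pow, h.ab, h.yx2]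
    apply inv_of_sq
    rw [mul_assoc, ← mul_assoc r, ← h.zr, mul_assoc, h.r2, mul_one, h.z2]

/-- `t z t⁻¹ = z x` -/
theorem tzt : t * (x * y) ^ 2 * t⁻¹ = (x * y) ^ 2 * x := by
  have h1 : t⁻¹ * ((x * y) ^ 2 * x) * t = (x * y) ^ 2 := by
    calc t⁻¹ * ((x * y) ^ 2 * x) * t = (t⁻¹ * (x * y) ^ 2 * t) * (t⁻¹ * x * t) := by group
      _ = x * ((x * y) ^ 2 * x) := by rw [h.tz, h.tx]
      _ = (x * y) ^ 2 := by rw [h.zx, ← mul_assoc, h.x2, one_mul]
  have h2 : t * (t⁻¹ * ((x * y) ^ 2 * x) * t) * t⁻¹ = (x * y) ^ 2 * x := by group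
  rw [h1] at h2
  exact h2

theorem a2 : (t⁻¹ * r * t) * (t⁻¹ * r * t) = 1 := by
  calc (t⁻¹ * r * t) * (t⁻¹ * r * t) = t⁻¹ * (r * r) * t := by group
    _ = 1 := by rw [h.r2]; group

/-- `t r t⁻¹ = r a` -/
theorem trt : t * r * t⁻¹ = r * (t⁻¹ * r * t) := by
  have h1 := h.rt
  have h2 : (r * t) ^ 3 = r * (t * r * t⁻¹) * (t ^ 2 * r * t) := by
    rw [pow_succ, pow_two]; group
  have h3 : t ^ 2 = t⁻¹ := by
    apply eq_inv_of_mul_eq_one_left
    rw [← pow_succ]; exact h.t3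
  rw [h2, h3] at h1
  have h4 : t * r * t⁻¹ = r⁻¹ * (t⁻¹ * r * t)⁻¹ := by
    rw [mul_eq_one_iff_eq_inv] at h1
    rw [← h1]; group
  rw [h4, inv_of_sq h.r2, inv_of_sq h.a2]

theorem ra : r * (t⁻¹ * r * t) = (t⁻¹ * r * t) * r := by
  have h1 : (t * r * t⁻¹) * (t * r * t⁻¹) = 1 := by
    calc (t * r * t⁻¹) * (t * r * t⁻¹) = t * (r * r) * t⁻¹ := by group
      _ = 1 := by rw [h.r2]; group
  rw [h.trt] at h1
  have h2 := inv_of_sq h1
  rw [mul_inv_rev, inv_of_sq h.a2, inv_of_sq h.r2] at h2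
  exact h2.symm

/-- `t⁻¹ a t = r a` -/
theorem tat : t⁻¹ * (t⁻¹ * r * t) * t = r * (t⁻¹ * r * t) := by
  rw [← h.trt]
  have h3 : t⁻¹ * t⁻¹ = t := by
    have h4 : t * t * t = 1 := by
      have := h.t3
      rw [pow_succ, pow_two] at this
      exact this
    rw [← mul_inv_rev]
    exact inv_eq_of_mul_eq_one_right h4
  have h5 : t * t = t⁻¹ := by
    apply eq_inv_of_mul_eq_one_left
    have := h.t3
    rw [pow_succ, pow_two] at this
    exact this
  calc t⁻¹ * (t⁻¹ * r * t) * t = (t⁻¹ * t⁻¹) * r * (t * t) := by group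
    _ = t * r * t⁻¹ := by rw [h3, h5]

theorem za : (x * y) ^ 2 * (t⁻¹ * r * t) = (t⁻¹ * r * t) * (x * y) ^ 2 := by
  have h1 : ((x * y) ^ 2 * x) * r = r * ((x * y) ^ 2 * x) := by
    rw [mul_assoc, ← h.rx, ← mul_assoc, h.zr, mul_assoc]
  have h2 : t⁻¹ * ((x * y) ^ 2 * x) * t = (x * y) ^ 2 := by rw [← h.tzt]; group
  calc (x * y) ^ 2 * (t⁻¹ * r * t) = (t⁻¹ * ((x * y) ^ 2 * x) * t) * (t⁻¹ * r * t) := by rw [h2]
    _ = t⁻¹ * (((x * y) ^ 2 * x) * r) * t := by group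
    _ = t⁻¹ * (r * ((x * y) ^ 2 * x)) * t := by rw [h1]
    _ = (t⁻¹ * r * t) * (t⁻¹ * ((x * y) ^ 2 * x) * t) := by group
    _ = (t⁻¹ * r * t) * (x * y) ^ 2 := by rw [h2]

theorem xa : x * (t⁻¹ * r * t) = (t⁻¹ * r * t) * x := by
  have h2 := h.tz
  calc x * (t⁻¹ * r * t) = (t⁻¹ * (x * y) ^ 2 * t) * (t⁻¹ * r * t) := by rw [h2]
    _ = t⁻¹ * ((x * y) ^ 2 * r) * t := by group
    _ = t⁻¹ * (r * (x * y) ^ 2) * t := by rw [h.zr]
    _ = (t⁻¹ * r * t) * (t⁻¹ * (x * y) ^ 2 * t) := by group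
    _ = (t⁻¹ * r * t) * x := by rw [h2]

/-- `y a y = r a` -/
theorem yay : y * (t⁻¹ * r * t) * y = r * (t⁻¹ * r * t) := by
  have h1 : t * y = y * t⁻¹ := by
    rw [← h.ty']
    calc t * y = (y * y) * t * y := by rw [h.y2, one_mul]
      _ = y * (y * t * y) := by group
  have h2 : y * t⁻¹ = t * y := h1.symm
  have e : ∀ p q p' q' : M, p = p' → q = q' → p * r * q = p' * r * q' := by
    rintro _ _ _ _ rfl rfl; rfl
  calc y * (t⁻¹ * r * t) * y = (y * t⁻¹) * r * (t * y) := by group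
    _ = (t * y) * r * (y * t⁻¹) := e _ _ _ _ h2 h1
    _ = t * (y * r) * y * t⁻¹ := by group
    _ = t * r * (y * y) * t⁻¹ := by rw [← h.ry]; group
    _ = t * r * t⁻¹ := by rw [h.y2]; group
    _ = r * (t⁻¹ * r * t) := h.trt

/-- `b x b = x r` -/
theorem bxb : (u⁻¹ * r * u) * x * (u⁻¹ * r * u) = x * r := by
  have h1 := h.swap.yay
  have hb := h.swap.a2
  calc (u⁻¹ * r * u) * x * (u⁻¹ * r * u) = (x * x) * (u⁻¹ * r * u) * x * (u⁻¹ * r * u) := by
        rw [h.x2, one_mul]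
    _ = x * (x * (u⁻¹ * r * u) * x) * (u⁻¹ * r * u) := by group
    _ = x * (r * (u⁻¹ * r * u)) * (u⁻¹ * r * u) := by rw [h1]
    _ = x * r * ((u⁻¹ * r * u) * (u⁻¹ * r * u)) := by group
    _ = x * r := by rw [hb, mul_one]

/-- `b a b = z r a` -/
theorem bab : (u⁻¹ * r * u) * (t⁻¹ * r * t) * (u⁻¹ * r * u) = (x * y) ^ 2 * r * (t⁻¹ * r * t) := by
  have h1 := h.ab
  have ha := h.a2
  have h2 : (x * y) ^ 2 * r * (t⁻¹ * r * t) = (t⁻¹ * r * t) * ((x * y) ^ 2 * r) := by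
    rw [mul_assoc, h.ra, ← mul_assoc, h.za, mul_assoc]
  rw [h2, ← h1, pow_two]
  calc (u⁻¹ * r * u) * (t⁻¹ * r * t) * (u⁻¹ * r * u)
      = ((t⁻¹ * r * t) * (t⁻¹ * r * t)) * (u⁻¹ * r * u) * (t⁻¹ * r * t) * (u⁻¹ * r * u) := by
        rw [ha, one_mul]
    _ = _ := by group

theorem four : Four ((x * y) ^ 2) x r (t⁻¹ * r * t) where
  s0 := h.z2
  s1 := h.x2
  s2 := h.r2
  s3 := h.a2
  c10 := h.zx.symm
  c20 := h.zr.symm
  c30 := h.za.symm
  c21 := h.rx
  c31 := h.xa.symm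
  c32 := h.ra.symm

end Rels

/-- coordinates of the first elementary abelian group -/
def E1 (x y r t : M) (n : ℕ) : M := E ((x * y) ^ 2) x r (t⁻¹ * r * t) n

theorem E1_zero (x y r t : M) : E1 x y r t 0 = 1 := E_zero
theorem E1_one (x y r t : M) : E1 x y r t 1 = (x * y) ^ 2 := E_one
theorem E1_two (x y r t : M) : E1 x y r t 2 = x := E_two
theorem E1_four (x y r t : M) : E1 x y r t 4 = r := E_four
theorem E1_eight (x y r t : M) : E1 x y r t 8 = t⁻¹ * r * t := E_eight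
theorem E1_mod (x y r t : M) (n : ℕ) : E1 x y r t (n % 16) = E1 x y r t n := E_mod n

theorem Rels.E1_mul {x y r t u : M} (h : Rels x y r t u) (m n : ℕ) :
    E1 x y r t m * E1 x y r t n = E1 x y r t (m ^^^ n) := h.four.E_mul m n

theorem Rels.E1_mem {x y r t u : M} (h : Rels x y r t u) (n : ℕ) : E1 x y r t n ∈ h.four.F := h.four.E_mem n

theorem Rels.mem_F1 {x y r t u : M} (h : Rels x y r t u) {g : M} :
    g ∈ h.four.F ↔ ∃ n, n < 16 ∧ g = E1 x y r t n := Iff.rfl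

theorem Rels.E1_sq {x y r t u : M} (h : Rels x y r t u) (m : ℕ) : E1 x y r t m * E1 x y r t m = 1 := by
  rw [h.E1_mul, Nat.xor_self, E1_zero]

theorem Rels.conj_E1 {x y r t u : M} (h : Rels x y r t u) {g : M} {c0 c1 c2 c3 : ℕ}
    (h0 : g⁻¹ * (x * y) ^ 2 * g = E1 x y r t c0) (h1 : g⁻¹ * x * g = E1 x y r t c1)
    (h2 : g⁻¹ * r * g = E1 x y r t c2) (h3 : g⁻¹ * (t⁻¹ * r * t) * g = E1 x y r t c3) (n : ℕ) :
    g⁻¹ * E1 x y r t n * g = E1 x y r t (lin c0 c1 c2 c3 n) := h.four.conj_E h0 h1 h2 h3 n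

/-- letters: 0 = t, 1 = y, 2 = b -/
def gval (y r t u : M) : ℕ → M
  | 0 => t
  | 1 => y
  | _ => u⁻¹ * r * u

def act : ℕ → ℕ → ℕ
  | 0, n => lin 2 3 8 12 n
  | 1, n => lin 1 3 4 12 n
  | _, n => lin 1 6 4 13 n

def wval (y r t u : M) : List ℕ → M
  | [] => 1
  | i :: w => gval y r t u i * wval y r t u w

def actw : List ℕ → ℕ → ℕ
  | [], n => n
  | i :: w, n => actw w (act i n)

namespace Rels

variable {x y r t u : M} (h : Rels x y r t u)
include h

theorem conj_t (n : ℕ) : t⁻¹ * E1 x y r t n * t = E1 x y r t (lin 2 3 8 12 n) := by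
  apply h.conj_E1
  · rw [E1_two]; exact h.tz
  · rw [show 3 = 1 ^^^ 2 by decide, ← h.E1_mul, E1_one, E1_two]; exact h.tx
  · rw [E1_eight]
  · rw [show 12 = 4 ^^^ 8 by decide, ← h.E1_mul, E1_four, E1_eight]; exact h.tat

theorem conj_y (n : ℕ) : y⁻¹ * E1 x y r t n * y = E1 x y r t (lin 1 3 4 12 n) := by
  have hy := inv_of_sq h.y2
  apply h.conj_E1
  · rw [E1_one, hy, mul_assoc, h.zy, ← mul_assoc, h.y2, one_mul]
  · rw [show 3 = 1 ^^^ 2 by decide, ← h.E1_mul, E1_one, E1_two, hy]; exact h.yxy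
  · rw [E1_four, hy, mul_assoc, h.ry, ← mul_assoc, h.y2, one_mul]
  · rw [show 12 = 4 ^^^ 8 by decide, ← h.E1_mul, E1_four, E1_eight, hy]; exact h.yay

theorem conj_b (n : ℕ) : (u⁻¹ * r * u)⁻¹ * E1 x y r t n * (u⁻¹ * r * u) = E1 x y r t (lin 1 6 4 13 n) := by
  have hb := h.swap.a2
  have hbi := inv_of_sq hb
  apply h.conj_E1
  · have := h.swap.za
    rw [h.yx2] at this
    rw [E1_one, hbi, mul_assoc, this, ← mul_assoc, hb, one_mul]
  · rw [show 6 = 2 ^^^ 4 by decide, ← h.E1_mul, E1_four, E1_two, hbi]; exact h.bxb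
  · rw [E1_four, hbi, mul_assoc, h.swap.ra, ← mul_assoc, hb, one_mul]
  · rw [show 13 = 1 ^^^ 4 ^^^ 8 by decide, ← h.E1_mul, ← h.E1_mul, E1_four, E1_eight, E1_one, hbi]
    exact h.bab

theorem conj_g (i n : ℕ) : (gval y r t u i)⁻¹ * E1 x y r t n * gval y r t u i = E1 x y r t (act i n) := by
  match i with
  | 0 => exact h.conj_t n
  | 1 => exact h.conj_y n
  | (j + 2) => exact h.conj_b n

theorem conj_w (w : List ℕ) : ∀ n : ℕ,
    (wval y r t u w)⁻¹ * E1 x y r t n * wval y r t u w = E1 x y r t (actw w n) := by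
  induction w with
  | nil => intro n; simp [wval, actw]
  | cons i w ih =>
    intro n
    have h1 := h.conj_g i n
    rw [wval, actw, ← ih, ← h1]
    group

end Rels

/-- action of `E2 n` on the coordinates of the first group -/
def actE (n m : ℕ) : ℕ :=
  bif n.testBit 3 then lin 1 6 4 13 (bif n.testBit 1 then lin 1 3 4 12 m else m)
    else (bif n.testBit 1 then lin 1 3 4 12 m else m)

/-- words mapping `z` to the elements of the first group -/
def wd : ℕ → List ℕ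
  | 2 => [0]
  | 3 => [0, 0]
  | 6 => [0, 2]
  | 11 => [0, 2, 0]
  | 13 => [0, 2, 0, 0]
  | 7 => [0, 0, 2]
  | 9 => [0, 0, 2, 0]
  | 14 => [0, 0, 2, 0, 0]
  | 12 => [0, 0, 2, 0, 2]
  | 4 => [0, 0, 2, 0, 2, 0]
  | 8 => [0, 0, 2, 0, 2, 0, 0]
  | 10 => [0, 2, 0, 2]
  | 15 => [0, 2, 0, 2, 0]
  | 5 => [0, 2, 0, 2, 0, 0]
  | _ => []

theorem wd_spec : ∀ n < 16, n ≠ 0 → actw (wd n) 1 = n := by decide

theorem actE_lt : ∀ m < 16, ∀ n < 16, m ^^^ actE n m < 16 := by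
  decide +kernel

theorem actE_spec : ∀ m < 16, ∀ n < 16, m ^^^ actE n m ≠ 0 ∨
    ((m = 0 ∨ m = 1 ∨ m = 4 ∨ m = 5) ∨ (n = 0 ∨ n = 1 ∨ n = 4 ∨ n = 5)) := by
  decide +kernel

theorem ord_spec : ∀ n < 16, n ≠ 0 → ∀ k < 16,
    actw (wd n) (actE k (actw (wd n) (actE k 1))) = 1 ∨
    actw (wd n) (actE k (actw (wd n) (actE k (actw (wd n) (actE k 1))))) = 1 ∨
    actw (wd n) (actE k (actw (wd n) (actE k (actw (wd n) (actE k (actw (wd n) (actE k
      (actw (wd n) (actE k 1))))))))) = 1 := by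
  decide +kernel

theorem indep_spec : ∀ n < 16, n ≠ 0 → (n = 1 ∨ n = 4 ∨ n = 5) ∨
    (n ^^^ lin 1 3 4 12 n = 1 ∨ n ^^^ lin 1 3 4 12 n = 4 ∨ n ^^^ lin 1 3 4 12 n = 5) := by
  decide

theorem nm_of [Finite M] {w : M} {F : Subgroup M} (hw : ∀ f ∈ F, w⁻¹ * f * w ∈ F) : w ∈ Nm F := by
  have h1 : F ≤ cj w F := fun f hf => mem_cj.mpr (hw f hf)
  exact (Subgroup.eq_of_le_of_card_ge h1 (card_cj w F).le).symm

theorem nm_self {w : M} {F : Subgroup M} (hw : w ∈ F) : w ∈ Nm F := by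
  show cj w F = F
  ext s
  rw [mem_cj]
  constructor
  · intro h1
    have h2 := F.mul_mem (F.mul_mem hw h1) (F.inv_mem hw)
    have h3 : w * (w⁻¹ * s * w) * w⁻¹ = s := by group
    rwa [h3] at h2
  · intro h1
    exact F.mul_mem (F.mul_mem (F.inv_mem hw) h1) hw

namespace Rels

variable {x y r t u : M} (h : Rels x y r t u)
include h

theorem E12 {n : ℕ} (hn : n = 0 ∨ n = 1 ∨ n = 4 ∨ n = 5) : E1 x y r t n = E1 y x r u n := by
  rcases hn with rfl | rfl | rfl | rfl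
  · rw [E1_zero, E1_zero]
  · rw [E1_one, E1_one, h.yx2]
  · rw [E1_four, E1_four]
  · rw [show 5 = 1 ^^^ 4 by decide, ← h.E1_mul, ← h.swap.E1_mul, E1_four, E1_four, E1_one, E1_one, h.yx2]

theorem indep (hz : (x * y) ^ 2 ≠ 1) (hr : r ≠ 1) (hrz : r ≠ (x * y) ^ 2) :
    Indep ((x * y) ^ 2) x r (t⁻¹ * r * t) := by
  have key : ∀ m, (m = 1 ∨ m = 4 ∨ m = 5) → E1 x y r t m ≠ 1 := by
    rintro m (rfl | rfl | rfl)
    · rw [E1_one]; exact hz
    · rw [E1_four]; exact hr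
    · rw [show 5 = 1 ^^^ 4 by decide, ← h.E1_mul, E1_one, E1_four]
      intro h1
      apply hrz
      rw [← inv_of_sq h.z2]
      exact (inv_eq_of_mul_eq_one_right h1).symm
  intro n hn he
  by_contra hne
  rcases indep_spec n hn hne with h1 | h1
  · exact key n h1 he
  · refine key _ h1 ?_
    have he' : E1 x y r t n = 1 := he
    rw [← h.E1_mul, ← h.conj_y, he']
    group

theorem conj_E2 (n m : ℕ) : (E1 y x r u n)⁻¹ * E1 x y r t m * E1 y x r u n = E1 x y r t (actE n m) := by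
  have key : ∀ (g : M) (f : ℕ → ℕ) (i : Bool), (∀ m, g⁻¹ * E1 x y r t m * g = E1 x y r t (f m)) →
      ∀ m, (bp g i)⁻¹ * E1 x y r t m * bp g i = E1 x y r t (bif i then f m else m) := by
    intro g f i hf m
    cases i
    · simp [bp]
    · simpa [bp] using hf m
  have kz : ∀ m, ((y * x) ^ 2)⁻¹ * E1 x y r t m * (y * x) ^ 2 = E1 x y r t (id m) := by
    intro m
    rw [h.yx2, inv_of_sq h.z2, ← E1_one x y r t, h.E1_mul, h.E1_mul, Nat.xor_comm 1 m, Nat.xor_assoc,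
      Nat.xor_self, Nat.xor_zero]
    rfl
  have kr : ∀ m, r⁻¹ * E1 x y r t m * r = E1 x y r t (id m) := by
    intro m
    have h4 : r = E1 x y r t 4 := (E1_four x y r t).symm
    have h1 : E1 x y r t 4 * E1 x y r t m * E1 x y r t 4 = E1 x y r t m := by
      rw [h.E1_mul, h.E1_mul, Nat.xor_comm 4 m, Nat.xor_assoc, Nat.xor_self, Nat.xor_zero]
    rw [E1_four] at h1
    rw [inv_of_sq h.r2, h1]
    rfl
  have k0 := key _ _ (n.testBit 0) kz
  have k1 := key _ _ (n.testBit 1) h.conj_y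
  have k2 := key _ _ (n.testBit 2) kr
  have k3 := key _ _ (n.testBit 3) h.conj_b
  have hid : ∀ (i : Bool) (m : ℕ), (bif i then id m else m) = m := by
    intro i m; cases i <;> rfl
  simp only [hid] at k0 k2
  have h4 : (E1 y x r u n)⁻¹ * E1 x y r t m * E1 y x r u n =
      (bp (u⁻¹ * r * u) (n.testBit 3))⁻¹ * ((bp r (n.testBit 2))⁻¹ * ((bp y (n.testBit 1))⁻¹ *
        ((bp ((y * x) ^ 2) (n.testBit 0))⁻¹ * E1 x y r t m * bp ((y * x) ^ 2) (n.testBit 0)) *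
          bp y (n.testBit 1)) * bp r (n.testBit 2)) * bp (u⁻¹ * r * u) (n.testBit 3) := by
    conv_lhs => rw [show E1 y x r u n = bp ((y * x) ^ 2) (n.testBit 0) * bp y (n.testBit 1) *
      bp r (n.testBit 2) * bp (u⁻¹ * r * u) (n.testBit 3) from rfl]
    group
  rw [h4, k0, k1, k2, k3]
  rfl

theorem E2_inv (n : ℕ) : (E1 y x r u n)⁻¹ = E1 y x r u n := by
  apply inv_of_sq
  rw [h.swap.E1_mul, Nat.xor_self, E1_zero]

theorem E2E1 (n m : ℕ) : E1 y x r u n * E1 x y r t m = E1 x y r t (actE n m) * E1 y x r u n := by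
  rw [← h.conj_E2, h.E2_inv]
  have h1 : E1 y x r u n * E1 y x r u n = 1 := by
    rw [h.swap.E1_mul, Nat.xor_self, E1_zero]
  rw [mul_assoc (E1 y x r u n * E1 x y r t m), h1, mul_one]

theorem form {g : M} (hg : g ∈ Subgroup.closure {x, y, r, t⁻¹ * r * t, u⁻¹ * r * u}) :
    ∃ m n, m < 16 ∧ n < 16 ∧ g = E1 x y r t m * E1 y x r u n := by
  suffices hs : ∃ m n, g = E1 x y r t m * E1 y x r u n by
    obtain ⟨m, n, hmn⟩ := hs
    refine ⟨m % 16, n % 16, Nat.mod_lt _ (by norm_num), Nat.mod_lt _ (by norm_num), ?_⟩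
    rw [E1_mod, E1_mod]
    exact hmn
  induction hg using Subgroup.closure_induction with
  | mem g hg =>
    simp only [Set.mem_insert_iff, Set.mem_singleton_iff] at hg
    rcases hg with hg | hg | hg | hg | hg
    · exact ⟨2, 0, by rw [E1_two, E1_zero, mul_one, hg]⟩
    · exact ⟨0, 2, by rw [E1_two, E1_zero, one_mul, hg]⟩
    · exact ⟨4, 0, by rw [E1_four, E1_zero, mul_one, hg]⟩
    · exact ⟨8, 0, by rw [E1_eight, E1_zero, mul_one, hg]⟩
    · exact ⟨0, 8, by rw [E1_eight, E1_zero, one_mul, hg]⟩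
  | one => exact ⟨0, 0, by rw [E1_zero, E1_zero, one_mul]⟩
  | mul a b _ _ ha hb =>
    obtain ⟨m, n, rfl⟩ := ha
    obtain ⟨m', n', rfl⟩ := hb
    refine ⟨m ^^^ actE n m', n ^^^ n', ?_⟩
    rw [← h.E1_mul, ← h.swap.E1_mul]
    have h1 := h.E2E1 n m'
    calc E1 x y r t m * E1 y x r u n * (E1 x y r t m' * E1 y x r u n')
        = E1 x y r t m * (E1 y x r u n * E1 x y r t m') * E1 y x r u n' := by group
      _ = _ := by rw [h1]; group
  | inv a _ ha =>
    obtain ⟨m, n, rfl⟩ := ha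
    refine ⟨actE n m, n, ?_⟩
    rw [mul_inv_rev, h.E2_inv, ← h.E2E1]
    congr 1
    apply inv_of_sq
    rw [h.E1_mul, Nat.xor_self, E1_zero]

theorem sq_form (m n : ℕ) : (E1 x y r t m * E1 y x r u n) * (E1 x y r t m * E1 y x r u n) =
    E1 x y r t (m ^^^ actE n m) := by
  have h1 := h.E2E1 n m
  have h2 : E1 y x r u n * E1 y x r u n = 1 := by
    rw [h.swap.E1_mul, Nat.xor_self, E1_zero]
  calc (E1 x y r t m * E1 y x r u n) * (E1 x y r t m * E1 y x r u n)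
      = E1 x y r t m * (E1 y x r u n * E1 x y r t m) * E1 y x r u n := by group
    _ = E1 x y r t m * E1 x y r t (actE n m) * (E1 y x r u n * E1 y x r u n) := by rw [h1]; group
    _ = _ := by rw [h2, mul_one, h.E1_mul]

theorem t_nm [Finite M] : t ∈ Nm h.four.F := by
  apply nm_of
  intro f hf
  obtain ⟨n, hn, rfl⟩ := h.mem_F1.mp hf
  rw [h.conj_t n]
  exact h.E1_mem _

theorem E2_nm [Finite M] (n : ℕ) : E1 y x r u n ∈ Nm h.four.F := by
  apply nm_of
  intro f hf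
  obtain ⟨m, hm, rfl⟩ := h.mem_F1.mp hf
  rw [h.conj_E2 n m]
  exact h.E1_mem _

theorem wval_nm [Finite M] (w : List ℕ) : wval y r t u w ∈ Nm h.four.F := by
  apply nm_of
  intro f hf
  obtain ⟨m, hm, rfl⟩ := h.mem_F1.mp hf
  rw [h.conj_w w m]
  exact h.E1_mem _

theorem tr1 [Finite M] : ∀ s ∈ h.four.F, s ≠ 1 → ∃ n ∈ Subgroup.closure {x, y, r, t, u}, cj n h.four.F = h.four.F ∧
    s = n * (x * y) ^ 2 * n⁻¹ := by
  intro s hs0 hs
  obtain ⟨n, hn, rfl⟩ := h.mem_F1.mp hs0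
  have hn0 : n ≠ 0 := by rintro rfl; exact hs (E1_zero _ _ _ _)
  have hg : ∀ w : List ℕ, wval y r t u w ∈ Subgroup.closure {x, y, r, t, u} := by
    intro w
    induction w with
    | nil => exact Subgroup.one_mem _
    | cons i w ih =>
      refine Subgroup.mul_mem _ ?_ ih
      have hx : ∀ g ∈ ({x, y, r, t, u} : Set M), g ∈ Subgroup.closure {x, y, r, t, u} :=
        fun g hg => Subgroup.subset_closure hg
      match i with
      | 0 => exact hx t (by simp)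
      | 1 => exact hx y (by simp)
      | (j + 2) =>
        exact Subgroup.mul_mem _ (Subgroup.mul_mem _ (Subgroup.inv_mem _ (hx _ (by simp))) (hx _ (by simp)))
          (hx _ (by simp))
  refine ⟨(wval y r t u (wd n))⁻¹, Subgroup.inv_mem _ (hg _), (Nm h.four.F).inv_mem (h.wval_nm _), ?_⟩
  have h1 := h.conj_w (wd n) 1
  rw [wd_spec n hn hn0] at h1
  rw [inv_inv, ← h1, E1_one]

theorem hyp [Finite M] (hz : (x * y) ^ 2 ≠ 1) (hr : r ≠ 1) (hrz : r ≠ (x * y) ^ 2)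
    (hC : ∀ g, g * (x * y) ^ 2 = (x * y) ^ 2 * g →
      g ∈ Subgroup.closure {x, y, r, t⁻¹ * r * t, u⁻¹ * r * u}) :
    Hyp ((x * y) ^ 2) h.four.F h.swap.four.F := by
  have hz' : (y * x) ^ 2 ≠ 1 := by rw [h.yx2]; exact hz
  have hrz' : r ≠ (y * x) ^ 2 := by rw [h.yx2]; exact hrz
  have hi1 := h.indep hz hr hrz
  have hi2 := h.swap.indep hz' hr hrz'
  have hset : ({x, y, r, t⁻¹ * r * t, u⁻¹ * r * u} : Set M) = {y, x, r, u⁻¹ * r * u, t⁻¹ * r * t} := by
    ext g; simp only [Set.mem_insert_iff, Set.mem_singleton_iff]; tauto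
  have hnor : ∀ {x y r t u : M} (h : Rels x y r t u)
      (hC : ∀ g, g * (x * y) ^ 2 = (x * y) ^ 2 * g →
        g ∈ Subgroup.closure {x, y, r, t⁻¹ * r * t, u⁻¹ * r * u}),
      ∀ g, g * (x * y) ^ 2 = (x * y) ^ 2 * g → cj g h.four.F = h.four.F := by
    intro x y r t u h hC g hg
    obtain ⟨m, n, _, _, rfl⟩ := h.form (hC g hg)
    exact (Nm h.four.F).mul_mem (nm_self (h.E1_mem m)) (h.E2_nm n)
  refine
    { z1 := ?_, z2 := ?_, zne := hz, sq1 := h.four.sq, sq2 := h.swap.four.sq,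
      card1 := h.four.card_F hi1, card2 := h.swap.four.card_F hi2, nor1 := hnor h hC, nor2 := ?_,
      tr1 := ?_, tr2 := ?_, inv := ?_, pg := ?_, int := ?_, ord := ?_ }
  · have := h.E1_mem 1
    rwa [E1_one] at this
  · have h1 := h.swap.E1_mem 1
    have h2 : E1 y x r u 1 = (x * y) ^ 2 := by rw [E1_one, h.yx2]
    rw [← h2]
    exact h1
  · intro g hg
    refine hnor h.swap ?_ g ?_
    · intro g hg
      rw [h.yx2] at hg
      rw [← hset]
      exact hC g hg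
    · rw [h.yx2]; exact hg
  · intro s hs hs1
    obtain ⟨n, _, h1, h2⟩ := h.tr1 s hs hs1
    exact ⟨n, h1, h2⟩
  · intro s hs hs1
    obtain ⟨n, _, h1, h2⟩ := h.swap.tr1 s hs hs1
    rw [h.yx2] at h2
    exact ⟨n, h1, h2⟩
  · intro k hk hkk
    obtain ⟨m, n, hm, hn, rfl⟩ := h.form (hC k hk)
    rw [h.sq_form] at hkk
    have h3 := hi1 _ (actE_lt m hm n hn) hkk
    rcases (actE_spec m hm n hn).resolve_left (fun h4 => h4 h3) with h4 | h4
    · right
      rw [h.E12 h4]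
      exact h.swap.four.F.mul_mem (h.swap.E1_mem _) (h.swap.E1_mem _)
    · left
      have h5 := h.E12 (t := t) (u := u) h4
      rw [← h5]
      exact h.four.F.mul_mem (h.E1_mem _) (h.E1_mem _)
  · intro g hg
    obtain ⟨m, n, hm, hn, rfl⟩ := h.form (hC g hg)
    refine ⟨2, ?_⟩
    rw [show 2 ^ 2 = 2 + 2 by norm_num, pow_add, pow_two, h.sq_form, h.E1_mul, Nat.xor_self, E1_zero]
  · have hinj : ∀ i j : Fin 4, ([0, 1, 4, 5] : List ℕ)[i.1]'(by simpa using i.2) = ([0, 1, 4, 5] : List ℕ)[j.1]'(by simpa using j.2) → i = j := by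
      decide
    have hlt : ∀ i : Fin 4, ([0, 1, 4, 5] : List ℕ)[i.1]'(by simpa using i.2) < 16 := by decide
    have hor : ∀ i : Fin 4, (([0, 1, 4, 5] : List ℕ)[i.1]'(by simpa using i.2) = 0 ∨
      ([0, 1, 4, 5] : List ℕ)[i.1]'(by simpa using i.2) = 1 ∨ ([0, 1, 4, 5] : List ℕ)[i.1]'(by simpa using i.2) = 4 ∨
      ([0, 1, 4, 5] : List ℕ)[i.1]'(by simpa using i.2) = 5) := by decide
    let φ : Fin 4 → (h.four.F ⊓ h.swap.four.F : Subgroup M) := fun i =>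
      ⟨E1 x y r t (([0, 1, 4, 5] : List ℕ)[i.1]'(by simpa using i.2)), h.E1_mem _, by
        rw [h.E12 (u := u) (hor i)]
        exact h.swap.E1_mem _⟩
    have hφ : Function.Injective φ := by
      intro i j hij
      exact hinj i j (h.four.E_inj hi1 (hlt i) (hlt j) (congrArg Subtype.val hij))
    have := Nat.card_le_card_of_injective φ hφ
    simpa using this
  · intro w hw how
    -- image of z
    have hz1 : w⁻¹ * (x * y) ^ 2 * w ∈ h.four.F := by
      have h1 : (x * y) ^ 2 ∈ cj w h.four.F := by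
        rw [hw]
        have := h.E1_mem 1
        rwa [E1_one] at this
      exact mem_cj.mp h1
    obtain ⟨n, hn, hwn⟩ := h.mem_F1.mp hz1
    have hn0 : n ≠ 0 := by
      rintro rfl
      apply hz
      rw [E1_zero] at hwn
      have : (x * y) ^ 2 = w * (w⁻¹ * (x * y) ^ 2 * w) * w⁻¹ := by group
      rw [this, hwn]; group
    have h1 := h.conj_w (wd n) 1
    rw [wd_spec n hn hn0] at h1
    set g := wval y r t u (wd n) with hg
    have hc : (w * g⁻¹) * (x * y) ^ 2 = (x * y) ^ 2 * (w * g⁻¹) := by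
      have h2 : g⁻¹ * (x * y) ^ 2 * g = w⁻¹ * (x * y) ^ 2 * w := by
        rw [hwn, ← h1, E1_one]
      calc (w * g⁻¹) * (x * y) ^ 2 = w * (g⁻¹ * (x * y) ^ 2 * g) * g⁻¹ := by group
        _ = w * (w⁻¹ * (x * y) ^ 2 * w) * g⁻¹ := by rw [h2]
        _ = (x * y) ^ 2 * (w * g⁻¹) := by group
    obtain ⟨m, k, hm, hk, hmk⟩ := h.form (hC _ hc)
    have hw' : w = E1 x y r t m * E1 y x r u k * g := by rw [← hmk]; group
    have hconj : ∀ j, w⁻¹ * E1 x y r t j * w = E1 x y r t (actw (wd n) (actE k j)) := by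
      intro j
      rw [← h.conj_w, ← h.conj_E2, ← hg, hw']
      have h3 : (E1 x y r t m)⁻¹ * E1 x y r t j * E1 x y r t m = E1 x y r t j := by
        have h4 : (E1 x y r t m)⁻¹ = E1 x y r t m := by
          apply inv_of_sq
          rw [h.E1_mul, Nat.xor_self, E1_zero]
        rw [h4, h.E1_mul, h.E1_mul, Nat.xor_comm m j, Nat.xor_assoc, Nat.xor_self, Nat.xor_zero]
      conv_rhs => rw [← h3]
      group
    have hiter : ∀ i, (w ^ i)⁻¹ * (x * y) ^ 2 * w ^ i = E1 x y r t ((fun j => actw (wd n) (actE k j))^[i] 1) := by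
      intro i
      induction i with
      | zero => simp [E1_one]
      | succ i ih =>
        rw [Function.iterate_succ_apply', ← hconj, ← ih]
        rw [pow_succ]
        group
    have hfix : ∀ i, (fun j => actw (wd n) (actE k j))^[i] 1 = 1 → w ^ (4 * i) = 1 := by
      intro i hi
      have h2 := hiter i
      rw [hi, E1_one] at h2
      have h3 : w ^ i * (x * y) ^ 2 = (x * y) ^ 2 * w ^ i := by
        calc w ^ i * (x * y) ^ 2 = w ^ i * ((w ^ i)⁻¹ * (x * y) ^ 2 * w ^ i) := by rw [h2]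
          _ = (x * y) ^ 2 * w ^ i := by group
      obtain ⟨m', n', _, _, hmn'⟩ := h.form (hC _ h3)
      rw [mul_comm, pow_mul, hmn', show 4 = 2 + 2 by norm_num, pow_add, pow_two, h.sq_form, h.E1_mul,
        Nat.xor_self, E1_zero]
    rcases ord_spec n hn hn0 k hk with h2 | h2 | h2
    · have := orderOf_dvd_of_pow_eq_one (hfix 2 h2)
      rw [how] at this
      revert this; decide
    · have := orderOf_dvd_of_pow_eq_one (hfix 3 h2)
      rw [how] at this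
      revert this; decide
    · have := orderOf_dvd_of_pow_eq_one (hfix 5 h2)
      rw [how] at this
      revert this; decide

end Rels

end Cfsg.Agent.LargeExtra.SuzPlane
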