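import Cfsg.Agent.LargeExtra.SuzPlane

/-!
The relation `(r t u)^5 = 1` in `C_G(A₄) ≅ L₃(4)` for groups of Suzuki type: end of the proof.
-/

set_option autoImplicit false
set_option linter.unusedSectionVars false
set_option maxRecDepth 10000

namespace Cfsg.Agent.LargeExtra.SuzPlane

open Cfsg.Agent.LargeExtra.PlaneOff Cfsg.Agent.LargeExtra.ElemSixteen Cfsg.Agent.LargeExtra.SuzPlaneCert
open Cfsg.Agent.SporadicRecognition.CosetCert Cfsg.Agent.SporadicRecognition.CosetCertHyp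
open Cfsg.Agent.LargeExtra.CertLoop

variable {M : Type*} [Group M]

theorem comm_of_sq {F : Subgroup M} (hF : ∀ s ∈ F, s * s = 1) {p q : M} (hp : p ∈ F) (hq : q ∈ F) :
    p * q = q * p := by
  have h1 := inv_of_sq (hF _ (F.mul_mem hp hq))
  rw [mul_inv_rev, inv_of_sq (hF p hp), inv_of_sq (hF q hq)] at h1
  exact h1.symm

/-- the letters of the certificates -/
def gl (x y r t u : M) : ℕ → M
  | 0 => x
  | 1 => y
  | 2 => r
  | 3 => t
  | 4 => t⁻¹
  | 5 => u
  | 6 => u⁻¹
  | _ => 1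

def inv7 (x : ℕ) : ℕ := bif Nat.beq x 0 then 0 else bif Nat.beq x 1 then 1 else bif Nat.beq x 2 then 2 else bif Nat.beq x 3 then 4 else bif Nat.beq x 4 then 3 else bif Nat.beq x 5 then 6 else bif Nat.beq x 6 then 5 else x

namespace Rels

variable {x y r t u : M} (h : Rels x y r t u)
include h

theorem xbx : x * (u⁻¹ * r * u) * x = r * (u⁻¹ * r * u) := h.swap.yay

theorem hrel (j1 : (t * u) ^ 5 = 1) (j2 : (t * u⁻¹) ^ 4 = 1) : ∀ w ∈ rels, ev (gl x y r t u) w = 1 := by
  have hx := h.x2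
  have hy := h.y2
  have hr := h.r2
  have e1 : t⁻¹ * (x * y) ^ 2 * t * x = 1 := by rw [h.tz, hx]
  have e2 : u⁻¹ * (x * y) ^ 2 * u * y = 1 := by rw [h.uz, hy]
  have e3 : (t⁻¹ * x * t) * (y * x * y) = 1 := by
    rw [h.tx, h.yxy]
    calc (x * y) ^ 2 * x * ((x * y) ^ 2 * x) = (x * y) ^ 2 * (x * (x * y) ^ 2) * x := by group
      _ = (x * y) ^ 2 * (x * y) ^ 2 * (x * x) := by rw [← h.zx]; group
      _ = 1 := by rw [h.z2, hx, one_mul]
  have e4 : (u⁻¹ * y * u) * (y * x * y * x * y) = 1 := by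
    rw [h.uy]
    calc (x * y) ^ 2 * y * (y * x * y * x * y) = (x * y) ^ 2 * (y * y) * (x * y) ^ 2 := by
          rw [pow_two]; group
      _ = 1 := by rw [hy, mul_one, h.z2]
  have e5 : (x * (u⁻¹ * r * u) * x) * (u⁻¹ * r * u) * r = 1 := by
    rw [h.xbx, mul_assoc r, h.swap.a2, mul_one, hr]
  have e6 : (y * (t⁻¹ * r * t) * y) * (t⁻¹ * r * t) * r = 1 := by
    rw [h.yay, mul_assoc r, h.a2, mul_one, hr]
  have e7 : ((t⁻¹ * r * t) * (u⁻¹ * r * u)) ^ 2 * ((x * y) ^ 2 * r) = 1 := by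
    rw [h.ab]
    calc (x * y) ^ 2 * r * ((x * y) ^ 2 * r) = (x * y) ^ 2 * (r * (x * y) ^ 2) * r := by group
      _ = (x * y) ^ 2 * (x * y) ^ 2 * (r * r) := by rw [← h.zr]; group
      _ = 1 := by rw [h.z2, hr, one_mul]
  have e8 : r * x * r * x = 1 := by
    rw [h.rx, mul_assoc x, hr, mul_one, hx]
  have e9 : r * y * r * y = 1 := by
    rw [h.ry, mul_assoc y, hr, mul_one, hy]
  have f : ∀ {a b : M}, a = b → b = 1 → a = 1 := fun h1 h2 => h1.trans h2
  intro w hw
  simp only [rels, List.mem_cons, List.not_mem_nil, or_false] at hw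
  rcases hw with rfl | rfl | rfl | rfl | rfl | rfl | rfl | rfl | rfl | rfl | rfl | rfl | rfl | rfl | rfl | rfl |
    rfl | rfl <;> simp only [ev, List.map, List.prod_cons, List.prod_nil, gl, mul_one]
  · exact f (by simp only [pow_succ, pow_zero, one_mul, mul_assoc]) h.t3
  · exact f (by simp only [pow_succ, pow_zero, one_mul, mul_assoc]) h.u3
  · exact f (by simp only [pow_succ, pow_zero, one_mul, mul_assoc]) h.ty
  · exact f (by simp only [pow_succ, pow_zero, one_mul, mul_assoc]) h.ux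
  · exact f (by simp only [pow_succ, pow_zero, one_mul, mul_assoc]) e8
  · exact f (by simp only [pow_succ, pow_zero, one_mul, mul_assoc]) e9
  · exact f (by simp only [pow_succ, pow_zero, one_mul, mul_assoc]) e3
  · exact f (by simp only [pow_succ, pow_zero, one_mul, mul_assoc]) h.rt
  · exact f (by simp only [pow_succ, pow_zero, one_mul, mul_assoc]) h.ru
  · exact f (by simp only [pow_succ, pow_zero, one_mul, mul_assoc]) e1
  · exact f (by simp only [pow_succ, pow_zero, one_mul, mul_assoc]) e2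
  · exact f (by simp only [pow_succ, pow_zero, one_mul, mul_assoc]) h.xy4
  · exact f (by simp only [pow_succ, pow_zero, one_mul, mul_assoc]) e4
  · exact f (by simp only [pow_succ, pow_zero, one_mul, mul_assoc]) j2
  · exact f (by simp only [pow_succ, pow_zero, one_mul, mul_assoc]) e5
  · exact f (by simp only [pow_succ, pow_zero, one_mul, mul_assoc]) e6
  · exact f (by simp only [pow_succ, pow_zero, one_mul, mul_assoc]) j1
  · exact f (by simp only [pow_succ, pow_zero, one_mul, mul_assoc]) e7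

theorem hyp7 (C : Cert) (subw : List (List ℕ)) (hk : C.k = 7) (hinv : C.inv = inv7) (j1 : (t * u) ^ 5 = 1)
    (j2 : (t * u⁻¹) ^ 4 = 1) (H : Subgroup M) (hsub : ∀ s ∈ subw, ev (gl x y r t u) s ∈ H)
    (hchk : checkHyp C rels subw = true) : Hyp C H (gl x y r t u) := by
  refine hyp_of_checks H (gl x y r t u) C rels subw ?_ ?_ (h.hrel j1 j2) hsub hchk
  · rw [hk]; rfl
  · intro i hi
    rw [hk] at hi
    rw [hk, hinv]
    interval_cases i
    · exact ⟨by decide, h.x2⟩
    · exact ⟨by decide, h.y2⟩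
    · exact ⟨by decide, h.r2⟩
    · exact ⟨by decide, mul_inv_cancel t⟩
    · exact ⟨by decide, inv_mul_cancel t⟩
    · exact ⟨by decide, mul_inv_cancel u⟩
    · exact ⟨by decide, inv_mul_cancel u⟩


variable [Finite M]

theorem off1 (H : PlaneOff.Hyp ((x * y) ^ 2) h.four.F h.swap.four.F) :
    ¬ Inc (cj (u * t)⁻¹ h.four.F) h.swap.four.F := by
  rintro ⟨e, he, he1, he2⟩
  have hz := H.zne
  have h1 : t * e * t⁻¹ ∈ cj u⁻¹ h.four.F := by
    have := conj_mem_cj (g := t) he1
    rwa [← cj_mul, show t * (u * t)⁻¹ = u⁻¹ by group] at this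
  have h2 : t * e * t⁻¹ ∈ cj t h.swap.four.F := conj_mem_cj he2
  have h3 : t * e * t⁻¹ ≠ 1 := by
    intro h4
    apply he
    have : e = t⁻¹ * (t * e * t⁻¹) * t := by group
    rw [this, h4]; group
  obtain ⟨a, ha, ha'⟩ := H.rep1 h3 h1
  have hL : cj a h.swap.four.F = cj t h.swap.four.F := by
    refine H.uniq2 h3 ?_ h2
    rw [ha]; exact H.z_mem_cj2 a
  have hy : y ∈ cj a h.four.F := by
    rw [ha']
    have := conj_mem_cj (g := u⁻¹) H.z1
    rwa [inv_inv, h.uz] at this
  have hzx : (x * y) ^ 2 * x ∈ cj a h.swap.four.F := by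
    rw [hL, ← h.tzt]
    exact conj_mem_cj H.z2
  have hp := mem_cj.mp hy
  have hq := mem_cj.mp hzx
  set p := a⁻¹ * y * a with hpd
  set q := a⁻¹ * ((x * y) ^ 2 * x) * a with hqd
  have hqz : q * (x * y) ^ 2 = (x * y) ^ 2 * q := comm_of_sq H.sq2 hq H.z2
  have hc : p * (q * p⁻¹ * q⁻¹) ∈ h.four.F := by
    refine h.four.F.mul_mem hp ?_
    have := conj_mem_cj (g := q) (h.four.F.inv_mem hp)
    rwa [H.nor1 q hqz] at this
  have hc2 := conj_mem_cj (g := a) hc
  have hcomp : a * (p * (q * p⁻¹ * q⁻¹)) * a⁻¹ = (x * y) ^ 2 := by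
    have e1 : a * (p * (q * p⁻¹ * q⁻¹)) * a⁻¹ =
        y * ((x * y) ^ 2 * x) * y⁻¹ * ((x * y) ^ 2 * x)⁻¹ := by rw [hpd, hqd]; group
    rw [e1, mul_inv_rev, inv_of_sq h.x2, inv_of_sq h.y2, inv_of_sq h.z2]
    calc y * ((x * y) ^ 2 * x) * y * (x * (x * y) ^ 2)
        = (y * (x * y) ^ 2) * x * y * x * (x * y) ^ 2 := by group
      _ = (x * y) ^ 2 * ((y * x * y) * x) * (x * y) ^ 2 := by rw [← h.zy]; group
      _ = (x * y) ^ 2 * ((x * y) ^ 2 * (x * x)) * (x * y) ^ 2 := by rw [h.yxy]; group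
      _ = (x * y) ^ 2 := by rw [h.x2, mul_one, h.z2, one_mul]
  rw [hcomp, ha'] at hc2
  have h5 : cj u⁻¹ h.four.F = h.four.F := by
    have := H.uniq1 (g := u⁻¹) (g' := 1) hz hc2 (by rw [cj_one]; exact H.z1)
    rwa [cj_one] at this
  rw [ha', h5] at hy
  have hx : x ∈ h.four.F := by
    have := h.E1_mem 2
    rwa [E1_two] at this
  have h6 := comm_of_sq H.sq1 hx hy
  apply hz
  rw [pow_two]
  calc x * y * (x * y) = x * y * (y * x) := by rw [h6]
    _ = x * (y * y) * x := by group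
    _ = 1 := by rw [h.y2, mul_one, h.x2]

theorem off2 (H : PlaneOff.Hyp ((x * y) ^ 2) h.four.F h.swap.four.F) :
    ¬ Inc (cj (u * t * u)⁻¹ h.four.F) h.swap.four.F := by
  rintro ⟨e, he, he1, he2⟩
  apply h.off1 H
  refine ⟨u * e * u⁻¹, ?_, ?_, ?_⟩
  · intro h4
    apply he
    have : e = u⁻¹ * (u * e * u⁻¹) * u := by group
    rw [this, h4]; group
  · have := conj_mem_cj (g := u) he1
    rwa [← cj_mul, show u * (u * t * u)⁻¹ = (u * t)⁻¹ by group] at this
  · have := conj_mem_cj (g := u) he2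
    rwa [show cj u h.swap.four.F = h.swap.four.F from h.swap.t_nm] at this

theorem exists_v (H : PlaneOff.Hyp ((x * y) ^ 2) h.four.F h.swap.four.F) :
    ∃ n, n < 16 ∧ u * t * u * E1 y x r u n * (u * t)⁻¹ ∈ Nm h.four.F := by
  obtain ⟨v, hv, hv2⟩ := H.off_trans (h.off1 H) (h.off2 H)
  obtain ⟨n, hn, rfl⟩ := h.swap.mem_F1.mp hv
  refine ⟨n, hn, ?_⟩
  show cj _ _ = _
  rw [mul_assoc, cj_mul, hv2, ← cj_mul, mul_inv_cancel, cj_one]

omit [Finite M] in
theorem E1_mem_K (n : ℕ) : E1 x y r t n ∈ Subgroup.closure {x, y, r, t, u} := by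
  have hg : ∀ g ∈ ({x, y, r, t, u} : Set M), g ∈ Subgroup.closure {x, y, r, t, u} :=
    fun g hg => Subgroup.subset_closure hg
  have hx := hg x (by simp)
  have hy := hg y (by simp)
  have hr := hg r (by simp)
  have ht := hg t (by simp)
  have hb : ∀ (e : M) (i : Bool), e ∈ Subgroup.closure {x, y, r, t, u} → bp e i ∈ Subgroup.closure {x, y, r, t, u} := by
    intro e i he
    cases i
    · exact Subgroup.one_mem _
    · exact he
  exact Subgroup.mul_mem _ (Subgroup.mul_mem _ (Subgroup.mul_mem _ (hb _ _ (Subgroup.pow_mem _ (Subgroup.mul_mem _ hx hy) 2))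
    (hb _ _ hx)) (hb _ _ hr)) (hb _ _ (Subgroup.mul_mem _ (Subgroup.mul_mem _ (Subgroup.inv_mem _ ht) hr) ht))

theorem core1 (H : PlaneOff.Hyp ((x * y) ^ 2) h.four.F h.swap.four.F) {c : M} (hc : c ∈ h.four.F)
    (hc2 : ∀ m ∈ Subgroup.closure {x, y, r, t, u}, m * c * m⁻¹ ∈ Nm h.four.F) : c = 1 := by
  by_contra hne
  obtain ⟨n, hn, hn2, hn3⟩ := h.tr1 c hc hne
  have hg : ∀ g ∈ ({x, y, r, t, u} : Set M), g ∈ Subgroup.closure {x, y, r, t, u} :=
    fun g hg => Subgroup.subset_closure hg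
  have hm : u * t * n⁻¹ ∈ Subgroup.closure {x, y, r, t, u} :=
    Subgroup.mul_mem _ (Subgroup.mul_mem _ (hg u (by simp)) (hg t (by simp))) (Subgroup.inv_mem _ hn)
  have h1 := hc2 _ hm
  have h2 : u * t * n⁻¹ * c * (u * t * n⁻¹)⁻¹ = (u * t) * (x * y) ^ 2 * (u * t)⁻¹ := by
    rw [hn3]; group
  rw [h2] at h1
  have h3 : cj ((x * y) ^ 2) (cj (u * t)⁻¹ h.four.F) = cj (u * t)⁻¹ h.four.F := by
    have h4 : cj ((u * t) * (x * y) ^ 2 * (u * t)⁻¹) h.four.F = h.four.F := h1
    apply cj_inj (g := u * t)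
    rw [← cj_mul, ← cj_mul, ← cj_mul, mul_inv_cancel, cj_one]
    exact h4
  obtain ⟨a, ha, hi⟩ := H.lemA h.z2 H.zne h3
  have h5 : cj a h.swap.four.F = h.swap.four.F := by
    have := H.uniq2 (g := a) (g' := 1) H.zne ha (by rw [cj_one]; exact H.z2)
    rwa [cj_one] at this
  rw [h5] at hi
  exact h.off1 H hi

theorem core (H : PlaneOff.Hyp ((x * y) ^ 2) h.four.F h.swap.four.F)
    (hC : ∀ g, g * (x * y) ^ 2 = (x * y) ^ 2 * g →
      g ∈ Subgroup.closure {x, y, r, t⁻¹ * r * t, u⁻¹ * r * u}) {w : M}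
    (hw : ∀ m ∈ Subgroup.closure {x, y, r, t, u}, m * w * m⁻¹ ∈ Nm h.four.F) : w = 1 := by
  have hw1 : w ∈ Nm h.four.F := by
    have := hw 1 (Subgroup.one_mem _)
    simpa using this
  have hK : ∀ f ∈ h.four.F, f ∈ Subgroup.closure {x, y, r, t, u} := by
    intro f hf
    obtain ⟨n, hn, rfl⟩ := h.mem_F1.mp hf
    exact h.E1_mem_K n
  have hcomm : ∀ f ∈ h.four.F, w * f = f * w := by
    intro f hf
    have h1 : w * f * w⁻¹ * f⁻¹ ∈ h.four.F := by
      refine h.four.F.mul_mem ?_ (h.four.F.inv_mem hf)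
      have := conj_mem_cj (g := w) hf
      rwa [show cj w h.four.F = h.four.F from hw1] at this
    have h2 := h.core1 H h1 (by
      intro m hm
      have h3 := hw m hm
      have h4 := hw (m * f) (Subgroup.mul_mem _ hm (hK f hf))
      have h5 : m * (w * f * w⁻¹ * f⁻¹) * m⁻¹ = (m * w * m⁻¹) * (m * f * w * (m * f)⁻¹)⁻¹ := by group
      rw [h5]
      exact (Nm h.four.F).mul_mem h3 ((Nm h.four.F).inv_mem h4))
    have h6 : w * f * w⁻¹ = f := mul_inv_eq_one.mp h2
    exact mul_inv_eq_iff_eq_mul.mp h6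
  obtain ⟨m, n, hm, hn, hmn⟩ := h.form (hC w (hcomm _ H.z1))
  have hi := h.indep H.zne (by
    intro hr
    have h1 := H.int
    -- r = 1 contradicts card1
    have h2 : Nat.card h.four.F = 16 := H.card1
    have h3 : ∀ n, n < 16 → E1 x y r t (n &&& 3) = E1 x y r t n := by
      intro n hn
      have ha : t⁻¹ * r * t = 1 := by rw [hr]; group
      rw [E1, E1, E, E, hr]
      have k2 : ∀ b : Bool, bp (1 : M) b = 1 := by intro b; cases b <;> rfl
      have k3 : ∀ b : Bool, bp (t⁻¹ * 1 * t) b = 1 := by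
        intro b; cases b
        · rfl
        · show t⁻¹ * 1 * t = 1
          group
      rw [k2, k2, k3, k3]
      have k0 : (n &&& 3).testBit 0 = n.testBit 0 := by rw [Nat.testBit_land]; simp
      have k1 : (n &&& 3).testBit 1 = n.testBit 1 := by rw [Nat.testBit_land]; simp [Nat.testBit]
      rw [k0, k1]
    let φ : Fin 4 → h.four.F := fun i => ⟨E1 x y r t i.1, h.E1_mem _⟩
    have hφ : Function.Surjective φ := by
      rintro ⟨g, hg⟩
      obtain ⟨n, hn, rfl⟩ := h.mem_F1.mp hg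
      refine ⟨⟨n &&& 3, ?_⟩, Subtype.ext (h3 n hn)⟩
      exact lt_of_le_of_lt Nat.and_le_right (by norm_num)
    have h4 := Nat.card_le_card_of_surjective φ hφ
    rw [h2] at h4
    simp at h4) (by
    intro hr
    have h2 : Nat.card h.four.F = 16 := H.card1
    -- r = z: then a = x and E1 has at most 4 values
    have ha : t⁻¹ * r * t = x := by rw [hr]; exact h.tz
    have h3 : ∀ n, n < 16 → ∃ i : Fin 4, E1 x y r t i.1 = E1 x y r t n := by
      intro n hn
      have e4 : E1 x y r t 4 = E1 x y r t 1 := by rw [E1_four, E1_one]; exact hr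
      have e8 : E1 x y r t 8 = E1 x y r t 2 := by rw [E1_eight, E1_two]; exact ha
      have h5 : ∀ n < 16, ∃ i : Fin 4, ∃ b c : Bool, n = (i.1 ^^^ (bif b then 1 ^^^ 4 else 0)) ^^^ (bif c then 2 ^^^ 8 else 0) := by
        decide
      obtain ⟨i, b, c, hbc⟩ := h5 n hn
      refine ⟨i, ?_⟩
      have e5 : E1 x y r t (1 ^^^ 4) = 1 := by rw [← h.E1_mul, e4, h.E1_sq]
      have e10 : E1 x y r t (2 ^^^ 8) = 1 := by rw [← h.E1_mul, e8, h.E1_sq]
      have eb : E1 x y r t (bif b then 1 ^^^ 4 else 0) = 1 := by cases b; exact E1_zero _ _ _ _; exact e5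
      have ec : E1 x y r t (bif c then 2 ^^^ 8 else 0) = 1 := by cases c; exact E1_zero _ _ _ _; exact e10
      rw [hbc, ← h.E1_mul, ← h.E1_mul, eb, ec, mul_one, mul_one]
    let φ : Fin 4 → h.four.F := fun i => ⟨E1 x y r t i.1, h.E1_mem _⟩
    have hφ : Function.Surjective φ := by
      rintro ⟨g, hg⟩
      obtain ⟨n, hn, rfl⟩ := h.mem_F1.mp hg
      obtain ⟨i, hi⟩ := h3 n hn
      exact ⟨i, Subtype.ext hi⟩
    have h4 := Nat.card_le_card_of_surjective φ hφ
    rw [h2] at h4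
    simp at h4)
  have hfix : ∀ j < 16, actE n j < 16 → actE n j = j := by
    intro j hj hlt
    apply h.four.E_inj hi hlt hj
    show E1 x y r t (actE n j) = E1 x y r t j
    have h1 := hcomm _ (h.E1_mem j)
    have h2 : w⁻¹ * E1 x y r t j * w = E1 x y r t j := by
      rw [mul_assoc, ← h1]; group
    rw [← h2, hmn, ← h.conj_E2]
    have h3 : (E1 x y r t m)⁻¹ * E1 x y r t j * E1 x y r t m = E1 x y r t j := by
      rw [inv_of_sq (h.E1_sq m), h.E1_mul, h.E1_mul, Nat.xor_comm m j, Nat.xor_assoc, Nat.xor_self, Nat.xor_zero]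
    conv_lhs => rw [← h3]
    group
  have hspec : ∀ n < 16, (actE n 2 < 16 ∧ actE n 8 < 16) ∧ (actE n 2 ≠ 2 ∨ actE n 8 ≠ 8 ∨ (n = 0 ∨ n = 1 ∨ n = 4 ∨ n = 5)) := by
    decide
  obtain ⟨⟨h2, h8⟩, h9⟩ := hspec n hn
  have hn' : n = 0 ∨ n = 1 ∨ n = 4 ∨ n = 5 := by
    rcases h9 with h9 | h9 | h9
    · exact absurd (hfix 2 (by norm_num) h2) h9
    · exact absurd (hfix 8 (by norm_num) h8) h9
    · exact h9
  refine h.core1 H ?_ hw
  rw [hmn, ← h.E12 (t := t) (u := u) hn']
  exact h.four.F.mul_mem (h.E1_mem _) (h.E1_mem _)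


omit [Finite M] in
/-- the word of the certificate for the element `v` -/
theorem ev_v (n : ℕ) (hn : n < 16) : ∀ w : List ℕ,
    w = (match n with
      | 0 => []
      | 1 => [0, 1, 0, 1]
      | 2 => [1]
      | 3 => [0, 1, 0]
      | 4 => [2]
      | 5 => [0, 1, 0, 1, 2]
      | 6 => [1, 2]
      | 7 => [0, 1, 0, 2]
      | 8 => [6, 2, 5]
      | 9 => [0, 1, 0, 1, 6, 2, 5]
      | 10 => [1, 6, 2, 5]
      | 11 => [0, 1, 0, 6, 2, 5]
      | 12 => [2, 6, 2, 5]
      | 13 => [0, 1, 0, 1, 2, 6, 2, 5]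
      | 14 => [1, 2, 6, 2, 5]
      | 15 => [0, 1, 0, 2, 6, 2, 5]
      | _ => []) → ev (gl x y r t u) ([5, 3, 5] ++ w ++ [4, 6]) = u * t * u * E1 y x r u n * (u * t)⁻¹ := by
  intro w hw
  have hzy : (x * y) ^ 2 * y = x * y * x := by
    calc (x * y) ^ 2 * y = x * y * x * (y * y) := by rw [pow_two]; group
      _ = x * y * x := by rw [h.y2, mul_one]
  have hz : (x * y) ^ 2 = x * y * x * y := by rw [pow_two]; group
  have key : ev (gl x y r t u) w = E1 y x r u n := by
    subst hw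
    interval_cases n
    · rw [show E1 y x r u 0 = 1 * 1 * 1 * 1 from rfl]
      simp only [ev, List.map, List.prod_cons, List.prod_nil, gl, mul_one, one_mul]
    · rw [show E1 y x r u 1 = (y * x) ^ 2 * 1 * 1 * 1 from rfl]
      simp only [ev, List.map, List.prod_cons, List.prod_nil, gl, mul_one, one_mul]
      rw [h.yx2, hz]
      try group
    · rw [show E1 y x r u 2 = 1 * y * 1 * 1 from rfl]
      simp only [ev, List.map, List.prod_cons, List.prod_nil, gl, mul_one, one_mul]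
    · rw [show E1 y x r u 3 = (y * x) ^ 2 * y * 1 * 1 from rfl]
      simp only [ev, List.map, List.prod_cons, List.prod_nil, gl, mul_one, one_mul]
      rw [h.yx2, hzy]
      try group
    · rw [show E1 y x r u 4 = 1 * 1 * r * 1 from rfl]
      simp only [ev, List.map, List.prod_cons, List.prod_nil, gl, mul_one, one_mul]
    · rw [show E1 y x r u 5 = (y * x) ^ 2 * 1 * r * 1 from rfl]
      simp only [ev, List.map, List.prod_cons, List.prod_nil, gl, mul_one, one_mul]
      rw [h.yx2, hz]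
      try group
    · rw [show E1 y x r u 6 = 1 * y * r * 1 from rfl]
      simp only [ev, List.map, List.prod_cons, List.prod_nil, gl, mul_one, one_mul]
    · rw [show E1 y x r u 7 = (y * x) ^ 2 * y * r * 1 from rfl]
      simp only [ev, List.map, List.prod_cons, List.prod_nil, gl, mul_one, one_mul]
      rw [h.yx2, hzy]
      try group
    · rw [show E1 y x r u 8 = 1 * 1 * 1 * (u⁻¹ * r * u) from rfl]
      simp only [ev, List.map, List.prod_cons, List.prod_nil, gl, mul_one, one_mul]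
      try group
    · rw [show E1 y x r u 9 = (y * x) ^ 2 * 1 * 1 * (u⁻¹ * r * u) from rfl]
      simp only [ev, List.map, List.prod_cons, List.prod_nil, gl, mul_one, one_mul]
      rw [h.yx2, hz]
      try group
    · rw [show E1 y x r u 10 = 1 * y * 1 * (u⁻¹ * r * u) from rfl]
      simp only [ev, List.map, List.prod_cons, List.prod_nil, gl, mul_one, one_mul]
      try group
    · rw [show E1 y x r u 11 = (y * x) ^ 2 * y * 1 * (u⁻¹ * r * u) from rfl]
      simp only [ev, List.map, List.prod_cons, List.prod_nil, gl, mul_one, one_mul]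
      rw [h.yx2, hzy]
      try group
    · rw [show E1 y x r u 12 = 1 * 1 * r * (u⁻¹ * r * u) from rfl]
      simp only [ev, List.map, List.prod_cons, List.prod_nil, gl, mul_one, one_mul]
      try group
    · rw [show E1 y x r u 13 = (y * x) ^ 2 * 1 * r * (u⁻¹ * r * u) from rfl]
      simp only [ev, List.map, List.prod_cons, List.prod_nil, gl, mul_one, one_mul]
      rw [h.yx2, hz]
      try group
    · rw [show E1 y x r u 14 = 1 * y * r * (u⁻¹ * r * u) from rfl]
      simp only [ev, List.map, List.prod_cons, List.prod_nil, gl, mul_one, one_mul]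
      try group
    · rw [show E1 y x r u 15 = (y * x) ^ 2 * y * r * (u⁻¹ * r * u) from rfl]
      simp only [ev, List.map, List.prod_cons, List.prod_nil, gl, mul_one, one_mul]
      rw [h.yx2, hzy]
      try group
  rw [ev_append, ev_append, key]
  simp only [ev, List.map, List.prod_cons, List.prod_nil, gl, mul_one]
  group

theorem u_not (H : PlaneOff.Hyp ((x * y) ^ 2) h.four.F h.swap.four.F) : u ∉ Nm h.four.F := by
  intro hu
  have h5 : cj u⁻¹ h.four.F = h.four.F := (Nm h.four.F).inv_mem hu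
  have hy : y ∈ h.four.F := by
    have := conj_mem_cj (g := u⁻¹) H.z1
    rwa [inv_inv, h.uz, h5] at this
  have hx : x ∈ h.four.F := by
    have := h.E1_mem 2
    rwa [E1_two] at this
  have h6 := comm_of_sq H.sq1 hx hy
  apply H.zne
  rw [pow_two]
  calc x * y * (x * y) = x * y * (y * x) := by rw [h6]
    _ = x * (y * y) * x := by group
    _ = 1 := by rw [h.y2, mul_one, h.x2]

theorem hsub {n : ℕ} (hn : n < 16) {w : List ℕ} (hw : w = (match n with
      | 0 => []
      | 1 => [0, 1, 0, 1]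
      | 2 => [1]
      | 3 => [0, 1, 0]
      | 4 => [2]
      | 5 => [0, 1, 0, 1, 2]
      | 6 => [1, 2]
      | 7 => [0, 1, 0, 2]
      | 8 => [6, 2, 5]
      | 9 => [0, 1, 0, 1, 6, 2, 5]
      | 10 => [1, 6, 2, 5]
      | 11 => [0, 1, 0, 6, 2, 5]
      | 12 => [2, 6, 2, 5]
      | 13 => [0, 1, 0, 1, 2, 6, 2, 5]
      | 14 => [1, 2, 6, 2, 5]
      | 15 => [0, 1, 0, 2, 6, 2, 5]
      | _ => [])) (hv : u * t * u * E1 y x r u n * (u * t)⁻¹ ∈ Nm h.four.F) :
    ∀ s ∈ ([[0], [1], [2], [4, 2, 3], [6, 2, 5], [3], [4], [5, 3, 5] ++ w ++ [4, 6]] : List (List ℕ)),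
      ev (gl x y r t u) s ∈ Nm h.four.F := by
  intro s hs
  simp only [List.mem_cons, List.not_mem_nil, or_false] at hs
  rcases hs with rfl | rfl | rfl | rfl | rfl | rfl | rfl | rfl
  · have := nm_self (h.E1_mem 2)
    rw [E1_two] at this
    simpa [ev, gl] using this
  · have := h.E2_nm 2
    rw [E1_two] at this
    simpa [ev, gl] using this
  · have := nm_self (h.E1_mem 4)
    rw [E1_four] at this
    simpa [ev, gl] using this
  · have := nm_self (h.E1_mem 8)
    rw [E1_eight] at this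
    simpa [ev, gl, mul_assoc] using this
  · have := h.E2_nm 8
    rw [E1_eight] at this
    simpa [ev, gl, mul_assoc] using this
  · simpa [ev, gl] using h.t_nm
  · simpa [ev, gl] using h.t_nm
  · rw [h.ev_v n hn w hw]; exact hv

omit h [Finite M] in
theorem closure_le (C : Cert) (hk : C.k = 7) :
    Subgroup.closure {x, y, r, t, u} ≤ Subgroup.closure (gl x y r t u '' {i | i < C.k}) := by
  rw [Subgroup.closure_le]
  intro g hg
  simp only [Set.mem_insert_iff, Set.mem_singleton_iff] at hg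
  rw [hk]
  rcases hg with rfl | rfl | rfl | rfl | rfl
  · exact Subgroup.subset_closure ⟨0, by simp, rfl⟩
  · exact Subgroup.subset_closure ⟨1, by simp, rfl⟩
  · exact Subgroup.subset_closure ⟨2, by simp, rfl⟩
  · exact Subgroup.subset_closure ⟨3, by simp, rfl⟩
  · exact Subgroup.subset_closure ⟨5, by simp, rfl⟩

theorem collapse (H : PlaneOff.Hyp ((x * y) ^ 2) h.four.F h.swap.four.F) (C : Cert) (subw : List (List ℕ))
    (hk : C.k = 7) (hinv : C.inv = inv7) (hchk : checkHyp C rels subw = true) (hP : Part C 0 C.N 1)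
    (j1 : (t * u) ^ 5 = 1) (j2 : (t * u⁻¹) ^ 4 = 1)
    (hsub : ∀ s ∈ subw, ev (gl x y r t u) s ∈ Nm h.four.F) : False := by
  have h1 := h.hyp7 C subw hk hinv j1 j2 (Nm h.four.F) hsub hchk
  refine h.u_not H (mem_of_one C (Nm h.four.F) (gl x y r t u) h1 hP u ?_)
  exact closure_le C hk (Subgroup.subset_closure (by simp))

theorem loop (H : PlaneOff.Hyp ((x * y) ^ 2) h.four.F h.swap.four.F)
    (hC : ∀ g, g * (x * y) ^ 2 = (x * y) ^ 2 * g →
      g ∈ Subgroup.closure {x, y, r, t⁻¹ * r * t, u⁻¹ * r * u}) (C : Cert) (subw : List (List ℕ))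
    (hk : C.k = 7) (hinv : C.inv = inv7) (hchk : checkHyp C rels subw = true) {k : ℕ} (hP : Part C 0 C.N k)
    (j1 : (t * u) ^ 5 = 1) (j2 : (t * u⁻¹) ^ 4 = 1)
    (hsub : ∀ s ∈ subw, ev (gl x y r t u) s ∈ Nm h.four.F) {τ : ℕ} {w : List ℕ} (hw : loopOK C τ w = true) :
    ev (gl x y r t u) w = 1 := by
  have h1 := h.hyp7 C subw hk hinv j1 j2 (Nm h.four.F) hsub hchk
  refine h.core H hC ?_
  intro m hm
  exact mem_of_loopOK C (Nm h.four.F) (gl x y r t u) h1 hP hw m (closure_le C hk hm)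

end Rels

theorem loop12a : loopOK K12.C (K12.C.mask - 1) [2,3,5,2,3,5,2,3,5,2,3,5,2,3,5] = true := by decide +kernel
theorem loop12b : loopOK K12.C (K12.C.mask - 1) [2,3,6,2,3,6,2,3,6,2,3,6,2,3,6] = true := by decide +kernel
theorem loop15a : loopOK K15.C (K15.C.mask - 1) [0,1,0,1,2,3,5,0,1,0,1,2,3,5,0,1,0,1,2,3,5,0,1,0,1,2,3,5,0,1,0,1,2,3,5] = true := by
  decide +kernel
theorem loop15b : loopOK K15.C (K15.C.mask - 1) [0,1,0,1,2,3,6,0,1,0,1,2,3,6,0,1,0,1,2,3,6,0,1,0,1,2,3,6,0,1,0,1,2,3,6] = true := by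
  decide +kernel

/-- **The relation `(r t u)^5 = 1`** (for `r` or for `z r`). -/
theorem main [Finite M] {x y r t u : M} (h : Rels x y r t u) (hz : (x * y) ^ 2 ≠ 1) (hr : r ≠ 1)
    (hrz : r ≠ (x * y) ^ 2)
    (hC : ∀ g, g * (x * y) ^ 2 = (x * y) ^ 2 * g →
      g ∈ Subgroup.closure {x, y, r, t⁻¹ * r * t, u⁻¹ * r * u})
    (j1 : (t * u) ^ 5 = 1) (j2 : (t * u⁻¹) ^ 4 = 1) :
    ((r * t * u) ^ 5 = 1 ∧ (r * t * u⁻¹) ^ 5 = 1) ∨
    (((x * y) ^ 2 * r * t * u) ^ 5 = 1 ∧ ((x * y) ^ 2 * r * t * u⁻¹) ^ 5 = 1) := by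
  have H := h.hyp hz hr hrz hC
  obtain ⟨n, hn, hv⟩ := h.exists_v H
  have hsub := h.hsub hn rfl hv
  interval_cases n
  · exact (h.collapse H K0.C K0.subw rfl rfl K0.check K0.part j1 j2 hsub).elim
  · exact (h.collapse H K1.C K1.subw rfl rfl K1.check K1.part j1 j2 hsub).elim
  · exact (h.collapse H K2.C K2.subw rfl rfl K2.check K2.part j1 j2 hsub).elim
  · exact (h.collapse H K3.C K3.subw rfl rfl K3.check K3.part j1 j2 hsub).elim
  · exact (h.collapse H K4.C K4.subw rfl rfl K4.check K4.part j1 j2 hsub).elim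
  · exact (h.collapse H K5.C K5.subw rfl rfl K5.check K5.part j1 j2 hsub).elim
  · exact (h.collapse H K6.C K6.subw rfl rfl K6.check K6.part j1 j2 hsub).elim
  · exact (h.collapse H K7.C K7.subw rfl rfl K7.check K7.part j1 j2 hsub).elim
  · refine (h.collapse H K8.C K8.subw rfl rfl K8.check K8.part j1 j2 ?_).elim
    intro s hs
    simp only [K8.subw, List.mem_cons, List.not_mem_nil, or_false] at hs
    rcases hs with rfl | rfl | rfl | rfl | rfl | rfl | rfl | rfl
    · exact hsub _ (by simp)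
    · exact hsub _ (by simp)
    · exact hsub _ (by simp)
    · exact hsub _ (by simp)
    · exact hsub _ (by simp)
    · exact hsub _ (by simp)
    · exact hsub _ (by simp)
    · have h1 := hsub [5, 3, 5, 6, 2, 5, 4, 6] (by simp)
      have h2 : ev (gl x y r t u) [5, 3, 5, 6, 2, 5, 4, 6] = ev (gl x y r t u) [5, 3, 2, 5, 4, 6] := by
        simp only [ev, List.map, List.prod_cons, List.prod_nil, gl, mul_one]
        group
      rwa [h2] at h1
  · exact (h.collapse H K9.C K9.subw rfl rfl K9.check K9.part j1 j2 hsub).elim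
  · exact (h.collapse H K10.C K10.subw rfl rfl K10.check K10.part j1 j2 hsub).elim
  · exact (h.collapse H K11.C K11.subw rfl rfl K11.check K11.part j1 j2 hsub).elim
  · left
    have e1 := h.loop H hC K12.C K12.subw rfl rfl K12.check K12.part j1 j2 hsub loop12a
    have e2 := h.loop H hC K12.C K12.subw rfl rfl K12.check K12.part j1 j2 hsub loop12b
    simp only [ev, List.map, List.prod_cons, List.prod_nil, gl, mul_one] at e1 e2
    constructor
    · rw [← e1]; simp only [pow_succ, pow_zero, one_mul, mul_assoc]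
    · rw [← e2]; simp only [pow_succ, pow_zero, one_mul, mul_assoc]
  · exact (h.collapse H K13.C K13.subw rfl rfl K13.check K13.part j1 j2 hsub).elim
  · exact (h.collapse H K14.C K14.subw rfl rfl K14.check K14.part j1 j2 hsub).elim
  · right
    have e1 := h.loop H hC K15.C K15.subw rfl rfl K15.check K15.part j1 j2 hsub loop15a
    have e2 := h.loop H hC K15.C K15.subw rfl rfl K15.check K15.part j1 j2 hsub loop15b
    simp only [ev, List.map, List.prod_cons, List.prod_nil, gl, mul_one] at e1 e2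
    constructor
    · rw [← e1]; simp only [pow_succ, pow_zero, one_mul, mul_assoc]
    · rw [← e2]; simp only [pow_succ, pow_zero, one_mul, mul_assoc]

end Cfsg.Agent.LargeExtra.SuzPlane
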