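import Cfsg.Agent.LargeExtra.SuzPlaneMain

/-!
All relations of `L₃(4)` in the letters `x, y, r, t, u` : each word which fixes the 21 points of the certificate `K12`
is trivial (for `r` or for `z r`).
-/

set_option autoImplicit false
set_option linter.unusedSectionVars false
set_option maxRecDepth 10000

namespace Cfsg.Agent.LargeExtra.SuzPlaneWords

open Cfsg.Agent.LargeExtra.PlaneOff Cfsg.Agent.LargeExtra.ElemSixteen Cfsg.Agent.LargeExtra.SuzPlaneCert
open Cfsg.Agent.SporadicRecognition.CosetCert Cfsg.Agent.SporadicRecognition.CosetCertHyp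
open Cfsg.Agent.LargeExtra.CertLoop Cfsg.Agent.LargeExtra.SuzPlane

variable {M : Type*} [Group M] {x y r t u : M}

/-- the symmetry `r ↦ z r` -/
theorem twist (h : Rels x y r t u) : Rels x y ((x * y) ^ 2 * r) t u := by
  have hz := h.z2
  have hzr := h.zr
  have hsq : (x * y) ^ 2 * r * ((x * y) ^ 2 * r) = 1 := by
    calc (x * y) ^ 2 * r * ((x * y) ^ 2 * r) = (x * y) ^ 2 * (r * (x * y) ^ 2) * r := by group
      _ = (x * y) ^ 2 * (x * y) ^ 2 * (r * r) := by rw [← hzr]; group
      _ = 1 := by rw [hz, h.r2, one_mul]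
  -- cubes: (r' t)^3 = 1 where r' = z r
  have key : ∀ {x y r t u : M}, Rels x y r t u → ((x * y) ^ 2 * r * t) ^ 3 = 1 := by
    intro x y r t u h
    have hz := h.z2
    have hzr := h.zr
    have e1 : t * ((x * y) ^ 2 * r) * t⁻¹ = ((x * y) ^ 2 * x) * (r * (t⁻¹ * r * t)) := by
      calc t * ((x * y) ^ 2 * r) * t⁻¹ = (t * (x * y) ^ 2 * t⁻¹) * (t * r * t⁻¹) := by group
        _ = _ := by rw [h.tzt, h.trt]
    have e2 : t⁻¹ * ((x * y) ^ 2 * r) * t = x * (t⁻¹ * r * t) := by
      calc t⁻¹ * ((x * y) ^ 2 * r) * t = (t⁻¹ * (x * y) ^ 2 * t) * (t⁻¹ * r * t) := by group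
        _ = _ := by rw [h.tz]
    have ht3 : t ^ 2 = t⁻¹ := by
      apply eq_inv_of_mul_eq_one_left
      rw [← pow_succ]; exact h.t3
    have e3 : ((x * y) ^ 2 * r * t) ^ 3 =
        ((x * y) ^ 2 * r) * (t * ((x * y) ^ 2 * r) * t⁻¹) * (t ^ 2 * ((x * y) ^ 2 * r) * t) := by
      rw [pow_succ, pow_two]; group
    rw [e3, ht3, e1, e2]
    have hxa := h.xa
    have hra := h.ra
    have hza := h.za
    have hzx := h.zx
    have hrx := h.rx
    calc (x * y) ^ 2 * r * ((x * y) ^ 2 * x * (r * (t⁻¹ * r * t))) * (x * (t⁻¹ * r * t))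
        = (x * y) ^ 2 * (r * (x * y) ^ 2) * x * r * ((t⁻¹ * r * t) * x) * (t⁻¹ * r * t) := by group
      _ = (x * y) ^ 2 * (x * y) ^ 2 * r * x * r * x * ((t⁻¹ * r * t) * (t⁻¹ * r * t)) := by
          rw [← hzr, ← hxa]; group
      _ = (r * x) * r * x := by rw [hz, h.a2]; group
      _ = 1 := by rw [hrx, mul_assoc x, h.r2, mul_one, h.x2]
  refine
    { x2 := h.x2, y2 := h.y2, r2 := hsq, xy4 := h.xy4, t3 := h.t3, u3 := h.u3, tz := h.tz, tx := h.tx, ty := h.ty,
      uz := h.uz, uy := h.uy, ux := h.ux, rx := ?_, ry := ?_, rt := key h, ru := ?_, ab := ?_ }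
  · rw [mul_assoc, h.rx, ← mul_assoc, h.zx, mul_assoc]
  · rw [mul_assoc, h.ry, ← mul_assoc, h.zy, mul_assoc]
  · have := key h.swap
    rw [h.yx2] at this
    exact this
  · have e1 : t⁻¹ * ((x * y) ^ 2 * r) * t = x * (t⁻¹ * r * t) := by
      calc t⁻¹ * ((x * y) ^ 2 * r) * t = (t⁻¹ * (x * y) ^ 2 * t) * (t⁻¹ * r * t) := by group
        _ = _ := by rw [h.tz]
    have e2 : u⁻¹ * ((x * y) ^ 2 * r) * u = y * (u⁻¹ * r * u) := by
      calc u⁻¹ * ((x * y) ^ 2 * r) * u = (u⁻¹ * (x * y) ^ 2 * u) * (u⁻¹ * r * u) := by group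
        _ = _ := by rw [h.uz]
    rw [e1, e2]
    have hb := h.swap.a2
    have hya := h.yay
    have hbxb := h.bxb
    have hbab := h.bab
    have hyb : y * (u⁻¹ * r * u) = (u⁻¹ * r * u) * y := h.swap.xa
    have hxbx := h.xbx
    have hrb : r * (u⁻¹ * r * u) = (u⁻¹ * r * u) * r := h.swap.ra
    have hxa := h.xa
    have hzy := h.zy
    have hzx := h.zx
    have hzr := h.zr
    have hzb : (x * y) ^ 2 * (u⁻¹ * r * u) = (u⁻¹ * r * u) * (x * y) ^ 2 := by
      have := h.swap.za
      rwa [h.yx2] at this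
    have hyxy := h.yxy
    have hab := h.ab
    generalize u⁻¹ * r * u = b at *
    generalize ha0 : t⁻¹ * r * t = a at *
    -- (x a y b)^2 = z (z r)
    have hay : a * y = y * (r * a) := by
      have : y * (y * a * y) = y * (r * a) := by rw [hya]
      calc a * y = (y * y) * a * y := by rw [h.y2, one_mul]
        _ = y * (y * a * y) := by group
        _ = y * (r * a) := this
    have hbx : b * x = x * r * b := by
      calc b * x = b * x * (b * b) := by rw [hb, mul_one]
        _ = (b * x * b) * b := by group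
        _ = x * r * b := by rw [hbxb]
    have hba : b * a = (x * y) ^ 2 * r * a * b := by
      calc b * a = b * a * (b * b) := by rw [hb, mul_one]
        _ = (b * a * b) * b := by group
        _ = (x * y) ^ 2 * r * a * b := by rw [hbab]
    have hra : r * a = a * r := by
      have := h.ra
      rwa [ha0] at this
    have hza : (x * y) ^ 2 * a = a * (x * y) ^ 2 := by
      have := h.za
      rwa [ha0] at this
    have ha2 : a * a = 1 := by
      have := h.a2
      rwa [ha0] at this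
    have hyx : y * x = (x * y) ^ 2 * x * y := by
      calc y * x = y * x * (y * y) := by rw [h.y2, mul_one]
        _ = (y * x * y) * y := by group
        _ = (x * y) ^ 2 * x * y := by rw [hyxy]
    generalize hzd : (x * y) ^ 2 = z at *
    have hr2 := h.r2
    have hx2 := h.x2
    have hy2 := h.y2
    have hrx := h.rx
    have hry := h.ry
    calc (x * a * (y * b)) ^ 2 = x * (a * y) * b * x * a * y * b := by rw [pow_two]; group
      _ = x * (y * (r * a)) * (b * x) * a * y * b := by rw [hay]; group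
      _ = x * y * r * (a * x) * r * (b * a) * y * b := by rw [hbx]; group
      _ = x * y * r * x * a * (r * z) * r * a * (b * y) * b := by rw [← hxa, hba]; group
      _ = x * y * r * x * a * z * (r * r) * a * y * (b * b) := by rw [← hzr, ← hyb]; group
      _ = x * y * r * x * (a * z) * a * y := by rw [hr2, hb]; group
      _ = x * y * r * x * z * (a * a) * y := by rw [← hza]; group
      _ = x * y * (r * x) * z * y := by rw [ha2]; group
      _ = x * (y * x) * r * (z * y) := by rw [hrx]; group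
      _ = x * z * x * y * (r * y) * z := by rw [hyx, hzy]; group
      _ = (z * x) * x * y * y * r * z := by rw [hry, hzx]; group
      _ = z * (x * x) * (y * y) * (r * z) := by group
      _ = z * (z * r) := by rw [hx2, hy2, ← hzr]; group

theorem rhs (h : Rels x y r t u) (hr : r ≠ 1) (hrz : r ≠ (x * y) ^ 2) :
    (x * y) ^ 2 * r ≠ 1 ∧ (x * y) ^ 2 * r ≠ (x * y) ^ 2 := by
  constructor
  · intro h1
    apply hrz
    rw [← inv_of_sq h.z2]
    exact (inv_eq_of_mul_eq_one_right h1).symm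
  · intro h1
    exact hr (mul_eq_left.mp h1)

theorem conj_zr (h : Rels x y r t u) : t⁻¹ * ((x * y) ^ 2 * r) * t = x * (t⁻¹ * r * t) := by
  calc t⁻¹ * ((x * y) ^ 2 * r) * t = (t⁻¹ * (x * y) ^ 2 * t) * (t⁻¹ * r * t) := by group
    _ = _ := by rw [h.tz]

theorem conj_zr' (h : Rels x y r t u) : u⁻¹ * ((x * y) ^ 2 * r) * u = y * (u⁻¹ * r * u) := by
  calc u⁻¹ * ((x * y) ^ 2 * r) * u = (u⁻¹ * (x * y) ^ 2 * u) * (u⁻¹ * r * u) := by group
    _ = _ := by rw [h.uz]

theorem hC_twist (h : Rels x y r t u)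
    (hC : ∀ g, g * (x * y) ^ 2 = (x * y) ^ 2 * g →
      g ∈ Subgroup.closure {x, y, r, t⁻¹ * r * t, u⁻¹ * r * u}) :
    ∀ g, g * (x * y) ^ 2 = (x * y) ^ 2 * g →
      g ∈ Subgroup.closure {x, y, (x * y) ^ 2 * r, t⁻¹ * ((x * y) ^ 2 * r) * t, u⁻¹ * ((x * y) ^ 2 * r) * u} := by
  intro g hg
  have hx : ∀ g ∈ ({x, y, (x * y) ^ 2 * r, t⁻¹ * ((x * y) ^ 2 * r) * t, u⁻¹ * ((x * y) ^ 2 * r) * u} : Set M),
      g ∈ Subgroup.closure {x, y, (x * y) ^ 2 * r, t⁻¹ * ((x * y) ^ 2 * r) * t, u⁻¹ * ((x * y) ^ 2 * r) * u} :=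
    fun g hg => Subgroup.subset_closure hg
  have mx := hx x (by simp)
  have my := hx y (by simp)
  have m3 := hx ((x * y) ^ 2 * r) (by simp)
  have m4 := hx (t⁻¹ * ((x * y) ^ 2 * r) * t) (by simp)
  have m5 := hx (u⁻¹ * ((x * y) ^ 2 * r) * u) (by simp)
  have mz := Subgroup.pow_mem _ (Subgroup.mul_mem _ mx my) 2
  refine (Subgroup.closure_le _).mpr ?_ (hC g hg)
  intro k hk
  simp only [Set.mem_insert_iff, Set.mem_singleton_iff] at hk
  rcases hk with hk | hk | hk | hk | hk
  · rw [hk]; exact mx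
  · rw [hk]; exact my
  · have : k = ((x * y) ^ 2)⁻¹ * ((x * y) ^ 2 * r) := by rw [hk]; group
    rw [this]
    exact Subgroup.mul_mem _ (Subgroup.inv_mem _ mz) m3
  · have : k = x⁻¹ * (t⁻¹ * ((x * y) ^ 2 * r) * t) := by rw [hk, conj_zr h]; group
    rw [this]
    exact Subgroup.mul_mem _ (Subgroup.inv_mem _ mx) m4
  · have : k = y⁻¹ * (u⁻¹ * ((x * y) ^ 2 * r) * u) := by rw [hk, conj_zr' h]; group
    rw [this]
    exact Subgroup.mul_mem _ (Subgroup.inv_mem _ my) m5

theorem F_twist [Finite M] (h : Rels x y r t u) (h' : Rels x y ((x * y) ^ 2 * r) t u)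
    (hz : (x * y) ^ 2 ≠ 1) (hr : r ≠ 1) (hrz : r ≠ (x * y) ^ 2) : h'.four.F = h.four.F := by
  obtain ⟨h1, h2⟩ := rhs h hr hrz
  have hle : h'.four.F ≤ h.four.F := by
    intro g hg
    obtain ⟨n, hn, rfl⟩ := h'.mem_F1.mp hg
    have e0 := h.E1_mem 1
    have e1 := h.E1_mem 2
    have e2 := h.E1_mem 4
    have e3 := h.E1_mem 8
    rw [E1_one] at e0
    rw [E1_two] at e1
    rw [E1_four] at e2
    rw [E1_eight] at e3
    have hb : ∀ (e : M) (i : Bool), e ∈ h.four.F → bp e i ∈ h.four.F := by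
      intro e i he
      cases i
      · exact h.four.F.one_mem
      · exact he
    refine h.four.F.mul_mem (h.four.F.mul_mem (h.four.F.mul_mem (hb _ _ e0) (hb _ _ e1))
      (hb _ _ (h.four.F.mul_mem e0 e2))) (hb _ _ ?_)
    rw [conj_zr h]
    exact h.four.F.mul_mem e1 e3
  refine Subgroup.eq_of_le_of_card_ge hle ?_
  rw [h'.four.card_F (h'.indep hz h1 h2), h.four.card_F (h.indep hz hr hrz)]

/-- **All relations of `L₃(4)` hold, for `r` or for `z r`.** -/
theorem words [Finite M] (h : Rels x y r t u) (hz : (x * y) ^ 2 ≠ 1) (hr : r ≠ 1)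
    (hrz : r ≠ (x * y) ^ 2)
    (hC : ∀ g, g * (x * y) ^ 2 = (x * y) ^ 2 * g →
      g ∈ Subgroup.closure {x, y, r, t⁻¹ * r * t, u⁻¹ * r * u})
    (j1 : (t * u) ^ 5 = 1) (j2 : (t * u⁻¹) ^ 4 = 1) :
    ∃ r', (r' = r ∨ r' = (x * y) ^ 2 * r) ∧ Rels x y r' t u ∧
      ∀ w : List ℕ, loopOK K12.C (K12.C.mask - 1) w = true → ev (gl x y r' t u) w = 1 := by
  have H := h.hyp hz hr hrz hC
  obtain ⟨n, hn, hv⟩ := h.exists_v H
  have hsub := h.hsub hn rfl hv
  by_cases h12 : n = 12
  · subst h12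
    exact ⟨r, Or.inl rfl, h, fun w hw => h.loop H hC K12.C K12.subw rfl rfl K12.check K12.part j1 j2 hsub hw⟩
  by_cases h15 : n = 15
  · subst h15
    have h' := twist h
    obtain ⟨hr', hrz'⟩ := rhs h hr hrz
    have hC' := hC_twist h hC
    have H' := h'.hyp hz hr' hrz' hC'
    have hF := F_twist h h' hz hr hrz
    have hv' : u * t * u * E1 y x ((x * y) ^ 2 * r) u 12 * (u * t)⁻¹ ∈ Nm h'.four.F := by
      rw [hF]
      have e1 : E1 y x ((x * y) ^ 2 * r) u 12 = E1 y x r u 15 := by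
        rw [show E1 y x ((x * y) ^ 2 * r) u 12 = 1 * 1 * ((x * y) ^ 2 * r) * (u⁻¹ * ((x * y) ^ 2 * r) * u) from rfl,
          show E1 y x r u 15 = (y * x) ^ 2 * y * r * (u⁻¹ * r * u) from rfl, conj_zr' h, h.yx2, mul_one, one_mul]
        calc (x * y) ^ 2 * r * (y * (u⁻¹ * r * u)) = (x * y) ^ 2 * (r * y) * (u⁻¹ * r * u) := by group
          _ = (x * y) ^ 2 * (y * r) * (u⁻¹ * r * u) := by rw [h.ry]
          _ = _ := by group
      rw [e1]
      exact hv
    have hsub' := h'.hsub (by norm_num) rfl hv'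
    exact ⟨_, Or.inr rfl, h', fun w hw => h'.loop H' hC' K12.C K12.subw rfl rfl K12.check K12.part j1 j2 hsub' hw⟩
  · exfalso
    interval_cases n
    · exact h.collapse H K0.C K0.subw rfl rfl K0.check K0.part j1 j2 hsub
    · exact h.collapse H K1.C K1.subw rfl rfl K1.check K1.part j1 j2 hsub
    · exact h.collapse H K2.C K2.subw rfl rfl K2.check K2.part j1 j2 hsub
    · exact h.collapse H K3.C K3.subw rfl rfl K3.check K3.part j1 j2 hsub
    · exact h.collapse H K4.C K4.subw rfl rfl K4.check K4.part j1 j2 hsub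
    · exact h.collapse H K5.C K5.subw rfl rfl K5.check K5.part j1 j2 hsub
    · exact h.collapse H K6.C K6.subw rfl rfl K6.check K6.part j1 j2 hsub
    · exact h.collapse H K7.C K7.subw rfl rfl K7.check K7.part j1 j2 hsub
    · refine (h.collapse H K8.C K8.subw rfl rfl K8.check K8.part j1 j2 ?_).elim
      intro s hs
      simp only [K8.subw, List.mem_cons, List.not_mem_nil, or_false] at hs
      rcases hs with rfl | rfl | rfl | rfl | rfl | rfl | rfl | rfl
      · exact hsub _ (by simp)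
      · exact hsub _ (by simp)
      · exact hsub _ (by simp)
      · exact hsub _ (by simp)
      · exact hsub _ (by simp)
      · exact hsub _ (by simp)
      · exact hsub _ (by simp)
      · have h1 := hsub [5, 3, 5, 6, 2, 5, 4, 6] (by simp)
        have h2 : ev (gl x y r t u) [5, 3, 5, 6, 2, 5, 4, 6] = ev (gl x y r t u) [5, 3, 2, 5, 4, 6] := by
          simp only [ev, List.map, List.prod_cons, List.prod_nil, gl, mul_one]
          group
        rwa [h2] at h1
    · exact h.collapse H K9.C K9.subw rfl rfl K9.check K9.part j1 j2 hsub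
    · exact h.collapse H K10.C K10.subw rfl rfl K10.check K10.part j1 j2 hsub
    · exact h.collapse H K11.C K11.subw rfl rfl K11.check K11.part j1 j2 hsub
    · exact h12 rfl
    · exact h.collapse H K13.C K13.subw rfl rfl K13.check K13.part j1 j2 hsub
    · exact h.collapse H K14.C K14.subw rfl rfl K14.check K14.part j1 j2 hsub
    · exact h15 rfl

end Cfsg.Agent.LargeExtra.SuzPlaneWords
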