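import Cfsg.Agent.LargeExtra.TwoCentral
import Cfsg.Agent.LargeExtra.Local
import Cfsg.Agent.ClassicalGeometry.TwoFamilies

/-!
# Two complementary totally singular 3-spaces swapped by `C_G(z)` (helper805)

Linear algebra for the kill of `PGL₂(7)` (S1762, II-c2).
-/

set_option autoImplicit false
set_option linter.style.haveILetI false

namespace Cfsg.Agent.LargeExtra.SwapBasic

open Cfsg.Agent.Co2Type.Quad Cfsg.Agent.LargeExtra.Base Cfsg.Agent.LargeExtra.TwoCentral
open Module

variable {G : Type*} [Group G] {Q : Subgroup G} {z : G}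

theorem eq_of_add (h : Large Q z) {v w : h.V} (H : v + w = 0) : v = w := by
  calc v = v + w + w := by rw [add_assoc, h.add_self, add_zero]
    _ = w := by rw [H, zero_add]

theorem add_eq (h : Large Q z) {v w : h.V} (H : v = w) : v + w = 0 := by rw [H, h.add_self]

/-- `U`, `W` are complementary totally singular 3-spaces of the 6-dimensional space `V`. -/
structure Lag (h : Large Q z) (U W : Submodule (ZMod 2) h.V) : Prop where
  cardQ : Nat.card Q = 128
  cardU : Nat.card U = 8
  cardW : Nat.card W = 8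
  qU : ∀ v ∈ U, h.q v = 0
  qW : ∀ v ∈ W, h.q v = 0
  disj : ∀ v ∈ U, v ∈ W → v = 0

/-- `f` preserves `U` and `W` -/
def Keep (h : Large Q z) (U W : Submodule (ZMod 2) h.V) (f : h.V ≃ₗ[ZMod 2] h.V) : Prop :=
  (∀ v ∈ U, f v ∈ U) ∧ (∀ v ∈ W, f v ∈ W)

/-- `f` swaps `U` and `W` -/
def Flip (h : Large Q z) (U W : Submodule (ZMod 2) h.V) (f : h.V ≃ₗ[ZMod 2] h.V) : Prop :=
  (∀ v ∈ U, f v ∈ W) ∧ (∀ v ∈ W, f v ∈ U)

namespace Lag

variable {h : Large Q z} {U W : Submodule (ZMod 2) h.V}

theorem symm (S : Lag h U W) : Lag h W U where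
  cardQ := S.cardQ
  cardU := S.cardW
  cardW := S.cardU
  qU := S.qW
  qW := S.qU
  disj v hv hv' := S.disj v hv' hv

theorem finiteQ (S : Lag h U W) : Finite Q := by
  apply Nat.finite_of_card_ne_zero
  rw [S.cardQ]; norm_num

theorem bU (S : Lag h U W) {u v : h.V} (hu : u ∈ U) (hv : v ∈ U) : h.b u v = 0 := by
  have h1 := h.q_add' u v
  rw [S.qU _ (U.add_mem hu hv), S.qU _ hu, S.qU _ hv, add_zero, zero_add] at h1
  exact h1.symm

theorem bW (S : Lag h U W) {u v : h.V} (hu : u ∈ W) (hv : v ∈ W) : h.b u v = 0 := S.symm.bU hu hv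

theorem cardV (S : Lag h U W) : Nat.card h.V = 64 := by
  have h1 := h.card_eq
  rw [S.cardQ] at h1
  omega

/-- `V = U + W` -/
theorem exists_add (S : Lag h U W) (v : h.V) : ∃ u ∈ U, ∃ w ∈ W, v = u + w := by
  have := S.finiteQ
  let f : U × W → h.V := fun p => (p.1 : h.V) + p.2
  have hinj : Function.Injective f := by
    rintro ⟨u, w⟩ ⟨u', w'⟩ huw
    have h1 : (u : h.V) + w = u' + w' := huw
    have h2 : (u : h.V) - u' = w' - w := by
      rw [sub_eq_sub_iff_add_eq_add, h1, add_comm]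
    have h3 : (u : h.V) - u' = 0 := S.disj _ (U.sub_mem u.2 u'.2) (h2 ▸ W.sub_mem w'.2 w.2)
    have h4 : (w' : h.V) - w = 0 := h2 ▸ h3
    rw [sub_eq_zero] at h3 h4
    exact Prod.ext (Subtype.ext h3) (Subtype.ext h4.symm)
  have hcard : Nat.card (U × W) = Nat.card h.V := by
    rw [Nat.card_prod, S.cardU, S.cardW, S.cardV]
  have hbij : Function.Bijective f := (Nat.bijective_iff_injective_and_card f).2 ⟨hinj, hcard⟩
  obtain ⟨⟨u, w⟩, huw⟩ := hbij.2 v
  exact ⟨u, u.2, w, w.2, huw.symm⟩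

theorem eq_zero_U (S : Lag h U W) {u : h.V} (hu : u ∈ U) (H : ∀ w ∈ W, h.b u w = 0) : u = 0 := by
  apply h.b_nondeg
  intro v
  obtain ⟨u', hu', w, hw, rfl⟩ := S.exists_add v
  rw [map_add, S.bU hu hu', H w hw, add_zero]

theorem eq_zero_W (S : Lag h U W) {w : h.V} (hw : w ∈ W) (H : ∀ u ∈ U, h.b w u = 0) : w = 0 :=
  S.symm.eq_zero_U hw H

/-- `W^⊥ = W` -/
theorem mem_W_of_perp (S : Lag h U W) {v : h.V} (H : ∀ w ∈ W, h.b v w = 0) : v ∈ W := by
  obtain ⟨u, hu, w, hw, rfl⟩ := S.exists_add v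
  have h1 : u = 0 := S.eq_zero_U hu fun w' hw' => by
    have := H w' hw'
    rwa [map_add, LinearMap.add_apply, S.bW hw hw', add_zero] at this
  rw [h1, zero_add]; exact hw

theorem mem_U_of_perp (S : Lag h U W) {v : h.V} (H : ∀ w ∈ U, h.b v w = 0) : v ∈ U :=
  S.symm.mem_W_of_perp H

/-- isometry condition in terms of `b` -/
theorem eq_one (S : Lag h U W) {f : h.V ≃ₗ[ZMod 2] h.V} (hf : ∀ v w, h.b (f v) (f w) = h.b v w)
    (hk : Keep h U W f) (H : ∀ u ∈ U, f u = u) : f = 1 := by
  ext v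
  obtain ⟨u, hu, w, hw, rfl⟩ := S.exists_add v
  show f (u + w) = u + w
  rw [map_add, H u hu]
  congr 1
  apply eq_of_add h
  apply S.eq_zero_W (W.add_mem (hk.2 w hw) hw)
  intro u' hu'
  rw [map_add, LinearMap.add_apply]
  have h1 := hf w u'
  rw [H u' hu'] at h1
  rw [h1]
  rcases zmod_two (h.b w u') with h2 | h2 <;> rw [h2] <;> decide

/-- functionals on `U` are given by elements of `W` -/
theorem exists_repr (S : Lag h U W) (φ : U →ₗ[ZMod 2] ZMod 2) : ∃ w ∈ W, ∀ u : U, h.b w u = φ u := by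
  have := S.finiteQ
  have : Finite h.V := inferInstance
  have : Module.Finite (ZMod 2) h.V := Module.Finite.of_finite
  -- extend by zero on `W`
  have hex : ∀ v : h.V, ∃ u : U, v + u ∈ W := by
    intro v
    obtain ⟨u, hu, w, hw, rfl⟩ := S.exists_add v
    refine ⟨⟨u, hu⟩, ?_⟩
    have : u + w + u = w + (u + u) := by abel
    rw [this, h.add_self, add_zero]; exact hw
  choose p hp using hex
  have huniq : ∀ (v : h.V) (u : U), v + u ∈ W → p v = u := by
    intro v u hu
    apply Subtype.ext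
    apply eq_of_add h
    apply S.disj _ (U.add_mem (p v).2 u.2)
    have : (p v : h.V) + u = (v + p v) + (v + u) := by
      calc (p v : h.V) + u = (v + v) + (p v + u) := by rw [h.add_self, zero_add]
        _ = _ := by abel
    rw [this]
    exact W.add_mem (hp v) hu
  have hadd : ∀ v v', p (v + v') = p v + p v' := by
    intro v v'
    apply huniq
    have : v + v' + ((p v + p v' : U) : h.V) = (v + p v) + (v' + p v') := by
      rw [Submodule.coe_add]; abel
    rw [this]
    exact W.add_mem (hp v) (hp v')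
  obtain ⟨k, hk⟩ := h.exists_b_eq (AddMonoidHom.toZModLinearMap 2
    { toFun := fun v => φ (p v)
      map_zero' := by
        have : p 0 = 0 := huniq 0 0 (by simp)
        rw [this, map_zero]
      map_add' := fun v w => by rw [hadd, map_add] } : h.V →ₗ[ZMod 2] ZMod 2)
  have hk' : ∀ v, h.b k v = φ (p v) := hk
  refine ⟨k, S.mem_W_of_perp fun w hw => ?_, fun u => ?_⟩
  · rw [hk', huniq w 0 (by simpa using hw), map_zero]
  · rw [hk', huniq u u (by rw [h.add_self]; exact W.zero_mem)]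

theorem finrank_U (S : Lag h U W) : finrank (ZMod 2) U = 3 := by
  have := S.finiteQ
  have : Finite h.V := inferInstance
  have : Module.Finite (ZMod 2) h.V := Module.Finite.of_finite
  have h1 := Module.natCard_eq_pow_finrank (K := ZMod 2) (V := U)
  rw [Nat.card_zmod, S.cardU] at h1
  have h2 : (2 : ℕ) ^ 3 = 2 ^ finrank (ZMod 2) U := by rw [← h1]; norm_num
  exact (Nat.pow_right_injective (le_refl 2) h2).symm

/-- The shape of an involution preserving `U` and `W`: `x v = v + b(w₁, v) u₁ + b(u₁, v) w₁`. -/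
theorem transvection (S : Lag h U W) {x : h.V ≃ₗ[ZMod 2] h.V} (hx : ∀ v w, h.b (x v) (x w) = h.b v w)
    (hk : Keep h U W x) (hxx : x * x = 1) (hx1 : x ≠ 1) :
    ∃ u₁ ∈ U, ∃ w₁ ∈ W, u₁ ≠ 0 ∧ w₁ ≠ 0 ∧ h.b u₁ w₁ = 0 ∧
      ∀ v, x v = v + h.b w₁ v • u₁ + h.b u₁ v • w₁ := by
  have := S.finiteQ
  have : Finite h.V := inferInstance
  have : Module.Finite (ZMod 2) h.V := Module.Finite.of_finite
  have hxx' : ∀ v, x (x v) = v := fun v => congrArg (fun t : h.V ≃ₗ[ZMod 2] h.V => t v) hxx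
  obtain ⟨v₀, hv₀, hv₀x⟩ : ∃ v₀ ∈ U, x v₀ ≠ v₀ := by
    by_contra hcon
    push Not at hcon
    exact hx1 (S.eq_one hx hk hcon)
  obtain ⟨u₁, hu₁⟩ : ∃ u, u = x v₀ + v₀ := ⟨_, rfl⟩
  have hu₁U : u₁ ∈ U := hu₁ ▸ U.add_mem (hk.1 _ hv₀) hv₀
  have hu₁0 : u₁ ≠ 0 := fun h0 => hv₀x (eq_of_add h (hu₁ ▸ h0))
  -- `N v = x v + v` on `U`
  let N : U →ₗ[ZMod 2] U :=
    { toFun := fun v => ⟨x v + v, U.add_mem (hk.1 _ v.2) v.2⟩
      map_add' := fun v w => by
        apply Subtype.ext
        show x (v + w : h.V) + (v + w) = (x v + v) + (x w + w)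
        rw [map_add]; abel
      map_smul' := fun c v => by
        apply Subtype.ext
        show x (c • (v : h.V)) + c • (v : h.V) = c • (x v + v)
        rw [map_smul, smul_add] }
  have hN : ∀ v : U, (N v : h.V) = x v + v := fun v => rfl
  have hrange : LinearMap.range N ≤ LinearMap.ker N := by
    rintro _ ⟨v, rfl⟩
    rw [LinearMap.mem_ker]
    apply Subtype.ext
    rw [hN, hN, map_add, hxx']
    show (v : h.V) + x v + (x v + v) = 0
    calc (v : h.V) + x v + (x v + v) = (v + v) + (x v + x v) := by abel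
      _ = 0 := by rw [h.add_self, h.add_self, add_zero]
  have hrk := LinearMap.finrank_range_add_finrank_ker N
  have hle := Submodule.finrank_mono hrange
  rw [S.finrank_U] at hrk
  have h1 : finrank (ZMod 2) (LinearMap.range N) ≤ 1 := by omega
  rw [finrank_le_one_iff] at h1
  obtain ⟨g, hg⟩ := h1
  have hgen : ∀ v : U, N v = 0 ∨ N v = g := by
    intro v
    obtain ⟨c, hc⟩ := hg ⟨N v, v, rfl⟩
    have hc' : c • (g : U) = N v := congrArg Subtype.val hc
    rcases zmod_two c with rfl | rfl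
    · left; rw [← hc', zero_smul]
    · right; rw [← hc', one_smul]
  have hg1 : (g : U) = ⟨u₁, hu₁U⟩ := by
    rcases hgen ⟨v₀, hv₀⟩ with h2 | h2
    · exact absurd (hu₁.trans (congrArg Subtype.val h2)) hu₁0
    · rw [← h2]; exact Subtype.ext hu₁.symm
  have hN01 : ∀ v ∈ U, x v = v ∨ x v = v + u₁ := by
    intro v hv
    rcases hgen ⟨v, hv⟩ with h2 | h2
    · left; exact eq_of_add h (congrArg Subtype.val h2)
    · right
      rw [hg1] at h2
      have h3 : x v + v = u₁ := congrArg Subtype.val h2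
      calc x v = x v + v + v := by rw [add_assoc, h.add_self, add_zero]
        _ = v + u₁ := by rw [h3, add_comm]
  -- the functional
  classical
  let lam : U →ₗ[ZMod 2] ZMod 2 := AddMonoidHom.toZModLinearMap 2
    { toFun := fun v => if x v = v then 0 else 1
      map_zero' := by
        show (if x ((0 : U) : h.V) = ((0 : U) : h.V) then (0 : ZMod 2) else 1) = 0
        rw [if_pos]; simp
      map_add' := by
        intro v w
        show (if x ((v + w : U) : h.V) = ((v + w : U) : h.V) then (0 : ZMod 2) else 1) =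
          (if x v = v then (0 : ZMod 2) else 1) + (if x w = w then (0 : ZMod 2) else 1)
        rw [Submodule.coe_add, map_add]
        rcases hN01 v v.2 with h2 | h2 <;> rcases hN01 w w.2 with h3 | h3
        · rw [h2, h3, if_pos rfl, if_pos rfl, if_pos rfl, add_zero]
        · rw [h2, h3, if_pos rfl, if_neg, if_neg, zero_add]
          · intro h4; exact hu₁0 (add_eq_left.1 h4)
          · intro h4; rw [← add_assoc] at h4; exact hu₁0 (add_eq_left.1 h4)
        · rw [h2, h3, if_pos rfl, if_neg, if_neg, add_zero]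
          · intro h4; exact hu₁0 (add_eq_left.1 h4)
          · intro h4
            have : (v : h.V) + u₁ + w = v + w + u₁ := by abel
            rw [this] at h4; exact hu₁0 (add_eq_left.1 h4)
        · rw [h2, h3, if_pos, if_neg, if_neg]
          · decide
          · intro h4; exact hu₁0 (add_eq_left.1 h4)
          · intro h4; exact hu₁0 (add_eq_left.1 h4)
          · calc (v : h.V) + u₁ + (w + u₁) = v + w + (u₁ + u₁) := by abel
              _ = v + w := by rw [h.add_self, add_zero] }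
  have hlam : ∀ v : U, x v = v + lam v • u₁ := by
    intro v
    show x v = v + (if x v = v then (0 : ZMod 2) else 1) • u₁
    rcases hN01 v v.2 with h2 | h2
    · rw [if_pos h2, zero_smul, add_zero]; exact h2
    · rw [if_neg, one_smul]
      · exact h2
      · intro h3; rw [h3] at h2; exact hu₁0 (add_eq_left.1 h2.symm)
  obtain ⟨w₁, hw₁, hw₁lam⟩ := S.exists_repr lam
  have hxU : ∀ v ∈ U, x v = v + h.b w₁ v • u₁ := by
    intro v hv
    rw [hw₁lam ⟨v, hv⟩]
    exact hlam ⟨v, hv⟩
  have hxu₁ : x u₁ = u₁ := by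
    rw [hu₁, map_add, hxx']; exact add_comm _ _
  have hb : h.b u₁ w₁ = 0 := by
    have h2 := hxU u₁ hu₁U
    rw [hxu₁] at h2
    rcases smul_eq_zero.1 (add_eq_left.1 h2.symm) with h3 | h3
    · rw [h.b_comm]; exact h3
    · exact absurd h3 hu₁0
  have hw₁0 : w₁ ≠ 0 := by
    intro h0
    have h2 := hxU v₀ hv₀
    rw [h0, map_zero, LinearMap.zero_apply, zero_smul, add_zero] at h2
    exact hv₀x h2
  have hxW : ∀ v ∈ W, x v = v + h.b u₁ v • w₁ := by
    intro v hv
    apply eq_of_add h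
    apply S.eq_zero_W (W.add_mem (hk.2 v hv) (W.add_mem hv (W.smul_mem _ hw₁)))
    intro u hu
    have h2 : h.b (x v) u = h.b v (x u) := by
      rw [← hx v (x u), hxx']
    rw [map_add, LinearMap.add_apply, h2, hxU u hu, map_add, map_add, LinearMap.add_apply, map_smul,
      map_smul, LinearMap.smul_apply, smul_eq_mul, smul_eq_mul, h.b_comm u₁ v]
    have : ∀ a b c : ZMod 2, a + b * c + (a + c * b) = 0 := by decide
    exact this _ _ _
  refine ⟨u₁, hu₁U, w₁, hw₁, hu₁0, hw₁0, hb, ?_⟩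
  intro v
  obtain ⟨u, hu, w, hw, rfl⟩ := S.exists_add v
  rw [map_add, hxU u hu, hxW w hw, map_add, map_add, S.bW hw₁ hw, S.bU hu₁U hu, add_zero, zero_add]
  abel

/-- separation of two elements of `W` by an element of `U` -/
theorem sep (S : Lag h U W) {w w' : h.V} (hw : w ∈ W) (hw' : w' ∈ W) (h0 : w' ≠ 0) (h1 : w' ≠ w) :
    ∃ v ∈ U, h.b w v = 0 ∧ h.b w' v = 1 := by
  by_contra hcon
  push Not at hcon
  have key : ∀ v, h.b w v = 0 → h.b w' v = 0 := by
    intro v hv
    obtain ⟨u, hu, w'', hw'', rfl⟩ := S.exists_add v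
    rw [map_add, S.bW hw hw'', add_zero] at hv
    rw [map_add, S.bW hw' hw'', add_zero]
    by_contra h2
    exact hcon u hu hv (zmod_two_ne h2)
  rcases eq_of_perp h key with h2 | h2
  · exact h0 h2
  · exact h1 h2

/-- Two different points and two different planes of `U` cannot be pairwise incident. -/
theorem dim_one (S : Lag h U W) {u u₁ w w₁ : h.V} (hu : u ∈ U) (hu₁ : u₁ ∈ U) (hw : w ∈ W) (hw₁ : w₁ ∈ W)
    (hu0 : u ≠ 0) (hu₁0 : u₁ ≠ 0) (hw0 : w ≠ 0) (hw₁0 : w₁ ≠ 0) (hne : w₁ ≠ w)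
    (h1 : h.b u w = 0) (h2 : h.b u w₁ = 0) (h3 : h.b u₁ w = 0) (h4 : h.b u₁ w₁ = 0) : u₁ = u := by
  by_contra hne'
  have := S.finiteQ
  have : Finite h.V := inferInstance
  have : Module.Finite (ZMod 2) h.V := Module.Finite.of_finite
  obtain ⟨v₁, hv₁, hv₁u, hv₁u₁⟩ := S.symm.sep hu hu₁ hu₁0 hne'
  obtain ⟨v₂, hv₂, hv₂u₁, hv₂u⟩ := S.symm.sep hu₁ hu hu0 (Ne.symm hne')
  have hli : LinearIndependent (ZMod 2) (![⟨w, hw⟩, ⟨w₁, hw₁⟩, ⟨v₁, hv₁⟩, ⟨v₂, hv₂⟩] : Fin 4 → W) := by
    rw [Fintype.linearIndependent_iff]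
    intro g hg
    rw [Fin.sum_univ_four] at hg
    have hg' : g 0 • w + g 1 • w₁ + g 2 • v₁ + g 3 • v₂ = 0 := congrArg Subtype.val hg
    have e1 : g 3 = 0 := by
      have := congrArg (h.b u) hg'
      simpa [map_add, map_smul, h1, h2, hv₁u, hv₂u] using this
    have e2 : g 2 = 0 := by
      have := congrArg (h.b u₁) hg'
      simpa [map_add, map_smul, h3, h4, hv₁u₁, hv₂u₁] using this
    rw [e1, e2, zero_smul, zero_smul, add_zero, add_zero] at hg'
    have e3 : g 0 = 0 ∧ g 1 = 0 := by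
      rcases zmod_two (g 0) with h5 | h5 <;> rcases zmod_two (g 1) with h6 | h6
      · exact ⟨h5, h6⟩
      · rw [h5, h6, zero_smul, one_smul, zero_add] at hg'
        exact absurd hg' hw₁0
      · rw [h5, h6, zero_smul, one_smul, add_zero] at hg'
        exact absurd hg' hw0
      · rw [h5, h6, one_smul, one_smul] at hg'
        exact absurd (eq_of_add h hg').symm hne
    intro i
    fin_cases i
    · exact e3.1
    · exact e3.2
    · exact e2
    · exact e1
  have hc := hli.fintype_card_le_finrank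
  rw [S.symm.finrank_U, Fintype.card_fin] at hc
  omega

end Lag

end Cfsg.Agent.LargeExtra.SwapBasic
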