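import Cfsg.Agent.LargeExtra.SwapBasic

/-!
# Involutory isometries swapping two totally singular 3-spaces (helper805)
-/

set_option autoImplicit false
set_option linter.style.haveILetI false

namespace Cfsg.Agent.LargeExtra.SwapFlip

open Cfsg.Agent.Co2Type.Quad Cfsg.Agent.LargeExtra.Base Cfsg.Agent.LargeExtra.TwoCentral
open Cfsg.Agent.LargeExtra.SwapBasic
open Module

variable {G : Type*} [Group G] {Q : Subgroup G} {z : G}

/-- an involutory isometry swapping `U` and `W` -/
structure Inv (h : Large Q z) (U W : Submodule (ZMod 2) h.V) (f : h.V ≃ₗ[ZMod 2] h.V) : Prop where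
  lag : Lag h U W
  iso : ∀ v w, h.b (f v) (f w) = h.b v w
  flip : Flip h U W f
  inv : ∀ v, f (f v) = v

/-- four elements -/
theorem four {h : Large Q z} {M : Submodule (ZMod 2) h.V} (hM : Nat.card M = 4) {a b : h.V} (ha : a ∈ M)
    (hb : b ∈ M) (ha0 : a ≠ 0) (hb0 : b ≠ 0) (hab : a ≠ b) :
    ∀ d ∈ M, d = 0 ∨ d = a ∨ d = b ∨ d = a + b := by
  have : Finite M := by
    apply Nat.finite_of_card_ne_zero
    rw [hM]; norm_num
  have hab0 : a + b ≠ 0 := fun h0 => hab (eq_of_add h h0)
  let f : ZMod 2 × ZMod 2 → M := fun p => p.1 • ⟨a, ha⟩ + p.2 • ⟨b, hb⟩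
  have hinj : Function.Injective f := by
    have key : ∀ p : ZMod 2 × ZMod 2, (p.1 • a + p.2 • b = 0) → p = 0 := by
      rintro ⟨i, j⟩ h1
      rcases zmod_two i with rfl | rfl <;> rcases zmod_two j with rfl | rfl
      · rfl
      · rw [zero_smul, zero_add, one_smul] at h1; exact absurd h1 hb0
      · rw [zero_smul, add_zero, one_smul] at h1; exact absurd h1 ha0
      · rw [one_smul, one_smul] at h1; exact absurd h1 hab0
    intro p q hpq
    have h1 : p.1 • a + p.2 • b = q.1 • a + q.2 • b := congrArg Subtype.val hpq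
    have h2 : (p - q).1 • a + (p - q).2 • b = 0 := by
      rw [Prod.fst_sub, Prod.snd_sub, sub_smul, sub_smul]
      rw [← sub_eq_zero] at h1
      rw [← h1]; abel
    exact sub_eq_zero.1 (key _ h2)
  have hcard : Nat.card (ZMod 2 × ZMod 2) = Nat.card M := by
    rw [Nat.card_prod, Nat.card_zmod, hM]
  have hbij : Function.Bijective f := (Nat.bijective_iff_injective_and_card f).2 ⟨hinj, hcard⟩
  intro d hd
  obtain ⟨⟨i, j⟩, hij⟩ := hbij.2 ⟨d, hd⟩
  have h1 : i • a + j • b = d := congrArg Subtype.val hij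
  rcases zmod_two i with rfl | rfl <;> rcases zmod_two j with rfl | rfl
  · left; rw [← h1]; simp
  · right; right; left; rw [← h1]; simp
  · right; left; rw [← h1]; simp
  · right; right; right; rw [← h1]; simp

namespace Inv

variable {h : Large Q z} {U W : Submodule (ZMod 2) h.V} {f : h.V ≃ₗ[ZMod 2] h.V}

theorem symm (I : Inv h U W f) : Inv h W U f where
  lag := I.lag.symm
  iso := I.iso
  flip := ⟨I.flip.2, I.flip.1⟩
  inv := I.inv

/-- `b(u, f v)` is symmetric -/
theorem beta_symm (I : Inv h U W f) (u v : h.V) : h.b u (f v) = h.b v (f u) := by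
  rw [← I.iso u (f v), I.inv, h.b_comm]

theorem fixed_iff (I : Inv h U W f) {v : h.V} : f v = v ↔ ∃ u ∈ U, v = u + f u := by
  constructor
  · intro hv
    obtain ⟨u, hu, w, hw, rfl⟩ := I.lag.exists_add v
    refine ⟨u, hu, ?_⟩
    rw [map_add] at hv
    -- `f u - w ∈ U ∩ W`
    have h1 : f u + w = 0 := by
      apply I.lag.disj
      · have : f u + w = f w + u := by
          apply eq_of_add h
          calc f u + w + (f w + u) = (f u + f w) + (u + w) := by abel
            _ = 0 := by rw [hv, h.add_self]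
        rw [this]
        exact U.add_mem (I.flip.2 w hw) hu
      · exact W.add_mem (I.flip.1 u hu) hw
    rw [eq_of_add h h1]
  · rintro ⟨u, _, rfl⟩
    rw [map_add, I.inv, add_comm]

theorem b_graph (I : Inv h U W f) {u v : h.V} (hu : u ∈ U) (hv : v ∈ U) :
    h.b (u + f u) (v + f v) = 0 := by
  rw [map_add, map_add, LinearMap.add_apply, LinearMap.add_apply, I.lag.bU hu hv,
    I.lag.bW (I.flip.1 u hu) (I.flip.1 v hv), I.beta_symm u v, h.b_comm (f u) v, add_zero, zero_add]
  rcases zmod_two (h.b v (f u)) with h2 | h2 <;> rw [h2] <;> decide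

theorem q_graph (I : Inv h U W f) {u : h.V} (hu : u ∈ U) : h.q (u + f u) = h.b u (f u) := by
  rw [h.q_add', I.lag.qU u hu, I.lag.qW _ (I.flip.1 u hu), add_zero, zero_add]

/-- the functional `u ↦ b(u, f u)` on `U` -/
noncomputable def lam (I : Inv h U W f) : U →ₗ[ZMod 2] ZMod 2 := AddMonoidHom.toZModLinearMap 2
  { toFun := fun u => h.b u (f u)
    map_zero' := by simp
    map_add' := by
      intro u v
      rw [Submodule.coe_add, map_add, map_add, map_add, LinearMap.add_apply, LinearMap.add_apply,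
        I.beta_symm u v]
      have : ∀ a b c : ZMod 2, a + b + (c + b) = a + c := by decide
      rw [← this (h.b u (f u)) (h.b v (f u)) (h.b v (f v))]
      abel }

theorem lam_apply (I : Inv h U W f) (u : U) : I.lam u = h.b u (f u) := rfl

theorem f_inj (I : Inv h U W f) {v : h.V} (hv : f v = 0) : v = 0 := by
  rw [← I.inv v, hv, map_zero]

theorem surj_W (I : Inv h U W f) {w : h.V} (hw : w ∈ W) : ∃ u ∈ U, f u = w :=
  ⟨f w, I.flip.2 w hw, I.inv w⟩

/-- `β` is nondegenerate on `U` -/
theorem beta_nondeg (I : Inv h U W f) {u : h.V} (hu : u ∈ U) (H : ∀ v ∈ U, h.b u (f v) = 0) : u = 0 := by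
  apply I.lag.eq_zero_U hu
  intro w hw
  obtain ⟨v, hv, rfl⟩ := I.surj_W hw
  exact H v hv

theorem exists_one (I : Inv h U W f) : ∃ u ∈ U, h.b u (f u) = 1 := by
  by_contra hcon
  push Not at hcon
  have := I.lag.finiteQ
  have : Finite h.V := inferInstance
  have : Module.Finite (ZMod 2) h.V := Module.Finite.of_finite
  let B : LinearMap.BilinForm (ZMod 2) U :=
    h.b.compl₁₂ U.subtype (f.toLinearMap.comp U.subtype)
  have hB : ∀ u v : U, B u v = h.b u (f v) := fun u v => rfl
  have halt : B.IsAlt := by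
    intro u
    rw [hB]
    by_contra h1
    exact hcon u u.2 (zmod_two_ne h1)
  obtain ⟨m, hm⟩ := Cfsg.Agent.ClassicalGeometry.TwoFamilies.exists_finrank_eq_ker_add B halt
  have hker : LinearMap.ker B = ⊥ := by
    rw [LinearMap.ker_eq_bot']
    intro u hu
    apply Subtype.ext
    apply I.beta_nondeg u.2
    intro v hv
    rw [← hB u ⟨v, hv⟩, hu]; rfl
  rw [hker, finrank_bot, I.lag.finrank_U] at hm
  omega

/-- `U₀ = {u ∈ U : b(u, f u) = 0}` as a submodule of `V` -/
noncomputable def U0 (I : Inv h U W f) : Submodule (ZMod 2) h.V := (LinearMap.ker I.lam).map U.subtype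

theorem mem_U0 (I : Inv h U W f) {u : h.V} : u ∈ I.U0 ↔ u ∈ U ∧ h.b u (f u) = 0 := by
  constructor
  · rintro ⟨v, hv, rfl⟩
    exact ⟨v.2, hv⟩
  · rintro ⟨hu, h1⟩
    exact ⟨⟨u, hu⟩, h1, rfl⟩

theorem card_U0 (I : Inv h U W f) : Nat.card I.U0 = 4 := by
  have := I.lag.finiteQ
  have : Finite h.V := inferInstance
  have : Module.Finite (ZMod 2) h.V := Module.Finite.of_finite
  obtain ⟨u, hu, hu1⟩ := I.exists_one
  have hne : I.lam ≠ 0 := by
    intro h0
    have : I.lam ⟨u, hu⟩ = 1 := hu1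
    rw [h0, LinearMap.zero_apply] at this
    exact absurd this (by decide)
  have h1 := LinearMap.finrank_range_add_finrank_ker I.lam
  have h2 : LinearMap.range I.lam = ⊤ := LinearMap.range_eq_top.2 (LinearMap.surjective hne)
  rw [h2, finrank_top, finrank_self, I.lag.finrank_U] at h1
  have h3 : finrank (ZMod 2) I.U0 = 2 := by
    rw [U0, Submodule.finrank_map_subtype_eq]; omega
  rw [Module.natCard_eq_pow_finrank (K := ZMod 2), h3, Nat.card_zmod]
  norm_num

/-- every element of `U` is in `U₀` or `u₁ + U₀` -/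
theorem add_mem_U0 (I : Inv h U W f) {u v : h.V} (hu : u ∈ U) (hv : v ∈ U) (h1 : h.b u (f u) = 1)
    (h2 : h.b v (f v) = 1) : u + v ∈ I.U0 := by
  rw [I.mem_U0]
  refine ⟨U.add_mem hu hv, ?_⟩
  have h3 : I.lam (⟨u, hu⟩ + ⟨v, hv⟩) = I.lam ⟨u, hu⟩ + I.lam ⟨v, hv⟩ := map_add _ _ _
  rw [I.lam_apply, I.lam_apply, I.lam_apply] at h3
  have h4 : h.b (u + v) (f (u + v)) = h.b u (f u) + h.b v (f v) := h3
  rw [h4, h1, h2]; decide

/-- there are `a, b ∈ U₀` with `b(a, f b) = 1` -/
theorem exists_pair (I : Inv h U W f) : ∃ a ∈ I.U0, ∃ b ∈ I.U0, h.b a (f b) = 1 := by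
  classical
  by_contra hcon
  push Not at hcon
  have hcon' : ∀ a ∈ I.U0, ∀ b ∈ I.U0, h.b a (f b) = 0 := by
    intro a ha b hb
    by_contra h1
    exact hcon a ha b hb (zmod_two_ne h1)
  obtain ⟨u₁, hu₁, h1⟩ := I.exists_one
  have hfin : Finite I.U0 := by
    apply Nat.finite_of_card_ne_zero
    rw [I.card_U0]; norm_num
  have key : ∀ a ∈ I.U0, h.b a (f u₁) = 0 → a = 0 := by
    intro a ha h2
    apply I.beta_nondeg (I.mem_U0.1 ha).1
    intro v hv
    rcases zmod_two (h.b v (f v)) with h3 | h3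
    · exact hcon' a ha v (I.mem_U0.2 ⟨hv, h3⟩)
    · have h4 := hcon' a ha _ (I.add_mem_U0 hu₁ hv h1 h3)
      rw [map_add, map_add, h2, zero_add] at h4
      exact h4
  have huniq : ∀ a ∈ I.U0, ∀ b ∈ I.U0, a ≠ 0 → b ≠ 0 → a = b := by
    intro a ha b hb ha0 hb0
    have h2 : h.b a (f u₁) = 1 := zmod_two_ne fun h3 => ha0 (key a ha h3)
    have h3 : h.b b (f u₁) = 1 := zmod_two_ne fun h4 => hb0 (key b hb h4)
    apply eq_of_add h
    apply key _ (I.U0.add_mem ha hb)
    rw [map_add, LinearMap.add_apply, h2, h3]; decide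
  -- but `|U₀| = 4`
  have h2 : Nat.card I.U0 ≤ 2 := by
    have hinj : Function.Injective (fun a : I.U0 => decide ((a : h.V) = 0)) := by
      intro a b hab
      by_cases ha : (a : h.V) = 0
      · have hab' : decide ((a : h.V) = 0) = decide ((b : h.V) = 0) := hab
        rw [decide_eq_true ha] at hab'
        have hb := of_decide_eq_true hab'.symm
        exact Subtype.ext (ha.trans hb.symm)
      · have hab' : decide ((a : h.V) = 0) = decide ((b : h.V) = 0) := hab
        rw [decide_eq_false ha] at hab'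
        have hb := of_decide_eq_false hab'.symm
        exact Subtype.ext (huniq a a.2 b b.2 ha hb)
    have := Nat.card_le_card_of_injective _ hinj
    simpa using this
  rw [I.card_U0] at h2
  omega

/-- `β` restricted to `U₀` is nondegenerate -/
theorem U0_nondeg (I : Inv h U W f) {d : h.V} (hd : d ∈ I.U0) (H : ∀ v ∈ I.U0, h.b d (f v) = 0) : d = 0 := by
  obtain ⟨a, ha, b, hb, hab⟩ := I.exists_pair
  have haa := (I.mem_U0.1 ha).2
  have ha0 : a ≠ 0 := by
    intro h0; rw [h0, map_zero, LinearMap.zero_apply] at hab; exact absurd hab (by decide)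
  have hb0 : b ≠ 0 := by
    intro h0; rw [h0, map_zero, map_zero] at hab; exact absurd hab (by decide)
  have hne : a ≠ b := by
    intro h0
    rw [← h0, haa] at hab
    exact absurd hab (by decide)
  rcases four I.card_U0 ha hb ha0 hb0 hne d hd with h1 | h1 | h1 | h1
  · exact h1
  · have := H b hb
    rw [h1, hab] at this; exact absurd this (by decide)
  · have := H a ha
    rw [h1, I.beta_symm, hab] at this; exact absurd this (by decide)
  · have := H a ha
    rw [h1, map_add, LinearMap.add_apply, haa, I.beta_symm b a, hab] at this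
    exact absurd this (by decide)

/-- (PS) an isometry preserving `U`, `W`, commuting with `f` and fixing the vectors `u + f u`, `u ∈ U₀`, is
trivial -/
theorem eq_one_of_fix (I : Inv h U W f) {y : h.V ≃ₗ[ZMod 2] h.V} (hy : ∀ v w, h.b (y v) (y w) = h.b v w)
    (hk : Keep h U W y) (hc : ∀ v, y (f v) = f (y v)) (H : ∀ u ∈ I.U0, y (u + f u) = u + f u) : y = 1 := by
  -- `y` is trivial on `U₀`
  have h0 : ∀ u ∈ I.U0, y u = u := by
    intro u hu
    have hu' := (I.mem_U0.1 hu).1
    have h1 := H u hu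
    rw [map_add] at h1
    apply eq_of_add h
    apply I.lag.disj _ (U.add_mem (hk.1 u hu') hu')
    have : y u + u = y (f u) + f u := by
      apply eq_of_add h
      calc y u + u + (y (f u) + f u) = (y u + y (f u)) + (u + f u) := by abel
        _ = 0 := by rw [h1, h.add_self]
    rw [this]
    exact W.add_mem (hk.2 _ (I.flip.1 u hu')) (I.flip.1 u hu')
  obtain ⟨u₁, hu₁, h1⟩ := I.exists_one
  have hbeta : ∀ u v, h.b (y u) (f (y v)) = h.b u (f v) := by
    intro u v
    rw [← hc, hy]
  obtain ⟨d, hd⟩ : ∃ d, d = y u₁ + u₁ := ⟨_, rfl⟩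
  have hdU : d ∈ U := hd ▸ U.add_mem (hk.1 u₁ hu₁) hu₁
  have hyu₁ : y u₁ = u₁ + d := by
    rw [hd]
    calc y u₁ = (u₁ + u₁) + y u₁ := by rw [h.add_self, zero_add]
      _ = _ := by abel
  have hd1 : ∀ v ∈ I.U0, h.b d (f v) = 0 := by
    intro v hv
    have h2 := hbeta u₁ v
    rw [h0 v hv, hyu₁, map_add, LinearMap.add_apply] at h2
    exact add_eq_left.1 h2
  have hd2 : h.b d (f d) = 0 := by
    have h2 := hbeta u₁ u₁
    rw [hyu₁, map_add, map_add, map_add, LinearMap.add_apply, LinearMap.add_apply, I.beta_symm d u₁] at h2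
    have : ∀ a b c : ZMod 2, a + b + (b + c) = a → c = 0 := by decide
    exact this _ _ _ h2
  have hdz : d = 0 := I.U0_nondeg (I.mem_U0.2 ⟨hdU, hd2⟩) hd1
  apply I.lag.eq_one hy hk
  intro v hv
  rcases zmod_two (h.b v (f v)) with h3 | h3
  · exact h0 v (I.mem_U0.2 ⟨hv, h3⟩)
  · have h4 := h0 _ (I.add_mem_U0 hu₁ hv h1 h3)
    rw [map_add, hyu₁, hdz, add_zero] at h4
    exact add_left_cancel h4

end Inv

end Cfsg.Agent.LargeExtra.SwapFlip
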