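import Cfsg.Agent.LargeExtra.TransferOrbit

/-!
# The transfer trick for an element of order four (S1759, L4(3); helper805)

`G` a finite group without subgroups of index two, `C = C_G(z)`, `N ≤ C` of index two, `x ∈ C ∖ N` with `x² = z ∈ N`,
and `x` fixes only the coset `C` of `G / C`. The orbits of `⟨x⟩` on `G / C` of sign `-1` are `{C}` and the orbits
`{gC, xgC}` with `g⁻¹ z g ∈ C ∖ N`; their number is even, so the number of cosets `gC` with `g⁻¹ z g ∈ C ∖ N` is
`≡ 2 mod 4`, and `C` has an orbit of length not divisible by four on them.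
-/

set_option autoImplicit false
set_option linter.style.haveILetI false

namespace Cfsg.Agent.LargeExtra.TransferFour

open Cfsg.Agent.LargeExtra.Transfer Cfsg.Agent.LargeExtra.TransferPow Cfsg.Agent.LargeExtra.TransferOrbit

variable {G : Type*} [Group G]

/-- The number of cosets `gC` with `g⁻¹ x² g ∈ C ∖ N` is not divisible by four. -/
theorem not_four_dvd [Finite G] (hG : ∀ H : Subgroup G, H.index ≠ 2) {C N : Subgroup G} (hle : N ≤ C)
    (h2 : N.relIndex C = 2) {x z : G} (hx : x * x = z) (hz2 : z * z = 1) (hzN : z ∈ N) (hxC : x ∈ C) (hxN : x ∉ N)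
    (hfix : ∀ g, g⁻¹ * x * g ∈ C → g ∈ C) :
    ¬ 4 ∣ Nat.card {y : G ⧸ C // Odd1 C N z y} := by
  classical
  set R := MulAction.orbitRel (Subgroup.zpowers x) (G ⧸ C) with hR
  have hper : ∀ g : G, Function.minimalPeriod (x • ·) (g : G ⧸ C) = 1 ↔ g ∈ C := by
    intro g
    rw [Function.minimalPeriod_eq_one_iff_isFixedPt]
    show x • (g : G ⧸ C) = g ↔ _
    rw [smul_eq_iff]
    exact ⟨fun h => hfix g h, fun h => C.mul_mem (C.mul_mem (C.inv_mem h) hxC) h⟩
  have hx4 : x ^ 4 = 1 := by
    calc x ^ 4 = (x * x) * (x * x) := by simp only [pow_succ, pow_zero, one_mul, mul_assoc]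
      _ = 1 := by rw [hx, hz2]
  have hper4 : ∀ g : G, Function.minimalPeriod (x • ·) (g : G ⧸ C) ∣ 4 := by
    intro g
    apply Function.IsPeriodicPt.minimalPeriod_dvd
    show (x • ·)^[4] (g : G ⧸ C) = g
    rw [smul_iterate, hx4]
    exact one_smul _ _
  have hperle : ∀ g : G, Function.minimalPeriod (x • ·) (g : G ⧸ C) = 1 ∨
      Function.minimalPeriod (x • ·) (g : G ⧸ C) = 2 ∨ Function.minimalPeriod (x • ·) (g : G ⧸ C) = 4 := by
    intro g
    have h3 := hper4 g
    have h4 := Nat.le_of_dvd (by norm_num) h3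
    interval_cases Function.minimalPeriod (x • ·) (g : G ⧸ C) <;> omega
  have hx2 : x ^ 2 = z := by rw [pow_two, hx]
  -- signs
  have hneg1 : ∀ g : G, g ∈ C → TransferOrbit.Neg C N x g := by
    intro g hg
    unfold TransferOrbit.Neg
    rw [(hper g).2 hg, pow_one, normal_of_relIndex hle h2 hg]
    exact hxN
  have hneg2 : ∀ g : G, g ∉ C → (TransferOrbit.Neg C N x g ↔ Odd1 C N z (g : G ⧸ C)) := by
    intro g hg
    rw [odd1_iff hle h2]
    unfold TransferOrbit.Neg
    rcases hperle g with h | h | h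
    · exact absurd ((hper g).1 h) hg
    · rw [h, hx2]
      have h3 : g⁻¹ * z * g ∈ C := by
        have h4 : x ^ 2 • (g : G ⧸ C) = g := by
          have h5 : (x • ·)^[2] (g : G ⧸ C) = g := by
            rw [← h]; exact Function.iterate_minimalPeriod
          rw [smul_iterate] at h5
          exact h5
        rw [smul_eq_iff, hx2] at h4
        exact h4
      exact ⟨fun h4 => ⟨h3, h4⟩, fun h4 => h4.2⟩
    · rw [h, hx4, mul_one, inv_mul_cancel]
      constructor
      · intro h3; exact absurd N.one_mem h3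
      · rintro ⟨h3, -⟩
        exfalso
        have h4 : (x • ·)^[2] (g : G ⧸ C) = g := by
          rw [smul_iterate, hx2]
          exact (smul_eq_iff C z g).2 h3
        have h5 : Function.minimalPeriod (x • ·) (g : G ⧸ C) ∣ 2 :=
          Function.IsPeriodicPt.minimalPeriod_dvd h4
        rw [h] at h5
        exact absurd (Nat.le_of_dvd (by norm_num) h5) (by norm_num)
  have hC1 : ∀ g : G, g ∈ C → ¬ Odd1 C N z (g : G ⧸ C) := by
    intro g hg h3
    rw [odd1_iff hle h2, normal_of_relIndex hle h2 hg] at h3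
    exact h3.2 hzN
  have hdisj : ∀ g : G, Odd1 C N z (g : G ⧸ C) → g ∉ C := fun g h3 hg => hC1 g hg h3
  have heven := even_card_neg hG hle h2 x
  -- the orbits
  set E := {q : Quotient R // TransferOrbit.Neg C N x (rep C x q)} with hE
  have hnegiff  : ∀ g : G, TransferOrbit.Neg C N x (rep C x (Quotient.mk R (g : G ⧸ C))) ↔ TransferOrbit.Neg C N x g :=
    fun g => neg_rep_iff hle h2 x g
  let q0 : E := ⟨Quotient.mk R ((1 : G) : G ⧸ C), (hnegiff 1).2 (hneg1 1 C.one_mem)⟩
  set X := {y : G ⧸ C // Odd1 C N z y} with hX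
  let f : X → {q : E // q ≠ q0} := fun y => ⟨⟨Quotient.mk R y.1, by
      obtain ⟨y, hy⟩ := y
      obtain ⟨g, rfl⟩ := QuotientGroup.mk_surjective y
      exact (hnegiff g).2 ((hneg2 g (hdisj g hy)).2 hy)⟩, by
      obtain ⟨y, hy⟩ := y
      obtain ⟨g, rfl⟩ := QuotientGroup.mk_surjective y
      intro h3
      have h4 : Quotient.mk R (g : G ⧸ C) = Quotient.mk R ((1 : G) : G ⧸ C) := congrArg Subtype.val h3
      obtain ⟨⟨v, hv⟩, hvy⟩ := Quotient.exact h4
      obtain ⟨m, rfl⟩ := Subgroup.mem_zpowers_iff.1 hv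
      have h5 : ((x ^ m * 1 : G) : G ⧸ C) = g := hvy
      apply hdisj g hy
      rw [mul_one, QuotientGroup.eq] at h5
      have h6 := C.mul_mem (C.zpow_mem hxC m) h5
      rwa [mul_inv_cancel_left] at h6⟩
  have hcardf : ∀ q, Nat.card {y : X // f y = q} = 2 := by
    rintro ⟨⟨q, hq⟩, hq0⟩
    induction q using Quotient.inductionOn with
    | _ y =>
      obtain ⟨g, rfl⟩ := QuotientGroup.mk_surjective y
      have hneg := (hnegiff g).1 hq
      have hgC : g ∉ C := by
        intro hg
        apply hq0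
        apply Subtype.ext
        show Quotient.mk R (g : G ⧸ C) = Quotient.mk R ((1 : G) : G ⧸ C)
        congr 1
        rw [QuotientGroup.eq, mul_one]
        exact C.inv_mem hg
      have hodd := (hneg2 g hgC).1 hneg
      have hodd' := hodd
      rw [odd1_iff hle h2] at hodd'
      have hzg : z • (g : G ⧸ C) = g := (smul_eq_iff C z g).2 hodd'.1
      have hxg : x • (g : G ⧸ C) ≠ g := fun h => hgC (hfix g ((smul_eq_iff C x g).1 h))
      have hzx : z * x = x * z := by rw [← hx, mul_assoc]
      have hodd2 : Odd1 C N z (x • (g : G ⧸ C)) := by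
        show Odd1 C N z ((x * g : G) : G ⧸ C)
        rw [odd1_iff hle h2]
        have e : (x * g)⁻¹ * z * (x * g) = g⁻¹ * z * g := by
          calc (x * g)⁻¹ * z * (x * g) = g⁻¹ * (x⁻¹ * (z * x)) * g := by group
            _ = _ := by rw [hzx, inv_mul_cancel_left]
        rw [e]; exact hodd'
      rw [Nat.card_eq_two_iff]
      refine ⟨⟨⟨(g : G ⧸ C), hodd⟩, rfl⟩, ⟨⟨x • (g : G ⧸ C), hodd2⟩, ?_⟩, ?_, ?_⟩
      · apply Subtype.ext
        apply Subtype.ext
        show Quotient.mk R (x • (g : G ⧸ C)) = Quotient.mk R (g : G ⧸ C)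
        apply Quotient.sound
        exact ⟨⟨x, Subgroup.mem_zpowers x⟩, rfl⟩
      · intro h
        exact hxg (congrArg (fun y => (y.1.1 : G ⧸ C)) h).symm
      · rw [Set.eq_univ_iff_forall]
        rintro ⟨⟨y, hy⟩, hfy⟩
        have h4 : Quotient.mk R y = Quotient.mk R (g : G ⧸ C) := congrArg (fun q => q.1.1) hfy
        obtain ⟨⟨v, hv⟩, hvy⟩ := Quotient.exact h4
        obtain ⟨m, rfl⟩ := Subgroup.mem_zpowers_iff.1 hv
        have h5 : x ^ m • (g : G ⧸ C) = y := hvy
        have hz' : ∀ k : ℤ, z ^ k • (g : G ⧸ C) = g := fun k =>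
          (MulAction.stabilizer G (g : G ⧸ C)).zpow_mem (show z ∈ MulAction.stabilizer G (g : G ⧸ C) from hzg) k
        rcases Int.even_or_odd' m with ⟨k, rfl | rfl⟩
        · left
          apply Subtype.ext
          apply Subtype.ext
          show y = (g : G ⧸ C)
          rw [← h5, zpow_mul]
          have e : x ^ (2 : ℤ) = z := by rw [zpow_ofNat]; exact hx2
          rw [e, hz']
        · right
          apply Subtype.ext
          apply Subtype.ext
          show y = x • (g : G ⧸ C)
          rw [← h5, add_comm, zpow_add, zpow_one, mul_smul, zpow_mul]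
          have e : x ^ (2 : ℤ) = z := by rw [zpow_ofNat]; exact hx2
          rw [e, hz']
  have hcardX : Nat.card X = Nat.card {q : E // q ≠ q0} * 2 := by
    have : Fintype {q : E // q ≠ q0} := Fintype.ofFinite _
    rw [← Nat.card_congr (Equiv.sigmaFiberEquiv f), Nat.card_sigma, Finset.sum_congr rfl (fun q _ => hcardf q),
      Finset.sum_const, Finset.card_univ, Nat.card_eq_fintype_card, smul_eq_mul]
  have hcardE : Nat.card {q : E // q ≠ q0} + 1 = Nat.card E := by
    have : Fintype E := Fintype.ofFinite _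
    rw [Nat.card_eq_fintype_card, Nat.card_eq_fintype_card, Fintype.card_subtype_compl, Fintype.card_subtype_eq]
    have : 0 < Fintype.card E := Fintype.card_pos_iff.2 ⟨q0⟩
    omega
  rw [hcardX]
  rw [← hcardE] at heven
  rintro ⟨k, hk⟩
  rcases heven with ⟨l, hl⟩
  omega

/-- **The transfer trick for an element of order four** (strong form). -/
theorem exists_odd_not_mem [Finite G] (hG : ∀ H : Subgroup G, H.index ≠ 2) {z x : G} (_hz : z ≠ 1) (hz2 : z * z = 1)
    (N : Subgroup G) (hN : N ≤ Subgroup.centralizer ({z} : Set G))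
    (h2 : N.relIndex (Subgroup.centralizer ({z} : Set G)) = 2) (hx : x * x = z) (hxN : x ∉ N)
    (hfix : ∀ g, g⁻¹ * x * g ∈ Subgroup.centralizer ({z} : Set G) → g ∈ Subgroup.centralizer ({z} : Set G))
    (hzN : z ∈ N) :
    ∃ g : G, g ∉ Subgroup.centralizer ({z} : Set G) ∧ (g * z * g⁻¹) * z = z * (g * z * g⁻¹) ∧
      g⁻¹ * z * g ∉ N ∧
      ¬ 4 ∣ (Subgroup.centralizer ({g * z * g⁻¹} : Set G)).relIndex (Subgroup.centralizer ({z} : Set G)) := by
  classical
  set C := Subgroup.centralizer ({z} : Set G) with hC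
  have hxC : x ∈ C := by
    rw [hC, Subgroup.mem_centralizer_singleton_iff, ← hx, mul_assoc]
  have h4 := not_four_dvd hG hN h2 hx hz2 hzN hxC hxN hfix
  -- the action of `C`
  have hinv : ∀ c ∈ C, ∀ y : G ⧸ C, Odd1 C N z y → Odd1 C N z (c • y) := by
    intro c hc y hy
    obtain ⟨g, rfl⟩ := QuotientGroup.mk_surjective y
    rw [odd1_iff hN h2] at hy
    show Odd1 C N z ((c * g : G) : G ⧸ C)
    rw [odd1_iff hN h2]
    have hcz : c * z = z * c := Subgroup.mem_centralizer_singleton_iff.1 hc
    have e : (c * g)⁻¹ * z * (c * g) = g⁻¹ * z * g := by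
      calc (c * g)⁻¹ * z * (c * g) = g⁻¹ * (c⁻¹ * (z * c)) * g := by group
        _ = _ := by rw [← hcz, inv_mul_cancel_left]
    rw [e]; exact hy
  letI act : MulAction C {y : G ⧸ C // Odd1 C N z y} :=
    { smul := fun c y => ⟨(c : G) • y.1, hinv c c.2 y.1 y.2⟩
      one_smul := fun y => Subtype.ext (one_smul G y.1)
      mul_smul := fun a b y => Subtype.ext (mul_smul (a : G) (b : G) y.1) }
  by_contra hno
  push Not at hno
  apply h4
  have : Fintype (Quotient (MulAction.orbitRel C {y : G ⧸ C // Odd1 C N z y})) := Fintype.ofFinite _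
  rw [Nat.card_congr (MulAction.selfEquivSigmaOrbits' C {y : G ⧸ C // Odd1 C N z y}), Nat.card_sigma]
  apply Finset.dvd_sum
  intro ω _
  induction ω using Quotient.inductionOn with
  | _ y =>
    obtain ⟨y, hy⟩ := y
    obtain ⟨g, rfl⟩ := QuotientGroup.mk_surjective y
    have hy' := (odd1_iff hN h2 z g).1 hy
    have hgC : g ∉ C := by
      intro hg
      have := hy'.2
      rw [normal_of_relIndex hN h2 hg] at this
      exact this hzN
    have hcomm : (g * z * g⁻¹) * z = z * (g * z * g⁻¹) := by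
      have h5 := Subgroup.mem_centralizer_singleton_iff.1 hy'.1
      calc (g * z * g⁻¹) * z = g * (z * (g⁻¹ * z * g)) * g⁻¹ := by group
        _ = g * ((g⁻¹ * z * g) * z) * g⁻¹ := by rw [h5]
        _ = _ := by group
    have h5 := hno g hgC hcomm hy'.2
    have h6 : MulAction.orbitRel.Quotient.orbit
        (Quotient.mk (MulAction.orbitRel C {y : G ⧸ C // Odd1 C N z y}) ⟨(g : G ⧸ C), hy⟩) =
        MulAction.orbit C (⟨(g : G ⧸ C), hy⟩ : {y : G ⧸ C // Odd1 C N z y}) :=
      MulAction.orbitRel.Quotient.orbit_mk _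
    rw [h6, ← Nat.card_congr (MulAction.orbitEquivQuotientStabilizer C _).symm]
    have h7 : MulAction.stabilizer C (⟨(g : G ⧸ C), hy⟩ : {y : G ⧸ C // Odd1 C N z y}) =
        (Subgroup.centralizer ({g * z * g⁻¹} : Set G)).subgroupOf C := by
      ext c
      rw [MulAction.mem_stabilizer_iff, Subgroup.mem_subgroupOf, Subgroup.mem_centralizer_singleton_iff]
      constructor
      · intro h
        have h8 : (c : G) • (g : G ⧸ C) = g := congrArg Subtype.val h
        rw [smul_eq_iff] at h8
        have h8 := Subgroup.mem_centralizer_singleton_iff.1 h8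
        calc (c : G) * (g * z * g⁻¹) = g * ((g⁻¹ * c * g) * z) * g⁻¹ := by group
          _ = g * (z * (g⁻¹ * c * g)) * g⁻¹ := by rw [h8]
          _ = _ := by group
      · intro h
        apply Subtype.ext
        show (c : G) • (g : G ⧸ C) = g
        rw [smul_eq_iff]
        refine Subgroup.mem_centralizer_singleton_iff.2 ?_
        calc g⁻¹ * c * g * z = g⁻¹ * (c * (g * z * g⁻¹)) * g := by group
          _ = g⁻¹ * ((g * z * g⁻¹) * c) * g := by rw [h]
          _ = _ := by group
    have h8 : Nat.card (C ⧸ MulAction.stabilizer C (⟨(g : G ⧸ C), hy⟩ : {y : G ⧸ C // Odd1 C N z y})) =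
        (Subgroup.centralizer ({g * z * g⁻¹} : Set G)).relIndex C := by
      rw [h7]
      rfl
    rw [h8]
    exact h5

/-- **The transfer trick for an element of order four.** -/
theorem exists_odd [Finite G] (hG : ∀ H : Subgroup G, H.index ≠ 2) {z x : G} (hz : z ≠ 1) (hz2 : z * z = 1)
    (N : Subgroup G) (hN : N ≤ Subgroup.centralizer ({z} : Set G))
    (h2 : N.relIndex (Subgroup.centralizer ({z} : Set G)) = 2) (hx : x * x = z) (hxN : x ∉ N)
    (hfix : ∀ g, g⁻¹ * x * g ∈ Subgroup.centralizer ({z} : Set G) → g ∈ Subgroup.centralizer ({z} : Set G))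
    (hzN : z ∈ N) :
    ∃ g : G, g ∉ Subgroup.centralizer ({z} : Set G) ∧ (g * z * g⁻¹) * z = z * (g * z * g⁻¹) ∧
      ¬ 4 ∣ (Subgroup.centralizer ({g * z * g⁻¹} : Set G)).relIndex (Subgroup.centralizer ({z} : Set G)) := by
  obtain ⟨g, h3, h4, -, h5⟩ := exists_odd_not_mem hG hz hz2 N hN h2 hx hxN hfix hzN
  exact ⟨g, h3, h4, h5⟩

end Cfsg.Agent.LargeExtra.TransferFour
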