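import Mathlib

/-!
# S1762, case I: linear algebra over `ZMod 2` (helper888)
-/

set_option autoImplicit false

namespace Cfsg.Agent.LargeExtra.WC

/-- a nondegenerate quadratic space over `ZMod 2` -/
structure QS (V : Type*) [AddCommGroup V] [Module (ZMod 2) V] where
  q : V → ZMod 2
  b : LinearMap.BilinForm (ZMod 2) V
  q_add : ∀ v w, q (v + w) = q v + q w + b v w
  nondeg : ∀ v, (∀ w, b v w = 0) → v = 0

section zm

theorem zm_cases (a : ZMod 2) : a = 0 ∨ a = 1 := by revert a; decide

variable {V : Type*} [AddCommGroup V] [Module (ZMod 2) V]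

theorem vadd_self (v : V) : v + v = 0 := by
  have h : (2 : ZMod 2) • v = v + v := two_smul (ZMod 2) v
  rw [← h, show (2 : ZMod 2) = 0 from rfl, zero_smul]

theorem eq_of_add {v w : V} (h : v + w = 0) : v = w := by
  have : v = v + w + w := by rw [add_assoc, vadd_self, add_zero]
  rw [this, h, zero_add]

theorem add_eq_iff {u v w : V} : u + v = w ↔ u = w + v := by
  constructor
  · rintro rfl; rw [add_assoc, vadd_self, add_zero]
  · rintro rfl; rw [add_assoc, vadd_self, add_zero]

end zm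

namespace QS

variable {V : Type*} [AddCommGroup V] [Module (ZMod 2) V] (S : QS V)

theorem q_zero : S.q 0 = 0 := by
  have h := S.q_add 0 0
  rw [add_zero, map_zero, add_zero] at h
  rcases zm_cases (S.q 0) with h1 | h1
  · exact h1
  · rw [h1] at h; exact absurd h (by decide)

theorem b_self (v : V) : S.b v v = 0 := by
  have h := S.q_add v v
  rw [vadd_self, S.q_zero] at h
  have : ∀ a : ZMod 2, a + a = 0 := by decide
  rw [this, zero_add] at h
  exact h.symm

theorem b_comm (v w : V) : S.b v w = S.b w v := by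
  have h := S.b_self (v + w)
  simp only [map_add, LinearMap.add_apply, S.b_self, zero_add, add_zero] at h
  revert h
  generalize S.b v w = a
  generalize S.b w v = c
  revert a c; decide

theorem isRefl : S.b.IsRefl := fun v w h => by rw [S.b_comm]; exact h

theorem nondegenerate : S.b.Nondegenerate := by
  refine ⟨fun v h => S.nondeg v h, fun v h => S.nondeg v fun w => ?_⟩
  rw [S.b_comm]; exact h w

/-- orthogonal complement -/
def perp (U : Submodule (ZMod 2) V) : Submodule (ZMod 2) V := S.b.orthogonal U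

theorem mem_perp {U : Submodule (ZMod 2) V} {v : V} : v ∈ S.perp U ↔ ∀ u ∈ U, S.b u v = 0 :=
  LinearMap.BilinForm.mem_orthogonal_iff

theorem perp_perp [Finite V] (U : Submodule (ZMod 2) V) : S.perp (S.perp U) = U := by
  have : Module.Finite (ZMod 2) V := Module.Finite.of_finite
  exact LinearMap.BilinForm.orthogonal_orthogonal S.nondegenerate S.isRefl U

theorem card_perp [Finite V] (U : Submodule (ZMod 2) V) :
    Nat.card U * Nat.card (S.perp U) = Nat.card V := by
  have : Module.Finite (ZMod 2) V := Module.Finite.of_finite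
  have h1 := LinearMap.BilinForm.finrank_orthogonal S.nondegenerate U
  have h2 := Submodule.finrank_le U
  have h3 : ∀ (M : Type _) [AddCommGroup M] [Module (ZMod 2) M] [Finite M],
      Nat.card M = 2 ^ Module.finrank (ZMod 2) M := by
    intro M _ _ _
    have : Module.Finite (ZMod 2) M := Module.Finite.of_finite
    rw [Module.natCard_eq_pow_finrank (K := ZMod 2), Nat.card_zmod]
  rw [h3 U, h3 (S.perp U), h3 V, ← pow_add]
  congr 1
  have h4 : Module.finrank (ZMod 2) (S.perp U) = Module.finrank (ZMod 2) (S.b.orthogonal U) := rfl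
  omega

/-- isotropic subspaces -/
theorem card_isotropic_le [Finite V] (hV : Nat.card V = 64) (U : Submodule (ZMod 2) V)
    (hU : ∀ u ∈ U, ∀ v ∈ U, S.b u v = 0) : Nat.card U ≤ 8 := by
  have h1 := S.card_perp U
  have h2 : U ≤ S.perp U := fun v hv => S.mem_perp.2 fun u hu => hU u hu v hv
  have h3 : Nat.card U ≤ Nat.card (S.perp U) := Nat.card_le_card_of_injective
    (Submodule.inclusion h2) (Submodule.inclusion_injective h2)
  by_contra h4
  push Not at h4
  have : 81 ≤ Nat.card U * Nat.card (S.perp U) := Nat.mul_le_mul (by omega : 9 ≤ _) (by omega : 9 ≤ _)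
  omega

/-! ### isometries -/

/-- isometry -/
def Iso (T : V ≃ₗ[ZMod 2] V) : Prop := ∀ v, S.q (T v) = S.q v

variable {S}

theorem Iso.b_eq {T : V ≃ₗ[ZMod 2] V} (h : S.Iso T) (v w : V) : S.b (T v) (T w) = S.b v w := by
  have h1 := S.q_add (T v) (T w)
  rw [← map_add, h, h, h, S.q_add] at h1
  exact (add_left_cancel h1).symm

theorem Iso.q_f {T : V ≃ₗ[ZMod 2] V} (h : S.Iso T) (v : V) :
    S.q (T v + v) = S.b v (T v + v) := by
  have h1 := S.q_add v (T v + v)
  rw [show v + (T v + v) = T v by rw [add_comm (T v), ← add_assoc, vadd_self, zero_add], h] at h1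
  revert h1
  generalize S.q v = a
  generalize S.q (T v + v) = c
  generalize S.b v (T v + v) = d
  revert a c d; decide

/-- `[V, T]` -/
def W (T : V ≃ₗ[ZMod 2] V) : Submodule (ZMod 2) V :=
  LinearMap.range (T.toLinearMap + LinearMap.id)

theorem mem_W {T : V ≃ₗ[ZMod 2] V} {w : V} : w ∈ W T ↔ ∃ v, T v + v = w := Iff.rfl

theorem f_mem_W (T : V ≃ₗ[ZMod 2] V) (v : V) : T v + v ∈ W T := ⟨v, rfl⟩

variable (S) in
/-- isometric involution -/
structure Inv (T : V ≃ₗ[ZMod 2] V) : Prop where
  iso : S.Iso T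
  inv : ∀ v, T (T v) = v

namespace Inv

variable {T : V ≃ₗ[ZMod 2] V} (h : S.Inv T)
include h

theorem adj (v w : V) : S.b (T v + v) w = S.b v (T w + w) := by
  have h1 : S.b (T v) w = S.b v (T w) := by
    rw [← h.iso.b_eq v (T w), h.inv]
  rw [map_add, LinearMap.add_apply, h1, map_add]

theorem fix_iff {v : V} : T v = v ↔ v ∈ S.perp (W T) := by
  rw [S.mem_perp]
  constructor
  · rintro hv _ ⟨w, rfl⟩
    show S.b (T w + w) v = 0
    rw [h.adj, hv, vadd_self, map_zero]
  · intro hv
    apply eq_of_add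
    apply S.nondeg
    intro w
    rw [h.adj, S.b_comm]
    exact hv _ (f_mem_W T w)

theorem fix_W {w : V} (hw : w ∈ W T) : T w = w := by
  obtain ⟨v, rfl⟩ := hw
  show T (T v + v) = T v + v
  rw [map_add, h.inv, add_comm]

theorem W_le : W T ≤ S.perp (W T) := fun _ hw => h.fix_iff.1 (h.fix_W hw)

theorem isotropic {v w : V} (hv : v ∈ W T) (hw : w ∈ W T) : S.b v w = 0 :=
  S.mem_perp.1 (h.W_le hw) v hv

end Inv

/-- vectors of a subspace of order four -/
theorem four {U : Submodule (ZMod 2) V} (hU : Nat.card U = 4) {a b v : V} (ha : a ∈ U) (hb : b ∈ U)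
    (hv : v ∈ U) (ha0 : a ≠ 0) (hb0 : b ≠ 0) (hab : a ≠ b) : v = 0 ∨ v = a ∨ v = b ∨ v = a + b := by
  classical
  have hfin : Finite U := Nat.finite_of_card_ne_zero (by rw [hU]; norm_num)
  by_contra hcon
  push Not at hcon
  obtain ⟨h1, h2, h3, h4⟩ := hcon
  have : Fintype U := Fintype.ofFinite U
  have hcard : Fintype.card U = 4 := by rw [← Nat.card_eq_fintype_card]; exact hU
  have hab0 : a + b ≠ 0 := fun h => hab (eq_of_add h)
  have haab : a ≠ a + b := fun h => hb0 (left_eq_add.1 h)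
  have hbab : b ≠ a + b := fun h => ha0 (right_eq_add.1 h)
  have h5 : ({⟨0, U.zero_mem⟩, ⟨a, ha⟩, ⟨b, hb⟩, ⟨a + b, U.add_mem ha hb⟩, ⟨v, hv⟩} : Finset U).card = 5 := by
    rw [Finset.card_insert_of_notMem, Finset.card_insert_of_notMem, Finset.card_insert_of_notMem,
      Finset.card_insert_of_notMem, Finset.card_singleton]
    · simpa using Ne.symm h4
    · simp only [Finset.mem_insert, Finset.mem_singleton, Subtype.mk.injEq, not_or]
      exact ⟨hbab, Ne.symm h3⟩
    · simp only [Finset.mem_insert, Finset.mem_singleton, Subtype.mk.injEq, not_or]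
      exact ⟨hab, haab, Ne.symm h2⟩
    · simp only [Finset.mem_insert, Finset.mem_singleton, Subtype.mk.injEq, not_or]
      exact ⟨Ne.symm ha0, Ne.symm hb0, Ne.symm hab0, Ne.symm h1⟩
  have h6 := Finset.card_le_univ ({⟨0, U.zero_mem⟩, ⟨a, ha⟩, ⟨b, hb⟩, ⟨a + b, U.add_mem ha hb⟩,
    ⟨v, hv⟩} : Finset U)
  rw [h5, hcard] at h6
  omega

/-- a vector outside `U^⊥` is orthogonal to only one nonzero vector of `U`, `|U| = 4` -/
theorem eq_of_perp (S : QS V) {U : Submodule (ZMod 2) V} (hU : Nat.card U = 4) {a b v : V} (ha : a ∈ U)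
    (hb : b ∈ U) (ha0 : a ≠ 0) (hb0 : b ≠ 0) (hav : S.b a v = 0) (hbv : S.b b v = 0)
    (hv : v ∉ S.perp U) : a = b := by
  by_contra hab
  apply hv
  rw [S.mem_perp]
  intro u hu
  rcases four hU ha hb hu ha0 hb0 hab with rfl | rfl | rfl | rfl
  · rw [map_zero]; rfl
  · exact hav
  · exact hbv
  · rw [map_add, LinearMap.add_apply, hav, hbv, add_zero]

variable (S) in
/-- isometric involution with totally singular `[V, T]` -/
structure Sing (T : V ≃ₗ[ZMod 2] V) : Prop extends S.Inv T where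
  sing : ∀ v, S.q (T v + v) = 0
  card : Nat.card (W T) = 4

namespace Sing

variable {T T' : V ≃ₗ[ZMod 2] V}

theorem alt (h : S.Sing T) (v : V) : S.b (T v + v) v = 0 := by
  rw [S.b_comm, ← h.iso.q_f, h.sing]

theorem q_W (h : S.Sing T) {w : V} (hw : w ∈ W T) : S.q w = 0 := by
  obtain ⟨v, rfl⟩ := hw
  exact h.sing v

theorem f_ne (h : S.Sing T) {v : V} (hv : v ∉ S.perp (W T)) : T v + v ≠ 0 :=
  fun h1 => hv (h.fix_iff.1 (eq_of_add h1))

/-- `T` is determined by `[V, T]` -/
theorem eq_of_W (h : S.Sing T) (h' : S.Sing T') (hW : W T = W T') : T = T' := by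
  ext v
  by_cases hv : v ∈ S.perp (W T)
  · rw [h.fix_iff.2 hv, h'.fix_iff.2 (hW ▸ hv)]
  · have h1 := eq_of_perp S h.card (f_mem_W T v) (hW ▸ f_mem_W T' v) (h.f_ne hv)
      (h'.f_ne (hW ▸ hv)) (h.alt v) (h'.alt v) hv
    exact add_right_cancel h1

end Sing

/-- the Siegel lemma: isometries fixing `c` and trivial on `W^⊥ / ⟨c⟩` commute -/
theorem siegel [Finite V] {U : Submodule (ZMod 2) V} (hU : Nat.card U = 4) (hq : ∀ u ∈ U, S.q u = 0)
    {c : V} (hc : c ∈ U) (hc0 : c ≠ 0) {X Y : V ≃ₗ[ZMod 2] V} (hX : S.Iso X) (hY : S.Iso Y)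
    (hXc : X c = c) (hYc : Y c = c) (hXU : ∀ v ∈ S.perp U, X v = v ∨ X v = v + c)
    (hYU : ∀ v ∈ S.perp U, Y v = v ∨ Y v = v + c) (v : V) : X (Y v) = Y (X v) := by
  have key : ∀ Z : V ≃ₗ[ZMod 2] V, S.Iso Z → Z c = c → (∀ v ∈ S.perp U, Z v = v ∨ Z v = v + c) →
      ∀ v, S.b c v = 0 → Z v = v ∨ Z v = v + c := by
    intro Z hZ hZc hZU v hv
    have h1 : Z v + v ∈ U := by
      rw [← S.perp_perp U, S.mem_perp]
      intro r hr
      have hr' : Z r + r = 0 ∨ Z r + r = c := by
        rcases hZU r hr with h | h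
        · left; rw [h, vadd_self]
        · right; rw [h, add_right_comm, vadd_self, zero_add]
      -- b(Zv + v, r) : use b(Z v, Z r) = b (v, r)
      have h2 : S.b r (Z v + v) = S.b (Z r + r) (Z v) := by
        rw [map_add, map_add, LinearMap.add_apply, hZ.b_eq, add_comm]
      rw [h2]
      rcases hr' with h | h
      · rw [h, map_zero]; rfl
      · rw [h]
        have : S.b c (Z v) = S.b (Z c) (Z v) := by rw [hZc]
        rw [this, hZ.b_eq, hv]
    by_cases h0 : Z v + v = 0
    · left; exact eq_of_add h0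
    by_cases hc' : Z v + v = c
    · right; rw [add_comm v]; exact add_eq_iff.1 hc'
    · have h3 : S.b (Z v + v) v = 0 := by rw [S.b_comm, ← hZ.q_f, hq _ h1]
      by_cases hv' : v ∈ S.perp U
      · exact hZU v hv'
      · exact absurd (eq_of_perp S hU h1 hc h0 hc0 h3 hv hv') hc'
  have kX := key X hX hXc hXU
  have kY := key Y hY hYc hYU
  have hcomm : ∀ v, S.b c v = 0 → X (Y v) = Y (X v) := by
    intro v hv
    rcases kX v hv with h1 | h1 <;> rcases kY v hv with h2 | h2 <;> rw [h1, h2]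
    · exact h1
    · rw [map_add, h1, hXc]
    · rw [h1, map_add, h2, hYc]
    · rw [map_add, map_add, h1, h2, hXc, hYc]
  -- general `v`
  by_cases hv : S.b c v = 0
  · exact hcomm v hv
  set u := X (Y v) + Y (X v) with hu
  have h1 : u ∈ Submodule.span (ZMod 2) ({c} : Set V) := by
    rw [← S.perp_perp (Submodule.span (ZMod 2) ({c} : Set V)), S.mem_perp]
    intro r hr
    have hcr : S.b c r = 0 := S.mem_perp.1 hr c (Submodule.subset_span rfl)
    -- r = X (Y s) with s ∈ c^⊥
    obtain ⟨s, rfl⟩ : ∃ s, X (Y s) = r := ⟨Y.symm (X.symm r), by simp⟩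
    have hcs : S.b c s = 0 := by
      rw [← hY.b_eq, ← hX.b_eq, hYc, hXc]; exact hcr
    rw [hu, map_add, hX.b_eq, hY.b_eq, hcomm s hcs, hY.b_eq, hX.b_eq, ← two_smul (ZMod 2),
      show (2 : ZMod 2) = 0 from rfl, zero_smul]
  rw [Submodule.mem_span_singleton] at h1
  obtain ⟨a, ha⟩ := h1
  rcases zm_cases a with rfl | rfl
  · rw [zero_smul] at ha
    exact eq_of_add (hu.symm.trans ha.symm)
  · rw [one_smul] at ha
    exfalso
    have h2 : X (Y v) = Y (X v) + c := by
      have : c = X (Y v) + Y (X v) := ha.trans hu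
      rw [this, ← add_assoc, add_comm (Y (X v)), add_assoc, vadd_self, add_zero]
    have h3 : S.q (X (Y v)) = S.q (Y (X v) + c) := by rw [h2]
    rw [hX, hY, S.q_add, hY, hX, hq c hc, add_zero] at h3
    have h4 : S.b (Y (X v)) c = S.b v c := by
      have : S.b (Y (X v)) c = S.b (Y (X v)) (Y (X c)) := by rw [hXc, hYc]
      rw [this, hY.b_eq, hX.b_eq]
    rw [h4] at h3
    apply hv
    rw [S.b_comm]
    revert h3
    generalize S.q v = x
    generalize S.b v c = y
    revert x y; decide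

end QS

end Cfsg.Agent.LargeExtra.WC
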