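import Cfsg.Agent.LargeExtra.WC0

/-!
# S1762, case I: linear algebra over `ZMod 2`, continued (helper888)
-/

set_option autoImplicit false

namespace Cfsg.Agent.LargeExtra.WC.QS

variable {V : Type*} [AddCommGroup V] [Module (ZMod 2) V] {S : QS V}

theorem exists_b_one (S : QS V) {v : V} (hv : v ≠ 0) : ∃ w, S.b v w = 1 := by
  by_contra hcon
  push Not at hcon
  apply hv
  apply S.nondeg
  intro w
  rcases zm_cases (S.b v w) with h | h
  · exact h
  · exact absurd h (hcon w)

theorem card_range_four (S : QS V) {v1 v2 w1 w2 : V} (h12 : S.b w1 v2 = 1) (h11 : S.b w1 v1 = 0)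
    (h21 : S.b w2 v1 = 1) (h22 : S.b w2 v2 = 0) (hww : S.b w1 w2 = 0) :
    Nat.card (Submodule.span (ZMod 2) ({v1, v2, w1, w2} : Set V)) = 16 := by
  classical
  let f : (ZMod 2 × ZMod 2 × ZMod 2 × ZMod 2) → Submodule.span (ZMod 2) ({v1, v2, w1, w2} : Set V) :=
    fun x => ⟨x.1 • v1 + x.2.1 • v2 + x.2.2.1 • w1 + x.2.2.2 • w2, by
      have hm : ∀ v ∈ ({v1, v2, w1, w2} : Set V), v ∈ Submodule.span (ZMod 2) ({v1, v2, w1, w2} : Set V) :=
        fun v hv => Submodule.subset_span hv
      refine Submodule.add_mem _ (Submodule.add_mem _ (Submodule.add_mem _ ?_ ?_) ?_) ?_ <;>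
        exact Submodule.smul_mem _ _ (hm _ (by simp))⟩
  have hf : Function.Bijective f := by
    constructor
    · intro x y hxy
      have h1 : x.1 • v1 + x.2.1 • v2 + x.2.2.1 • w1 + x.2.2.2 • w2 =
          y.1 • v1 + y.2.1 • v2 + y.2.2.1 • w1 + y.2.2.2 • w2 := congrArg Subtype.val hxy
      have k1 := congrArg (S.b w1) h1
      have k2 := congrArg (S.b w2) h1
      simp only [map_add, map_smul, smul_eq_mul, h12, h11, h21, h22, hww, S.b_self, S.b_comm w2 w1,
        mul_zero, mul_one, add_zero, zero_add] at k1 k2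
      rw [k1, k2] at h1
      have h2 : x.2.2.1 • w1 + x.2.2.2 • w2 = y.2.2.1 • w1 + y.2.2.2 • w2 := by
        rw [add_assoc, add_assoc (y.1 • v1 + y.2.1 • v2)] at h1
        exact add_left_cancel h1
      have k3 := congrArg (fun u => S.b u v1) h2
      have k4 := congrArg (fun u => S.b u v2) h2
      simp only [map_add, map_smul, LinearMap.add_apply, LinearMap.smul_apply, smul_eq_mul, h12, h11, h21,
        h22, mul_zero, mul_one, add_zero, zero_add] at k3 k4
      exact Prod.ext k2 (Prod.ext k1 (Prod.ext k4 k3))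
    · rintro ⟨v, hv⟩
      rw [Submodule.mem_span_insert] at hv
      obtain ⟨a, v', hv', rfl⟩ := hv
      rw [Submodule.mem_span_insert] at hv'
      obtain ⟨b, v'', hv'', rfl⟩ := hv'
      rw [Submodule.mem_span_insert] at hv''
      obtain ⟨c, v''', hv''', rfl⟩ := hv''
      rw [Submodule.mem_span_singleton] at hv'''
      obtain ⟨d, rfl⟩ := hv'''
      refine ⟨(a, b, c, d), Subtype.ext ?_⟩
      show a • v1 + b • v2 + c • w1 + d • w2 = a • v1 + (b • v2 + (c • w1 + d • w2))
      simp only [add_assoc]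
  rw [← Nat.card_eq_of_bijective f hf]
  simp

/-- an isometric involution with `q (T v + v) = 0` has rank two (`dim V = 6`) -/
theorem Inv.toSing [Finite V] (hV : Nat.card V = 64) {T : V ≃ₗ[ZMod 2] V} (h : S.Inv T)
    (hq : ∀ v, S.q (T v + v) = 0) (hne : ∃ v, T v ≠ v) : S.Sing T := by
  classical
  have alt : ∀ v, S.b (T v + v) v = 0 := fun v => by rw [S.b_comm, ← h.iso.q_f, hq]
  obtain ⟨v1, hv1⟩ := hne
  have hw1 : T v1 + v1 ≠ 0 := fun h0 => hv1 (eq_of_add h0)
  obtain ⟨v2, hv2⟩ := S.exists_b_one hw1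
  have hw2 : S.b (T v2 + v2) v1 = 1 := by rw [h.adj, S.b_comm, hv2]
  set w1 := T v1 + v1 with hw1d
  set w2 := T v2 + v2 with hw2d
  have hm1 : w1 ∈ W T := f_mem_W T v1
  have hm2 : w2 ∈ W T := f_mem_W T v2
  have hww : S.b w1 w2 = 0 := h.isotropic hm1 hm2
  have h11 : S.b w1 v1 = 0 := alt v1
  have h22 : S.b w2 v2 = 0 := alt v2
  have claim : ∀ v, S.b w1 v = 0 → S.b w2 v = 0 → T v + v = 0 := by
    intro v hv1' hv2'
    by_contra hne
    -- adjust
    set u := v + S.b v v2 • w1 + S.b v v1 • w2 with hu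
    have hfu : T u + u = T v + v := by
      have e1 : T (S.b v v2 • w1) = S.b v v2 • w1 := by rw [map_smul, h.fix_W hm1]
      have e2 : T (S.b v v1 • w2) = S.b v v1 • w2 := by rw [map_smul, h.fix_W hm2]
      have : T u = T v + S.b v v2 • w1 + S.b v v1 • w2 := by
        rw [hu, map_add, map_add, e1, e2]
      rw [this, hu]
      have e3 : T v + S.b v v2 • w1 + S.b v v1 • w2 + (v + S.b v v2 • w1 + S.b v v1 • w2) =
          T v + v + (S.b v v2 • w1 + S.b v v2 • w1) + (S.b v v1 • w2 + S.b v v1 • w2) := by abel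
      rw [e3, vadd_self, vadd_self, add_zero, add_zero]
    have hu1 : S.b u v1 = 0 := by
      rw [hu]
      simp only [map_add, map_smul, LinearMap.add_apply, LinearMap.smul_apply, smul_eq_mul, h11, hw2,
        mul_zero, mul_one, add_zero]
      have : ∀ a : ZMod 2, a + a = 0 := by decide
      exact this _
    have hu2 : S.b u v2 = 0 := by
      rw [hu]
      simp only [map_add, map_smul, LinearMap.add_apply, LinearMap.smul_apply, smul_eq_mul, h22, hv2,
        mul_zero, mul_one, add_zero]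
      have : ∀ a : ZMod 2, a + a = 0 := by decide
      exact this _
    have hu3 : S.b w1 u = 0 := by
      rw [hu]
      simp only [map_add, map_smul, smul_eq_mul, hv1', S.b_self, hww, mul_zero, add_zero]
    have hu4 : S.b w2 u = 0 := by
      rw [hu]
      simp only [map_add, map_smul, smul_eq_mul, hv2', S.b_self, S.b_comm w2 w1, hww, mul_zero, add_zero]
    set w3 := T u + u with hw3
    have hw30 : w3 ≠ 0 := by rw [hfu]; exact hne
    have hm3 : w3 ∈ W T := f_mem_W T u
    set K := S.perp (Submodule.span (ZMod 2) ({v1, v2, w1, w2} : Set V)) with hK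
    have hKmem : ∀ k, k ∈ K ↔ S.b v1 k = 0 ∧ S.b v2 k = 0 ∧ S.b w1 k = 0 ∧ S.b w2 k = 0 := by
      intro k
      rw [hK, S.mem_perp]
      constructor
      · intro hk
        refine ⟨hk _ ?_, hk _ ?_, hk _ ?_, hk _ ?_⟩ <;> exact Submodule.subset_span (by simp)
      · rintro ⟨a1, a2, a3, a4⟩ s hs
        refine Submodule.span_induction (p := fun s _ => S.b s k = 0) ?_ ?_ ?_ ?_ hs
        · rintro s (rfl | rfl | rfl | rfl)
          · exact a1
          · exact a2
          · exact a3
          · exact a4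
        · rw [map_zero]; rfl
        · intro x y _ _ hx hy
          rw [map_add, LinearMap.add_apply, hx, hy, add_zero]
        · intro c x _ hx
          rw [map_smul, LinearMap.smul_apply, hx, smul_zero]
    have hKcard : Nat.card K = 4 := by
      have h1 := S.card_perp (Submodule.span (ZMod 2) ({v1, v2, w1, w2} : Set V))
      rw [S.card_range_four hv2 h11 hw2 h22 hww, hV] at h1
      have h2 : Nat.card K = Nat.card (S.perp (Submodule.span (ZMod 2) ({v1, v2, w1, w2} : Set V))) := rfl
      omega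
    have hkw1 : S.b w3 v1 = 0 := by rw [hw3, h.adj, ← hw1d, S.b_comm]; exact hu3
    have hkw2 : S.b w3 v2 = 0 := by rw [hw3, h.adj, ← hw2d, S.b_comm]; exact hu4
    have hK3 : w3 ∈ K := (hKmem _).2 ⟨by rw [S.b_comm]; exact hkw1, by rw [S.b_comm]; exact hkw2,
      h.isotropic hm1 hm3, h.isotropic hm2 hm3⟩
    have hKu : u ∈ K := (hKmem _).2 ⟨by rw [S.b_comm]; exact hu1, by rw [S.b_comm]; exact hu2, hu3, hu4⟩
    have hu0 : u ≠ 0 := by
      intro h0; apply hw30; rw [hw3, h0, map_zero, add_zero]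
    have huw : u ≠ w3 := by
      intro h0
      apply hw30
      rw [hw3]
      have : T u = u := by
        have := h.fix_W hm3
        rwa [← h0] at this
      rw [this, vadd_self]
    -- `w3 ∈ K^⊥ = span`
    have h5 : w3 ∈ Submodule.span (ZMod 2) ({v1, v2, w1, w2} : Set V) := by
      rw [← S.perp_perp (Submodule.span (ZMod 2) ({v1, v2, w1, w2} : Set V)), S.mem_perp]
      intro k hk
      rcases four hKcard hKu hK3 hk hu0 hw30 huw with rfl | rfl | rfl | rfl
      · rw [map_zero]; rfl
      · rw [S.b_comm]; exact alt u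
      · exact S.b_self _
      · have e1 : S.b u w3 = 0 := by rw [S.b_comm]; exact alt u
        simp only [map_add, LinearMap.add_apply, S.b_self, add_zero, e1]
    rw [Submodule.mem_span_insert] at h5
    obtain ⟨a, x1, hx1, hx⟩ := h5
    rw [Submodule.mem_span_insert] at hx1
    obtain ⟨c, x2, hx2, rfl⟩ := hx1
    rw [Submodule.mem_span_insert] at hx2
    obtain ⟨d, x3, hx3, rfl⟩ := hx2
    rw [Submodule.mem_span_singleton] at hx3
    obtain ⟨e, rfl⟩ := hx3
    have k1 := congrArg (S.b w1) hx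
    have k2 := congrArg (S.b w2) hx
    have k3 := congrArg (fun u => S.b u v1) hx
    have k4 := congrArg (fun u => S.b u v2) hx
    simp only [map_add, map_smul, smul_eq_mul, hv2, h11, hw2, h22, hww, S.b_self, S.b_comm w2 w1,
      h.isotropic hm1 hm3, h.isotropic hm2 hm3, mul_zero, mul_one, add_zero, zero_add] at k1 k2
    rw [← k1, ← k2] at hx
    simp only [map_add, map_smul, LinearMap.add_apply, LinearMap.smul_apply, smul_eq_mul, hv2, h11, hw2,
      h22, hkw1, hkw2, ← k1, ← k2, zero_mul, mul_zero, mul_one, add_zero, zero_add] at k3 k4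
    rw [← k3, ← k4] at hx
    apply hw30
    rw [hx]; simp
  -- `W = {0, w1, w2, w1 + w2}`
  have hform : ∀ v, T v + v = S.b w1 v • w2 + S.b w2 v • w1 := by
    intro v
    have h1 := claim (v + S.b w1 v • v2 + S.b w2 v • v1) (by
      simp only [map_add, map_smul, smul_eq_mul, hv2, h11, mul_zero, mul_one, add_zero]
      have : ∀ a : ZMod 2, a + a = 0 := by decide
      exact this _) (by
      simp only [map_add, map_smul, smul_eq_mul, hw2, h22, mul_zero, mul_one, add_zero]
      have : ∀ a : ZMod 2, a + a = 0 := by decide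
      exact this _)
    rw [map_add, map_add, map_smul, map_smul] at h1
    have h2 : T v + v + (S.b w1 v • w2 + S.b w2 v • w1) = 0 := by
      rw [hw1d, hw2d, smul_add, smul_add, ← h1]; abel
    exact eq_of_add h2
  refine ⟨h, hq, ?_⟩
  let f : (ZMod 2 × ZMod 2) → W T := fun x => ⟨x.1 • w1 + x.2 • w2,
    Submodule.add_mem _ (Submodule.smul_mem _ _ hm1) (Submodule.smul_mem _ _ hm2)⟩
  have hf : Function.Bijective f := by
    constructor
    · intro x y hxy
      have h1 : x.1 • w1 + x.2 • w2 = y.1 • w1 + y.2 • w2 := congrArg Subtype.val hxy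
      have k3 := congrArg (fun u => S.b u v1) h1
      have k4 := congrArg (fun u => S.b u v2) h1
      simp only [map_add, map_smul, LinearMap.add_apply, LinearMap.smul_apply, smul_eq_mul, hv2, h11, hw2,
        h22, mul_zero, mul_one, add_zero, zero_add] at k3 k4
      exact Prod.ext k4 k3
    · rintro ⟨_, v, rfl⟩
      refine ⟨(S.b w2 v, S.b w1 v), Subtype.ext ?_⟩
      show S.b w2 v • w1 + S.b w1 v • w2 = T v + v
      rw [hform, add_comm]
  rw [← Nat.card_eq_of_bijective f hf]
  simp

/-! ### two involutions -/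

theorem Sing.comp_fix {T T' : V ≃ₗ[ZMod 2] V} (h : S.Sing T) (h' : S.Sing T')
    (h1 : ∀ w ∈ W T', w ∈ S.perp (W T) → w = 0) (h2 : ∀ w ∈ W T, w ∈ S.perp (W T') → w = 0) {w : V}
    (hw : w ∈ W T) : T (T' w) = T' w + w := by
  by_cases hw0 : w = 0
  · rw [hw0, map_zero, map_zero, add_zero]
  have hw' : w ∉ S.perp (W T') := fun h0 => hw0 (h2 w hw h0)
  have h3 : T' w + w ≠ 0 := h'.f_ne hw'
  have h4 : T' w + w ∉ S.perp (W T) := fun h0 => h3 (h1 _ (f_mem_W T' w) h0)
  have h5 : T (T' w + w) + (T' w + w) = w := eq_of_perp S h.card (f_mem_W T _) hw (h.f_ne h4) hw0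
    (h.alt _) (by rw [S.b_comm]; exact h'.alt w) h4
  rw [map_add, h.fix_W hw] at h5
  have h6 : T (T' w) + w + (T' w + w) = T (T' w) + T' w + (w + w) := by abel
  rw [h6, vadd_self, add_zero] at h5
  rw [add_comm (T' w)]
  exact add_eq_iff.1 h5

/-- the braid relation -/
theorem Sing.braid {T T' : V ≃ₗ[ZMod 2] V} (h : S.Sing T) (h' : S.Sing T')
    (h1 : ∀ w ∈ W T', w ∈ S.perp (W T) → w = 0) (h2 : ∀ w ∈ W T, w ∈ S.perp (W T') → w = 0) (v : V) :
    T (T' (T v)) = T' (T (T' v)) := by
  have ha := h.comp_fix h' h1 h2 (f_mem_W T v)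
  have hc := h'.comp_fix h h2 h1 (f_mem_W T' v)
  rw [map_add, map_add] at ha hc
  -- ha : T (T' (T v)) + T (T' v) = ...
  have h3 : T (T' (T v)) = T' (T v) + T' v + (T v + v) + T (T' v) := add_eq_iff.1 ha
  have h4 : T' (T (T' v)) = T (T' v) + T v + (T' v + v) + T' (T v) := add_eq_iff.1 hc
  rw [h3, h4]
  abel

/-- the commuting case -/
theorem Sing.meet {T T' : V ≃ₗ[ZMod 2] V} (h : S.Sing T) (h' : S.Sing T') {e : V} (he : e ∈ W T)
    (he' : e ∈ W T') (he0 : e ≠ 0) (hJ : ∀ w ∈ W T', w ∈ S.perp (W T) → w ∈ W T)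
    (hJ' : ∀ w ∈ W T, w ∈ S.perp (W T') → w ∈ W T') (v : V) : T (T' v) = T' (T v) := by
  by_cases hW : W T = W T'
  · have := h.eq_of_W h' hW
    rw [this]
  have key : ∀ T T' : V ≃ₗ[ZMod 2] V, S.Sing T → S.Sing T' → e ∈ W T → e ∈ W T' →
      (∀ w ∈ W T', w ∈ S.perp (W T) → w ∈ W T) → W T ≠ W T' → ∀ v,
      T (T' v + v) + (T' v + v) = S.b e v • e := by
    intro T T' h h' he he' hJ hW v
    rcases zm_cases (S.b e v) with hb | hb
    · rw [hb, zero_smul]
      have : T' v + v = 0 ∨ T' v + v = e := by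
        by_cases hv : v ∈ S.perp (W T')
        · left; rw [h'.fix_iff.2 hv, vadd_self]
        · right
          exact eq_of_perp S h'.card (f_mem_W T' v) he' (h'.f_ne hv) he0 (h'.alt v) hb hv
      rcases this with h1 | h1 <;> rw [h1]
      · rw [map_zero, add_zero]
      · rw [h.fix_W he, vadd_self]
    · rw [hb, one_smul]
      have hv : v ∉ S.perp (W T') := by
        intro h0
        have := S.mem_perp.1 h0 e he'
        rw [hb] at this
        exact absurd this (by decide)
      have hc0 := h'.f_ne hv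
      have hce : T' v + v ≠ e := by
        intro h0
        have := h'.alt v
        rw [h0, hb] at this
        exact absurd this (by decide)
      have hcW : T' v + v ∉ W T := by
        intro hc
        apply hW
        have hle : W T' ≤ W T := by
          intro w hw
          rcases four h'.card (f_mem_W T' v) he' hw hc0 he0 hce with rfl | rfl | rfl | rfl
          · exact Submodule.zero_mem _
          · exact hc
          · exact he
          · exact Submodule.add_mem _ hc he
        have hfin : Finite (W T) := Nat.finite_of_card_ne_zero (by rw [h.card]; norm_num)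
        apply le_antisymm _ hle
        have := Set.Finite.subset (Set.toFinite (W T : Set V)) hle
        have h2 : (W T' : Set V) = (W T : Set V) := by
          apply Set.eq_of_subset_of_ncard_le (ht := Set.toFinite _) hle
          show (W T : Set V).ncard ≤ (W T' : Set V).ncard
          have e1 : (W T : Set V).ncard = 4 := h.card
          have e2 : (W T' : Set V).ncard = 4 := h'.card
          rw [e1, e2]
        exact fun x hx => (h2 ▸ hx : x ∈ (W T' : Set V))
      have hcp : T' v + v ∉ S.perp (W T) := fun h0 => hcW (hJ _ (f_mem_W T' v) h0)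
      exact eq_of_perp S h.card (f_mem_W T _) he (h.f_ne hcp) he0 (h.alt _)
        (h'.isotropic he' (f_mem_W T' v)) hcp
  have k1 := key T T' h h' he he' hJ hW v
  have k2 := key T' T h' h he' he hJ' (Ne.symm hW) v
  rw [map_add] at k1 k2
  have k3 : T (T' v) + T v + (T' v + v) = T' (T v) + T' v + (T v + v) := k1.trans k2.symm
  have k4 : T (T' v) + (T v + T' v + v) = T' (T v) + (T v + T' v + v) := by
    calc T (T' v) + (T v + T' v + v) = T (T' v) + T v + (T' v + v) := by abel
      _ = T' (T v) + T' v + (T v + v) := k3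
      _ = _ := by abel
  exact add_right_cancel k4

/-- isometries trivial on `c^⊥` commute if `X v + v ∈ {0, c}`; `c` arbitrary -/
theorem comm_of_transvection [Finite V] {c : V} {X Y : V ≃ₗ[ZMod 2] V} (hX : S.Iso X) (hY : S.Iso Y)
    (hXc : ∀ v, S.b c v = 0 → X v = v) (hYc : ∀ v, S.b c v = 0 → Y v = v) (v : V) :
    X (Y v) = Y (X v) := by
  have key : ∀ Z : V ≃ₗ[ZMod 2] V, S.Iso Z → (∀ v, S.b c v = 0 → Z v = v) → ∀ v,
      Z v = v ∨ Z v = v + c := by
    intro Z hZ hZc v
    have h1 : Z v + v ∈ Submodule.span (ZMod 2) ({c} : Set V) := by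
      rw [← S.perp_perp (Submodule.span (ZMod 2) ({c} : Set V)), S.mem_perp]
      intro r hr
      have hcr : S.b c r = 0 := S.mem_perp.1 hr c (Submodule.subset_span rfl)
      have h2 : S.b r (Z v) = S.b r v := by
        have := hZ.b_eq r v
        rw [hZc r hcr] at this
        exact this
      rw [map_add, h2]
      have : ∀ a : ZMod 2, a + a = 0 := by decide
      exact this _
    rw [Submodule.mem_span_singleton] at h1
    obtain ⟨a, ha⟩ := h1
    rcases zm_cases a with rfl | rfl
    · left; rw [zero_smul] at ha; exact eq_of_add ha.symm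
    · right; rw [one_smul] at ha; rw [add_comm v]; exact add_eq_iff.1 ha.symm
  have hcc : S.b c c = 0 := S.b_self c
  rcases key X hX hXc v with h1 | h1 <;> rcases key Y hY hYc v with h2 | h2 <;> rw [h1, h2]
  · exact h1
  · rw [map_add, h1, hXc c hcc]
  · rw [h1, map_add, h2, hYc c hcc]
  · rw [map_add, map_add, h1, h2, hXc c hcc, hYc c hcc]

/-- `g² = 1` on `U^⊥ / U` if `U^⊥ / U` is of plus type -/
theorem sq_trivial [Finite V] (hV : Nat.card V = 64) {U : Submodule (ZMod 2) V} (hU : Nat.card U = 4)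
    (hq : ∀ u ∈ U, S.q u = 0) (hUU : U ≤ S.perp U) {v0 : V} (h0 : v0 ∈ S.perp U) (h0U : v0 ∉ U)
    (hq0 : S.q v0 = 0) {g : V ≃ₗ[ZMod 2] V} (hg : S.Iso g) (hgU : ∀ u ∈ U, g u ∈ U) {v : V}
    (hv : v ∈ S.perp U) : g (g v) + v ∈ U := by
  classical
  -- `v1`
  obtain ⟨v1, h1, h01, hq1⟩ : ∃ v1 ∈ S.perp U, S.b v0 v1 = 1 ∧ S.q v1 = 0 := by
    have h2 : ∃ v1 ∈ S.perp U, S.b v0 v1 = 1 := by
      by_contra hcon
      push Not at hcon
      apply h0U
      rw [← S.perp_perp U, S.mem_perp]
      intro u hu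
      rw [S.b_comm]
      rcases zm_cases (S.b v0 u) with h | h
      · exact h
      · exact absurd h (hcon u hu)
    obtain ⟨v1, h1, h01⟩ := h2
    rcases zm_cases (S.q v1) with h | h
    · exact ⟨v1, h1, h01, h⟩
    · refine ⟨v1 + v0, Submodule.add_mem _ h1 h0, by rw [map_add, h01, S.b_self, add_zero], ?_⟩
      rw [S.q_add, h, hq0, S.b_comm, h01]; decide
  have hUp : ∀ u ∈ U, ∀ w ∈ S.perp U, S.b u w = 0 := fun u hu w hw => S.mem_perp.1 hw u hu
  have hdec : ∀ w ∈ S.perp U, ∃ u ∈ U, ∃ a b : ZMod 2, w = u + a • v0 + b • v1 := by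
    let f : U × ZMod 2 × ZMod 2 → S.perp U := fun x => ⟨x.1 + x.2.1 • v0 + x.2.2 • v1,
      Submodule.add_mem _ (Submodule.add_mem _ (hUU x.1.2) (Submodule.smul_mem _ _ h0))
        (Submodule.smul_mem _ _ h1)⟩
    have hf : Function.Injective f := by
      intro x y hxy
      have e : (x.1 : V) + x.2.1 • v0 + x.2.2 • v1 = y.1 + y.2.1 • v0 + y.2.2 • v1 :=
        congrArg Subtype.val hxy
      have k0 := congrArg (S.b v0) e
      have k1 := congrArg (S.b v1) e
      simp only [map_add, map_smul, smul_eq_mul, S.b_self, h01, S.b_comm v1 v0, S.b_comm v0 (x.1 : V),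
        S.b_comm v0 (y.1 : V), S.b_comm v1 (x.1 : V), S.b_comm v1 (y.1 : V), hUp _ x.1.2 _ h0,
        hUp _ y.1.2 _ h0, hUp _ x.1.2 _ h1, hUp _ y.1.2 _ h1, mul_zero, mul_one, add_zero, zero_add] at k0 k1
      rw [k0, k1] at e
      have e2 : (x.1 : V) = y.1 := by
        rw [add_assoc, add_assoc] at e
        exact add_right_cancel e
      exact Prod.ext (Subtype.ext e2) (Prod.ext k1 k0)
    have hcard : Nat.card (U × ZMod 2 × ZMod 2) = Nat.card (S.perp U) := by
      have h3 := S.card_perp U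
      rw [hU, hV] at h3
      rw [Nat.card_prod, Nat.card_prod, hU, Nat.card_zmod]
      omega
    have hsurj : Function.Surjective f := by
      have : Fintype (U × ZMod 2 × ZMod 2) := Fintype.ofFinite _
      have : Fintype (S.perp U) := Fintype.ofFinite _
      have h4 : Fintype.card (U × ZMod 2 × ZMod 2) = Fintype.card (S.perp U) := by
        rw [← Nat.card_eq_fintype_card, ← Nat.card_eq_fintype_card]; exact hcard
      exact ((Fintype.bijective_iff_injective_and_card f).2 ⟨hf, h4⟩).2
    intro w hw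
    obtain ⟨x, hx⟩ := hsurj ⟨w, hw⟩
    exact ⟨x.1, x.1.2, x.2.1, x.2.2, (congrArg Subtype.val hx).symm⟩
  have hqdec : ∀ u ∈ U, ∀ a b : ZMod 2, S.q (u + a • v0 + b • v1) = a * b := by
    intro u hu a b
    rw [S.q_add, S.q_add, hq u hu]
    have e1 : S.q (a • v0) = 0 := by
      rcases zm_cases a with rfl | rfl
      · rw [zero_smul, S.q_zero]
      · rw [one_smul, hq0]
    have e2 : S.q (b • v1) = 0 := by
      rcases zm_cases b with rfl | rfl
      · rw [zero_smul, S.q_zero]
      · rw [one_smul, hq1]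
    rw [e1, e2]
    simp only [map_add, map_smul, LinearMap.add_apply, LinearMap.smul_apply, smul_eq_mul, h01,
      hUp _ hu _ h0, hUp _ hu _ h1, mul_zero, mul_one, add_zero, zero_add, mul_comm]
  -- `g` preserves `U` and `U^⊥`
  have hginj : ∀ w, g w ∈ U → w ∈ U := by
    intro w hw
    let f : U → U := fun u => ⟨g u, hgU u u.2⟩
    have hf : Function.Injective f := fun x y hxy =>
      Subtype.ext (g.injective (congrArg Subtype.val hxy))
    have hfin : Finite U := Nat.finite_of_card_ne_zero (by rw [hU]; norm_num)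
    obtain ⟨u, hu⟩ := (Finite.injective_iff_surjective.1 hf) ⟨g w, hw⟩
    have : g u = g w := congrArg Subtype.val hu
    rw [← g.injective this]; exact u.2
  have hgperp : ∀ w ∈ S.perp U, g w ∈ S.perp U := by
    intro w hw
    rw [S.mem_perp]
    intro u hu
    obtain ⟨u', rfl⟩ : ∃ u', g u' = u := ⟨g.symm u, by simp⟩
    rw [hg.b_eq]
    exact hUp _ (hginj _ hu) _ hw
  obtain ⟨u0, hu0, a0, b0, e0⟩ := hdec _ (hgperp _ h0)
  obtain ⟨u1, hu1, a1, b1, e1⟩ := hdec _ (hgperp _ h1)
  have q0 : a0 * b0 = 0 := by rw [← hqdec u0 hu0, ← e0, hg, hq0]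
  have q1 : a1 * b1 = 0 := by rw [← hqdec u1 hu1, ← e1, hg, hq1]
  have hb : a0 * b1 + b0 * a1 = 1 := by
    have h2 := hg.b_eq v0 v1
    rw [e0, e1, h01] at h2
    simp only [map_add, map_smul, LinearMap.add_apply, LinearMap.smul_apply, smul_eq_mul, h01,
      S.b_comm v1 v0, S.b_self, hUp _ hu0 _ h0, hUp _ hu0 _ h1, S.b_comm v0 u1, S.b_comm v1 u1,
      hUp _ hu1 _ h0, hUp _ hu1 _ h1, hUp _ hu0 _ (hUU hu1), mul_zero, mul_one, add_zero, zero_add] at h2
    rw [← h2]; ring
  obtain ⟨u, hu, a, c, rfl⟩ := hdec v hv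
  have hcase : (a0 = 1 ∧ b0 = 0 ∧ a1 = 0 ∧ b1 = 1) ∨ (a0 = 0 ∧ b0 = 1 ∧ a1 = 1 ∧ b1 = 0) := by
    revert q0 q1 hb
    clear e0 e1
    revert a0 b0 a1 b1
    decide
  have hsum : ∀ x ∈ U, ∀ y ∈ U, ∀ z ∈ U, x + y + z ∈ U := fun x hx y hy z hz =>
    Submodule.add_mem _ (Submodule.add_mem _ hx hy) hz
  rcases hcase with ⟨rfl, rfl, rfl, rfl⟩ | ⟨rfl, rfl, rfl, rfl⟩
  · rw [one_smul, zero_smul, add_zero] at e0
    rw [zero_smul, one_smul, add_zero] at e1
    have h3 : g (g v0) = g u0 + (u0 + v0) := by rw [e0, map_add, e0]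
    have h4 : g (g v1) = g u1 + (u1 + v1) := by rw [e1, map_add, e1]
    have h5 : g (g (u + a • v0 + c • v1)) + (u + a • v0 + c • v1) =
        (g (g u) + u) + (a • (g u0 + u0)) + (c • (g u1 + u1)) := by
      simp only [map_add, map_smul, h3, h4]
      have e : g (g u) + a • (g u0 + (u0 + v0)) + c • (g u1 + (u1 + v1)) + (u + a • v0 + c • v1) =
          (g (g u) + u) + (a • (g u0 + u0)) + (c • (g u1 + u1)) + (a • v0 + a • v0) +
            (c • v1 + c • v1) := by
        simp only [smul_add]; abel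
      rw [e, vadd_self, vadd_self, add_zero, add_zero]
    rw [h5]
    exact hsum _ (Submodule.add_mem _ (hgU _ (hgU _ hu)) hu) _
      (Submodule.smul_mem _ _ (Submodule.add_mem _ (hgU _ hu0) hu0)) _
      (Submodule.smul_mem _ _ (Submodule.add_mem _ (hgU _ hu1) hu1))
  · rw [one_smul, zero_smul, add_zero] at e0
    rw [zero_smul, one_smul, add_zero] at e1
    have h3 : g (g v0) = g u0 + (u1 + v0) := by rw [e0, map_add, e1]
    have h4 : g (g v1) = g u1 + (u0 + v1) := by rw [e1, map_add, e0]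
    have h5 : g (g (u + a • v0 + c • v1)) + (u + a • v0 + c • v1) =
        (g (g u) + u) + (a • (g u0 + u1)) + (c • (g u1 + u0)) := by
      simp only [map_add, map_smul, h3, h4]
      have e : g (g u) + a • (g u0 + (u1 + v0)) + c • (g u1 + (u0 + v1)) + (u + a • v0 + c • v1) =
          (g (g u) + u) + (a • (g u0 + u1)) + (c • (g u1 + u0)) + (a • v0 + a • v0) +
            (c • v1 + c • v1) := by
        simp only [smul_add]; abel
      rw [e, vadd_self, vadd_self, add_zero, add_zero]
    rw [h5]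
    exact hsum _ (Submodule.add_mem _ (hgU _ (hgU _ hu)) hu) _
      (Submodule.smul_mem _ _ (Submodule.add_mem _ (hgU _ hu0) hu1)) _
      (Submodule.smul_mem _ _ (Submodule.add_mem _ (hgU _ hu1) hu0))

end Cfsg.Agent.LargeExtra.WC.QS
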