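import Cfsg.Agent.LargeExtra.WC1
import Cfsg.Agent.Co2Type.Quad

/-!
# S1762, case I: commuting pairs of points (helper888)
-/

set_option autoImplicit false

namespace Cfsg.Agent.LargeExtra.WC

open Cfsg.Agent.Co2Type.Quad

section large

variable {G : Type*} [Group G] {Q : Subgroup G} {z : G} (h : Large Q z)

/-- the quadratic space `Q / ⟨z⟩` -/
noncomputable def qs : QS h.V where
  q := h.q
  b := h.b
  q_add := h.q_add'
  nondeg := fun _ hv => h.b_nondeg hv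

/-- the action of `g ∈ C(z)` -/
noncomputable def ac (g : G) (hg : g * z = z * g) : h.V ≃ₗ[ZMod 2] h.V :=
  h.act ⟨g, Subgroup.mem_centralizer_singleton_iff.2 hg⟩

theorem ac_pr (g : G) (hg : g * z = z * g) (x : G) (hx : x ∈ Q) :
    ac h g hg (h.pr ⟨x, hx⟩) = h.pr ⟨g * x * g⁻¹, h.conj_mem g hg x hx⟩ :=
  h.act_pr _ _

theorem ac_iso (g : G) (hg : g * z = z * g) : (qs h).Iso (ac h g hg) := fun v => h.q_act _ v

theorem ac_mul (g g' : G) (hg : g * z = z * g) (hg' : g' * z = z * g') (hgg : g * g' * z = z * (g * g'))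
    (v : h.V) : ac h (g * g') hgg v = ac h g hg (ac h g' hg' v) := by
  have : (⟨g * g', Subgroup.mem_centralizer_singleton_iff.2 hgg⟩ : Subgroup.centralizer ({z} : Set G)) =
      ⟨g, Subgroup.mem_centralizer_singleton_iff.2 hg⟩ * ⟨g', Subgroup.mem_centralizer_singleton_iff.2 hg'⟩ :=
    rfl
  rw [ac, this, map_mul]; rfl

theorem mem_of_ac [Finite Q] (g : G) (hg : g * z = z * g) (h1 : ∀ v, ac h g hg v = v) : g ∈ Q :=
  h.mem_of_act ⟨g, Subgroup.mem_centralizer_singleton_iff.2 hg⟩ (LinearEquiv.ext h1)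

theorem pr_surj (v : h.V) : ∃ (x : G) (hx : x ∈ Q), h.pr ⟨x, hx⟩ = v := by
  obtain ⟨x, hx⟩ := h.pr_surjective v
  exact ⟨x, x.2, hx⟩

theorem ac_add (g : G) (hg : g * z = z * g) (x : G) (hx : x ∈ Q) :
    ac h g hg (h.pr ⟨x, hx⟩) + h.pr ⟨x, hx⟩ =
      h.pr ⟨g * x * g⁻¹ * x⁻¹, mul_mem (h.conj_mem g hg x hx) (inv_mem hx)⟩ := by
  rw [ac_pr]
  have : (⟨g * x * g⁻¹ * x⁻¹, mul_mem (h.conj_mem g hg x hx) (inv_mem hx)⟩ : Q) =
      ⟨g * x * g⁻¹, h.conj_mem g hg x hx⟩ * ⟨x, hx⟩⁻¹ := rfl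
  rw [this, h.pr_mul, h.pr_inv, h.neg_eq]

end large

/-- the setting: `P` a conjugacy class of involutions, `Q p` a large extraspecial subgroup of order `2 ^ 7` with
centre `⟨p⟩`, `P ∩ Q p = {p}` -/
structure WCBase {G : Type*} [Group G] (P : Set G) (Q : G → Subgroup G) : Prop where
  conj_mem : ∀ p ∈ P, ∀ g : G, g * p * g⁻¹ ∈ P
  exists_conj : ∀ p ∈ P, ∀ q ∈ P, ∃ g : G, g * p * g⁻¹ = q
  large : ∀ p ∈ P, Large (Q p) p
  card : ∀ p ∈ P, Nat.card (Q p) = 2 ^ 7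
  Q_conj : ∀ p ∈ P, ∀ g x : G, x ∈ Q p → g * x * g⁻¹ ∈ Q (g * p * g⁻¹)
  eq_of_mem : ∀ p ∈ P, ∀ x ∈ P, x ∈ Q p → x = p

/-- commuting pairs -/
structure Com {G : Type*} [Group G] (P : Set G) (p t : G) : Prop where
  hp : p ∈ P
  ht : t ∈ P
  ne : p ≠ t
  com : p * t = t * p

/-- `t` is not conjugate to `t p` in `Q p` -/
def Tau {G : Type*} [Group G] (Q : G → Subgroup G) (p t : G) : Prop :=
  ∀ y ∈ Q p, y * t * y⁻¹ ≠ t * p

section base

variable {G : Type*} [Group G] {P : Set G} {Q : G → Subgroup G} (B : WCBase P Q)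
include B

theorem WCBase.finQ {p : G} (hp : p ∈ P) : Finite (Q p) :=
  Nat.finite_of_card_ne_zero (by rw [B.card p hp]; norm_num)

theorem WCBase.cardV {p : G} (hp : p ∈ P) : Nat.card (B.large p hp).V = 64 := by
  have h1 := (B.large p hp).card_eq
  rw [B.card p hp] at h1
  omega

theorem WCBase.sq {p : G} (hp : p ∈ P) : p * p = 1 := (B.large p hp).z_sq

theorem WCBase.inv {p : G} (hp : p ∈ P) : p⁻¹ = p := (B.large p hp).z_inv

end base

namespace Com

variable {G : Type*} [Group G] {P : Set G} {Q : G → Subgroup G} {p t : G}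

theorem symm (c : Com P p t) : Com P t p := ⟨c.ht, c.hp, c.ne.symm, c.com.symm⟩

variable (B : WCBase P Q) (c : Com P p t)
include B c

theorem notMem : t ∉ Q p := fun h => c.ne (B.eq_of_mem p c.hp t c.ht h).symm

/-- `[x, t]` for `x ∈ Q p` -/
theorem u_mem {x : G} (hx : x ∈ Q p) : t * x * t⁻¹ * x⁻¹ ∈ Q p :=
  mul_mem ((B.large p c.hp).conj_mem t c.com.symm x hx) (inv_mem hx)

/-- `x t x⁻¹ t⁻¹ ∈ Q p` for `x ∈ Q p` -/
theorem u_mem' {x : G} (hx : x ∈ Q p) : x * t * x⁻¹ * t⁻¹ ∈ Q p := by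
  have h1 := (B.large p c.hp).conj_mem t c.com.symm _ (inv_mem hx)
  have := mul_mem hx h1
  have e : x * (t * x⁻¹ * t⁻¹) = x * t * x⁻¹ * t⁻¹ := by group
  rwa [e] at this

theorem inv_aux {x : G} : t * (t * x * t⁻¹ * x⁻¹) * t⁻¹ = (t * x * t⁻¹ * x⁻¹)⁻¹ := by
  have h1 := B.sq c.ht
  have h2 := B.inv c.ht
  simp only [mul_inv_rev, inv_inv, h2]
  calc t * (t * x * t * x⁻¹) * t = (t * t) * (x * t * x⁻¹ * t) := by group
    _ = _ := by rw [h1]; group

theorem sq_of_tau (hτ : Tau Q p t) {x : G} (hx : x ∈ Q p) :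
    (t * x * t⁻¹ * x⁻¹) * (t * x * t⁻¹ * x⁻¹) = 1 := by
  rcases (B.large p c.hp).sq _ (c.u_mem B hx) with h | h
  · exact h
  · exfalso
    have h1 := c.inv_aux B (x := x)
    have hu := c.u_mem B hx
    revert h h1 hu
    generalize t * x * t⁻¹ * x⁻¹ = u
    intro h h1 hu
    have hup := (B.large p c.hp).commz hu
    have h2 : u⁻¹ = u * p := by
      rw [inv_eq_iff_mul_eq_one, ← mul_assoc, h]; exact B.sq c.hp
    refine hτ u⁻¹ (inv_mem hu) ?_
    rw [inv_inv, mul_assoc, inv_mul_eq_iff_eq_mul]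
    have h3 : t * u = u * p * t := by
      rw [← h2, ← h1]; group
    rw [h3, mul_assoc, c.com]

theorem ne_of_tau (hτ : Tau Q p t) {x : G} (hx : x ∈ Q p) : t * x * t⁻¹ * x⁻¹ ≠ p := by
  intro h
  refine hτ x hx ?_
  have h2 := B.inv c.ht
  have h1 : t * x * t⁻¹ = p * x := by rw [← h]; group
  have h3 : x * t * x⁻¹ = (x * t⁻¹ * x⁻¹) := by rw [h2]
  have h4 : x * t⁻¹ = t⁻¹ * (p * x) := by rw [← h1]; group
  rw [h3, h4, h2, ← mul_assoc, mul_assoc, mul_inv_cancel, mul_one]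

theorem comm_of_tau (hτ : Tau Q p t) {x : G} (hx : x ∈ Q p)
    (h : (t * x * t⁻¹ = x ∨ t * x * t⁻¹ = x * p)) : t * x = x * t := by
  rcases h with h | h
  · rw [mul_inv_eq_iff_eq_mul] at h; exact h
  · exfalso
    refine c.ne_of_tau B hτ hx ?_
    rw [h, ((B.large p c.hp).commz hx).eq]; group

/-- action of `t` on `Q p / ⟨p⟩` -/
noncomputable def T : (B.large p c.hp).V ≃ₗ[ZMod 2] (B.large p c.hp).V :=
  ac (B.large p c.hp) t c.com.symm

theorem T_inv : (qs (B.large p c.hp)).Inv (c.T B) := by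
  refine ⟨ac_iso _ _ _, fun v => ?_⟩
  obtain ⟨x, hx, rfl⟩ := pr_surj _ v
  rw [T, ac_pr, ac_pr]
  congr 1
  apply Subtype.ext
  show t * (t * x * t⁻¹) * t⁻¹ = x
  calc t * (t * x * t⁻¹) * t⁻¹ = (t * t) * x * (t * t)⁻¹ := by group
    _ = x := by rw [B.sq c.ht]; group

theorem T_ne : ∃ v, c.T B v ≠ v := by
  by_contra hcon
  push Not at hcon
  have := B.finQ c.hp
  exact c.notMem B (mem_of_ac _ _ _ hcon)

theorem sing (hτ : Tau Q p t) : (qs (B.large p c.hp)).Sing (c.T B) := by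
  have := B.finQ c.hp
  refine (c.T_inv B).toSing (B.cardV c.hp) ?_ (c.T_ne B)
  intro v
  obtain ⟨x, hx, rfl⟩ := pr_surj _ v
  rw [T, ac_add]
  exact (B.large p c.hp).q_eq_zero.2 (c.sq_of_tau B hτ hx)

theorem fix_iff (hτ : Tau Q p t) {x : G} (hx : x ∈ Q p) :
    (B.large p c.hp).pr ⟨x, hx⟩ ∈ (qs (B.large p c.hp)).perp (QS.W (c.T B)) ↔ t * x = x * t := by
  rw [← (c.T_inv B).fix_iff, T, ac_pr, (B.large p c.hp).pr_eq_pr]
  constructor
  · exact fun h => c.comm_of_tau B hτ hx h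
  · intro h; left
    show t * x * t⁻¹ = x
    rw [h]; group

/-- `D = Q p ∩ Q t` -/
theorem D_sq {d : G} (h1 : d ∈ Q p) (h2 : d ∈ Q t) : d * d = 1 := by
  rcases (B.large p c.hp).sq d h1 with h | h
  · exact h
  · rcases (B.large t c.ht).sq d h2 with h' | h'
    · exact h'
    · exact absurd (h.symm.trans h') c.ne

theorem D_comm {d e : G} (h1 : d ∈ Q p) (h2 : d ∈ Q t) (h3 : e ∈ Q p) (h4 : e ∈ Q t) :
    d * e = e * d := by
  rcases (B.large p c.hp).comm d h1 e h3 with h | h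
  · exact h
  · rcases (B.large t c.ht).comm d h2 e h4 with h' | h'
    · exact h'
    · exfalso
      rw [h] at h'
      exact c.ne (mul_left_cancel h')

/-- `D` is central in `C_{Q p}(t)` -/
theorem D_central {d r : G} (h1 : d ∈ Q p) (h2 : d ∈ Q t) (h3 : r ∈ Q p) (h4 : r * t = t * r) :
    r * d = d * r := by
  have hc : r * d * r⁻¹ * d⁻¹ ∈ Q t :=
    mul_mem ((B.large t c.ht).conj_mem r h4 d h2) (inv_mem h2)
  rcases (B.large p c.hp).comm r h3 d h1 with h | h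
  · exact h
  · exfalso
    have e : r * d * r⁻¹ * d⁻¹ = p := by
      rw [h, mul_assoc (d * r), ((B.large p c.hp).commz h3).inv_left.eq.symm,
        mul_assoc (d * r), mul_assoc r⁻¹, ((B.large p c.hp).commz h1).inv_left.eq.symm]
      group
    rw [e] at hc
    exact c.symm.notMem B hc

/-- elements of `D` commute with `t` -/
theorem D_t {d : G} (h2 : d ∈ Q t) : d * t = t * d := (B.large t c.ht).comm_z d h2

theorem D_p {d : G} (h1 : d ∈ Q p) : d * p = p * d := (B.large p c.hp).comm_z d h1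

/-- `D̃ ≤ W` -/
theorem D_le (hτ : Tau Q p t) {d : G} (h1 : d ∈ Q p) (h2 : d ∈ Q t) :
    (B.large p c.hp).pr ⟨d, h1⟩ ∈ QS.W (c.T B) := by
  have := B.finQ c.hp
  rw [← (qs (B.large p c.hp)).perp_perp (QS.W (c.T B)), QS.mem_perp]
  intro v hv
  obtain ⟨r, hr, rfl⟩ := pr_surj _ v
  rw [c.fix_iff B hτ] at hv
  exact ((B.large p c.hp).b_pr _ _).2 (c.D_central B h1 h2 hr hv.symm)

/-- two elements of `C_{Q p}(t)` which do not commute -/
theorem exists_noncomm (hτ : Tau Q p t) : ∃ x ∈ Q p, ∃ y ∈ Q p, t * x = x * t ∧ t * y = y * t ∧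
    x * y = y * x * p := by
  have := B.finQ c.hp
  by_contra hcon
  push Not at hcon
  have h1 := (qs (B.large p c.hp)).card_perp (QS.W (c.T B))
  rw [(c.sing B hτ).card, B.cardV c.hp] at h1
  have h2 := (qs (B.large p c.hp)).card_isotropic_le (B.cardV c.hp)
    ((qs (B.large p c.hp)).perp (QS.W (c.T B))) (by
      intro u hu v hv
      obtain ⟨x, hx, rfl⟩ := pr_surj _ u
      obtain ⟨y, hy, rfl⟩ := pr_surj _ v
      rw [c.fix_iff B hτ] at hu hv
      have h3 := hcon x hx y hy hu hv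
      exact ((B.large p c.hp).b_pr _ _).2 (((B.large p c.hp).comm x hx y hy).resolve_right h3))
  omega

end Com

/-- the good pairs -/
structure Good {G : Type*} [Group G] (P : Set G) (Q : G → Subgroup G) (p t : G) : Prop extends
    Com P p t where
  tau : Tau Q p t
  tau' : Tau Q t p

namespace Good

variable {G : Type*} [Group G] {P : Set G} {Q : G → Subgroup G} {p t : G}

theorem symm (c : Good P Q p t) : Good P Q t p := ⟨c.toCom.symm, c.tau', c.tau⟩

variable (B : WCBase P Q) (c : Good P Q p t)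
include B c

/-- `D̃ = W` -/
theorem D_eq {w : (B.large p c.hp).V} (hw : w ∈ QS.W (c.T B)) :
    ∃ (d : G) (h1 : d ∈ Q p) (_ : d ∈ Q t), (B.large p c.hp).pr ⟨d, h1⟩ = w := by
  have := B.finQ c.hp
  have hsing := c.sing B c.tau
  by_contra hcon
  -- a vector `c0` with `D̃ ⊆ {0, c0}`
  obtain ⟨c0, hc0, hc00, hD⟩ : ∃ c0 ∈ QS.W (c.T B), c0 ≠ 0 ∧ ∀ (d : G) (h1 : d ∈ Q p) (_ : d ∈ Q t),
      (B.large p c.hp).pr ⟨d, h1⟩ = 0 ∨ (B.large p c.hp).pr ⟨d, h1⟩ = c0 := by
    have hw0 : w ≠ 0 := by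
      rintro rfl
      exact hcon ⟨1, one_mem _, one_mem _, (B.large p c.hp).pr_one⟩
    by_cases hall : ∀ (d : G) (h1 : d ∈ Q p) (_ : d ∈ Q t), (B.large p c.hp).pr ⟨d, h1⟩ = 0
    · exact ⟨w, hw, hw0, fun d h1 h2 => Or.inl (hall d h1 h2)⟩
    · push Not at hall
      obtain ⟨d0, h1, h2, h3⟩ := hall
      refine ⟨_, c.D_le B c.tau h1 h2, h3, ?_⟩
      intro d h1' h2'
      have hne : (B.large p c.hp).pr ⟨d0, h1⟩ ≠ w := fun h => hcon ⟨d0, h1, h2, h⟩
      rcases QS.four hsing.card (c.D_le B c.tau h1 h2) hw (c.D_le B c.tau h1' h2') h3 hw0 hne with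
        h | h | h | h
      · left; exact h
      · right; exact h
      · exact absurd ⟨d, h1', h2', h⟩ hcon
      · exfalso
        apply hcon
        refine ⟨d * d0, mul_mem h1' h1, mul_mem h2' h2, ?_⟩
        have : (⟨d * d0, mul_mem h1' h1⟩ : Q p) = ⟨d, h1'⟩ * ⟨d0, h1⟩ := rfl
        rw [this, (B.large p c.hp).pr_mul, h, add_right_comm, vadd_self, zero_add]
  have hX : ∀ x ∈ Q t, ∀ hx : x * p = p * x, (∀ v ∈ (qs (B.large p c.hp)).perp (QS.W (c.T B)),
      ac (B.large p c.hp) x hx v = v ∨ ac (B.large p c.hp) x hx v = v + c0) ∧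
      ac (B.large p c.hp) x hx c0 = c0 := by
    intro x hxt hx
    have h1 : ∀ v ∈ (qs (B.large p c.hp)).perp (QS.W (c.T B)),
        ac (B.large p c.hp) x hx v = v ∨ ac (B.large p c.hp) x hx v = v + c0 := by
      intro v hv
      obtain ⟨r, hr, rfl⟩ := pr_surj _ v
      rw [c.fix_iff B c.tau] at hv
      have h2 : x * r * x⁻¹ * r⁻¹ ∈ Q t := by
        have h3 := (B.large t c.ht).conj_mem r hv.symm x⁻¹ (inv_mem hxt)
        have h4 := mul_mem hxt h3
        have e : x * (r * x⁻¹ * r⁻¹) = x * r * x⁻¹ * r⁻¹ := by group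
        rwa [e] at h4
      have h5 := ac_add (B.large p c.hp) x hx r hr
      rcases hD _ (mul_mem ((B.large p c.hp).conj_mem x hx r hr) (inv_mem hr)) h2 with h6 | h6
      · left; rw [h6] at h5; exact eq_of_add h5
      · right; rw [h6] at h5
        rw [add_comm _ c0]
        exact add_eq_iff.1 h5
    refine ⟨h1, ?_⟩
    rcases h1 c0 (hsing.W_le hc0) with h2 | h2
    · exact h2
    · rw [vadd_self] at h2
      exact absurd ((LinearEquiv.map_eq_zero_iff _).1 h2) hc00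
  obtain ⟨x, hx, y, hy, hxp, hyp, hxy⟩ := c.symm.exists_noncomm B c.tau'
  have hx' : x * p = p * x := hxp.symm
  have hy' : y * p = p * y := hyp.symm
  have hcomm := QS.siegel hsing.card (fun u hu => hsing.q_W hu) hc0 hc00
    (ac_iso (B.large p c.hp) x hx') (ac_iso (B.large p c.hp) y hy') (hX x hx hx').2 (hX y hy hy').2
    (hX x hx hx').1 (hX y hy hy').1
  -- `t` acts trivially
  obtain ⟨v, hv⟩ := c.T_ne B
  apply hv
  have hxyp : x * y * p = p * (x * y) := by rw [mul_assoc, hy', ← mul_assoc, hx', mul_assoc]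
  have hyxp : y * x * p = p * (y * x) := by rw [mul_assoc, hx', ← mul_assoc, hy', mul_assoc]
  have hyxtp : y * x * t * p = p * (y * x * t) := by rw [← hxy]; exact hxyp
  have h1 : ac (B.large p c.hp) (x * y) hxyp v = ac (B.large p c.hp) (y * x) hyxp v := by
    rw [ac_mul _ _ _ hx' hy', ac_mul _ _ _ hy' hx', hcomm]
  have h2 : ac (B.large p c.hp) (x * y) hxyp v = ac (B.large p c.hp) (y * x * t) hyxtp v := by
    congr 1
    have : ∀ (a b : G) (ha : a * p = p * a) (hb : b * p = p * b), a = b →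
        ac (B.large p c.hp) a ha = ac (B.large p c.hp) b hb := by
      rintro a b ha hb rfl; rfl
    rw [this _ _ hxyp hyxtp hxy]
  rw [ac_mul _ _ _ hyxp c.com.symm, h1] at h2
  exact ((ac (B.large p c.hp) (y * x) hyxp).injective h2).symm

end Good

end Cfsg.Agent.LargeExtra.WC
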