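import Cfsg.Agent.LargeExtra.WC3

/-!
# S1762, case I: the group `F` of a line, the five components, and (J0) (helper888)
-/

set_option autoImplicit false

namespace Cfsg.Agent.LargeExtra.WC

open Cfsg.Agent.Co2Type.Quad

namespace Good

variable {G : Type*} [Group G] {P : Set G} {Q : G → Subgroup G} {p t : G}

theorem F_comm {L : Set G} {r : G} (hr : ∀ x ∈ L, r * x = x * r) {f : G} (hf : f ∈ Subgroup.closure L) :
    r * f = f * r := by
  have h1 : Subgroup.closure L ≤ Subgroup.centralizer ({r} : Set G) := by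
    rw [Subgroup.closure_le]
    intro x hx
    exact Subgroup.mem_centralizer_singleton_iff.2 (hr x hx).symm
  exact (Subgroup.mem_centralizer_singleton_iff.1 (h1 hf)).symm

theorem F_conj {L : Set G} {g : G} (hg : g ∈ Subgroup.normalizer L) {f : G}
    (hf : f ∈ Subgroup.closure L) : g * f * g⁻¹ ∈ Subgroup.closure L := by
  have h1 : Subgroup.closure L ≤ (Subgroup.closure L).comap (MulAut.conj g).toMonoidHom := by
    rw [Subgroup.closure_le]
    intro x hx
    exact Subgroup.subset_closure ((hg x).1 hx)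
  exact h1 hf

variable (B : WCBase P Q) (c : Good P Q p t)
include B c

theorem mem_F {f : G} : f ∈ Subgroup.closure (Lset Q p t) ↔
    ∃ d ∈ Q p, d ∈ Q t ∧ (f = d ∨ f = p * d ∨ f = t * d ∨ f = p * t * d) := by
  have hpL : p ∈ Lset Q p t := Or.inl rfl
  have htL : t ∈ Lset Q p t := Or.inr (Or.inl rfl)
  have hp1 := B.sq c.hp
  have ht1 := B.sq c.ht
  have hpt2 : p * t * (p * t) = 1 := by
    calc p * t * (p * t) = p * (t * p) * t := by group
      _ = (p * p) * (t * t) := by rw [← c.com]; group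
      _ = 1 := by rw [hp1, ht1, mul_one]
  constructor
  · -- the set on the right is a subgroup
    intro hf
    -- generic extension
    have hext : ∀ (D : Subgroup G) (e : G), e * e = 1 → (∀ d ∈ D, e * d = d * e) →
        ∃ E : Subgroup G, ∀ g, g ∈ E ↔ (g ∈ D ∨ e * g ∈ D) := by
      intro D e he hD
      refine ⟨{ carrier := {g | g ∈ D ∨ e * g ∈ D}
                one_mem' := Or.inl (one_mem D)
                mul_mem' := ?_
                inv_mem' := ?_ }, fun g => Iff.rfl⟩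
      · rintro a b (ha | ha) (hb | hb)
        · exact Or.inl (mul_mem ha hb)
        · right
          have : e * (a * b) = a * (e * b) := by rw [← mul_assoc, hD a ha, mul_assoc]
          show e * (a * b) ∈ D
          rw [this]; exact mul_mem ha hb
        · right
          show e * (a * b) ∈ D
          rw [← mul_assoc]; exact mul_mem ha hb
        · left
          show a * b ∈ D
          have h1 := hD _ ha
          have h2 : a * b = (e * a) * (e * b) := by
            calc a * b = (e * e) * a * b := by rw [he, one_mul]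
              _ = (e * (e * a)) * b := by group
              _ = (e * a) * e * b := by rw [h1]
              _ = _ := by group
          rw [h2]; exact mul_mem ha hb
      · rintro a (ha | ha)
        · exact Or.inl (inv_mem ha)
        · right
          show e * a⁻¹ ∈ D
          have h1 := hD _ ha
          have h2 : e * a = a * e := by
            have h3 : e * (e * a) = a := by rw [← mul_assoc, he, one_mul]
            rw [h3] at h1
            calc e * a = e * (e * a * e) := by rw [← h1]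
              _ = (e * e) * a * e := by group
              _ = a * e := by rw [he, one_mul]
          have h3 : e * a⁻¹ = (e * a)⁻¹ := by
            have : e⁻¹ = e := inv_eq_of_mul_eq_one_left he
            rw [mul_inv_rev, this]
            have h4 : a⁻¹ * e = e * a⁻¹ := by
              rw [inv_mul_eq_iff_eq_mul, ← mul_assoc, ← h2]; group
            exact h4.symm
          rw [h3]; exact inv_mem ha
    obtain ⟨E1, hE1⟩ := hext (Q p ⊓ Q t) p hp1 (fun d hd => (c.D_p B hd.1).symm)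
    obtain ⟨E2, hE2⟩ := hext E1 t ht1 (by
      intro d hd
      rcases (hE1 d).1 hd with h | h
      · exact (c.D_t B h.2).symm
      · have h1 := (c.D_t B h.2).symm
        have e1 : d = p * (p * d) := by rw [← mul_assoc, hp1, one_mul]
        rw [e1, ← mul_assoc, ← c.com, mul_assoc, h1, ← mul_assoc])
    have hle : Subgroup.closure (Lset Q p t) ≤ E2 := by
      rw [Subgroup.closure_le]
      rintro x (rfl | rfl | ⟨d, h1, h2, h3, rfl⟩)
      · exact (hE2 _).2 (Or.inl ((hE1 _).2 (Or.inr (by rw [hp1]; exact one_mem _))))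
      · exact (hE2 _).2 (Or.inr ((hE1 _).2 (Or.inl (by rw [ht1]; exact one_mem _))))
      · refine (hE2 _).2 (Or.inr ((hE1 _).2 (Or.inr ?_)))
        have : p * (t * (p * t * d)) = d := by
          calc p * (t * (p * t * d)) = (p * t * (p * t)) * d := by group
            _ = d := by rw [hpt2, one_mul]
        rw [this]; exact ⟨h1, h2⟩
    rcases (hE2 _).1 (hle hf) with h | h
    · rcases (hE1 _).1 h with h' | h'
      · exact ⟨f, h'.1, h'.2, Or.inl rfl⟩
      · exact ⟨p * f, h'.1, h'.2, Or.inr (Or.inl (by rw [← mul_assoc, hp1, one_mul]))⟩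
    · rcases (hE1 _).1 h with h' | h'
      · exact ⟨t * f, h'.1, h'.2, Or.inr (Or.inr (Or.inl (by rw [← mul_assoc, ht1, one_mul])))⟩
      · refine ⟨p * (t * f), h'.1, h'.2, Or.inr (Or.inr (Or.inr ?_))⟩
        calc f = (p * t * (p * t)) * f := by rw [hpt2, one_mul]
          _ = _ := by group
  · rintro ⟨d, h1, h2, hf⟩
    have hd : d ∈ Subgroup.closure (Lset Q p t) := by
      by_cases hd1 : d = 1
      · rw [hd1]; exact one_mem _
      · have : d = p * t * (p * t * d) := by rw [← mul_assoc, hpt2, one_mul]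
        rw [this]
        exact mul_mem (mul_mem (Subgroup.subset_closure hpL) (Subgroup.subset_closure htL))
          (Subgroup.subset_closure (Or.inr (Or.inr ⟨d, h1, h2, hd1, rfl⟩)))
    have hp' := Subgroup.subset_closure hpL
    have ht' := Subgroup.subset_closure htL
    rcases hf with rfl | rfl | rfl | rfl
    · exact hd
    · exact mul_mem hp' hd
    · exact mul_mem ht' hd
    · exact mul_mem (mul_mem hp' ht') hd

/-- `F ∩ P = L` -/
theorem F_P {f : G} (hf : f ∈ Subgroup.closure (Lset Q p t)) (hP : f ∈ P) : f ∈ Lset Q p t := by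
  obtain ⟨d, h1, h2, h⟩ := (c.mem_F B).1 hf
  rcases h with rfl | rfl | rfl | rfl
  · exact Or.inl (B.eq_of_mem p c.hp _ hP h1)
  · exact Or.inl (B.eq_of_mem p c.hp _ hP (mul_mem (B.large p c.hp).z_mem h1))
  · exact Or.inr (Or.inl (B.eq_of_mem t c.ht _ hP (mul_mem (B.large t c.ht).z_mem h2)))
  · refine Or.inr (Or.inr ⟨d, h1, h2, ?_, rfl⟩)
    rintro rfl
    rw [mul_one] at hP
    exact c.mul_notMem B hP

/-- `F ∩ Q p = ⟨p⟩ D` -/
theorem F_Q {f : G} (hf : f ∈ Subgroup.closure (Lset Q p t)) (hQ : f ∈ Q p) :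
    ∃ d ∈ Q p, d ∈ Q t ∧ (f = d ∨ f = p * d) := by
  obtain ⟨d, h1, h2, h⟩ := (c.mem_F B).1 hf
  have hpm := (B.large p c.hp).z_mem
  rcases h with rfl | rfl | rfl | rfl
  · exact ⟨f, h1, h2, Or.inl rfl⟩
  · exact ⟨d, h1, h2, Or.inr rfl⟩
  · exfalso
    apply c.notMem B
    have : t = t * d * d⁻¹ := by group
    rw [this]; exact mul_mem hQ (inv_mem h1)
  · exfalso
    apply c.notMem B
    have : t = p⁻¹ * (p * t * d) * d⁻¹ := by group
    rw [this]; exact mul_mem (mul_mem (inv_mem hpm) hQ) (inv_mem h1)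

/-- (K3) `R_p ∩ R_t F ≤ F` -/
theorem K3 {r s f : G} (hr : r ∈ Q p) (hs : s ∈ Q t) (hf : f ∈ Subgroup.closure (Lset Q p t))
    (h : r = s * f) : r ∈ Subgroup.closure (Lset Q p t) := by
  obtain ⟨d, h1, h2, h'⟩ := (c.mem_F B).1 hf
  have hpm := (B.large p c.hp).z_mem
  have htm := (B.large t c.ht).z_mem
  have hs' : s ∈ Subgroup.closure (Lset Q p t) → r ∈ Subgroup.closure (Lset Q p t) := fun hs1 => by
    rw [h]; exact mul_mem hs1 hf
  rcases h' with rfl | rfl | rfl | rfl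
  · -- s = r d⁻¹
    apply hs'
    have hsp : s ∈ Q p := by
      have : s = r * f⁻¹ := by rw [h]; group
      rw [this]; exact mul_mem hr (inv_mem h1)
    exact (c.mem_F B).2 ⟨s, hsp, hs, Or.inl rfl⟩
  · apply hs'
    have hsp : s ∈ Q p := by
      have : s = r * (p * d)⁻¹ := by rw [h]; group
      rw [this]; exact mul_mem hr (inv_mem (mul_mem hpm h1))
    exact (c.mem_F B).2 ⟨s, hsp, hs, Or.inl rfl⟩
  · have hrt : r ∈ Q t := by rw [h]; exact mul_mem hs (mul_mem htm h2)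
    exact (c.mem_F B).2 ⟨r, hr, hrt, Or.inl rfl⟩
  · -- r = s p t d = (s t d) p
    have e : p * t * d = t * d * p := by rw [mul_assoc t, c.D_p B h1, ← mul_assoc, c.com]
    have hrp : r * p ∈ Q t := by
      rw [h, e, ← mul_assoc, mul_assoc _ p p, B.sq c.hp, mul_one]
      exact mul_mem hs (mul_mem htm h2)
    have h3 : r = p * (r * p) := by
      rw [← mul_assoc, ← (B.large p c.hp).comm_z r hr, mul_assoc, B.sq c.hp, mul_one]
    exact (c.mem_F B).2 ⟨r * p, mul_mem hr hpm, hrp, Or.inr (Or.inl h3)⟩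

/-- (E) the group `R_e` of a third point `e` lies in `R_p R_t` -/
theorem third {e r : G} (he : e ∈ Lset Q p t) (hep : e ≠ p) (hr : r ∈ Q e)
    (hrL : ∀ x ∈ Lset Q p t, r * x = x * r) :
    ∃ a ∈ Q p, ∃ b ∈ Q t, (∀ x ∈ Lset Q p t, a * x = x * a) ∧ (∀ x ∈ Lset Q p t, b * x = x * b) ∧
      r = a * b := by
  -- `e = y t y⁻¹`
  obtain ⟨y, hy, hye⟩ : ∃ y ∈ Q p, y * t * y⁻¹ = e := by
    rcases he with rfl | rfl | ⟨d, h1, h2, h3, rfl⟩
    · exact absurd rfl hep
    · exact ⟨1, one_mem _, by group⟩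
    · exact c.exists_conj_t B h1 h2 h3
  have hyN := c.Qp_le B hy
  have hx : y⁻¹ * r * y ∈ Q t := by
    rw [← hye] at hr
    exact B.Q_conj' c.ht hr
  have hxL : ∀ x ∈ Lset Q p t, (y⁻¹ * r * y) * x = x * (y⁻¹ * r * y) := by
    intro x hx
    have h1 := hrL _ ((hyN x).1 hx)
    calc (y⁻¹ * r * y) * x = y⁻¹ * (r * (y * x * y⁻¹)) * y := by group
      _ = y⁻¹ * ((y * x * y⁻¹) * r) * y := by rw [h1]
      _ = _ := by group
  set x := y⁻¹ * r * y with hxd
  have hxp : x * p = p * x := hxL p (Or.inl rfl)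
  refine ⟨r * x⁻¹, ?_, x, hx, ?_, hxL, by group⟩
  · have h1 := (B.large p c.hp).conj_mem x hxp _ (inv_mem hy)
    have h2 := mul_mem hy h1
    have e1 : y * (x * y⁻¹ * x⁻¹) = r * x⁻¹ := by rw [hxd]; group
    rwa [e1] at h2
  · intro z hz
    have h1 := hrL z hz
    have h2 : x⁻¹ * z = z * x⁻¹ := by
      rw [inv_mul_eq_iff_eq_mul, ← mul_assoc, hxL z hz]; group
    rw [mul_assoc, h2, ← mul_assoc, h1, mul_assoc]

/-- (K1) -/
theorem K1 {g : G} (hg : g ∈ Subgroup.normalizer (Lset Q p t))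
    (hp : ∀ r ∈ Q p, (∀ x ∈ Lset Q p t, r * x = x * r) → g * r * g⁻¹ * r⁻¹ ∈
      Subgroup.closure (Lset Q p t))
    (ht : ∀ r ∈ Q t, (∀ x ∈ Lset Q p t, r * x = x * r) → g * r * g⁻¹ * r⁻¹ ∈
      Subgroup.closure (Lset Q p t)) {e : G} (he : e ∈ Lset Q p t) (hep : e ≠ p) :
    g * e * g⁻¹ = e := by
  by_contra hne
  have hgc : e ≠ g * e * g⁻¹ := fun h => hne h.symm
  obtain ⟨hge, hLe⟩ := c.of_mem B he ((hg e).1 he) hgc
  -- all elements of `R_e` lie in `F`
  have key : ∀ r ∈ Q e, (∀ x ∈ Lset Q p t, r * x = x * r) → r ∈ Subgroup.closure (Lset Q p t) := by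
    intro r hr hrL
    obtain ⟨a, ha, b, hb, haL, hbL, hrab⟩ := c.third B he hep hr hrL
    have h1 := hp a ha haL
    have h2 := ht b hb hbL
    -- g r g⁻¹ = f r
    have h3 : g * r * g⁻¹ = (g * a * g⁻¹ * a⁻¹) * (g * b * g⁻¹ * b⁻¹) * r := by
      have h4 := F_comm haL h2
      calc g * r * g⁻¹ = (g * a * g⁻¹ * a⁻¹) * (a * (g * b * g⁻¹ * b⁻¹)) * b := by rw [hrab]; group
        _ = (g * a * g⁻¹ * a⁻¹) * ((g * b * g⁻¹ * b⁻¹) * a) * b := by rw [h4]
        _ = _ := by rw [hrab]; group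
    have hf := mul_mem h1 h2
    revert h3 hf
    generalize (g * a * g⁻¹ * a⁻¹) * (g * b * g⁻¹ * b⁻¹) = f
    intro h3 hf
    have h5 : g * r * g⁻¹ ∈ Q (g * e * g⁻¹) := B.Q_conj e (c.L_sub B he) g r hr
    have h6 : r = (g * r * g⁻¹) * f⁻¹ := by
      have h7 := F_comm hrL hf
      rw [h3, ← h7]; group
    have h8 := hge.K3 B hr h5 (by rw [hLe]; exact inv_mem hf) h6
    rwa [hLe] at h8
  obtain ⟨x, hx, y, hy, hxt, hyt, hxy⟩ := hge.exists_noncomm B hge.tau
  have hxL : ∀ z ∈ Lset Q p t, x * z = z * x := by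
    intro z hz
    rw [← hLe] at hz
    exact hge.cent_L B hx hxt.symm hz
  have hyL : ∀ z ∈ Lset Q p t, y * z = z * y := by
    intro z hz
    rw [← hLe] at hz
    exact hge.cent_L B hy hyt.symm hz
  have h1 := F_comm hxL (key y hy hyL)
  rw [h1] at hxy
  exact (B.large e hge.hp).z_ne (mul_eq_left.1 hxy.symm)

/-- (K2) -/
theorem K2 {g e : G} (hg : g ∈ Subgroup.normalizer (Lset Q p t)) (hgt : g * t * g⁻¹ = t)
    (he : e ∈ Lset Q p t) (hep : e ≠ p) (het : e ≠ t) (hge : g * e * g⁻¹ = e)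
    (hr : ∀ r ∈ Q p, (∀ x ∈ Lset Q p t, r * x = x * r) → g * r * g⁻¹ * r⁻¹ ∈
      Subgroup.closure (Lset Q p t)) {a : G} (ha : a ∈ Lset Q p t) (hap : a ≠ p) :
    g * a * g⁻¹ = a := by
  refine c.K1 B hg hr ?_ ha hap
  intro x hx hxL
  -- `x = r y`, `r ∈ R_p`, `y ∈ R_e`
  obtain ⟨hpe, hLpe⟩ := c.of_mem B (Or.inl rfl) he hep.symm
  obtain ⟨r, hr1, y, hy, hrL, hyL, hxry⟩ := hpe.third B (e := t) (r := x) (by rw [hLpe]; exact Or.inr (Or.inl rfl))
    c.ne.symm hx (by rw [hLpe]; exact hxL)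
  rw [hLpe] at hrL hyL
  have h1 := hr r hr1 hrL
  -- `X = g x g⁻¹ x⁻¹`
  have hX : g * x * g⁻¹ * x⁻¹ ∈ Q t :=
    mul_mem (B.Q_conj_eq c.ht hgt hx) (inv_mem hx)
  have hY : g * y * g⁻¹ * y⁻¹ ∈ Q e := mul_mem (B.Q_conj_eq hpe.ht hge hy) (inv_mem hy)
  have hre : r * e = e * r := hrL e he
  have hY' : r * (g * y * g⁻¹ * y⁻¹) * r⁻¹ ∈ Q e := (B.large e hpe.ht).conj_mem r hre _ hY
  have hXe : g * x * g⁻¹ * x⁻¹ = (g * r * g⁻¹ * r⁻¹) * (r * (g * y * g⁻¹ * y⁻¹) * r⁻¹) := by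
    rw [hxry]; group
  have hXL : ∀ z ∈ Lset Q p t, (g * x * g⁻¹ * x⁻¹) * z = z * (g * x * g⁻¹ * x⁻¹) := by
    have hgL : ∀ z ∈ Lset Q p t, (g * x * g⁻¹) * z = z * (g * x * g⁻¹) := by
      intro z hz
      have h2 : g⁻¹ * z * g⁻¹⁻¹ ∈ Lset Q p t := ((inv_mem hg : g⁻¹ ∈ Subgroup.normalizer _) z).1 hz
      have h3 := hxL _ h2
      calc (g * x * g⁻¹) * z = g * (x * (g⁻¹ * z * g⁻¹⁻¹)) * g⁻¹ := by group
        _ = g * ((g⁻¹ * z * g⁻¹⁻¹) * x) * g⁻¹ := by rw [h3]
        _ = _ := by group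
    intro z hz
    have h2 : x⁻¹ * z = z * x⁻¹ := by
      rw [inv_mul_eq_iff_eq_mul, ← mul_assoc, hxL z hz]; group
    rw [mul_assoc _ x⁻¹, h2, ← mul_assoc, hgL z hz, mul_assoc z]
  obtain ⟨hte, hLte⟩ := c.of_mem B (Or.inr (Or.inl rfl)) he het.symm
  have h4 : g * x * g⁻¹ * x⁻¹ = (r * (g * y * g⁻¹ * y⁻¹) * r⁻¹) * (g * r * g⁻¹ * r⁻¹) := by
    have h5 := F_comm hXL h1
    -- X f = f X, X = f Y
    have h6 : (g * x * g⁻¹ * x⁻¹) * (g * r * g⁻¹ * r⁻¹) =
        (g * r * g⁻¹ * r⁻¹) * (g * x * g⁻¹ * x⁻¹) := h5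
    have h7 : r * (g * y * g⁻¹ * y⁻¹) * r⁻¹ = (g * r * g⁻¹ * r⁻¹)⁻¹ * (g * x * g⁻¹ * x⁻¹) := by
      rw [hXe]; group
    rw [h7, mul_assoc (g * r * g⁻¹ * r⁻¹)⁻¹, h6, inv_mul_cancel_left]
  have h8 := hte.K3 B hX hY' (by rw [hLte]; exact h1) h4
  rwa [hLte] at h8

end Good

end Cfsg.Agent.LargeExtra.WC
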