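import Cfsg.Agent.LargeExtra.WC4

/-!
# S1762, case I: (J0) and no triangles (helper888)
-/

set_option autoImplicit false

namespace Cfsg.Agent.LargeExtra.WC

open Cfsg.Agent.Co2Type.Quad

namespace Good

variable {G : Type*} [Group G] {P : Set G} {Q : G → Subgroup G} {p t : G}
variable (B : WCBase P Q) (c : Good P Q p t)
include B c

/-- `W` in terms of elements -/
theorem mem_W_iff {x : G} (hx : x ∈ Q p) : (B.large p c.hp).pr ⟨x, hx⟩ ∈ QS.W (c.T B) ↔
    x ∈ Subgroup.closure (Lset Q p t) := by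
  rw [c.mem_F B]
  constructor
  · intro h
    obtain ⟨d, h1, h2, h3⟩ := c.D_eq B h
    rcases (B.large p c.hp).pr_eq_pr.1 h3 with h4 | h4
    · exact ⟨d, h1, h2, Or.inl h4.symm⟩
    · have h4' : d = x * p := h4
      refine ⟨d, h1, h2, Or.inr (Or.inl ?_)⟩
      rw [h4', (B.large p c.hp).comm_z x hx, ← mul_assoc, B.sq c.hp, one_mul]
  · intro h
    obtain ⟨d, h1, h2, h3⟩ := c.F_Q B ((c.mem_F B).2 h) hx
    have h4 := c.D_le B c.tau h1 h2
    have h5 : (B.large p c.hp).pr ⟨x, hx⟩ = (B.large p c.hp).pr ⟨d, h1⟩ := by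
      rw [(B.large p c.hp).pr_eq_pr]
      rcases h3 with h3 | h3
      · left; exact h3
      · right
        show x = d * p
        rw [h3, c.D_p B h1]
    rw [h5]; exact h4

/-- the exchange elements: for three points `a, b, e` of the line, some `y ∈ Q a` swaps `b` and `e` and moves the
other two points -/
theorem exists_swap {a b e : G} (ha : a ∈ Lset Q p t) (hb : b ∈ Lset Q p t) (he : e ∈ Lset Q p t)
    (hab : a ≠ b) (hae : a ≠ e) (hbe : b ≠ e) : ∃ y ∈ Q a, y * a * y⁻¹ = a ∧ y * b * y⁻¹ = e ∧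
      y * e * y⁻¹ = b ∧ ∀ x ∈ Lset Q p t, x ≠ a → y * x * y⁻¹ ≠ x := by
  obtain ⟨hgood, hL⟩ := c.of_mem B ha hb hab
  have he' : e ∈ Lset Q a b := by rw [hL]; exact he
  obtain ⟨d, h1, h2, h3, h4⟩ : ∃ d ∈ Q a, d ∈ Q b ∧ d ≠ 1 ∧ e = a * b * d := by
    rcases he' with h | h | h
    · exact absurd h.symm hae
    · exact absurd h.symm hbe
    · exact h
  obtain ⟨y, hy, hye⟩ := hgood.exists_conj_t B h1 h2 h3
  rw [← h4] at hye
  have hya : y * a * y⁻¹ = a := by rw [(B.large a hgood.hp).comm_z y hy]; group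
  refine ⟨y, hy, hya, hye, ?_, ?_⟩
  · have hy2 : (y * y) * b * (y * y)⁻¹ = b := by
      have h5 : y * y = 1 ∨ y * y = a := (B.large a hgood.hp).sq y hy
      rcases h5 with h5 | h5 <;> rw [h5]
      · group
      · rw [hgood.com]; group
    calc y * e * y⁻¹ = (y * y) * b * (y * y)⁻¹ := by rw [← hye]; group
      _ = b := hy2
  · intro x hx hxa h
    obtain ⟨hg', hL'⟩ := c.of_mem B ha hx (Ne.symm hxa)
    have h5 : y * x = x * y := by rw [mul_inv_eq_iff_eq_mul] at h; exact h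
    have h6 := hg'.cent_L B hy h5 (x := b) (by rw [hL']; exact hb)
    apply hbe
    rw [← hye, h6]; group

theorem J0_aux {g : G} (hgp : g * p * g⁻¹ = p) (hgt : g * t * g⁻¹ = t) {r : G} (hr : r ∈ Q p)
    (hrt : r * t = t * r) (hr2 : r * r = 1) (hrF : r ∉ Subgroup.closure (Lset Q p t)) {x : G}
    (hx : x ∈ Q p) (hxt : x * t = t * x) :
    (g * g) * x * (g * g)⁻¹ * x⁻¹ ∈ Subgroup.closure (Lset Q p t) := by
  have := B.finQ c.hp
  have hsing := c.sing B c.tau
  have hgp' : g * p = p * g := by rw [mul_inv_eq_iff_eq_mul] at hgp; exact hgp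
  have h1 : (B.large p c.hp).pr ⟨r, hr⟩ ∉ QS.W (c.T B) := fun h => hrF ((c.mem_W_iff B hr).1 h)
  have h2 := QS.sq_trivial (B.cardV c.hp) hsing.card (fun u hu => hsing.q_W hu) hsing.W_le
    ((c.fix_iff B c.tau hr).2 hrt.symm) h1 ((B.large p c.hp).q_eq_zero.2 hr2)
    (ac_iso (B.large p c.hp) g hgp') (by
      intro u hu
      obtain ⟨d, h1, h2, rfl⟩ := c.D_eq B hu
      rw [ac_pr]
      exact c.D_le B c.tau _ (B.Q_conj_eq c.ht hgt h2)) ((c.fix_iff B c.tau hx).2 hxt.symm)
  have hggp : g * g * p = p * (g * g) := by rw [mul_assoc, hgp', ← mul_assoc, hgp', mul_assoc]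
  rw [← ac_mul _ _ _ _ _ hggp, ac_add, c.mem_W_iff B] at h2
  exact h2

/-- (J0) -/
theorem J0 {r : G} (hr : r ∈ Q p) (hrt : r * t = t * r) (hr2 : r * r = 1) :
    r ∈ Subgroup.closure (Lset Q p t) := by
  by_contra hrF
  obtain ⟨a, b, e, ha, hb, he, hnd, hall, -⟩ := c.five B
  simp only [List.nodup_cons, List.mem_cons, List.not_mem_nil, or_false, not_or, List.nodup_nil, and_true,
    not_false_eq_true, ← ne_eq] at hnd
  obtain ⟨⟨hpt, hpa, hpb, hpe⟩, ⟨hta, htb, hte⟩, ⟨hab, hae⟩, hbe⟩ := hnd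
  have hp : p ∈ Lset Q p t := Or.inl rfl
  have ht : t ∈ Lset Q p t := Or.inr (Or.inl rfl)
  obtain ⟨y, hy, hya, hyp, hyt, hyall⟩ := c.exists_swap B ha hp ht (Ne.symm hpa) (Ne.symm hta) hpt
  obtain ⟨y', hy', hyb', hyp', hyt', hyall'⟩ := c.exists_swap B hb hp ht (Ne.symm hpb) (Ne.symm htb) hpt
  have hyN := c.Q_le_of_mem B ha hy
  have hyN' := c.Q_le_of_mem B hb hy'
  have hinj : ∀ g x z : G, g * x * g⁻¹ = g * z * g⁻¹ → x = z := fun g x z h =>
    mul_left_cancel (mul_right_cancel h)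
  -- action of y
  have hyb : y * b * y⁻¹ = e := by
    rcases hall _ ((hyN b).1 hb) with h | h | h | h | h
    · exact absurd (hinj y _ _ (h.trans hyt.symm)) htb.symm
    · exact absurd (hinj y _ _ (h.trans hyp.symm)) hpb.symm
    · exact absurd (hinj y _ _ (h.trans hya.symm)) hab.symm
    · exact absurd h (hyall b hb hab.symm)
    · exact h
  have hye : y * e * y⁻¹ = b := by
    rcases hall _ ((hyN e).1 he) with h | h | h | h | h
    · exact absurd (hinj y _ _ (h.trans hyt.symm)) hte.symm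
    · exact absurd (hinj y _ _ (h.trans hyp.symm)) hpe.symm
    · exact absurd (hinj y _ _ (h.trans hya.symm)) hae.symm
    · exact h
    · exact absurd h (hyall e he hae.symm)
  have hya' : y' * a * y'⁻¹ = e := by
    rcases hall _ ((hyN' a).1 ha) with h | h | h | h | h
    · exact absurd (hinj y' _ _ (h.trans hyt'.symm)) hta.symm
    · exact absurd (hinj y' _ _ (h.trans hyp'.symm)) hpa.symm
    · exact absurd h (hyall' a ha hab)
    · exact absurd (hinj y' _ _ (h.trans hyb'.symm)) hab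
    · exact h
  -- g = y y'
  have hgN : y * y' ∈ Subgroup.normalizer (Lset Q p t) := mul_mem hyN hyN'
  have hcomp : ∀ x, (y * y') * x * (y * y')⁻¹ = y * (y' * x * y'⁻¹) * y⁻¹ := fun x => by group
  have hgp : (y * y') * p * (y * y')⁻¹ = p := by rw [hcomp, hyp', hyt]
  have hgt : (y * y') * t * (y * y')⁻¹ = t := by rw [hcomp, hyt', hyp]
  have hga : (y * y') * a * (y * y')⁻¹ = b := by rw [hcomp, hya', hye]
  have hgb : (y * y') * b * (y * y')⁻¹ = e := by rw [hcomp, hyb', hyb]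
  set g := y * y' with hg
  have hgga : (g * g) * a * (g * g)⁻¹ = e := by
    calc (g * g) * a * (g * g)⁻¹ = g * (g * a * g⁻¹) * g⁻¹ := by group
      _ = e := by rw [hga, hgb]
  -- the corresponding element of `Q t`
  have hr' : y * r * y⁻¹ ∈ Q t := B.Q_conj_eq c.hp hyp hr
  have hrp' : (y * r * y⁻¹) * p = p * (y * r * y⁻¹) := by
    have : p = y * t * y⁻¹ := hyt.symm
    calc (y * r * y⁻¹) * p = (y * r * y⁻¹) * (y * t * y⁻¹) := by rw [← this]
      _ = y * (r * t) * y⁻¹ := by group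
      _ = y * (t * r) * y⁻¹ := by rw [hrt]
      _ = (y * t * y⁻¹) * (y * r * y⁻¹) := by group
      _ = _ := by rw [← this]
  have hr2' : (y * r * y⁻¹) * (y * r * y⁻¹) = 1 := by
    calc (y * r * y⁻¹) * (y * r * y⁻¹) = y * (r * r) * y⁻¹ := by group
      _ = 1 := by rw [hr2]; group
  have hrF' : y * r * y⁻¹ ∉ Subgroup.closure (Lset Q t p) := by
    rw [Lset_symm c.toCom]
    intro h
    apply hrF
    have h1 := F_conj (inv_mem hyN) h
    have e1 : y⁻¹ * (y * r * y⁻¹) * y⁻¹⁻¹ = r := by group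
    rwa [e1] at h1
  have h1 := c.K1 B (g := g * g) (mul_mem hgN hgN)
    (fun x hx hxL => c.J0_aux B hgp hgt hr hrt hr2 hrF hx (hxL t ht))
    (fun x hx hxL => by
      have := c.symm.J0_aux B hgt hgp hr' hrp' hr2' hrF' hx (hxL p hp)
      rwa [Lset_symm c.toCom] at this) ha (Ne.symm hpa)
  rw [hgga] at h1
  exact hae h1.symm

/-- (J0) for `W` -/
theorem J0_W {r : G} (hr : r ∈ Q p) (hrt : r * t = t * r) (hr2 : r * r = 1) :
    (B.large p c.hp).pr ⟨r, hr⟩ ∈ QS.W (c.T B) := (c.mem_W_iff B hr).2 (c.J0 B hr hrt hr2)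

omit c in
/-- two involutions with the same `W` -/
theorem eq_of_W {s : G} (c : Good P Q p t) (c' : Good P Q p s) (hW : QS.W (c.T B) = QS.W (c'.T B)) :
    t * s ∈ Q p := by
  have := B.finQ c.hp
  have hT : c.T B = c'.T B := (c.sing B c.tau).eq_of_W (c'.sing B c'.tau) hW
  have hts : t * s * p = p * (t * s) := by rw [mul_assoc, ← c'.com, ← mul_assoc, ← c.com, mul_assoc]
  refine mem_of_ac (B.large p c.hp) (t * s) hts fun v => ?_
  rw [ac_mul _ _ _ c.com.symm c'.com.symm]
  have h1 : ac (B.large p c.hp) s c'.com.symm v = c.T B v := by rw [hT]; rfl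
  rw [h1]
  exact (c.T_inv B).inv v

omit c in
theorem card_W_eq {s : G} (c : Good P Q p t) (c' : Good P Q p s)
    (hW : QS.W (c.T B) ≤ QS.W (c'.T B)) : QS.W (c.T B) = QS.W (c'.T B) := by
  have h1 : Nat.card (QS.W (c.T B)) = 4 := (c.sing B c.tau).card
  have h2 : Nat.card (QS.W (c'.T B)) = 4 := (c'.sing B c'.tau).card
  have hfin : Finite (QS.W (c'.T B)) := Nat.finite_of_card_ne_zero (by rw [h2]; norm_num)
  apply SetLike.coe_injective
  apply Set.eq_of_subset_of_ncard_le (ht := Set.toFinite _) hW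
  have e1 : (QS.W (c.T B) : Set (B.large p c.hp).V).ncard = 4 := h1
  have e2 : (QS.W (c'.T B) : Set (B.large p c.hp).V).ncard = 4 := h2
  exact e2.le.trans e1.ge

omit c in
/-- (T) no triangles -/
theorem no_triangle {s : G} (c : Good P Q p t) (c' : Good P Q p s) (hts : t * s = s * t) :
    s ∈ Lset Q p t := by
  have hs2 := B.sq c'.ht
  have hsp : s * p * s⁻¹ = p := by rw [← c'.com]; group
  have hst : s * t * s⁻¹ = t := by rw [← hts]; group
  have hconj : ∀ x ∈ Lset Q p t, s * x * s⁻¹ ∈ Lset Q p t := by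
    intro x hx
    have := Lset_conj B c.hp c.ht (g := s) hx
    rwa [hsp, hst] at this
  have hsN : s ∈ Subgroup.normalizer (Lset Q p t) := by
    intro x
    refine ⟨hconj x, fun h => ?_⟩
    have h1 := hconj _ h
    have h2 : s * (s * x * s⁻¹) * s⁻¹ = x := by
      calc s * (s * x * s⁻¹) * s⁻¹ = (s * s) * x * (s * s)⁻¹ := by group
        _ = x := by rw [hs2]; group
    rwa [h2] at h1
  -- `s` centralises the line
  have hcent : ∀ x ∈ Lset Q p t, s * x * s⁻¹ = x := by
    obtain ⟨a, b, e, ha, hb, he, hnd, hall, -⟩ := c.five B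
    simp only [List.nodup_cons, List.mem_cons, List.not_mem_nil, or_false, not_or, List.nodup_nil, and_true,
      not_false_eq_true, ← ne_eq] at hnd
    obtain ⟨⟨hpt, hpa, hpb, hpe⟩, ⟨hta, htb, hte⟩, ⟨hab, hae⟩, hbe⟩ := hnd
    have hinj : ∀ x z : G, s * x * s⁻¹ = s * z * s⁻¹ → x = z := fun x z h =>
      mul_left_cancel (mul_right_cancel h)
    have hinv : ∀ x z : G, s * x * s⁻¹ = z → s * z * s⁻¹ = x := by
      rintro x z rfl
      calc s * (s * x * s⁻¹) * s⁻¹ = (s * s) * x * (s * s)⁻¹ := by group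
        _ = x := by rw [hs2]; group
    -- a fixed point among a, b, e
    obtain ⟨f, hf, hfp, hft, hsf⟩ : ∃ f ∈ Lset Q p t, f ≠ p ∧ f ≠ t ∧ s * f * s⁻¹ = f := by
      have h1 : ∀ x ∈ Lset Q p t, x ≠ p → x ≠ t → s * x * s⁻¹ = a ∨ s * x * s⁻¹ = b ∨ s * x * s⁻¹ = e := by
        intro x hx hxp hxt
        rcases hall _ (hconj x hx) with h | h | h | h | h
        · exact absurd (hinj _ _ (h.trans hsp.symm)) hxp
        · exact absurd (hinj _ _ (h.trans hst.symm)) hxt
        · exact Or.inl h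
        · exact Or.inr (Or.inl h)
        · exact Or.inr (Or.inr h)
      rcases h1 a ha hpa.symm hta.symm with h | h | h
      · exact ⟨a, ha, hpa.symm, hta.symm, h⟩
      · -- a ↔ b, so e is fixed
        refine ⟨e, he, hpe.symm, hte.symm, ?_⟩
        rcases h1 e he hpe.symm hte.symm with h' | h' | h'
        · exact absurd (hinj _ _ (h'.trans (hinv _ _ h).symm)) hbe.symm
        · exact absurd (hinj _ _ (h'.trans h.symm)) hae.symm
        · exact h'
      · refine ⟨b, hb, hpb.symm, htb.symm, ?_⟩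
        rcases h1 b hb hpb.symm htb.symm with h' | h' | h'
        · exact absurd (hinj _ _ (h'.trans (hinv _ _ h).symm)) hbe
        · exact h'
        · exact absurd (hinj _ _ (h'.trans h.symm)) hab.symm
    intro x hx
    by_cases hxp : x = p
    · rw [hxp]; exact hsp
    · refine c.K2 B hsN hst hf hfp hft hsf ?_ hx hxp
      intro r hr hrL
      have hrt := hrL t (Or.inr (Or.inl rfl))
      have h1 : s * r * s⁻¹ * r⁻¹ ∈ Q p := c'.u_mem B hr
      refine c.J0 B h1 ?_ (c'.sq_of_tau B c'.tau hr)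
      have h2 : (s * r * s⁻¹) * t = t * (s * r * s⁻¹) := by
        calc (s * r * s⁻¹) * t = (s * r * s⁻¹) * (s * t * s⁻¹) := by rw [hst]
          _ = s * (r * t) * s⁻¹ := by group
          _ = s * (t * r) * s⁻¹ := by rw [hrt]
          _ = (s * t * s⁻¹) * (s * r * s⁻¹) := by group
          _ = _ := by rw [hst]
      have h3 : r⁻¹ * t = t * r⁻¹ := by
        rw [inv_mul_eq_iff_eq_mul, ← mul_assoc, hrt]; group
      rw [mul_assoc _ r⁻¹, h3, ← mul_assoc, h2, mul_assoc]
  -- `W_t ≤ W_s`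
  have hW : QS.W (c.T B) ≤ QS.W (c'.T B) := by
    intro w hw
    obtain ⟨d, h1, h2, rfl⟩ := c.D_eq B hw
    refine c'.J0_W B h1 ?_ (c.D_sq B h1 h2)
    by_cases hd : d = 1
    · rw [hd, one_mul, mul_one]
    have h3 := hcent (p * t * d) (Or.inr (Or.inr ⟨d, h1, h2, hd, rfl⟩))
    have h4 : s * d * s⁻¹ = d := by
      have h5 : (s * p * s⁻¹) * (s * t * s⁻¹) * (s * d * s⁻¹) = p * t * d := by
        rw [← h3]; group
      rw [hsp, hst] at h5
      exact mul_left_cancel h5
    rw [mul_inv_eq_iff_eq_mul] at h4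
    exact h4.symm
  have hr := eq_of_W B c c' (card_W_eq B c c' hW)
  -- s = t (t s)
  have ht2 := B.sq c.ht
  have h1 : t * s ∈ Subgroup.closure (Lset Q p t) := by
    refine c.J0 B hr ?_ ?_
    · rw [mul_assoc, ← hts]
    · calc t * s * (t * s) = t * (s * t) * s := by group
        _ = (t * t) * (s * s) := by rw [← hts]; group
        _ = 1 := by rw [ht2, hs2, mul_one]
  have h2 : s = t * (t * s) := by rw [← mul_assoc, ht2, one_mul]
  refine c.F_P B ?_ c'.ht
  rw [h2]
  exact mul_mem (Subgroup.subset_closure (Or.inr (Or.inl rfl))) h1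

end Good

end Cfsg.Agent.LargeExtra.WC
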