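import Cfsg.Agent.LargeExtra.WC5

/-!
# S1762, case I: all commuting pairs are good (helper888)
-/

set_option autoImplicit false

namespace Cfsg.Agent.LargeExtra.WC

open Cfsg.Agent.Co2Type.Quad

namespace Com

variable {G : Type*} [Group G] {P : Set G} {Q : G → Subgroup G} {p t : G}
variable (B : WCBase P Q) (c : Com P p t)
include B c

/-- the mixed types do not occur -/
theorem tau_symm (hτ : Tau Q p t) : Tau Q t p := by
  intro x hx hxp
  have hp2 := B.sq c.hp
  have ht2 := B.sq c.ht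
  have htm := (B.large t c.ht).comm_z x hx
  have hP : p * t ∈ P := by rw [← hxp]; exact B.conj_mem p c.hp x
  have hcom : Com P p (p * t) := by
    refine ⟨c.hp, hP, ?_, ?_⟩
    · intro h
      exact (B.large t c.ht).z_ne (left_eq_mul.1 h)
    · rw [mul_assoc, ← c.com]
  have hgood : Good P Q p (p * t) := by
    refine ⟨hcom, ?_, ?_⟩
    · intro y hy h
      refine hτ y hy ?_
      have hyp := (B.large p c.hp).comm_z y hy
      have e : y * (p * t) * y⁻¹ = p * (y * t * y⁻¹) := by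
        calc y * (p * t) * y⁻¹ = (y * p) * t * y⁻¹ := by group
          _ = _ := by rw [hyp]; group
      rw [e, mul_assoc p t p] at h
      exact mul_left_cancel h
    · intro y hy h
      have h1 : p * (p * t) = t := by rw [← mul_assoc, hp2, one_mul]
      rw [h1] at h
      rw [← hxp] at hy
      have hy' := B.Q_conj' c.hp hy
      refine hτ _ hy' ?_
      have hxt : x⁻¹ * t * x = t := by rw [mul_assoc, ← htm]; group
      have hxp' : x⁻¹ * p * x = p * t := by
        have h2 : p = (x⁻¹ * p * x) * t := by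
          calc p = x⁻¹ * (x * p * x⁻¹) * x := by group
            _ = x⁻¹ * (p * t) * x := by rw [hxp]
            _ = (x⁻¹ * p * x) * (x⁻¹ * t * x) := by group
            _ = _ := by rw [hxt]
        calc x⁻¹ * p * x = (x⁻¹ * p * x) * (t * t) := by rw [ht2, mul_one]
          _ = ((x⁻¹ * p * x) * t) * t := by group
          _ = p * t := by rw [← h2]
      have h3 : (x⁻¹ * y * x) * (x⁻¹ * p * x) * (x⁻¹ * y * x)⁻¹ = t := by
        calc (x⁻¹ * y * x) * (x⁻¹ * p * x) * (x⁻¹ * y * x)⁻¹ = x⁻¹ * (y * p * y⁻¹) * x := by group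
          _ = t := by rw [h, hxt]
      rw [hxp'] at h3
      have hyp := (B.large p c.hp).comm_z _ hy'
      have e : (x⁻¹ * y * x) * (p * t) * (x⁻¹ * y * x)⁻¹ =
          p * ((x⁻¹ * y * x) * t * (x⁻¹ * y * x)⁻¹) := by
        rw [← mul_assoc, hyp]; group
      rw [e] at h3
      have h4 : (x⁻¹ * y * x) * t * (x⁻¹ * y * x)⁻¹ = p * t := by
        calc (x⁻¹ * y * x) * t * (x⁻¹ * y * x)⁻¹
            = (p * p) * ((x⁻¹ * y * x) * t * (x⁻¹ * y * x)⁻¹) := by rw [hp2, one_mul]
          _ = p * (p * ((x⁻¹ * y * x) * t * (x⁻¹ * y * x)⁻¹)) := by group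
          _ = _ := by rw [h3]
      rw [h4, c.com]
  apply hgood.mul_notMem B
  rw [← mul_assoc, hp2, one_mul]
  exact c.ht

/-- a good pair from `p t ∉ P` -/
theorem good_of_notMem (h : p * t ∉ P) : Good P Q p t := by
  have hτ : Tau Q p t := by
    intro y _ hyt
    apply h
    rw [c.com, ← hyt]
    exact B.conj_mem t c.ht y
  exact ⟨c, hτ, c.tau_symm B hτ⟩

/-- Case A -/
theorem caseA (hx : ∃ x ∈ Q t, x * p * x⁻¹ = p * t) {y : G} (hy : y ∈ Q t)
    (ha2 : (y * p * y⁻¹ * p⁻¹) * (y * p * y⁻¹ * p⁻¹) = 1) (ha1 : y * p * y⁻¹ * p⁻¹ ≠ 1)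
    (hat : y * p * y⁻¹ * p⁻¹ ≠ t) : False := by
  obtain ⟨x, hx, hxp⟩ := hx
  have hp2 := B.sq c.hp
  have ht2 := B.sq c.ht
  have hpi := B.inv c.hp
  have haQ : y * p * y⁻¹ * p⁻¹ ∈ Q t := c.symm.u_mem' B hy
  have hs : y * p * y⁻¹ ∈ P := B.conj_mem p c.hp y
  have hyt := (B.large t c.ht).comm_z y hy
  have hs1 : (y * x) * p * (y * x)⁻¹ ∈ P := B.conj_mem p c.hp _
  have e1 : (y * x) * p * (y * x)⁻¹ = (y * p * y⁻¹) * t := by
    calc (y * x) * p * (y * x)⁻¹ = y * (x * p * x⁻¹) * y⁻¹ := by group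
      _ = y * (p * t) * y⁻¹ := by rw [hxp]
      _ = (y * p * y⁻¹) * (y * t * y⁻¹) := by group
      _ = _ := by rw [hyt]; group
  rw [e1] at hs1
  -- p a = a p
  have hss : (y * p * y⁻¹) * (y * p * y⁻¹) = 1 := by
    calc (y * p * y⁻¹) * (y * p * y⁻¹) = y * (p * p) * y⁻¹ := by group
      _ = 1 := by rw [hp2]; group
  set s := y * p * y⁻¹ with hsd
  rw [hpi] at ha2 ha1 hat haQ
  -- (s p)(s p) = 1
  have hsp : s * p = p * s := by
    have h1 : s * p = (s * p)⁻¹ := eq_inv_of_mul_eq_one_left ha2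
    have h2 : s⁻¹ = s := inv_eq_of_mul_eq_one_left hss
    rw [h1, mul_inv_rev, h2, hpi]
  have hst : s * t = t * s := by
    have h1 := c.com
    calc s * t = (y * p * y⁻¹) * (y * t * y⁻¹) := by
          have : y * t * y⁻¹ = t := by rw [hyt]; group
          rw [this]
      _ = y * (p * t) * y⁻¹ := by group
      _ = y * (t * p) * y⁻¹ := by rw [h1]
      _ = (y * t * y⁻¹) * (y * p * y⁻¹) := by group
      _ = t * s := by
          have : y * t * y⁻¹ = t := by rw [hyt]; group
          rw [this]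
  have c1 : Com P p s := ⟨c.hp, hs, fun h => ha1 (by rw [← h, hp2]), hsp.symm⟩
  have c2 : Com P p (s * t) := by
    refine ⟨c.hp, hs1, ?_, ?_⟩
    · intro h
      apply hat
      -- p = s t → s p = s s t = t
      calc s * p = s * (s * t) := by rw [← h]
        _ = (s * s) * t := by group
        _ = t := by rw [hss, one_mul]
    · rw [← mul_assoc, ← hsp, mul_assoc, c.com, ← mul_assoc]
  have g1 : Good P Q p s := c1.good_of_notMem B (by
    intro h
    rw [← hsp] at h
    exact hat (B.eq_of_mem t c.ht _ h haQ))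
  have g2 : Good P Q p (s * t) := c2.good_of_notMem B (by
    intro h
    have h1 : p * (s * t) = (s * p) * t := by rw [← mul_assoc, hsp]
    rw [h1] at h
    have h2 := B.eq_of_mem t c.ht _ h (mul_mem haQ (B.large t c.ht).z_mem)
    exact ha1 (mul_eq_right.1 h2))
  have hcomm : s * (s * t) = (s * t) * s := by rw [mul_assoc s t s, ← hst]
  have h3 := Good.no_triangle B g1 g2 hcomm
  have hne : s ≠ s * t := fun h => (B.large t c.ht).z_ne (left_eq_mul.1 h)
  obtain ⟨g3, -⟩ := g1.of_mem B (Or.inr (Or.inl rfl)) h3 hne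
  apply g3.mul_notMem B
  rw [← mul_assoc, hss, one_mul]
  exact c.ht

/-- Case B: `[V, t]` has order two -/
theorem caseB (hW : ∀ y ∈ Q p, (y * t * y⁻¹ * t⁻¹) * (y * t * y⁻¹ * t⁻¹) = 1 → y * t * y⁻¹ * t⁻¹ = 1 ∨
      y * t * y⁻¹ * t⁻¹ = p) :
    ∃ w : (B.large p c.hp).V, (B.large p c.hp).q w = 1 ∧ (∃ v, c.T B v + v = w) ∧
      ∀ v, c.T B v + v = 0 ∨ c.T B v + v = w := by
  have han : ∀ v, (B.large p c.hp).q (c.T B v + v) = 0 → c.T B v + v = 0 := by
    intro v hv
    obtain ⟨y, hy, rfl⟩ := pr_surj _ v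
    have hti := B.inv c.ht
    have h1 : c.T B ((B.large p c.hp).pr ⟨y, hy⟩) + (B.large p c.hp).pr ⟨y, hy⟩ =
        (B.large p c.hp).pr ⟨y * t * y⁻¹ * t⁻¹, c.u_mem' B hy⟩ := by
      rw [Com.T, ac_add]
      have h2 : (⟨y * t * y⁻¹ * t⁻¹, c.u_mem' B hy⟩ : Q p) = (⟨t * y * t⁻¹ * y⁻¹, c.u_mem B hy⟩ : Q p)⁻¹ := by
        apply Subtype.ext
        show y * t * y⁻¹ * t⁻¹ = (t * y * t⁻¹ * y⁻¹)⁻¹
        group
      rw [h2, (B.large p c.hp).pr_inv, (B.large p c.hp).neg_eq]
    rw [h1] at hv ⊢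
    rw [(B.large p c.hp).pr_eq_zero]
    exact hW y hy ((B.large p c.hp).q_eq_zero.1 hv)
  obtain ⟨v0, hv0⟩ := c.T_ne B
  have hw0 : c.T B v0 + v0 ≠ 0 := fun h => hv0 (eq_of_add h)
  have hq : ∀ v, c.T B v + v ≠ 0 → (B.large p c.hp).q (c.T B v + v) = 1 := fun v hv =>
    (zm_cases _).resolve_left (fun h => hv (han v h))
  refine ⟨c.T B v0 + v0, hq v0 hw0, ⟨v0, rfl⟩, fun v => ?_⟩
  by_cases hv : c.T B v + v = 0
  · left; exact hv
  · right
    have h1 := hq v hv
    have h2 := hq v0 hw0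
    have h3 : c.T B (v + v0) + (v + v0) = (c.T B v + v) + (c.T B v0 + v0) := by
      rw [map_add]; abel
    have h4 := han (v + v0) (by
      rw [h3, (B.large p c.hp).q_add', h1, h2]
      have := (c.T_inv B).isotropic (QS.f_mem_W (c.T B) v) (QS.f_mem_W (c.T B) v0)
      have h5 : (B.large p c.hp).b (c.T B v + v) (c.T B v0 + v0) = 0 := this
      rw [h5]; decide)
    rw [h3] at h4
    exact eq_of_add h4

/-- the fixed vectors in case B -/
theorem caseB_fix {w : (B.large p c.hp).V} (hq : (B.large p c.hp).q w = 1) (hw : ∃ v, c.T B v + v = w)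
    (hall : ∀ v, c.T B v + v = 0 ∨ c.T B v + v = w) {v : (B.large p c.hp).V}
    (hv : (B.large p c.hp).b w v = 0) : ∃ (r : G) (hr : r ∈ Q p), r * t = t * r ∧
      ((B.large p c.hp).pr ⟨r, hr⟩ = v ∨ (B.large p c.hp).pr ⟨r, hr⟩ = v + w) := by
  have hfix : c.T B v = v := by
    rw [(c.T_inv B).fix_iff, QS.mem_perp]
    rintro _ ⟨v', rfl⟩
    show (B.large p c.hp).b (c.T B v' + v') v = 0
    rcases hall v' with h | h <;> rw [h]
    · rw [map_zero]; rfl
    · exact hv
  obtain ⟨r, hr, rfl⟩ := pr_surj _ v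
  have h1 := hfix
  rw [Com.T, ac_pr, (B.large p c.hp).pr_eq_pr] at h1
  rcases h1 with h1 | h1
  · refine ⟨r, hr, ?_, Or.inl rfl⟩
    have h1' : t * r * t⁻¹ = r := h1
    rw [mul_inv_eq_iff_eq_mul] at h1'
    exact h1'.symm
  · have h1' : t * r * t⁻¹ = r * p := h1
    obtain ⟨v0, hv0⟩ := hw
    obtain ⟨x, hx, rfl⟩ := pr_surj _ v0
    rw [Com.T, ac_add] at hv0
    have hu2 : (t * x * t⁻¹ * x⁻¹) * (t * x * t⁻¹ * x⁻¹) = p := by
      rw [← hv0] at hq
      exact (B.large p c.hp).q_eq_one.1 hq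
    obtain ⟨u, hu, hinv, hu2, huw⟩ : ∃ (u : G) (hu : u ∈ Q p), t * u * t⁻¹ = u⁻¹ ∧ u * u = p ∧
        (B.large p c.hp).pr ⟨u, hu⟩ = w := ⟨_, _, c.inv_aux B (x := x), hu2, hv0⟩
    have hup := (B.large p c.hp).comm_z u hu
    have hui : u⁻¹ = u * p := by
      rw [inv_eq_iff_mul_eq_one, ← mul_assoc, hu2]; exact B.sq c.hp
    refine ⟨r * u, mul_mem hr hu, ?_, Or.inr ?_⟩
    · have h2 : t * (r * u) * t⁻¹ = r * u := by
        calc t * (r * u) * t⁻¹ = (t * r * t⁻¹) * (t * u * t⁻¹) := by group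
          _ = (r * p) * (u * p) := by rw [h1', hinv, hui]
          _ = r * (p * u) * p := by group
          _ = r * u * (p * p) := by rw [← hup]; group
          _ = r * u := by rw [B.sq c.hp, mul_one]
      rw [mul_inv_eq_iff_eq_mul] at h2
      exact h2.symm
    · have h3 : (⟨r * u, mul_mem hr hu⟩ : Q p) = ⟨r, hr⟩ * ⟨u, hu⟩ := rfl
      rw [h3, (B.large p c.hp).pr_mul, huw]

/-- noncommuting elements in case B -/
theorem caseB_noncomm {w : (B.large p c.hp).V} (hq : (B.large p c.hp).q w = 1)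
    (hw : ∃ v, c.T B v + v = w) (hall : ∀ v, c.T B v + v = 0 ∨ c.T B v + v = w) :
    ∃ x ∈ Q p, ∃ y ∈ Q p, t * x = x * t ∧ t * y = y * t ∧ x * y = y * x * p := by
  have := B.finQ c.hp
  by_contra hcon
  push Not at hcon
  set U := Submodule.span (ZMod 2) ({w} : Set (B.large p c.hp).V) with hU
  have hcardU : Nat.card U ≤ 2 := by
    have h1 : Function.Surjective (fun a : ZMod 2 => (⟨a • w, Submodule.smul_mem _ _
        (Submodule.subset_span rfl)⟩ : U)) := by
      rintro ⟨u, hu⟩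
      obtain ⟨a, ha⟩ := Submodule.mem_span_singleton.1 hu
      exact ⟨a, Subtype.ext ha⟩
    have := Nat.card_le_card_of_surjective _ h1
    rwa [Nat.card_zmod] at this
  have h1 := (qs (B.large p c.hp)).card_perp U
  have hww : (B.large p c.hp).b w w = 0 := (B.large p c.hp).b_self w
  have h2 := (qs (B.large p c.hp)).card_isotropic_le (B.cardV c.hp) ((qs (B.large p c.hp)).perp U) (by
    intro u hu v hv
    have hu' : (B.large p c.hp).b w u = 0 := QS.mem_perp _ |>.1 hu w (Submodule.subset_span rfl)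
    have hv' : (B.large p c.hp).b w v = 0 := QS.mem_perp _ |>.1 hv w (Submodule.subset_span rfl)
    obtain ⟨x, hx, hxt, hxu⟩ := c.caseB_fix B hq hw hall hu'
    obtain ⟨y, hy, hyt, hyv⟩ := c.caseB_fix B hq hw hall hv'
    have h3 := hcon x hx y hy hxt.symm hyt.symm
    have h4 : (B.large p c.hp).b ((B.large p c.hp).pr ⟨x, hx⟩) ((B.large p c.hp).pr ⟨y, hy⟩) = 0 :=
      ((B.large p c.hp).b_pr _ _).2 (((B.large p c.hp).comm x hx y hy).resolve_right h3)
    have huw : (B.large p c.hp).b u w = 0 := by rw [(B.large p c.hp).b_comm]; exact hu'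
    show (B.large p c.hp).b u v = 0
    rcases hxu with h5 | h5 <;> rcases hyv with h6 | h6 <;> rw [h5, h6] at h4
    · exact h4
    · rw [map_add, huw, add_zero] at h4; exact h4
    · rw [map_add, LinearMap.add_apply, hv', add_zero] at h4; exact h4
    · rw [map_add, map_add, LinearMap.add_apply, LinearMap.add_apply, huw, hv', hww, add_zero,
        add_zero, add_zero] at h4
      exact h4)
  rw [B.cardV c.hp] at h1
  nlinarith

omit c in
/-- `p t ∉ P` for all commuting `p ≠ t` -/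
theorem tau_of (c : Com P p t) : Tau Q p t := by
  by_contra hτ
  have hτ' : ¬ Tau Q t p := fun h => hτ (c.symm.tau_symm B h)
  unfold Tau at hτ hτ'
  push Not at hτ hτ'
  have := B.finQ c.hp
  -- case A for both
  have hA1 : ∀ y ∈ Q p, (y * t * y⁻¹ * t⁻¹) * (y * t * y⁻¹ * t⁻¹) = 1 → y * t * y⁻¹ * t⁻¹ = 1 ∨
      y * t * y⁻¹ * t⁻¹ = p := by
    intro y hy h
    by_contra hcon
    push Not at hcon
    exact c.symm.caseA B hτ hy h hcon.1 hcon.2
  have hA2 : ∀ y ∈ Q t, (y * p * y⁻¹ * p⁻¹) * (y * p * y⁻¹ * p⁻¹) = 1 → y * p * y⁻¹ * p⁻¹ = 1 ∨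
      y * p * y⁻¹ * p⁻¹ = t := by
    intro y hy h
    by_contra hcon
    push Not at hcon
    exact c.caseA B hτ' hy h hcon.1 hcon.2
  obtain ⟨w', hq', hw', hall'⟩ := c.symm.caseB B hA2
  obtain ⟨x, hx, y, hy, hxp, hyp, hxy⟩ := c.symm.caseB_noncomm B hq' hw' hall'
  obtain ⟨w, hq, hw, hall⟩ := c.caseB B hA1
  -- `D = 1`
  have hD : ∀ d ∈ Q p, d ∈ Q t → d = 1 := by
    intro d h1 h2
    have h3 : (B.large p c.hp).pr ⟨d, h1⟩ ∈ Submodule.span (ZMod 2) ({w} : Set (B.large p c.hp).V) := by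
      rw [← (qs (B.large p c.hp)).perp_perp (Submodule.span (ZMod 2) ({w} : Set (B.large p c.hp).V)),
        QS.mem_perp]
      intro v hv
      have hv' : (B.large p c.hp).b w v = 0 := QS.mem_perp _ |>.1 hv w (Submodule.subset_span rfl)
      obtain ⟨r, hr, hrt, hrv⟩ := c.caseB_fix B hq hw hall hv'
      have h4 : (B.large p c.hp).b ((B.large p c.hp).pr ⟨r, hr⟩) ((B.large p c.hp).pr ⟨d, h1⟩) = 0 :=
        ((B.large p c.hp).b_pr _ _).2 (c.D_central B h1 h2 hr hrt)
      show (B.large p c.hp).b v ((B.large p c.hp).pr ⟨d, h1⟩) = 0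
      rcases hrv with h5 | h5
      · rw [← h5]; exact h4
      · rw [h5, map_add, LinearMap.add_apply] at h4
        -- b w d = 0 since d commutes with t
        have h6 : (B.large p c.hp).b w ((B.large p c.hp).pr ⟨d, h1⟩) = 0 := by
          have h7 : c.T B ((B.large p c.hp).pr ⟨d, h1⟩) = (B.large p c.hp).pr ⟨d, h1⟩ := by
            rw [Com.T, ac_pr, (B.large p c.hp).pr_eq_pr]
            left
            show t * d * t⁻¹ = d
            rw [← c.D_t B h2]; group
          rw [(c.T_inv B).fix_iff, QS.mem_perp] at h7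
          exact h7 w hw
        rw [h6, add_zero] at h4
        exact h4
    rw [Submodule.mem_span_singleton] at h3
    obtain ⟨a, ha⟩ := h3
    rcases zm_cases a with rfl | rfl
    · rw [zero_smul] at ha
      rcases (B.large p c.hp).pr_eq_zero.1 ha.symm with h4 | h4
      · exact h4
      · exfalso
        have h4' : d = p := h4
        rw [h4'] at h2
        exact c.symm.notMem B h2
    · rw [one_smul] at ha
      exfalso
      rw [ha] at hq
      have h4 := (B.large p c.hp).q_eq_one.1 hq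
      have h4' : d * d = p := h4
      rw [c.D_sq B h1 h2] at h4'
      exact (B.large p c.hp).z_ne h4'.symm
  -- elements of `C_{Q t}(p)` act trivially on `w^⊥`
  have hact : ∀ x ∈ Q t, ∀ hx : x * p = p * x, ∀ v, (B.large p c.hp).b w v = 0 →
      ac (B.large p c.hp) x hx v = v := by
    intro x hxt hx v hv
    have hxw : ac (B.large p c.hp) x hx w = w := by
      obtain ⟨v0, hv0⟩ := hw
      have hxt' : x * t = t * x := (B.large t c.ht).comm_z x hxt
      have h1 : ∀ v, ac (B.large p c.hp) x hx (c.T B v) = c.T B (ac (B.large p c.hp) x hx v) := by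
        intro v
        have h2 : x * t * p = p * (x * t) := by rw [mul_assoc, ← c.com, ← mul_assoc, hx, mul_assoc]
        have h3 : t * x * p = p * (t * x) := by rw [← hxt']; exact h2
        rw [Com.T, ← ac_mul _ _ _ _ _ h2, ← ac_mul _ _ _ _ _ h3]
        have : ∀ (a b : G) (ha : a * p = p * a) (hb : b * p = p * b), a = b →
            ac (B.large p c.hp) a ha = ac (B.large p c.hp) b hb := by
          rintro a b ha hb rfl; rfl
        rw [this _ _ h2 h3 hxt']
      have h2 : ac (B.large p c.hp) x hx w = c.T B (ac (B.large p c.hp) x hx v0) +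
          ac (B.large p c.hp) x hx v0 := by rw [← hv0, map_add, h1]
      rcases hall (ac (B.large p c.hp) x hx v0) with h3 | h3
      · rw [h3] at h2
        have h4 := (LinearEquiv.map_eq_zero_iff _).1 h2
        rw [h4, (B.large p c.hp).q_zero] at hq
        exact absurd hq (by decide)
      · rw [h2, h3]
    obtain ⟨r, hr, hrt, hrv⟩ := c.caseB_fix B hq hw hall hv
    have h1 : x * r * x⁻¹ * r⁻¹ = 1 := by
      apply hD
      · exact mul_mem ((B.large p c.hp).conj_mem x hx r hr) (inv_mem hr)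
      · have h3 := (B.large t c.ht).conj_mem r hrt x⁻¹ (inv_mem hxt)
        have h4 := mul_mem hxt h3
        have e : x * (r * x⁻¹ * r⁻¹) = x * r * x⁻¹ * r⁻¹ := by group
        rwa [e] at h4
    have h2 : ac (B.large p c.hp) x hx ((B.large p c.hp).pr ⟨r, hr⟩) = (B.large p c.hp).pr ⟨r, hr⟩ := by
      rw [ac_pr, (B.large p c.hp).pr_eq_pr]
      left
      show x * r * x⁻¹ = r
      exact mul_inv_eq_one.1 h1
    rcases hrv with h5 | h5
    · rw [← h5]; exact h2
    · rw [h5, map_add, hxw] at h2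
      exact add_right_cancel h2
  have hx' : x * p = p * x := hxp.symm
  have hy' : y * p = p * y := hyp.symm
  have hcomm := QS.comm_of_transvection (S := qs (B.large p c.hp)) (ac_iso (B.large p c.hp) x hx')
    (ac_iso (B.large p c.hp) y hy') (hact x hx hx') (hact y hy hy')
  obtain ⟨v, hv⟩ := c.T_ne B
  apply hv
  have hxyp : x * y * p = p * (x * y) := by rw [mul_assoc, hy', ← mul_assoc, hx', mul_assoc]
  have hyxp : y * x * p = p * (y * x) := by rw [mul_assoc, hx', ← mul_assoc, hy', mul_assoc]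
  have hyxtp : y * x * t * p = p * (y * x * t) := by rw [← hxy]; exact hxyp
  have h1 : ac (B.large p c.hp) (x * y) hxyp v = ac (B.large p c.hp) (y * x) hyxp v := by
    rw [ac_mul _ _ _ hx' hy', ac_mul _ _ _ hy' hx', hcomm]
  have h2 : ac (B.large p c.hp) (x * y) hxyp v = ac (B.large p c.hp) (y * x * t) hyxtp v := by
    have : ∀ (a b : G) (ha : a * p = p * a) (hb : b * p = p * b), a = b →
        ac (B.large p c.hp) a ha = ac (B.large p c.hp) b hb := by
      rintro a b ha hb rfl; rfl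
    rw [this _ _ hxyp hyxtp hxy]
  rw [ac_mul _ _ _ hyxp c.com.symm, h1] at h2
  exact ((ac (B.large p c.hp) (y * x) hyxp).injective h2).symm

/-- all commuting pairs are good -/
theorem good : Good P Q p t := ⟨c, c.tau_of B, c.symm.tau_of B⟩

end Com

end Cfsg.Agent.LargeExtra.WC
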