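import Cfsg.Agent.Co2Type.Quad

/-!
# S1762, case I (`z` weakly closed in `Q`): the interface between the local analysis and the endgame (helper888)

`WCGeom P Q`: `P` a class of involutions of the finite group `G`, `Q p` the large extraspecial subgroup of
`p ∈ P`; two distinct commuting elements of `P` lie on a unique line, a set of five commuting elements of `P`
with product `1`; two elements of `P` commuting with `p` and on different lines through `p` have a product of
order three modulo `Q p`.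

* local analysis (helper888, files `WC*.lean`): the hypotheses of S1762 and `z` weakly closed in `Q` give
  `WCGeom (z^G) Q`.
* endgame: `WCGeom P Q` implies that `P` is a class of 3-transpositions, and then `G ≃* PSU 5 F 2`.
-/

set_option autoImplicit false

namespace Cfsg.Agent.LargeExtra.WC

open Cfsg.Agent.Co2Type.Quad

/-- The geometry of the conjugates of `z` when `z` is weakly closed in `Q` (`|Q| = 2 ^ 7` or `2 ^ 5`). -/
structure WCGeom {G : Type*} [Group G] (P : Set G) (Q : G → Subgroup G) : Prop where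
  /-- `P` is a conjugacy class -/
  conj_mem : ∀ p ∈ P, ∀ g : G, g * p * g⁻¹ ∈ P
  exists_conj : ∀ p ∈ P, ∀ q ∈ P, ∃ g : G, g * p * g⁻¹ = q
  /-- `Q p` is a large extraspecial subgroup with centre `⟨p⟩` (this contains `p ≠ 1`, `p * p = 1`) -/
  large : ∀ p ∈ P, Large (Q p) p
  Q_conj : ∀ p ∈ P, ∀ g x : G, x ∈ Q p → g * x * g⁻¹ ∈ Q (g * p * g⁻¹)
  /-- weak closure -/
  eq_of_mem : ∀ p ∈ P, ∀ x ∈ P, x ∈ Q p → x = p
  /-- the line through two commuting elements; "no triangles" -/
  line : ∀ p ∈ P, ∀ t ∈ P, p ≠ t → Commute p t → ∃ r₁ ∈ P, ∃ r₂ ∈ P, ∃ r₃ ∈ P,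
    [p, t, r₁, r₂, r₃].Nodup ∧ (∀ a ∈ [p, t, r₁, r₂, r₃], ∀ b ∈ [p, t, r₁, r₂, r₃], Commute a b) ∧
      [p, t, r₁, r₂, r₃].prod = 1 ∧
      ∀ s ∈ P, Commute s p → Commute s t → s ∈ [p, t, r₁, r₂, r₃]
  /-- the product of two points of a line lies in `Q r` for each other point `r` of the line -/
  mul_mem : ∀ p ∈ P, ∀ t ∈ P, ∀ r ∈ P, p ≠ t → p ≠ r → t ≠ r → Commute p t → Commute p r → Commute t r →
    p * t ∈ Q r
  mul_notMem : ∀ p ∈ P, ∀ t ∈ P, p ≠ t → Commute p t → p * t ∉ P
  /-- `t`, `s` on different lines through `p` -/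
  ord_three : ∀ p ∈ P, ∀ t ∈ P, ∀ s ∈ P, Commute t p → Commute s p → ¬ Commute t s →
    (t * s) ^ 3 ∈ Q p ∧ t * s ∉ Q p

end Cfsg.Agent.LargeExtra.WC
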