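import Cfsg.Agent.LargeExtra.WC6
import Cfsg.Agent.LargeExtra.WCGeom

/-!
# S1762, case I: different lines, and `WCGeom` (helper888)
-/

set_option autoImplicit false

namespace Cfsg.Agent.LargeExtra.WC

open Cfsg.Agent.Co2Type.Quad

namespace Good

variable {G : Type*} [Group G] {P : Set G} {Q : G → Subgroup G} {p t s : G}
variable (B : WCBase P Q)
include B

theorem comm_of_mul_mem (c : Good P Q p t) (hs : s ∈ P) (hr : t * s ∈ Q p) : t * s = s * t := by
  have ht2 := B.sq c.ht
  have hs2 := B.sq hs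
  have hti := B.inv c.ht
  have hsi := B.inv hs
  have hinv : t * (t * s) * t⁻¹ = (t * s)⁻¹ := by
    rw [mul_inv_rev, hti, hsi, ← mul_assoc, ht2, one_mul]
  have h1 : t * (t * s) = (t * s) * t := by
    refine c.comm_of_tau B c.tau hr ?_
    rw [hinv]
    rcases (B.large p c.hp).sq _ hr with h | h
    · left; exact inv_eq_of_mul_eq_one_left h
    · right
      rw [inv_eq_iff_mul_eq_one, ← mul_assoc, h]
      exact B.sq c.hp
  have h2 : s = (t * s) * t := by
    rw [← h1, ← mul_assoc, ht2, one_mul]
  calc t * s = (t * s) * (t * t) := by rw [ht2, mul_one]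
    _ = ((t * s) * t) * t := by group
    _ = s * t := by rw [← h2]

/-- singular vectors of `W_s` fixed by `t` lie in `W_t` -/
theorem hJ (c : Good P Q p t) (c' : Good P Q p s) : ∀ w ∈ QS.W (c'.T B),
    w ∈ (qs (B.large p c.hp)).perp (QS.W (c.T B)) → w ∈ QS.W (c.T B) := by
  intro w hw hw'
  obtain ⟨d, h1, h2, rfl⟩ := c'.D_eq B hw
  have h3 := (c.fix_iff B c.tau h1).1 hw'
  exact c.J0_W B h1 h3.symm (c'.D_sq B h1 h2)

/-- lines whose `W` meet -/
theorem meet_absurd (c : Good P Q p t) (c' : Good P Q p s) (hts : t * s ≠ s * t)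
    {e : (B.large p c.hp).V} (he : e ∈ QS.W (c.T B)) (he' : e ∈ QS.W (c'.T B)) (he0 : e ≠ 0) : False := by
  have := B.finQ c.hp
  have hcomm := (c.sing B c.tau).meet (c'.sing B c'.tau) he he' he0 (hJ B c c') (hJ B c' c)
  have hs2 := B.sq c'.ht
  have ht2 := B.sq c.ht
  have hsi := B.inv c'.ht
  have hsp : s * p * s⁻¹ = p := by rw [← c'.com]; group
  -- `t' = s t s⁻¹`
  have ht' : s * t * s⁻¹ ∈ P := B.conj_mem t c.ht s
  have hpt' : p * (s * t * s⁻¹) = (s * t * s⁻¹) * p := by
    calc p * (s * t * s⁻¹) = (s * p * s⁻¹) * (s * t * s⁻¹) := by rw [hsp]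
      _ = s * (p * t) * s⁻¹ := by group
      _ = s * (t * p) * s⁻¹ := by rw [c.com]
      _ = (s * t * s⁻¹) * (s * p * s⁻¹) := by group
      _ = _ := by rw [hsp]
  have hne' : p ≠ s * t * s⁻¹ := by
    intro h
    apply c.ne
    have h1 : t = s⁻¹ * (s * t * s⁻¹) * s := by group
    rw [h1, ← h, mul_assoc, c'.com]; group
  have hne : s * t * s⁻¹ ≠ t := by
    intro h
    rw [mul_inv_eq_iff_eq_mul] at h
    exact hts h.symm
  have gt' : Good P Q p (s * t * s⁻¹) := Com.good B ⟨c.hp, ht', hne', hpt'⟩
  have hmem : t * (s * t * s⁻¹) ∈ Q p := by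
    rw [hsi]
    have k1 : t * s * p = p * (t * s) := by rw [mul_assoc, ← c'.com, ← mul_assoc, ← c.com, mul_assoc]
    have k2 : t * s * (t * s) * p = p * (t * s * (t * s)) := by rw [mul_assoc, k1, ← mul_assoc, k1, mul_assoc]
    have e1 : t * (s * t * s) = t * s * (t * s) := by group
    rw [e1]
    refine mem_of_ac (B.large p c.hp) _ k2 fun v => ?_
    rw [ac_mul _ _ _ k1 k1, ac_mul _ _ _ c.com.symm c'.com.symm, ac_mul _ _ _ c.com.symm c'.com.symm]
    show c.T B (c'.T B (c.T B (c'.T B v))) = v
    rw [← hcomm, (c.T_inv B).inv, (c'.T_inv B).inv]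
  have hcomm2 : t * (s * t * s⁻¹) = (s * t * s⁻¹) * t := comm_of_mul_mem B c ht' hmem
  have hL := no_triangle B c gt' hcomm2
  obtain ⟨-, hLeq⟩ := c.of_mem B (Or.inl rfl) hL hne'
  have hconj : ∀ x ∈ Lset Q p t, s * x * s⁻¹ ∈ Lset Q p t := by
    intro x hx
    have := Lset_conj B c.hp c.ht (g := s) hx
    rwa [hsp, hLeq] at this
  have hnofix : ∀ x ∈ Lset Q p t, x ≠ p → s * x * s⁻¹ ≠ x := by
    intro x hx hxp h
    obtain ⟨gx, hLx⟩ := c.of_mem B (Or.inl rfl) hx hxp.symm
    have h1 : x * s = s * x := by rw [mul_inv_eq_iff_eq_mul] at h; exact h.symm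
    have h2 := no_triangle B gx c' h1
    rw [hLx] at h2
    exact hts (c.L_comm B (Or.inr (Or.inl rfl)) h2)
  have hinj : ∀ x z : G, s * x * s⁻¹ = s * z * s⁻¹ → x = z := fun x z h =>
    mul_left_cancel (mul_right_cancel h)
  obtain ⟨d1, h1, h1', h10, e1⟩ := (hL.resolve_left (Ne.symm hne')).resolve_left hne
  -- a second element of `D`
  obtain ⟨d2, h2, h2', h20, h21⟩ : ∃ d2 ∈ Q p, d2 ∈ Q t ∧ d2 ≠ 1 ∧ d2 ≠ d1 := by
    obtain ⟨a, ha, b, hb, ha', hb', ha0, hb0, hab, -⟩ := c.D_four B
    by_cases h : a = d1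
    · exact ⟨b, hb, hb', hb0, fun h' => hab (h.trans h'.symm)⟩
    · exact ⟨a, ha, ha', ha0, h⟩
  have hD : ∀ d ∈ Q p, d ∈ Q t → d = 1 ∨ d = d1 ∨ d = d2 ∨ d = d1 * d2 := by
    obtain ⟨a, ha, b, hb, ha', hb', ha0, hb0, hab, hall⟩ := c.D_four B
    have haa := c.D_sq B ha ha'
    have hbb := c.D_sq B hb hb'
    have hba := c.D_comm B hb hb' ha ha'
    have c1 : a * (a * b) = b := by rw [← mul_assoc, haa, one_mul]
    have c2 : b * (a * b) = a := by rw [← mul_assoc, hba, mul_assoc, hbb, mul_one]
    have c3 : (a * b) * a = b := by rw [mul_assoc, hba, c1]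
    have c4 : (a * b) * b = a := by rw [mul_assoc, hbb, mul_one]
    intro d hd hd'
    rcases hall d1 h1 h1' with rfl | rfl | rfl | rfl
    · exact absurd rfl h10
    · rcases hall d2 h2 h2' with rfl | rfl | rfl | rfl
      · exact absurd rfl h20
      · exact absurd rfl h21
      · exact hall d hd hd'
      · rcases hall d hd hd' with rfl | rfl | rfl | rfl
        · left; rfl
        · right; left; rfl
        · right; right; right; exact c1.symm
        · right; right; left; rfl
    · rcases hall d2 h2 h2' with rfl | rfl | rfl | rfl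
      · exact absurd rfl h20
      · rcases hall d hd hd' with rfl | rfl | rfl | rfl
        · left; rfl
        · right; right; left; rfl
        · right; left; rfl
        · right; right; right; exact hba.symm
      · exact absurd rfl h21
      · rcases hall d hd hd' with rfl | rfl | rfl | rfl
        · left; rfl
        · right; right; right; exact c2.symm
        · right; left; rfl
        · right; right; left; rfl
    · rcases hall d2 h2 h2' with rfl | rfl | rfl | rfl
      · exact absurd rfl h20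
      · rcases hall d hd hd' with rfl | rfl | rfl | rfl
        · left; rfl
        · right; right; left; rfl
        · right; right; right; exact c3.symm
        · right; left; rfl
      · rcases hall d hd hd' with rfl | rfl | rfl | rfl
        · left; rfl
        · right; right; right; exact c4.symm
        · right; right; left; rfl
        · right; left; rfl
      · exact absurd rfl h21
  have haL : p * t * d2 ∈ Lset Q p t := Or.inr (Or.inr ⟨d2, h2, h2', h20, rfl⟩)
  have hap : p * t * d2 ≠ p := by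
    intro h
    apply c.notMem B
    have : t = p⁻¹ * (p * t * d2) * d2⁻¹ := by group
    rw [this, h]
    exact mul_mem (mul_mem (inv_mem (B.large p c.hp).z_mem) (B.large p c.hp).z_mem) (inv_mem h2)
  have hsa := hconj _ haL
  -- s a s⁻¹ = t d1 (s d2 s⁻¹)
  have hsa' : s * (p * t * d2) * s⁻¹ = t * d1 * (s * d2 * s⁻¹) := by
    calc s * (p * t * d2) * s⁻¹ = (s * p * s⁻¹) * (s * t * s⁻¹) * (s * d2 * s⁻¹) := by group
      _ = (p * p) * t * d1 * (s * d2 * s⁻¹) := by rw [hsp, e1]; group
      _ = _ := by rw [B.sq c.hp, one_mul]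
  rcases hsa with h | h | ⟨d', k1, k2, k3, h⟩
  · -- = p
    exact hap (hinj _ _ (h.trans hsp.symm))
  · -- = t: then s t s⁻¹ = a
    have h3 : s * t * s⁻¹ = p * t * d2 := by
      calc s * t * s⁻¹ = s * (s * (p * t * d2) * s⁻¹) * s⁻¹ := by rw [h]
        _ = (s * s) * (p * t * d2) * (s * s)⁻¹ := by group
        _ = p * t * d2 := by rw [hs2]; group
    rw [e1] at h3
    exact h21 (mul_left_cancel h3).symm
  · rcases hD d' k1 k2 with rfl | rfl | rfl | rfl
    · exact k3 rfl
    · -- = t'
      rw [← e1] at h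
      have h3 := hinj _ _ h
      -- p t d2 = t
      apply c.symm.notMem B
      have h4 : p = t * d2⁻¹ * t⁻¹ := by
        calc p = (p * t * d2) * d2⁻¹ * t⁻¹ := by group
          _ = _ := by rw [h3]
      rw [h4]
      exact mul_mem (mul_mem (B.large t c.ht).z_mem (inv_mem h2')) (inv_mem (B.large t c.ht).z_mem)
    · exact hnofix _ haL hap h
    · -- s d2 s⁻¹ = p d2
      rw [hsa'] at h
      have h5 : s * d2 * s⁻¹ = d2 * p := by
        have hd1p := c.D_p B h1
        have hd2p := c.D_p B h2
        have h6 : t * d1 * (s * d2 * s⁻¹) = t * d1 * (d2 * p) := by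
          rw [h, c.com]
          calc t * p * (d1 * d2) = t * (p * d1) * d2 := by group
            _ = t * d1 * (p * d2) := by rw [← hd1p]; group
            _ = _ := by rw [← hd2p]
        exact mul_left_cancel h6
      have h6 := c'.comm_of_tau B c'.tau h2 (Or.inr h5)
      have h7 : s * d2 * s⁻¹ = d2 := by rw [h6]; group
      rw [h7] at h5
      exact (B.large p c.hp).z_ne (mul_eq_left.1 h5.symm)

theorem ord_three (c : Good P Q p t) (c' : Good P Q p s) (hts : t * s ≠ s * t) :
    (t * s) ^ 3 ∈ Q p ∧ t * s ∉ Q p := by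
  have := B.finQ c.hp
  refine ⟨?_, fun h => hts (comm_of_mul_mem B c c'.ht h)⟩
  have h1 : ∀ w ∈ QS.W (c'.T B), w ∈ (qs (B.large p c.hp)).perp (QS.W (c.T B)) → w = 0 := by
    intro w hw hw'
    by_contra h0
    exact meet_absurd B c c' hts (hJ B c c' w hw hw') hw h0
  have h2 : ∀ w ∈ QS.W (c.T B), w ∈ (qs (B.large p c.hp)).perp (QS.W (c'.T B)) → w = 0 := by
    intro w hw hw'
    by_contra h0
    exact meet_absurd B c c' hts hw (hJ B c' c w hw hw') h0
  have hbraid := (c.sing B c.tau).braid (c'.sing B c'.tau) h1 h2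
  have k1 : t * s * p = p * (t * s) := by rw [mul_assoc, ← c'.com, ← mul_assoc, ← c.com, mul_assoc]
  have k2 : t * s * (t * s) * p = p * (t * s * (t * s)) := by rw [mul_assoc, k1, ← mul_assoc, k1, mul_assoc]
  have k3 : t * s * (t * s) * (t * s) * p = p * (t * s * (t * s) * (t * s)) := by
    rw [mul_assoc, k1, ← mul_assoc, k2, mul_assoc]
  have e1 : (t * s) ^ 3 = t * s * (t * s) * (t * s) := by rw [pow_succ, pow_two]
  rw [e1]
  refine mem_of_ac (B.large p c.hp) _ k3 fun v => ?_
  rw [ac_mul _ _ _ k2 k1, ac_mul _ _ _ k1 k1]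
  simp only [ac_mul _ _ _ c.com.symm c'.com.symm]
  show c.T B (c'.T B (c.T B (c'.T B (c.T B (c'.T B v))))) = v
  have hb1 : c'.T B (c.T B (c'.T B v)) = c.T B (c'.T B (c.T B v)) := (hbraid v).symm
  rw [hb1, (c.T_inv B).inv, (c'.T_inv B).inv, (c.T_inv B).inv]

end Good

/-- The local analysis: the geometry of the conjugates of `z`. -/
theorem WCBase.geom {G : Type*} [Group G] {P : Set G} {Q : G → Subgroup G} (B : WCBase P Q) :
    WCGeom P Q where
  conj_mem := B.conj_mem
  exists_conj := B.exists_conj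
  large := B.large
  Q_conj := B.Q_conj
  eq_of_mem := B.eq_of_mem
  line := by
    intro p hp t ht hne hc
    have c : Good P Q p t := Com.good B ⟨hp, ht, hne, hc⟩
    obtain ⟨a, b, e, ha, hb, he, hnd, hall, hprod⟩ := c.five B
    refine ⟨a, c.L_sub B ha, b, c.L_sub B hb, e, c.L_sub B he, hnd, ?_, ?_, ?_⟩
    · have hL : ∀ x ∈ [p, t, a, b, e], x ∈ Lset Q p t := by
        intro x hx
        simp only [List.mem_cons, List.not_mem_nil, or_false] at hx
        rcases hx with rfl | rfl | rfl | rfl | rfl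
        · exact Or.inl rfl
        · exact Or.inr (Or.inl rfl)
        · exact ha
        · exact hb
        · exact he
      intro x hx y hy
      exact c.L_comm B (hL x hx) (hL y hy)
    · simp only [List.prod_cons, List.prod_nil, mul_one]
      rw [← hprod]; group
    · intro s hs hsp hst
      simp only [List.mem_cons, List.not_mem_nil, or_false]
      by_cases h : p = s
      · left; exact h.symm
      · have c' : Good P Q p s := Com.good B ⟨hp, hs, h, hsp.symm⟩
        exact hall s (Good.no_triangle B c c' hst.symm)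
  mul_mem := by
    intro p hp t ht r hr hpt hpr htr cpt cpr ctr
    have c : Good P Q p t := Com.good B ⟨hp, ht, hpt, cpt⟩
    have c' : Good P Q p r := Com.good B ⟨hp, hr, hpr, cpr⟩
    have hrL := Good.no_triangle B c c' ctr
    obtain ⟨c'', hL⟩ := c.of_mem B hrL (Or.inl rfl) hpr.symm
    have htL : t ∈ Lset Q r p := by rw [hL]; exact Or.inr (Or.inl rfl)
    rcases htL with h | h | ⟨d, h1, h2, h3, h4⟩
    · exact absurd h htr
    · exact absurd h hpt.symm
    · have : p * t = r * d := by
        rw [h4]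
        calc p * (r * p * d) = (p * r) * p * d := by group
          _ = r * (p * p) * d := by rw [cpr.eq]; group
          _ = r * d := by rw [B.sq hp, mul_one]
      rw [this]
      exact mul_mem (B.large r hr).z_mem h1
  mul_notMem := by
    intro p hp t ht hne hc
    exact (Com.good B ⟨hp, ht, hne, hc⟩).mul_notMem B
  ord_three := by
    intro p hp t ht s hs htp hsp hts
    have hpt : p ≠ t := by
      rintro rfl
      exact hts hsp.symm
    have hps : p ≠ s := by
      rintro rfl
      exact hts htp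
    exact Good.ord_three B (Com.good B ⟨hp, ht, hpt, htp.symm⟩) (Com.good B ⟨hp, hs, hps, hsp.symm⟩) hts

end Cfsg.Agent.LargeExtra.WC
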