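import Cfsg.Agent.LargeExtra.WC7
import Cfsg.Agent.LargeExtra.Base

/-!
# S1762, case I: the bridge from `Large Q z` and weak closure to `WCGeom` (helper888)
-/

set_option autoImplicit false

namespace Cfsg.Agent.LargeExtra.WC

open Cfsg.Agent.Co2Type.Quad

/-- the conjugates of `Q₀`, indexed by the conjugates of `z` -/
noncomputable def Qfam {G : Type*} [Group G] (Q₀ : Subgroup G) (z p : G) : Subgroup G :=
  open Classical in
  if h : ∃ g : G, g * z * g⁻¹ = p then Q₀.map (MulAut.conj h.choose).toMonoidHom else ⊥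

theorem Qfam_conj {G : Type*} [Group G] {Q₀ : Subgroup G} {z : G} (h : Large Q₀ z) (g : G) :
    Qfam Q₀ z (g * z * g⁻¹) = Q₀.map (MulAut.conj g).toMonoidHom := by
  have hex : ∃ g' : G, g' * z * g'⁻¹ = g * z * g⁻¹ := ⟨g, rfl⟩
  rw [Qfam, dif_pos hex]
  exact Base.map_eq_of_conj h hex.choose_spec

theorem Qfam_self {G : Type*} [Group G] {Q₀ : Subgroup G} {z : G} (h : Large Q₀ z) :
    Qfam Q₀ z z = Q₀ := by
  have h1 := Qfam_conj h (1 : G)
  have e : (1 : G) * z * (1 : G)⁻¹ = z := by group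
  rw [e, Base.map_eq_self h (by rw [one_mul, mul_one])] at h1
  exact h1

/-- `z` weakly closed in `Q₀`, `|Q₀| = 2 ^ 7` -/
theorem wcBase_of_large {G : Type*} [Group G] {Q₀ : Subgroup G} {z : G} (h : Large Q₀ z)
    (hcard : Nat.card Q₀ = 2 ^ 7) (hwc : ∀ g : G, g * z * g⁻¹ ∈ Q₀ → g * z * g⁻¹ = z) :
    WCBase {p : G | ∃ g : G, g * z * g⁻¹ = p} (Qfam Q₀ z) where
  conj_mem := by
    rintro _ ⟨k, rfl⟩ g
    exact ⟨g * k, by group⟩
  exists_conj := by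
    rintro _ ⟨k, rfl⟩ _ ⟨l, rfl⟩
    exact ⟨l * k⁻¹, by group⟩
  large := by
    rintro _ ⟨k, rfl⟩
    rw [Qfam_conj h]
    exact h.conj k
  card := by
    rintro _ ⟨k, rfl⟩
    rw [Qfam_conj h, ← hcard]
    exact Nat.card_congr (Q₀.equivMapOfInjective _ (MulAut.conj k).injective).symm.toEquiv
  Q_conj := by
    rintro _ ⟨k, rfl⟩ g x hx
    have e : g * (k * z * k⁻¹) * g⁻¹ = (g * k) * z * (g * k)⁻¹ := by group
    rw [e, Qfam_conj h]
    rw [Qfam_conj h] at hx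
    obtain ⟨y, hy, rfl⟩ := hx
    refine ⟨y, hy, ?_⟩
    show g * k * y * (g * k)⁻¹ = g * (k * y * k⁻¹) * g⁻¹
    group
  eq_of_mem := by
    rintro _ ⟨k, rfl⟩ _ ⟨l, rfl⟩ hx
    rw [Qfam_conj h] at hx
    obtain ⟨y, hy, hyl⟩ := hx
    have hyl' : k * y * k⁻¹ = l * z * l⁻¹ := hyl
    have e : y = (k⁻¹ * l) * z * (k⁻¹ * l)⁻¹ := by
      calc y = k⁻¹ * (k * y * k⁻¹) * k := by group
        _ = k⁻¹ * (l * z * l⁻¹) * k := by rw [hyl']
        _ = _ := by group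
    have h1 := hwc (k⁻¹ * l) (by rw [← e]; exact hy)
    rw [← e] at h1
    rw [← hyl', h1]

/-- Case I of S1762: the geometry. -/
theorem geom_of_large {G : Type*} [Group G] {Q₀ : Subgroup G} {z : G} (h : Large Q₀ z)
    (hcard : Nat.card Q₀ = 2 ^ 7) (hwc : ∀ g : G, g * z * g⁻¹ ∈ Q₀ → g * z * g⁻¹ = z) :
    WCGeom {p : G | ∃ g : G, g * z * g⁻¹ = p} (Qfam Q₀ z) :=
  (wcBase_of_large h hcard hwc).geom

end Cfsg.Agent.LargeExtra.WC
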