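import Cfsg.Agent.LargeExtra.WCGeom
import Cfsg.Prelude.Def_TwoFusion

/-!
# Endgame of the weakly closed case (helper622)

From the geometry `WCGeom P Q` (only the fields listed in `Geo` are used) and the Z*-theorem: `P` is a class of
3-transpositions (`three_transp`).  Proof of helper888, bb R12 #2003 (6), (7).
-/

set_option autoImplicit false

namespace Cfsg.Agent.LargeExtra.WCEnd

open Cfsg.Agent.Co2Type.Quad Cfsg.Agent.LargeExtra.WC

universe u

/-- The Z*-theorem in the universe `v`. -/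
def ZStar.{v} : Prop := ∀ (X : Type v) [Group X] [Finite X] (t : X), Cfsg.IsIsolatedInvolution t →
  ∃ N : Subgroup X, N.Normal ∧ Odd (Nat.card N) ∧ ∀ x : X, t * x * t⁻¹ * x⁻¹ ∈ N

/-- The part of `WCGeom` used in the endgame. -/
structure Geo {G : Type*} [Group G] (P : Set G) (Q : G → Subgroup G) : Prop where
  conj_mem : ∀ p ∈ P, ∀ g : G, g * p * g⁻¹ ∈ P
  exists_conj : ∀ p ∈ P, ∀ q ∈ P, ∃ g : G, g * p * g⁻¹ = q
  large : ∀ p ∈ P, Large (Q p) p
  line : ∀ p ∈ P, ∀ t ∈ P, p ≠ t → Commute p t → ∃ r₁ ∈ P, ∃ r₂ ∈ P, ∃ r₃ ∈ P,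
    [p, t, r₁, r₂, r₃].Nodup ∧ (∀ a ∈ [p, t, r₁, r₂, r₃], ∀ b ∈ [p, t, r₁, r₂, r₃], Commute a b) ∧
      [p, t, r₁, r₂, r₃].prod = 1 ∧
      ∀ s ∈ P, Commute s p → Commute s t → s ∈ [p, t, r₁, r₂, r₃]
  mul_mem : ∀ p ∈ P, ∀ t ∈ P, ∀ r ∈ P, p ≠ t → p ≠ r → t ≠ r → Commute p t → Commute p r → Commute t r →
    p * t ∈ Q r
  mul_notMem : ∀ p ∈ P, ∀ t ∈ P, p ≠ t → Commute p t → p * t ∉ P
  ord_three : ∀ p ∈ P, ∀ t ∈ P, ∀ s ∈ P, Commute t p → Commute s p → ¬ Commute t s →
    (t * s) ^ 3 ∈ Q p ∧ t * s ∉ Q p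

theorem geo_of_wc {G : Type*} [Group G] {P : Set G} {Q : G → Subgroup G} (h : WCGeom P Q) : Geo P Q :=
  ⟨h.conj_mem, h.exists_conj, h.large, h.line, h.mul_mem, h.mul_notMem, h.ord_three⟩

/-! ### the five points of a line -/

/-- `p, t, r₁, r₂, r₃` are the five points of a line. -/
structure IsLine {G : Type*} [Group G] (P : Set G) (p t r₁ r₂ r₃ : G) : Prop where
  hp : p ∈ P
  ht : t ∈ P
  h1 : r₁ ∈ P
  h2 : r₂ ∈ P
  h3 : r₃ ∈ P
  pt : p ≠ t
  p1 : p ≠ r₁
  p2 : p ≠ r₂
  p3 : p ≠ r₃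
  t1 : t ≠ r₁
  t2 : t ≠ r₂
  t3 : t ≠ r₃
  n12 : r₁ ≠ r₂
  n13 : r₁ ≠ r₃
  n23 : r₂ ≠ r₃
  cpt : Commute p t
  cp1 : Commute p r₁
  cp2 : Commute p r₂
  cp3 : Commute p r₃
  ct1 : Commute t r₁
  ct2 : Commute t r₂
  ct3 : Commute t r₃
  c12 : Commute r₁ r₂
  c13 : Commute r₁ r₃
  c23 : Commute r₂ r₃
  prod : p * t * (r₁ * r₂ * r₃) = 1
  mem : ∀ s ∈ P, Commute s p → Commute s t → s = p ∨ s = t ∨ s = r₁ ∨ s = r₂ ∨ s = r₃

section

variable {G : Type*} [Group G] {P : Set G} {Q : G → Subgroup G}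

theorem Geo.isLine (hg : Geo P Q) {p t : G} (hp : p ∈ P) (ht : t ∈ P) (hne : p ≠ t) (hc : Commute p t) :
    ∃ r₁ r₂ r₃, IsLine P p t r₁ r₂ r₃ := by
  obtain ⟨r₁, h1, r₂, h2, r₃, h3, hnd, hcm, hpr, hm⟩ := hg.line p hp t ht hne hc
  refine ⟨r₁, r₂, r₃, ?_⟩
  simp only [List.nodup_cons, List.mem_cons, List.not_mem_nil, not_or, or_false, List.nodup_nil,
    and_true, not_false_eq_true] at hnd
  obtain ⟨⟨-, a1, a2, a3⟩, ⟨b1, b2, b3⟩, ⟨c1, c2⟩, d1⟩ := hnd
  refine ⟨hp, ht, h1, h2, h3, hne, a1, a2, a3, b1, b2, b3, c1, c2, d1, hc, ?_, ?_, ?_, ?_, ?_, ?_, ?_, ?_, ?_,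
    ?_, ?_⟩
  · exact hcm _ (by simp) _ (by simp)
  · exact hcm _ (by simp) _ (by simp)
  · exact hcm _ (by simp) _ (by simp)
  · exact hcm _ (by simp) _ (by simp)
  · exact hcm _ (by simp) _ (by simp)
  · exact hcm _ (by simp) _ (by simp)
  · exact hcm _ (by simp) _ (by simp)
  · exact hcm _ (by simp) _ (by simp)
  · exact hcm _ (by simp) _ (by simp)
  · rw [← hpr]
    simp [mul_assoc]
  · intro s hs h1 h2
    have := hm s hs h1 h2
    simpa using this

theorem Geo.sq (hg : Geo P Q) {p : G} (hp : p ∈ P) : p * p = 1 := (hg.large p hp).z_sq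

theorem Geo.ne_one (hg : Geo P Q) {p : G} (hp : p ∈ P) : p ≠ 1 := (hg.large p hp).z_ne

theorem Geo.inv (hg : Geo P Q) {p : G} (hp : p ∈ P) : p⁻¹ = p := inv_eq_of_mul_eq_one_left (hg.sq hp)

/-- conjugation by an involution of `P` -/
theorem Geo.conj_mem' (hg : Geo P Q) {p s : G} (hp : p ∈ P) (hs : s ∈ P) : s * p * s ∈ P := by
  have := hg.conj_mem p hp s
  rwa [hg.inv hs] at this

/-- swapping the roles of the two first points -/
theorem IsLine.symm {p t r₁ r₂ r₃ : G} (h : IsLine P p t r₁ r₂ r₃) : IsLine P t p r₁ r₂ r₃ where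
  hp := h.ht
  ht := h.hp
  h1 := h.h1
  h2 := h.h2
  h3 := h.h3
  pt := h.pt.symm
  p1 := h.t1
  p2 := h.t2
  p3 := h.t3
  t1 := h.p1
  t2 := h.p2
  t3 := h.p3
  n12 := h.n12
  n13 := h.n13
  n23 := h.n23
  cpt := h.cpt.symm
  cp1 := h.ct1
  cp2 := h.ct2
  cp3 := h.ct3
  ct1 := h.cp1
  ct2 := h.cp2
  ct3 := h.cp3
  c12 := h.c12
  c13 := h.c13
  c23 := h.c23
  prod := by rw [← h.cpt.eq]; exact h.prod
  mem := by
    intro s hs h1 h2
    rcases h.mem s hs h2 h1 with h | h | h | h | h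
    · exact Or.inr (Or.inl h)
    · exact Or.inl h
    · exact Or.inr (Or.inr (Or.inl h))
    · exact Or.inr (Or.inr (Or.inr (Or.inl h)))
    · exact Or.inr (Or.inr (Or.inr (Or.inr h)))

/-- cyclic rotation of the three other points -/
theorem IsLine.rot {p t r₁ r₂ r₃ : G} (h : IsLine P p t r₁ r₂ r₃) : IsLine P p t r₂ r₃ r₁ where
  hp := h.hp
  ht := h.ht
  h1 := h.h2
  h2 := h.h3
  h3 := h.h1
  pt := h.pt
  p1 := h.p2
  p2 := h.p3
  p3 := h.p1
  t1 := h.t2
  t2 := h.t3
  t3 := h.t1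
  n12 := h.n23
  n13 := h.n12.symm
  n23 := h.n13.symm
  cpt := h.cpt
  cp1 := h.cp2
  cp2 := h.cp3
  cp3 := h.cp1
  ct1 := h.ct2
  ct2 := h.ct3
  ct3 := h.ct1
  c12 := h.c23
  c13 := h.c12.symm
  c23 := h.c13.symm
  prod := by
    have : r₂ * r₃ * r₁ = r₁ * r₂ * r₃ := by
      rw [← (h.c12.mul_right h.c13).eq, mul_assoc]
    rw [this]; exact h.prod
  mem := by
    intro s hs h1 h2
    rcases h.mem s hs h1 h2 with h | h | h | h | h
    · exact Or.inl h
    · exact Or.inr (Or.inl h)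
    · exact Or.inr (Or.inr (Or.inr (Or.inr h)))
    · exact Or.inr (Or.inr (Or.inl h))
    · exact Or.inr (Or.inr (Or.inr (Or.inl h)))

theorem IsLine.eq_mul (hg : Geo P Q) {p t r₁ r₂ r₃ : G} (h : IsLine P p t r₁ r₂ r₃) :
    p * t = r₁ * r₂ * r₃ := by
  have h1 := h.prod
  have h2 : (r₁ * r₂ * r₃)⁻¹ = r₁ * r₂ * r₃ := by
    rw [mul_inv_rev, mul_inv_rev, hg.inv h.h1, hg.inv h.h2, hg.inv h.h3, ← h.c12.eq,
      ← (h.c13.mul_left h.c23).eq]
  rw [← h2]
  exact eq_inv_of_mul_eq_one_left h1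

/-- the product of `r₁` with `p t` is the product of the two other points -/
theorem IsLine.mul_eq (hg : Geo P Q) {p t r₁ r₂ r₃ : G} (h : IsLine P p t r₁ r₂ r₃) :
    r₁ * (p * t) = r₂ * r₃ := by
  rw [h.eq_mul hg, ← mul_assoc, ← mul_assoc, hg.sq h.h1, one_mul]

theorem IsLine.mul_notMem (hg : Geo P Q) {p t r₁ r₂ r₃ : G} (h : IsLine P p t r₁ r₂ r₃) :
    r₁ * (p * t) ∉ P := by
  rw [h.mul_eq hg]
  exact hg.mul_notMem _ h.h2 _ h.h3 h.n23 h.c23

/-- Two points with product `p t`, one of them commuting with `p`: they are `p` and `t`. -/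
theorem Geo.eq_or_eq (hg : Geo P Q) {p t s s' : G} (hp : p ∈ P) (ht : t ∈ P) (hne : p ≠ t)
    (hc : Commute p t) (hs : s ∈ P) (hs' : s' ∈ P) (hss : s * s' = p * t) (hsp : Commute s p) :
    s = p ∨ s = t := by
  obtain ⟨r₁, r₂, r₃, h⟩ := hg.isLine hp ht hne hc
  have hss' : s' = s * (p * t) := by rw [← hss, ← mul_assoc, hg.sq hs, one_mul]
  have hu : (p * t) * (p * t) = 1 := by
    have e : (p * t) * (p * t) = (p * p) * (t * t) := by
      rw [mul_assoc p t, ← mul_assoc t p, ← hc.eq, mul_assoc p t, ← mul_assoc p p]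
    rw [e, hg.sq hp, hg.sq ht, one_mul]
  have hcs : Commute s s' := by
    have h1 : (s * s') * (s * s') = 1 := by rw [hss, hu]
    show s * s' = s' * s
    have h2 : (s * s')⁻¹ = s * s' := inv_eq_of_mul_eq_one_left h1
    rw [← h2, mul_inv_rev, hg.inv hs, hg.inv hs']
  have hcu : Commute s (p * t) := by
    rw [← hss]; exact (Commute.refl s).mul_right hcs
  have hst : Commute s t := by
    have : t = p * (p * t) := by rw [← mul_assoc, hg.sq hp, one_mul]
    rw [this]; exact hsp.mul_right hcu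
  rcases h.mem s hs hsp hst with e | e | e | e | e
  · exact Or.inl e
  · exact Or.inr e
  · exfalso; subst e; exact h.mul_notMem hg (hss' ▸ hs')
  · exfalso; subst e; exact h.rot.mul_notMem hg (hss' ▸ hs')
  · exfalso; subst e; exact h.rot.rot.mul_notMem hg (hss' ▸ hs')

/-- Nothing in `P` swaps two points of a line. -/
theorem Geo.not_swap (hg : Geo P Q) {p t s : G} (hp : p ∈ P) (ht : t ∈ P) (hne : p ≠ t)
    (hc : Commute p t) (hs : s ∈ P) : s * p * s ≠ t := by
  intro hst
  obtain ⟨r₁, r₂, r₃, h⟩ := hg.isLine hp ht hne hc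
  have hss := hg.sq hs
  have hts : s * t * s = p := by
    rw [← hst]
    calc s * (s * p * s) * s = (s * s) * p * (s * s) := by group
      _ = p := by rw [hss]; group
  -- the image of a point commuting with `p` and `t`
  have hcc : ∀ x y : G, Commute x y → Commute (s * x * s) (s * y * s) := by
    intro x y hxy
    show s * x * s * (s * y * s) = s * y * s * (s * x * s)
    calc s * x * s * (s * y * s) = s * x * (s * s) * y * s := by group
      _ = s * (x * y) * s := by rw [hss]; group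
      _ = s * (y * x) * s := by rw [hxy.eq]
      _ = s * y * (s * s) * x * s := by rw [hss]; group
      _ = _ := by group
  have hinj : ∀ x y : G, s * x * s = y → s * y * s = x := by
    rintro x y rfl
    calc s * (s * x * s) * s = (s * s) * x * (s * s) := by group
      _ = x := by rw [hss]; group
  have himg : ∀ r ∈ P, r ≠ p → r ≠ t → Commute p r → Commute t r →
      s * r * s = r₁ ∨ s * r * s = r₂ ∨ s * r * s = r₃ := by
    intro r hr hrp hrt c1 c2
    have m1 := hg.conj_mem' hr hs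
    have d1 : Commute (s * r * s) t := by
      have := (hcc p r c1).symm
      rwa [hst] at this
    have d2 : Commute (s * r * s) p := by
      have := (hcc t r c2).symm
      rwa [hts] at this
    rcases h.mem _ m1 d2 d1 with e | e | e | e | e
    · exact absurd ((hinj _ _ e).symm.trans hst) hrt
    · exact absurd ((hinj _ _ e).symm.trans hts) hrp
    · exact Or.inl e
    · exact Or.inr (Or.inl e)
    · exact Or.inr (Or.inr e)
  -- a fixed point
  have hfix : ∃ r ∈ P, r ≠ p ∧ r ≠ t ∧ Commute p r ∧ Commute t r ∧ s * r * s = r := by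
    have i1 := himg r₁ h.h1 h.p1.symm h.t1.symm h.cp1 h.ct1
    have i2 := himg r₂ h.h2 h.p2.symm h.t2.symm h.cp2 h.ct2
    have i3 := himg r₃ h.h3 h.p3.symm h.t3.symm h.cp3 h.ct3
    by_cases f1 : s * r₁ * s = r₁
    · exact ⟨r₁, h.h1, h.p1.symm, h.t1.symm, h.cp1, h.ct1, f1⟩
    by_cases f2 : s * r₂ * s = r₂
    · exact ⟨r₂, h.h2, h.p2.symm, h.t2.symm, h.cp2, h.ct2, f2⟩
    by_cases f3 : s * r₃ * s = r₃
    · exact ⟨r₃, h.h3, h.p3.symm, h.t3.symm, h.cp3, h.ct3, f3⟩
    exfalso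
    rcases i1 with e | e | e
    · exact f1 e
    · -- `r₁ ↔ r₂`
      rcases i3 with e' | e' | e'
      · exact h.n23 (e.symm.trans (hinj _ _ e'))
      · exact h.n13 ((hinj _ _ e).symm.trans (hinj _ _ e'))
      · exact f3 e'
    · rcases i2 with e' | e' | e'
      · exact h.n23 ((hinj _ _ e').symm.trans e)
      · exact f2 e'
      · exact h.n12 ((hinj _ _ e).symm.trans (hinj _ _ e'))
  obtain ⟨r, hr, hrp, hrt, cpr, ctr, hfr⟩ := hfix
  have csr : Commute s r := by
    show s * r = r * s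
    calc s * r = (s * r * s) * s⁻¹ := by group
      _ = r * s := by rw [hfr, hg.inv hs]
  have hnc : ¬ Commute p s := by
    intro hps
    apply hne
    rw [← hst, ← hps.eq, mul_assoc, hss, mul_one]
  obtain ⟨o1, o2⟩ := hg.ord_three r hr p hp s hs cpr csr hnc
  have o3 : (p * s) ^ 2 ∈ Q r := by
    have e : (p * s) ^ 2 = p * t := by
      rw [pow_two, ← hst]; group
    rw [e]
    exact hg.mul_mem p hp t ht r hr hne (Ne.symm hrp) (Ne.symm hrt) hc cpr ctr
  apply o2
  have e : p * s = ((p * s) ^ 2)⁻¹ * (p * s) ^ 3 := by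
    rw [pow_succ (p * s) 2, inv_mul_cancel_left]
  rw [e]
  exact Subgroup.mul_mem _ (Subgroup.inv_mem _ o3) o1

end

/-! ### elements of odd order centralising a hyperplane of `Q` -/

theorem eq_one_of_odd {G : Type*} [Group G] {g : G} {k : ℕ} (h4 : g ^ 4 = 1) (hk : g ^ k = 1)
    (hodd : Odd k) : g = 1 := by
  have h1 : orderOf g ∣ 4 := orderOf_dvd_of_pow_eq_one h4
  have h2 : orderOf g ∣ k := orderOf_dvd_of_pow_eq_one hk
  have h3 : Nat.Coprime 4 k := by
    have : Nat.Coprime 2 k := by rwa [Nat.coprime_two_left]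
    exact Nat.Coprime.pow_left 2 this
  have h4 : orderOf g ∣ 1 := by
    rw [← h3]; exact Nat.dvd_gcd h1 h2
  exact orderOf_eq_one_iff.1 (Nat.dvd_one.1 h4)

theorem pow_four {G : Type*} [Group G] {Q : Subgroup G} {z : G} (h : Large Q z) {x : G} (hx : x ∈ Q) :
    x ^ 4 = 1 := by
  have e : x ^ 4 = (x * x) * (x * x) := by
    simp only [pow_succ, pow_zero, one_mul, mul_assoc]
  rw [e]
  rcases h.sq x hx with h1 | h1 <;> rw [h1]
  · exact one_mul 1
  · exact h.z_sq

theorem eq_one_of_centralizes {G : Type*} [Group G] {Q : Subgroup G} {z : G} (h : Large Q z) {u n : G}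
    (hu : u ∈ Q) (hnz : n * z = z * n) (hnu : n * u = u * n)
    (hY : ∀ x ∈ Q, x * u = u * x → n * x = x * n) {k : ℕ} (hk : Odd k) (hn : n ^ k = 1) : n = 1 := by
  have hzc : ∀ x ∈ Q, x * z = z * x := h.comm_z
  have hall : ∀ y ∈ Q, n * y = y * n := by
    intro y hy
    set c := y⁻¹ * (n * y * n⁻¹) with hc
    have hcQ : c ∈ Q := Q.mul_mem (Q.inv_mem hy) (h.conj_mem n hnz y hy)
    have hcx : ∀ x ∈ Q, x * u = u * x → c * x = x * c := by
      intro x hx hxu
      have hx' : y * x * y⁻¹ ∈ Q := Q.mul_mem (Q.mul_mem hy hx) (Q.inv_mem hy)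
      have hx'u : y * x * y⁻¹ * u = u * (y * x * y⁻¹) := by
        rcases h.comm y hy x hx with e | e
        · have : y * x * y⁻¹ = x := by rw [e]; group
          rw [this, hxu]
        · have : y * x * y⁻¹ = x * z := by
            rw [e, mul_assoc (x * y), ← (h.commz hy).inv_left.eq]; group
          rw [this, mul_assoc, ← hzc u hu, ← mul_assoc, hxu, mul_assoc]
      have e1 := hY _ hx' hx'u
      have e2 := hY _ hx hxu
      have e3 : n⁻¹ * x = x * n⁻¹ := by
        rw [inv_mul_eq_iff_eq_mul, ← mul_assoc, e2, mul_inv_cancel_right]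
      calc c * x = y⁻¹ * (n * y * (n⁻¹ * x)) := by rw [hc]; group
        _ = y⁻¹ * (n * y * (x * n⁻¹)) := by rw [e3]
        _ = y⁻¹ * (n * (y * x * y⁻¹)) * y * n⁻¹ := by group
        _ = y⁻¹ * ((y * x * y⁻¹) * n) * y * n⁻¹ := by rw [e1]
        _ = x * c := by rw [hc]; group
    have hcn : n * c = c * n := by
      by_cases hcen : ∀ x ∈ Q, c * x = x * c
      · rcases h.cent c hcQ hcen with e | e
        · rw [e]; group
        · rw [e]; exact hnz
      · push Not at hcen
        obtain ⟨w, hw, hcw⟩ := hcen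
        have hcw' : c * w = w * c * z := by
          rcases h.comm c hcQ w hw with e | e
          · exact absurd e hcw
          · exact e
        have hwu : w * u = u * w * z := by
          rcases h.comm w hw u hu with e | e
          · exact absurd (hcx w hw e) hcw
          · exact e
        have key : ∀ x ∈ Q, (c * u) * x = x * (c * u) := by
          intro x hx
          rcases h.comm x hx u hu with e | e
          · rw [mul_assoc, ← e, ← mul_assoc, hcx x hx e, mul_assoc]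
          · have hwi : w⁻¹ * u = u * w⁻¹ * z := by
              rw [inv_mul_eq_iff_eq_mul]
              calc u = u * w * z * (w⁻¹ * z) := by
                    rw [mul_assoc (u * w), ← mul_assoc z, ← (h.commz (Q.inv_mem hw)).eq, mul_assoc (w⁻¹),
                      h.z_sq]; group
                _ = w * u * (w⁻¹ * z) := by rw [hwu]
                _ = w * (u * w⁻¹ * z) := by group
            have e1 : x * w⁻¹ * u = u * (x * w⁻¹) := by
              calc x * w⁻¹ * u = x * (w⁻¹ * u) := by group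
                _ = x * u * w⁻¹ * z := by rw [hwi]; group
                _ = u * x * z * w⁻¹ * z := by rw [e]
                _ = u * x * (z * w⁻¹) * z := by group
                _ = u * x * (w⁻¹ * z) * z := by rw [(h.commz (Q.inv_mem hw)).eq]
                _ = u * (x * w⁻¹) * (z * z) := by group
                _ = _ := by rw [h.z_sq, mul_one]
            have e2 := hcx _ (Q.mul_mem hx (Q.inv_mem hw)) e1
            have e3 : c * x = x * c * z := by
              calc c * x = c * (x * w⁻¹) * w := by group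
                _ = x * w⁻¹ * c * w := by rw [e2]
                _ = x * w⁻¹ * (c * w) := by group
                _ = x * c * z := by rw [hcw']; group
            have e4 : u * x = x * u * z := by
              rw [e, mul_assoc, h.z_sq, mul_one]
            calc c * u * x = c * (u * x) := by group
              _ = c * x * u * z := by rw [e4]; group
              _ = x * c * (z * u) * z := by rw [e3]; group
              _ = x * c * (u * z) * z := by rw [hzc u hu]
              _ = x * (c * u) * (z * z) := by group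
              _ = _ := by rw [h.z_sq, mul_one]
        rcases h.cent _ (Q.mul_mem hcQ hu) key with e | e
        · have : c = u⁻¹ := eq_inv_of_mul_eq_one_left e
          rw [this]
          exact (Commute.inv_right (show Commute n u from hnu)).eq
        · have : c = z * u⁻¹ := by rw [← e]; group
          rw [this]
          exact ((show Commute n z from hnz).mul_right (Commute.inv_right (show Commute n u from hnu))).eq
    have hpow : ∀ i : ℕ, n ^ i * y = y * c ^ i * n ^ i := by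
      intro i
      induction i with
      | zero => simp
      | succ i ih =>
        have e1 : n * y = y * c * n := by rw [hc]; group
        have e2 : n * c ^ i = c ^ i * n := ((show Commute n c from hcn).pow_right i).eq
        calc n ^ (i + 1) * y = n * (n ^ i * y) := by rw [pow_succ']; group
          _ = n * y * c ^ i * n ^ i := by rw [ih]; group
          _ = y * c * (n * c ^ i) * n ^ i := by rw [e1]; group
          _ = y * (c * c ^ i) * (n * n ^ i) := by rw [e2]; group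
          _ = _ := by rw [← pow_succ', ← pow_succ']
    have h1 := hpow k
    rw [hn, one_mul, mul_one] at h1
    have h2 : c ^ k = 1 := (mul_eq_left.1 h1.symm)
    have h3 : c = 1 := eq_one_of_odd (pow_four h hcQ) h2 hk
    have h4 : n * y = y * c * n := by rw [hc]; group
    rw [h4, h3, mul_one]
  have hnQ := h.self n hnz hall
  exact eq_one_of_odd (pow_four h hnQ) hn hk

/-! ### the centraliser of the product of two points, modulo this product -/

section

variable {G : Type*} [Group G]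

/-- `C_G(u)` -/
abbrev Ku (u : G) : Subgroup G := Subgroup.centralizer {u}

/-- `u` as an element of its centraliser -/
def uK (u : G) : Ku u := ⟨u, Subgroup.mem_centralizer_singleton_iff.2 rfl⟩

/-- `⟨u⟩ ≤ C_G(u)` -/
def Zu (u : G) : Subgroup (Ku u) := Subgroup.zpowers (uK u)

theorem comm_of_mem {u : G} (k : Ku u) : (k : G) * u = u * k :=
  Subgroup.mem_centralizer_singleton_iff.1 k.2

instance (u : G) : (Zu u).Normal := by
  constructor
  intro n hn g
  obtain ⟨i, rfl⟩ := Subgroup.mem_zpowers_iff.1 hn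
  have h1 : Commute g (uK u) := by
    apply Subtype.ext
    exact comm_of_mem g
  have h2 : g * uK u ^ i * g⁻¹ = uK u ^ i := by
    rw [(h1.zpow_right i).eq, mul_inv_cancel_right]
  rw [h2]; exact hn

theorem mem_Zu {u : G} (huu : u * u = 1) (x : Ku u) : x ∈ Zu u ↔ (x : G) = 1 ∨ (x : G) = u := by
  constructor
  · intro hx
    obtain ⟨i, rfl⟩ := Subgroup.mem_zpowers_iff.1 hx
    have e : ((uK u ^ i : Ku u) : G) = u ^ i := by
      rw [Subgroup.coe_zpow]; rfl
    rw [e]
    have h2 : u ^ (2 : ℤ) = 1 := by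
      rw [zpow_ofNat, pow_two]; exact huu
    rcases Int.even_or_odd' i with ⟨j, hj | hj⟩
    · left; rw [hj, zpow_mul, h2, one_zpow]
    · right; rw [hj, zpow_add, zpow_mul, h2, one_zpow, one_mul, zpow_one]
  · rintro (hx | hx)
    · have : x = 1 := Subtype.ext hx
      rw [this]; exact Subgroup.one_mem _
    · have : x = uK u := Subtype.ext hx
      rw [this]; exact Subgroup.mem_zpowers _

theorem mk_eq_mk {u : G} (huu : u * u = 1) {x y : Ku u} :
    (QuotientGroup.mk x : Ku u ⧸ Zu u) = QuotientGroup.mk y ↔ (y : G) = x ∨ (y : G) = x * u := by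
  rw [QuotientGroup.eq, mem_Zu huu]
  constructor
  · rintro (h | h)
    · left
      have : (x : G)⁻¹ * y = 1 := h
      exact (inv_mul_eq_one.1 this).symm
    · right
      have : (x : G)⁻¹ * y = u := h
      exact inv_mul_eq_iff_eq_mul.1 this
  · rintro (h | h)
    · left
      show (x : G)⁻¹ * y = 1
      rw [h]; group
    · right
      show (x : G)⁻¹ * y = u
      rw [h]; group

variable {P : Set G} {Q : G → Subgroup G}

theorem IsLine.sq_mul (hg : Geo P Q) {p t r₁ r₂ r₃ : G} (h : IsLine P p t r₁ r₂ r₃) :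
    (p * t) * (p * t) = 1 := by
  have e : (p * t) * (p * t) = (p * p) * (t * t) := by
    rw [mul_assoc p t, ← mul_assoc t p, ← h.cpt.eq, mul_assoc p t, ← mul_assoc p p]
  rw [e, hg.sq h.hp, hg.sq h.ht, one_mul]

theorem IsLine.comm_r {p t r₁ r₂ r₃ : G} (h : IsLine P p t r₁ r₂ r₃) : Commute r₁ (p * t) :=
  h.cp1.symm.mul_right h.ct1.symm

/-- `r₁` has no fixed points in a normal subgroup of odd order of `C(u)/⟨u⟩`, `u = p t`. -/
theorem IsLine.fpf (hg : Geo P Q) {p t r₁ r₂ r₃ : G} (h : IsLine P p t r₁ r₂ r₃)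
    (M : Subgroup (Ku (p * t) ⧸ Zu (p * t))) [M.Normal] (hodd : Odd (Nat.card M))
    (rk : Ku (p * t)) (hrk : (rk : G) = r₁)
    (m : Ku (p * t) ⧸ Zu (p * t)) (hm : m ∈ M)
    (hfix : (QuotientGroup.mk rk : Ku (p * t) ⧸ Zu (p * t)) * m = m * QuotientGroup.mk rk) : m = 1 := by
  classical
  have huu := h.sq_mul hg
  obtain ⟨n, rfl⟩ := QuotientGroup.mk_surjective m
  have hk : ((QuotientGroup.mk n : Ku (p * t) ⧸ Zu (p * t))) ^ (Nat.card M) = 1 := by
    have : (⟨_, hm⟩ : M) ^ (Nat.card M) = 1 := pow_card_eq_one'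
    exact congrArg Subtype.val this
  set k := Nat.card M with hkdef
  -- `n' = n ^ 2` has odd order
  have hnk : (n ^ 2) ^ k = 1 := by
    have h1 : n ^ k ∈ Zu (p * t) := (QuotientGroup.eq_one_iff _).1 (by rw [← hk]; rfl)
    have h2 : n ^ k * n ^ k = 1 := by
      apply Subtype.ext
      show ((n ^ k : Ku (p * t)) : G) * (n ^ k : Ku (p * t)) = 1
      rcases (mem_Zu huu _).1 h1 with e | e <;> rw [e]
      · exact one_mul 1
      · exact huu
    rw [← pow_mul, mul_comm, pow_mul, pow_two]; exact h2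
  set n' : Ku (p * t) := n ^ 2 with hn'
  have hm' : (QuotientGroup.mk n' : Ku (p * t) ⧸ Zu (p * t)) ∈ M := by
    have : (QuotientGroup.mk n' : Ku (p * t) ⧸ Zu (p * t)) = (QuotientGroup.mk n) ^ 2 := rfl
    rw [this]; exact M.pow_mem hm 2
  have hfix' : (QuotientGroup.mk rk : Ku (p * t) ⧸ Zu (p * t)) * QuotientGroup.mk n' =
      QuotientGroup.mk n' * QuotientGroup.mk rk := by
    have e : (QuotientGroup.mk n' : Ku (p * t) ⧸ Zu (p * t)) = (QuotientGroup.mk n) ^ 2 := rfl
    rw [e]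
    exact ((show Commute _ _ from hfix).pow_right 2).eq
  -- `n'` commutes with `r₁`
  have hr : (n' : G) * r₁ = r₁ * n' := by
    have h1 : (QuotientGroup.mk (rk * n') : Ku (p * t) ⧸ Zu (p * t)) = QuotientGroup.mk (n' * rk) := hfix'
    rcases (mk_eq_mk huu).1 h1 with e | e
    · have : (n' : G) * rk = rk * n' := e
      rw [hrk] at this; exact this
    · exfalso
      have e1 : (n' : G) * rk = rk * n' * (p * t) := e
      rw [hrk] at e1
      have e2 : (n' : G) * r₁ * (n' : G)⁻¹ = r₁ * (p * t) := by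
        rw [e1, mul_assoc r₁, comm_of_mem n']; group
      have e3 := hg.conj_mem r₁ h.h1 n'
      rw [e2] at e3
      exact h.mul_notMem hg e3
  have hu1 : p * t ∈ Q r₁ := hg.mul_mem p h.hp t h.ht r₁ h.h1 h.pt h.p1 h.t1 h.cpt h.cp1 h.ct1
  have hL := hg.large r₁ h.h1
  have hnk' : (n' : G) ^ k = 1 := by
    have := congrArg (fun x : Ku (p * t) => (x : G)) hnk
    simpa using this
  have hY : ∀ x ∈ Q r₁, x * (p * t) = (p * t) * x → (n' : G) * x = x * n' := by
    intro x hx hxu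
    set xk : Ku (p * t) := ⟨x, Subgroup.mem_centralizer_singleton_iff.2 hxu⟩ with hxk
    have hcQ : (n' : G) * x * (n' : G)⁻¹ * x⁻¹ ∈ Q r₁ :=
      (Q r₁).mul_mem (hL.conj_mem _ hr x hx) ((Q r₁).inv_mem hx)
    have hcM : (QuotientGroup.mk (n' * xk * n'⁻¹ * xk⁻¹) : Ku (p * t) ⧸ Zu (p * t)) ∈ M := by
      have h1 : (QuotientGroup.mk (n' * xk * n'⁻¹ * xk⁻¹) : Ku (p * t) ⧸ Zu (p * t)) =
        QuotientGroup.mk n' * (QuotientGroup.mk xk * (QuotientGroup.mk n')⁻¹ * (QuotientGroup.mk xk)⁻¹) := by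
        rw [← mul_assoc, ← mul_assoc]; rfl
      rw [h1]
      exact M.mul_mem hm' (‹M.Normal›.conj_mem _ (M.inv_mem hm') _)
    have hc4 : (QuotientGroup.mk (n' * xk * n'⁻¹ * xk⁻¹) : Ku (p * t) ⧸ Zu (p * t)) ^ 4 = 1 := by
      have h1 : (n' * xk * n'⁻¹ * xk⁻¹) ^ 4 = 1 := by
        apply Subtype.ext
        have := pow_four hL hcQ
        simpa using this
      have h2 : (QuotientGroup.mk (n' * xk * n'⁻¹ * xk⁻¹) : Ku (p * t) ⧸ Zu (p * t)) ^ 4 =
        QuotientGroup.mk ((n' * xk * n'⁻¹ * xk⁻¹) ^ 4) := rfl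
      rw [h2, h1]; rfl
    have hck : (QuotientGroup.mk (n' * xk * n'⁻¹ * xk⁻¹) : Ku (p * t) ⧸ Zu (p * t)) ^ k = 1 := by
      have : (⟨_, hcM⟩ : M) ^ (Nat.card M) = 1 := pow_card_eq_one'
      exact congrArg Subtype.val this
    have hc1 := eq_one_of_odd hc4 hck hodd
    have hcZ : n' * xk * n'⁻¹ * xk⁻¹ ∈ Zu (p * t) := (QuotientGroup.eq_one_iff _).1 hc1
    -- `n' x = x n'` or `n' x = x n' u`
    rcases (mem_Zu huu _).1 hcZ with e | e
    · have e1 : (n' : G) * x * (n' : G)⁻¹ * x⁻¹ = 1 := e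
      have : (n' : G) * x = ((n' : G) * x * (n' : G)⁻¹ * x⁻¹) * (x * n') := by group
      rw [this, e1, one_mul]
    · exfalso
      have e1 : (n' : G) * x * (n' : G)⁻¹ * x⁻¹ = p * t := e
      have e2 : (n' : G) * x = (p * t) * x * n' :=
        mul_inv_eq_iff_eq_mul.1 (mul_inv_eq_iff_eq_mul.1 e1)
      have hpow : ∀ i : ℕ, (n' : G) ^ i * x = (p * t) ^ i * x * (n' : G) ^ i := by
        intro i
        induction i with
        | zero => simp
        | succ i ih =>
          have c1 : (n' : G) * (p * t) ^ i = (p * t) ^ i * n' :=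
            ((show Commute (n' : G) (p * t) from comm_of_mem n').pow_right i).eq
          calc (n' : G) ^ (i + 1) * x = n' * ((n' : G) ^ i * x) := by rw [pow_succ']; group
            _ = (n' * (p * t) ^ i) * x * (n' : G) ^ i := by rw [ih]; group
            _ = (p * t) ^ i * (n' * x) * (n' : G) ^ i := by rw [c1]; group
            _ = (p * t) ^ i * (p * t) * x * (n' * (n' : G) ^ i) := by rw [e2]; group
            _ = _ := by rw [← pow_succ, ← pow_succ']
      have h1 := hpow k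
      rw [hnk', one_mul, mul_one] at h1
      have h2 : (p * t) ^ k = 1 := (right_eq_mul.1 h1)
      have h3 : (p * t) ^ 4 = 1 := pow_four hL hu1
      have h4 := eq_one_of_odd h3 h2 hodd
      exact h.pt (by rw [← hg.inv h.ht]; exact eq_inv_of_mul_eq_one_left h4)
  have h1 : (n' : G) = 1 := eq_one_of_centralizes hL hu1 hr (comm_of_mem n') hY hodd hnk'
  have h2 : n' = 1 := Subtype.ext h1
  -- `n ^ 2 = 1` and odd order of `m`
  have h3 : (QuotientGroup.mk n : Ku (p * t) ⧸ Zu (p * t)) ^ 4 = 1 := by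
    have e : (QuotientGroup.mk n : Ku (p * t) ⧸ Zu (p * t)) ^ 4 = QuotientGroup.mk ((n ^ 2) ^ 2) := by
      rw [← pow_mul]; rfl
    rw [e, ← hn', h2, one_pow]; rfl
  exact eq_one_of_odd h3 hk hodd

/-- an involution acting without fixed points on a normal subgroup of odd order inverts it -/
theorem inverts {X : Type*} [Group X] [Finite X] (M : Subgroup X) [M.Normal]
    (r : X) (hr : r * r = 1) (hf : ∀ m ∈ M, r * m = m * r → m = 1) (m : X) (hm : m ∈ M) :
    r * m * r⁻¹ = m⁻¹ := by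
  let φ : M →* M := (MulAut.conjNormal r : MulAut M).toMonoidHom
  have hφ : ∀ x : M, ((φ x : M) : X) = r * x * r⁻¹ := fun x => MulAut.conjNormal_apply r x
  have h1 : MonoidHom.FixedPointFree φ := by
    intro x hx
    apply Subtype.ext
    apply hf x x.2
    have := congrArg Subtype.val hx
    rw [hφ] at this
    exact mul_inv_eq_iff_eq_mul.1 this
  have hinv : r⁻¹ = r := inv_eq_of_mul_eq_one_left hr
  have h2 : Function.Involutive φ := by
    intro x
    apply Subtype.ext
    rw [hφ, hφ, hinv]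
    calc r * (r * (x : X) * r) * r = (r * r) * x * (r * r) := by group
      _ = x := by rw [hr, one_mul, mul_one]
  have h3 := h1.coe_eq_inv_of_involutive h2
  have h4 := congrArg Subtype.val (congrFun h3 ⟨m, hm⟩)
  rw [hφ] at h4
  exact h4

/-- `C(u)/⟨u⟩` has no normal subgroups of odd order, `u = p t`. -/
theorem IsLine.core_trivial [Finite G] (hg : Geo P Q) {p t r₁ r₂ r₃ : G} (h : IsLine P p t r₁ r₂ r₃)
    (M : Subgroup (Ku (p * t) ⧸ Zu (p * t))) [M.Normal] (hodd : Odd (Nat.card M))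
    (m : Ku (p * t) ⧸ Zu (p * t)) (hm : m ∈ M) : m = 1 := by
  classical
  have huu := h.sq_mul hg
  have hc1 : r₁ ∈ Ku (p * t) := Subgroup.mem_centralizer_singleton_iff.2 h.comm_r.eq
  have hc2 : r₂ ∈ Ku (p * t) := Subgroup.mem_centralizer_singleton_iff.2 h.rot.comm_r.eq
  have hc3 : r₃ ∈ Ku (p * t) := Subgroup.mem_centralizer_singleton_iff.2 h.rot.rot.comm_r.eq
  have hsq : ∀ (r : G) (hr : r ∈ Ku (p * t)), r * r = 1 →
      (QuotientGroup.mk (⟨r, hr⟩ : Ku (p * t)) : Ku (p * t) ⧸ Zu (p * t)) * QuotientGroup.mk ⟨r, hr⟩ = 1 := by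
    intro r hr hrr
    have e : (⟨r, hr⟩ : Ku (p * t)) * ⟨r, hr⟩ = 1 := Subtype.ext hrr
    have e2 : (QuotientGroup.mk (⟨r, hr⟩ : Ku (p * t)) : Ku (p * t) ⧸ Zu (p * t)) *
      QuotientGroup.mk ⟨r, hr⟩ = QuotientGroup.mk ((⟨r, hr⟩ : Ku (p * t)) * ⟨r, hr⟩) := rfl
    rw [e2, e]; rfl
  have i1 := fun x hx => inverts M (QuotientGroup.mk (⟨r₁, hc1⟩ : Ku (p * t)))
    (hsq r₁ hc1 (hg.sq h.h1)) (fun m hm hf => h.fpf hg M hodd ⟨r₁, hc1⟩ rfl m hm hf) x hx
  have i2 := fun x hx => inverts M (QuotientGroup.mk (⟨r₂, hc2⟩ : Ku (p * t)))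
    (hsq r₂ hc2 (hg.sq h.h2)) (fun m hm hf => h.rot.fpf hg M hodd ⟨r₂, hc2⟩ rfl m hm hf) x hx
  have i3 := fun x hx => inverts M (QuotientGroup.mk (⟨r₃, hc3⟩ : Ku (p * t)))
    (hsq r₃ hc3 (hg.sq h.h3)) (fun m hm hf => h.rot.rot.fpf hg M hodd ⟨r₃, hc3⟩ rfl m hm hf) x hx
  have hprod : (QuotientGroup.mk (⟨r₁, hc1⟩ : Ku (p * t)) : Ku (p * t) ⧸ Zu (p * t)) *
      QuotientGroup.mk ⟨r₂, hc2⟩ * QuotientGroup.mk ⟨r₃, hc3⟩ = 1 := by
    have e : (QuotientGroup.mk (⟨r₁, hc1⟩ : Ku (p * t)) : Ku (p * t) ⧸ Zu (p * t)) *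
      QuotientGroup.mk ⟨r₂, hc2⟩ * QuotientGroup.mk ⟨r₃, hc3⟩ =
      QuotientGroup.mk ((⟨r₁, hc1⟩ : Ku (p * t)) * ⟨r₂, hc2⟩ * ⟨r₃, hc3⟩) := rfl
    rw [e, QuotientGroup.eq_one_iff, mem_Zu huu]
    right
    show r₁ * r₂ * r₃ = p * t
    exact (h.eq_mul hg).symm
  set a := (QuotientGroup.mk (⟨r₁, hc1⟩ : Ku (p * t)) : Ku (p * t) ⧸ Zu (p * t))
  set b := (QuotientGroup.mk (⟨r₂, hc2⟩ : Ku (p * t)) : Ku (p * t) ⧸ Zu (p * t))
  set c := (QuotientGroup.mk (⟨r₃, hc3⟩ : Ku (p * t)) : Ku (p * t) ⧸ Zu (p * t))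
  have e1 : (a * b * c) * m * (a * b * c)⁻¹ = m⁻¹ := by
    calc (a * b * c) * m * (a * b * c)⁻¹ = a * (b * (c * m * c⁻¹) * b⁻¹) * a⁻¹ := by group
      _ = a * (b * m⁻¹ * b⁻¹) * a⁻¹ := by rw [i3 m hm]
      _ = a * m * a⁻¹ := by rw [i2 _ (M.inv_mem hm), inv_inv]
      _ = m⁻¹ := i1 m hm
  rw [hprod] at e1
  have e2 : m = m⁻¹ := by
    rw [← e1]; group
  have e3 : m ^ 4 = 1 := by
    have : m * m = 1 := by
      nth_rewrite 1 [e2]; exact inv_mul_cancel m
    calc m ^ 4 = (m * m) * (m * m) := by simp only [pow_succ, pow_zero, one_mul, mul_assoc]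
      _ = 1 := by rw [this, one_mul]
  have e4 : m ^ (Nat.card M) = 1 := by
    have : (⟨_, hm⟩ : M) ^ (Nat.card M) = 1 := pow_card_eq_one'
    exact congrArg Subtype.val this
  exact eq_one_of_odd e3 e4 hodd

end

/-- (B1) `P ∩ C(p t)` consists of the points of the line `p t`. -/
theorem Geo.comm_of_comm_mul {G : Type u} [Group G] [Finite G] {P : Set G} {Q : G → Subgroup G}
    (hZ : ZStar.{u}) (hg : Geo P Q) {p t s : G} (hp : p ∈ P) (ht : t ∈ P) (hne : p ≠ t)
    (hc : Commute p t) (hs : s ∈ P) (hsu : Commute s (p * t)) : Commute s p := by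
  classical
  obtain ⟨r₁, r₂, r₃, h⟩ := hg.isLine hp ht hne hc
  have huu := h.sq_mul hg
  have hpK : p ∈ Ku (p * t) := by
    refine Subgroup.mem_centralizer_singleton_iff.2 ?_
    exact ((Commute.refl p).mul_right hc).eq
  have hsK : s ∈ Ku (p * t) := Subgroup.mem_centralizer_singleton_iff.2 hsu.eq
  set pk : Ku (p * t) := ⟨p, hpK⟩ with hpk
  -- a member of `P` commuting with `p` modulo `⟨p t⟩` commutes with `p`
  have key : ∀ x : Ku (p * t), (x : G) ∈ P →
      (QuotientGroup.mk (pk * x) : Ku (p * t) ⧸ Zu (p * t)) = QuotientGroup.mk (x * pk) →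
      Commute (x : G) p := by
    intro x hx hcx
    rcases (mk_eq_mk huu).1 hcx with e | e
    · exact e
    · exfalso
      have e1 : (x : G) * p = p * x * (p * t) := e
      apply hg.not_swap hp ht hne hc hx
      have hxx := hg.sq hx
      calc (x : G) * p * x = p * x * (p * t) * x := by rw [e1]
        _ = p * (x * ((p * t) * x)) := by group
        _ = p * (x * (x * (p * t))) := by rw [comm_of_mem x]
        _ = p * ((x * x) * (p * t)) := by group
        _ = (p * p) * t := by rw [hxx]; group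
        _ = t := by rw [hg.sq hp, one_mul]
  have hiso : Cfsg.IsIsolatedInvolution (QuotientGroup.mk pk : Ku (p * t) ⧸ Zu (p * t)) := by
    constructor
    · have h1 : (QuotientGroup.mk pk : Ku (p * t) ⧸ Zu (p * t)) ^ 2 = 1 := by
        have e : (QuotientGroup.mk pk : Ku (p * t) ⧸ Zu (p * t)) ^ 2 = QuotientGroup.mk (pk ^ 2) := rfl
        have e2 : pk ^ 2 = 1 := by
          apply Subtype.ext
          show p ^ 2 = 1
          rw [pow_two]; exact hg.sq hp
        rw [e, e2]; rfl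
      refine orderOf_eq_prime h1 ?_
      intro h2
      rw [QuotientGroup.eq_one_iff, mem_Zu huu] at h2
      rcases h2 with h3 | h3
      · exact hg.ne_one hp h3
      · have h4 : p = p * t := h3
        exact hg.ne_one ht (left_eq_mul.1 h4)
    · intro g hgc
      obtain ⟨k, rfl⟩ := QuotientGroup.mk_surjective g
      have hx : (((k * pk * k⁻¹ : Ku (p * t))) : G) ∈ P := hg.conj_mem p hp k
      have hcc : Commute ((k * pk * k⁻¹ : Ku (p * t)) : G) p := key _ hx hgc
      have ht' : (k : G) * t * (k : G)⁻¹ ∈ P := hg.conj_mem t ht k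
      have hprod : (k : G) * p * (k : G)⁻¹ * ((k : G) * t * (k : G)⁻¹) = p * t := by
        calc (k : G) * p * (k : G)⁻¹ * ((k : G) * t * (k : G)⁻¹) = (k * (p * t)) * (k : G)⁻¹ := by group
          _ = p * t := by rw [comm_of_mem k]; group
      have e0 : (QuotientGroup.mk k * QuotientGroup.mk pk * (QuotientGroup.mk k)⁻¹ :
        Ku (p * t) ⧸ Zu (p * t)) = QuotientGroup.mk (k * pk * k⁻¹) := rfl
      rw [e0, mk_eq_mk huu]
      rcases hg.eq_or_eq hp ht hne hc hx ht' hprod hcc with e | e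
      · left; exact e.symm
      · right
        rw [e]
        calc p = (t * t) * p := by rw [hg.sq ht, one_mul]
          _ = t * (p * t) := by rw [mul_assoc, hc.eq]
  obtain ⟨N, hN, hodd, hcom⟩ := hZ _ _ hiso
  apply key ⟨s, hsK⟩ hs
  have h1 := h.core_trivial hg N hodd _ (hcom (QuotientGroup.mk ⟨s, hsK⟩))
  rw [mul_inv_eq_one, mul_inv_eq_iff_eq_mul] at h1
  exact h1


end Cfsg.Agent.LargeExtra.WCEnd
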