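import Cfsg.Agent.LargeExtra.WCEnd

/-!
# Endgame of the weakly closed case, part two (helper622): 3-transpositions

* `Geo.odd_order`: noncommuting elements of `P` have a product of odd order;
* `Geo.meets`: every element of `P` commutes with a point of every line;
* `Geo.three`: noncommuting elements of `P` have a product of order three.
-/

set_option autoImplicit false

namespace Cfsg.Agent.LargeExtra.WCEnd

open Cfsg.Agent.Co2Type.Quad Cfsg.Agent.LargeExtra.WC

universe u

section

variable {G : Type*} [Group G] {P : Set G} {Q : G → Subgroup G}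

/-- An element of order two swapping two points of a line fixes another point of the line. -/
theorem Geo.exists_fix (hg : Geo P Q) {p t s : G} (hp : p ∈ P) (ht : t ∈ P) (hne : p ≠ t)
    (hc : Commute p t) (hss : s * s = 1) (hst : s * p * s = t) :
    ∃ r ∈ P, r ≠ p ∧ r ≠ t ∧ Commute p r ∧ Commute t r ∧ s * r * s = r := by
  obtain ⟨r₁, r₂, r₃, h⟩ := hg.isLine hp ht hne hc
  have hsi : s⁻¹ = s := inv_eq_of_mul_eq_one_left hss
  have hts : s * t * s = p := by
    rw [← hst]
    calc s * (s * p * s) * s = (s * s) * p * (s * s) := by group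
      _ = p := by rw [hss]; group
  have hcc : ∀ x y : G, Commute x y → Commute (s * x * s) (s * y * s) := by
    intro x y hxy
    show s * x * s * (s * y * s) = s * y * s * (s * x * s)
    calc s * x * s * (s * y * s) = s * x * (s * s) * y * s := by group
      _ = s * (x * y) * s := by rw [hss]; group
      _ = s * (y * x) * s := by rw [hxy.eq]
      _ = s * y * (s * s) * x * s := by rw [hss]; group
      _ = _ := by group
  have hinj : ∀ x y : G, s * x * s = y → s * y * s = x := by
    rintro x y rfl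
    calc s * (s * x * s) * s = (s * s) * x * (s * s) := by group
      _ = x := by rw [hss]; group
  have himg : ∀ r ∈ P, r ≠ p → r ≠ t → Commute p r → Commute t r →
      s * r * s = r₁ ∨ s * r * s = r₂ ∨ s * r * s = r₃ := by
    intro r hr hrp hrt c1 c2
    have m1 : s * r * s ∈ P := by
      have := hg.conj_mem r hr s
      rwa [hsi] at this
    have d1 : Commute (s * r * s) t := by
      have := (hcc p r c1).symm
      rwa [hst] at this
    have d2 : Commute (s * r * s) p := by
      have := (hcc t r c2).symm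
      rwa [hts] at this
    rcases h.mem _ m1 d2 d1 with e | e | e | e | e
    · exact absurd ((hinj _ _ e).symm.trans hst) hrt
    · exact absurd ((hinj _ _ e).symm.trans hts) hrp
    · exact Or.inl e
    · exact Or.inr (Or.inl e)
    · exact Or.inr (Or.inr e)
  have i1 := himg r₁ h.h1 h.p1.symm h.t1.symm h.cp1 h.ct1
  have i2 := himg r₂ h.h2 h.p2.symm h.t2.symm h.cp2 h.ct2
  have i3 := himg r₃ h.h3 h.p3.symm h.t3.symm h.cp3 h.ct3
  by_cases f1 : s * r₁ * s = r₁
  · exact ⟨r₁, h.h1, h.p1.symm, h.t1.symm, h.cp1, h.ct1, f1⟩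
  by_cases f2 : s * r₂ * s = r₂
  · exact ⟨r₂, h.h2, h.p2.symm, h.t2.symm, h.cp2, h.ct2, f2⟩
  by_cases f3 : s * r₃ * s = r₃
  · exact ⟨r₃, h.h3, h.p3.symm, h.t3.symm, h.cp3, h.ct3, f3⟩
  exfalso
  rcases i1 with e | e | e
  · exact f1 e
  · rcases i3 with e' | e' | e'
    · exact h.n23 (e.symm.trans (hinj _ _ e'))
    · exact h.n13 ((hinj _ _ e).symm.trans (hinj _ _ e'))
    · exact f3 e'
  · rcases i2 with e' | e' | e'
    · exact h.n23 ((hinj _ _ e').symm.trans e)
    · exact f2 e'
    · exact h.n12 ((hinj _ _ e).symm.trans (hinj _ _ e'))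

/-- the reflections of the dihedral group generated by two elements of `P` are in `P` -/
theorem Geo.refl_mem (hg : Geo P Q) {z s : G} (hz : z ∈ P) (hs : s ∈ P) :
    ∀ i : ℕ, z * (z * s) ^ i ∈ P := by
  have hzz := hg.sq hz
  have step : ∀ i : ℕ, z * (z * s) ^ i ∈ P → z * (z * s) ^ (i + 2) ∈ P := by
    intro i hi
    have h1 := hg.conj_mem _ hi (z * s)⁻¹
    have e : (z * s)⁻¹ * (z * (z * s) ^ i) * (z * s)⁻¹⁻¹ = z * (z * s) ^ (i + 2) := by
      rw [inv_inv, mul_inv_rev, hg.inv hz, hg.inv hs]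
      calc s * z * (z * (z * s) ^ i) * (z * s) = s * (z * z) * ((z * s) ^ i * (z * s)) := by group
        _ = s * (z * s) ^ (i + 1) := by rw [hzz, mul_one, ← pow_succ]
        _ = (z * z) * s * (z * s) ^ (i + 1) := by rw [hzz, one_mul]
        _ = z * ((z * s) * (z * s) ^ (i + 1)) := by simp only [mul_assoc]
        _ = z * (z * s) ^ (i + 2) := by rw [← pow_succ']
    rwa [e] at h1
  intro i
  induction i using Nat.twoStepInduction with
  | zero => simpa using hz
  | one =>
    rw [pow_one, ← mul_assoc, hzz, one_mul]; exact hs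
  | more i h0 _ => exact step i h0

theorem conj_pow_eq {z s : G} (hz : z * z = 1) (hs : s * s = 1) (i : ℕ) :
    z * (z * s) ^ i * z = ((z * s) ^ i)⁻¹ ∧ s * (z * s) ^ i * s = ((z * s) ^ i)⁻¹ := by
  have hzi : z⁻¹ = z := inv_eq_of_mul_eq_one_left hz
  have hsi : s⁻¹ = s := inv_eq_of_mul_eq_one_left hs
  have h1 : z * (z * s) * z⁻¹ = (z * s)⁻¹ := by
    rw [mul_inv_rev, hsi, hzi, ← mul_assoc, hz, one_mul]
  have h2 : s * (z * s) * s⁻¹ = (z * s)⁻¹ := by
    rw [mul_inv_rev, hsi, hzi, mul_assoc s (z * s), mul_assoc z, hs, mul_one]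
  constructor
  · calc z * (z * s) ^ i * z = z * (z * s) ^ i * z⁻¹ := by rw [hzi]
      _ = (z * (z * s) * z⁻¹) ^ i := by rw [conj_pow]
      _ = _ := by rw [h1, inv_pow]
  · calc s * (z * s) ^ i * s = s * (z * s) ^ i * s⁻¹ := by rw [hsi]
      _ = (s * (z * s) * s⁻¹) ^ i := by rw [conj_pow]
      _ = _ := by rw [h2, inv_pow]

end

section

variable {G : Type u} [Group G] [Finite G] {P : Set G} {Q : G → Subgroup G}

/-- Noncommuting elements of `P` have a product of odd order. -/
theorem Geo.odd_order (hZ : ZStar.{u}) (hg : Geo P Q) {z s : G} (hz : z ∈ P) (hs : s ∈ P)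
    (hnc : ¬ Commute z s) : Odd (orderOf (z * s)) := by
  rw [← Nat.not_even_iff_odd]
  rintro ⟨m, hm⟩
  apply hnc
  have hpos : 0 < orderOf (z * s) := orderOf_pos _
  set j := (z * s) ^ m with hj
  have hjj : j * j = 1 := by rw [hj, ← pow_add, ← hm, pow_orderOf_eq_one]
  have hj1 : j ≠ 1 := by
    intro h
    have := orderOf_dvd_of_pow_eq_one h
    have := Nat.le_of_dvd (by omega) this
    omega
  have hji : j⁻¹ = j := inv_eq_of_mul_eq_one_left hjj
  obtain ⟨c1, c2⟩ := conj_pow_eq (hg.sq hz) (hg.sq hs) m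
  rw [← hj, hji] at c1 c2
  have czj : Commute z j := by
    show z * j = j * z
    calc z * j = (z * j * z) * z⁻¹ := by group
      _ = j * z := by rw [c1, hg.inv hz]
  have csj : Commute s j := by
    show s * j = j * s
    calc s * j = (s * j * s) * s⁻¹ := by group
      _ = j * s := by rw [c2, hg.inv hs]
  have ht : z * j ∈ P := hg.refl_mem hz hs m
  have hne : z ≠ z * j := by
    intro h
    exact hj1 (left_eq_mul.1 h)
  have hc : Commute z (z * j) := (Commute.refl z).mul_right czj
  have hprod : z * (z * j) = j := by rw [← mul_assoc, hg.sq hz, one_mul]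
  exact (hg.comm_of_comm_mul hZ hz ht hne hc hs (by rw [hprod]; exact csj)).symm

/-- Both points commute with an element of `P` which commutes with the product. -/
theorem Geo.comm_both (hZ : ZStar.{u}) (hg : Geo P Q) {p t s : G} (hp : p ∈ P) (ht : t ∈ P) (hne : p ≠ t)
    (hc : Commute p t) (hs : s ∈ P) (hsu : Commute s (p * t)) : Commute s p ∧ Commute s t :=
  ⟨hg.comm_of_comm_mul hZ hp ht hne hc hs hsu,
    hg.comm_of_comm_mul hZ ht hp hne.symm hc.symm hs (by rw [← hc.eq]; exact hsu)⟩

/-- Every element of `P` commutes with a point of every line. -/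
theorem Geo.meets (hZ : ZStar.{u}) (hg : Geo P Q) {p t s : G} (hp : p ∈ P) (ht : t ∈ P) (hne : p ≠ t)
    (hc : Commute p t) (hs : s ∈ P) : ∃ r ∈ P, Commute r p ∧ Commute r t ∧ Commute r s := by
  obtain ⟨r₁, r₂, r₃, h⟩ := hg.isLine hp ht hne hc
  have huu := h.sq_mul hg
  set u := p * t with hu
  have hui : u⁻¹ = u := inv_eq_of_mul_eq_one_left huu
  by_cases hsu : Commute s u
  · exact ⟨p, hp, Commute.refl p, hc, (hg.comm_of_comm_mul hZ hp ht hne hc hs hsu).symm⟩
  have hs' : u * s * u ∈ P := by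
    have := hg.conj_mem s hs u
    rwa [hui] at this
  have hss' : s ≠ u * s * u := by
    intro e
    apply hsu
    show s * u = u * s
    calc s * u = (u * s * u) * u := by rw [← e]
      _ = u * s * (u * u) := by group
      _ = u * s := by rw [huu, mul_one]
  by_cases hcs : Commute s (u * s * u)
  · obtain ⟨r, hr, -, -, c1, -, hf⟩ := hg.exists_fix hs hs' hss' hcs huu rfl
    have cru : Commute r u := by
      show r * u = u * r
      calc r * u = (u * r * u) * u := by rw [hf]
        _ = u * r * (u * u) := by group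
        _ = u * r := by rw [huu, mul_one]
    obtain ⟨d1, d2⟩ := hg.comm_both hZ hp ht hne hc hr cru
    exact ⟨r, hr, d1, d2, c1.symm⟩
  · obtain ⟨k, hk⟩ := hg.odd_order hZ hs hs' hcs
    have e0 : s * (u * s * u) = (s * u) ^ 2 := by rw [pow_two]; group
    rw [e0] at hk
    set j := (s * u) ^ (2 * k + 1) with hj
    have hjj : j * j = 1 := by
      rw [hj, ← pow_two, ← pow_mul, mul_comm, pow_mul, ← hk, pow_orderOf_eq_one]
    have hji : j⁻¹ = j := inv_eq_of_mul_eq_one_left hjj
    obtain ⟨c1, c2⟩ := conj_pow_eq (hg.sq hs) huu (2 * k + 1)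
    rw [← hj, hji] at c1 c2
    have csj : Commute s j := by
      show s * j = j * s
      calc s * j = (s * j * s) * s⁻¹ := by group
        _ = j * s := by rw [c1, hg.inv hs]
    have cuj : Commute u j := by
      show u * j = j * u
      calc u * j = (u * j * u) * u⁻¹ := by group
        _ = j * u := by rw [c2, hui]
    have hv : ∀ i : ℕ, u * (s * u) ^ (2 * i + 1) ∈ P := by
      intro i
      induction i with
      | zero =>
        have e : u * (s * u) ^ (2 * 0 + 1) = u * s * u := by
          rw [mul_zero, zero_add, pow_one]; group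
        rw [e]; exact hs'
      | succ i ih =>
        have h1 := hg.conj_mem _ ih (s * u)⁻¹
        have e : (s * u)⁻¹ * (u * (s * u) ^ (2 * i + 1)) * (s * u)⁻¹⁻¹ =
            u * (s * u) ^ (2 * (i + 1) + 1) := by
          rw [inv_inv, mul_inv_rev, hg.inv hs, hui]
          calc u * s * (u * (s * u) ^ (2 * i + 1)) * (s * u)
              = u * ((s * u) * ((s * u) ^ (2 * i + 1) * (s * u))) := by simp only [mul_assoc]
            _ = u * (s * u) ^ (2 * (i + 1) + 1) := by
                rw [← pow_succ, ← pow_succ', show 2 * i + 1 + 1 + 1 = 2 * (i + 1) + 1 from by ring]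
        rwa [e] at h1
    have hvP := hv k
    rw [← hj] at hvP
    have cvu : Commute (u * j) u := (Commute.refl u).mul_left cuj.symm
    obtain ⟨d1, d2⟩ := hg.comm_both hZ hp ht hne hc hvP cvu
    have hjv : j = u * (u * j) := by rw [← mul_assoc, huu, one_mul]
    rcases h.mem _ hvP d1 d2 with e | e | e | e | e
    · -- `v = p`, `j = t`
      have hjt : j = t := by
        rw [hjv, e, hu, mul_assoc, ← hc.eq, ← mul_assoc, hg.sq hp, one_mul]
      exact ⟨t, ht, hc.symm, Commute.refl t, by rw [← hjt]; exact csj.symm⟩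
    · have hjp : j = p := by
        rw [hjv, e, hu, mul_assoc, hg.sq ht, mul_one]
      exact ⟨p, hp, Commute.refl p, hc, by rw [← hjp]; exact csj.symm⟩
    · have hj2 : j = r₂ * r₃ := by
        rw [hjv, e, ← h.comm_r.eq, h.mul_eq hg]
      have h2 := hg.comm_of_comm_mul hZ h.h2 h.h3 h.n23 h.c23 hs (by rw [← hj2]; exact csj)
      exact ⟨r₂, h.h2, h.cp2.symm, h.ct2.symm, h2.symm⟩
    · have hj2 : j = r₃ * r₁ := by
        rw [hjv, e, ← h.rot.comm_r.eq, h.rot.mul_eq hg]
      have h2 := hg.comm_of_comm_mul hZ h.h3 h.h1 h.n13.symm h.c13.symm hs (by rw [← hj2]; exact csj)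
      exact ⟨r₃, h.h3, h.cp3.symm, h.ct3.symm, h2.symm⟩
    · have hj2 : j = r₁ * r₂ := by
        rw [hjv, e, ← h.rot.rot.comm_r.eq, h.rot.rot.mul_eq hg]
      have h2 := hg.comm_of_comm_mul hZ h.h1 h.h2 h.n12 h.c12 hs (by rw [← hj2]; exact csj)
      exact ⟨r₁, h.h1, h.cp1.symm, h.ct1.symm, h2.symm⟩

/-- `P` is a set of 3-transpositions. -/
theorem Geo.three (hZ : ZStar.{u}) (hg : Geo P Q) (hex : ∃ p ∈ P, ∃ t ∈ P, p ≠ t ∧ Commute p t)
    {x y : G} (hx : x ∈ P) (hy : y ∈ P) (hnc : ¬ Commute x y) : (x * y) ^ 3 = 1 := by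
  obtain ⟨p, hp, t, ht, hne, hc⟩ := hex
  obtain ⟨g, hgx⟩ := hg.exists_conj p hp x hx
  have ht' : g * t * g⁻¹ ∈ P := hg.conj_mem t ht g
  have hne' : x ≠ g * t * g⁻¹ := by
    rw [← hgx]
    intro h
    apply hne
    have := mul_right_cancel h
    exact mul_left_cancel this
  have hc' : Commute x (g * t * g⁻¹) := by
    rw [← hgx]
    show g * p * g⁻¹ * (g * t * g⁻¹) = g * t * g⁻¹ * (g * p * g⁻¹)
    calc g * p * g⁻¹ * (g * t * g⁻¹) = g * (p * t) * g⁻¹ := by group
      _ = g * (t * p) * g⁻¹ := by rw [hc.eq]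
      _ = _ := by group
  obtain ⟨r, hr, c1, -, c3⟩ := hg.meets hZ hx ht' hne' hc' hy
  obtain ⟨o1, -⟩ := hg.ord_three r hr x hx y hy c1.symm c3.symm hnc
  have h4 := pow_four (hg.large r hr) o1
  have hodd := hg.odd_order hZ hx hy hnc
  have h5 : ((x * y) ^ 3) ^ (orderOf (x * y)) = 1 := by
    rw [← pow_mul, mul_comm, pow_mul, pow_orderOf_eq_one, one_pow]
  exact eq_one_of_odd h4 h5 hodd

end

end Cfsg.Agent.LargeExtra.WCEnd
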