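import Cfsg.Agent.LargeExtra.WCEndB
import Cfsg.Agent.Lib.HallTriple

/-!
# Endgame of the weakly closed case, part three (helper622): solvability

`Geo.solvable_closure`: for `x ∈ P` the members of `P` commuting with `x` generate a solvable group.
-/

set_option autoImplicit false

namespace Cfsg.Agent.LargeExtra.WCEnd

open Cfsg.Agent.Co2Type.Quad Cfsg.Agent.LargeExtra.WC

/-- A subgroup with solvable image and solvable kernel of the map is solvable. -/
theorem isSolvable_of_map {B B' : Type*} [Group B] [Group B'] (f : B →* B') (A : Subgroup B)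
    (h1 : Group.IsSolvable f.ker) (h2 : Group.IsSolvable (A.map f)) : Group.IsSolvable A := by
  let i : (f.ker.subgroupOf A) →* A := (f.ker.subgroupOf A).subtype
  let g : A →* (A.map f) := f.subgroupMap A
  have hk : Group.IsSolvable (f.ker.subgroupOf A) := by
    refine Group.isSolvable_of_isSolvable_injective
      (f := ((A.subtype.comp (f.ker.subgroupOf A).subtype).codRestrict f.ker fun x => x.2)) ?_
    intro x y hxy
    apply Subtype.ext
    apply Subtype.ext
    exact congrArg (fun t : f.ker => (t : B)) hxy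
  refine Group.isSolvable_of_ker_le_range i g ?_
  intro x hx
  refine ⟨⟨x, ?_⟩, rfl⟩
  have h3 : g x = 1 := hx
  have h4 : f x = 1 := congrArg Subtype.val h3
  exact h4

theorem isSolvable_of_isPGroup {p : ℕ} [Fact p.Prime] {G : Type*} [Group G] [Finite G] (h : IsPGroup p G) :
    Group.IsSolvable G := by
  have := h.isNilpotent
  infer_instance

section

variable {G : Type*} [Group G] [Finite G]

/-- A conjugation invariant set of involutions with products of order one or three generates a solvable
group. -/
theorem isSolvable_closure_hall {T : Set G} (hinv : ∀ a ∈ T, a * a = 1)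
    (hconj : ∀ g : G, ∀ a ∈ T, g * a * g⁻¹ ∈ T) (h3 : ∀ a ∈ T, ∀ b ∈ T, (a * b) ^ 3 = 1) :
    Group.IsSolvable (Subgroup.closure T) := by
  classical
  have hf3 : Fact (Nat.Prime 3) := ⟨Nat.prime_three⟩
  set S : Subgroup G := Subgroup.closure {x : G | ∃ a ∈ T, ∃ b ∈ T, x = a * b} with hS
  have hSp : IsPGroup 3 S := Cfsg.Agent.Lib.HallTriple.isPGroup_closure_mul_of_normal hinv hconj h3
  have hSn : S.Normal := by
    constructor
    intro n hn g
    rw [hS] at hn
    induction hn using Subgroup.closure_induction with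
    | mem x hx =>
      obtain ⟨a, ha, b, hb, rfl⟩ := hx
      refine Subgroup.subset_closure ⟨g * a * g⁻¹, hconj g a ha, g * b * g⁻¹, hconj g b hb, ?_⟩
      group
    | one => rw [mul_one, mul_inv_cancel]; exact S.one_mem
    | mul x y _ _ hx hy =>
      have e : g * (x * y) * g⁻¹ = (g * x * g⁻¹) * (g * y * g⁻¹) := by group
      rw [e]; exact S.mul_mem hx hy
    | inv x _ hx =>
      have e : g * x⁻¹ * g⁻¹ = (g * x * g⁻¹)⁻¹ := by group
      rw [e]; exact S.inv_mem hx
  refine isSolvable_of_map (QuotientGroup.mk' S) _ ?_ ?_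
  · rw [QuotientGroup.ker_mk']
    exact isSolvable_of_isPGroup hSp
  · rw [MonoidHom.map_closure]
    -- all images are equal
    by_cases hT : T.Nonempty
    · obtain ⟨a, ha⟩ := hT
      have hsub : (QuotientGroup.mk' S) '' T ⊆ (Subgroup.zpowers (QuotientGroup.mk' S a) : Set (G ⧸ S)) := by
        rintro _ ⟨b, hb, rfl⟩
        have h1 : QuotientGroup.mk' S b = QuotientGroup.mk' S a := by
          refine QuotientGroup.eq.2 ?_
          have hbi : b⁻¹ = b := inv_eq_of_mul_eq_one_left (hinv b hb)
          rw [hbi]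
          exact Subgroup.subset_closure ⟨b, hb, a, ha, rfl⟩
        rw [h1]; exact Subgroup.mem_zpowers _
      have hle := (Subgroup.closure_le _).2 hsub
      refine Group.isSolvable_of_isSolvable_injective (f := Subgroup.inclusion hle)
        (Subgroup.inclusion_injective hle)
    · rw [Set.not_nonempty_iff_eq_empty] at hT
      rw [hT, Set.image_empty, Subgroup.closure_empty]
      infer_instance

variable {P : Set G} {Q : G → Subgroup G}

/-- For `x ∈ P` the members of `P` commuting with `x` generate a solvable group. -/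
theorem Geo.solvable_closure (hg : Geo P Q) {x : G} (hx : x ∈ P) :
    Group.IsSolvable (Subgroup.closure {y : G | y ∈ P ∧ y ≠ x ∧ Commute x y}) := by
  classical
  have hf2 : Fact (Nat.Prime 2) := ⟨Nat.prime_two⟩
  have hL := hg.large x hx
  set D : Set G := {y : G | y ∈ P ∧ y ≠ x ∧ Commute x y} with hD
  set C : Subgroup G := Subgroup.centralizer {x} with hC
  have hCx : ∀ c : C, (c : G) * x = x * c := fun c => Subgroup.mem_centralizer_singleton_iff.1 c.2
  have hDC : D ⊆ C := by
    intro y hy
    exact Subgroup.mem_centralizer_singleton_iff.2 hy.2.2.eq.symm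
  let N : Subgroup C := (Q x).subgroupOf C
  have hNn : N.Normal := by
    constructor
    intro n hn g
    exact hL.conj_mem g (hCx g) n hn
  have hNp : IsPGroup 2 N := by
    intro n
    refine ⟨2, ?_⟩
    apply Subtype.ext
    apply Subtype.ext
    have := pow_four hL (show ((n : C) : G) ∈ Q x from n.2)
    simpa using this
  let T : Set (C ⧸ N) := {a | ∃ y : C, (y : G) ∈ D ∧ QuotientGroup.mk y = a}
  have hTs : Group.IsSolvable (Subgroup.closure T) := by
    refine isSolvable_closure_hall ?_ ?_ ?_
    · rintro _ ⟨y, hy, rfl⟩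
      have e : y * y = 1 := Subtype.ext (hg.sq hy.1)
      have e2 : (QuotientGroup.mk y : C ⧸ N) * QuotientGroup.mk y = QuotientGroup.mk (y * y) := rfl
      rw [e2, e]; rfl
    · rintro g _ ⟨y, hy, rfl⟩
      obtain ⟨k, rfl⟩ := QuotientGroup.mk_surjective g
      refine ⟨k * y * k⁻¹, ⟨hg.conj_mem y hy.1 k, ?_, ?_⟩, rfl⟩
      · intro h
        apply hy.2.1
        have h1 : (k : G) * y * (k : G)⁻¹ = x := h
        have h2 : (k : G) * y = x * k := mul_inv_eq_iff_eq_mul.1 h1
        rw [← hCx k] at h2
        exact mul_left_cancel h2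
      · show x * ((k : G) * y * (k : G)⁻¹) = (k : G) * y * (k : G)⁻¹ * x
        have h1 : (k : G)⁻¹ * x = x * (k : G)⁻¹ := by
          rw [inv_mul_eq_iff_eq_mul, ← mul_assoc, hCx k, mul_inv_cancel_right]
        calc x * ((k : G) * y * (k : G)⁻¹) = (x * k) * y * (k : G)⁻¹ := by group
          _ = (k * x) * y * (k : G)⁻¹ := by rw [hCx k]
          _ = k * (x * y) * (k : G)⁻¹ := by group
          _ = k * (y * x) * (k : G)⁻¹ := by rw [hy.2.2.eq]
          _ = k * y * (x * (k : G)⁻¹) := by group
          _ = k * y * ((k : G)⁻¹ * x) := by rw [h1]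
          _ = _ := by group
    · rintro _ ⟨y, hy, rfl⟩ _ ⟨w, hw, rfl⟩
      have e : ((QuotientGroup.mk y : C ⧸ N) * QuotientGroup.mk w) ^ 3 = QuotientGroup.mk ((y * w) ^ 3) := rfl
      rw [e, QuotientGroup.eq_one_iff]
      show ((y : G) * w) ^ 3 ∈ Q x
      by_cases hyw : y = w
      · subst hyw
        rw [hg.sq hy.1, one_pow]; exact (Q x).one_mem
      · have hyw' : (y : G) ≠ w := fun h => hyw (Subtype.ext h)
        by_cases hc : Commute (y : G) w
        · exact (Q x).pow_mem (hg.mul_mem y hy.1 w hw.1 x hx hyw' hy.2.1 hw.2.1 hc hy.2.2.symm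
            hw.2.2.symm) 3
        · exact (hg.ord_three x hx y hy.1 w hw.1 hy.2.2.symm hw.2.2.symm hc).1
  -- the closure inside `C`
  have hTC : Group.IsSolvable (Subgroup.closure {y : C | (y : G) ∈ D}) := by
    refine isSolvable_of_map (QuotientGroup.mk' N) _ ?_ ?_
    · rw [QuotientGroup.ker_mk']
      exact isSolvable_of_isPGroup hNp
    · rw [MonoidHom.map_closure]
      have e : (QuotientGroup.mk' N) '' {y : C | (y : G) ∈ D} = T := by
        ext a
        constructor
        · rintro ⟨y, hy, rfl⟩; exact ⟨y, hy, rfl⟩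
        · rintro ⟨y, hy, rfl⟩; exact ⟨y, hy, rfl⟩
      rw [e]; exact hTs
  have hmap : (Subgroup.closure {y : C | (y : G) ∈ D}).map C.subtype = Subgroup.closure D := by
    rw [MonoidHom.map_closure]
    congr 1
    ext y
    constructor
    · rintro ⟨w, hw, rfl⟩; exact hw
    · intro hy; exact ⟨⟨y, hDC hy⟩, hy, rfl⟩
  rw [← hmap]
  exact Group.isSolvable_of_surjective (f := C.subtype.subgroupMap (Subgroup.closure {y : C | (y : G) ∈ D}))
    (C.subtype.subgroupMap_surjective _)

end

end Cfsg.Agent.LargeExtra.WCEnd
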