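import Cfsg.Agent.LargeExtra.WC8
import Cfsg.Agent.LargeExtra.WCEndPSU

/-!
# S1762, case I: `z` weakly closed in `Q`, `|Q| = 2 ^ 7`, `G` simple ⇒ `G ≃* PSU 5 F 2` (helper888, helper622)
-/

set_option autoImplicit false

namespace Cfsg.Agent.LargeExtra.WC

open Cfsg.Agent.Co2Type.Quad

theorem psu5_of_weaklyClosed {G : Type*} [Group G] [Finite G] [IsSimpleGroup G]
    (hG : ¬ IsMulCommutative G) {Q₀ : Subgroup G} {z : G} (h : Large Q₀ z)
    (hcard : Nat.card Q₀ = 2 ^ 7) (hwc : ∀ g : G, g * z * g⁻¹ ∈ Q₀ → g * z * g⁻¹ = z) :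
    ∃ (F : Type) (_ : Field F) (_ : Fintype F), Fintype.card F = 4 ∧ Nonempty (G ≃* Cfsg.PSU 5 F 2) :=
  WCEnd.psu5_of_geom hG (geom_of_large h hcard hwc) (z := z) ⟨1, by group⟩
    (by rw [Qfam_self h]; exact hcard)

end Cfsg.Agent.LargeExtra.WC
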