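import Cfsg.Agent.LargeExtra.WC2
import Cfsg.Agent.LargeExtra.Local

/-!
# Large extraspecial 2-subgroups, case I (`z` weakly closed in `Q`), any width: good pairs (helper821)

`Base P Q`: `P` a conjugacy class of involutions, `Q p` the large extraspecial subgroup of `p ∈ P`,
`P ∩ Q p = {p}`.  `Good P p t`: `p, t ∈ P` are distinct, commute, and `p t ∉ P`.
-/

set_option autoImplicit false

namespace Cfsg.Agent.LargeExtra.WCIrr

open Cfsg.Agent.Co2Type.Quad Cfsg.Agent.LargeExtra.WC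

/-- `P` a conjugacy class of involutions, `Q p` the large extraspecial subgroup of `p ∈ P`,
`P ∩ Q p = {p}` -/
structure Base {G : Type*} [Group G] (P : Set G) (Q : G → Subgroup G) : Prop where
  conj_mem : ∀ p ∈ P, ∀ g : G, g * p * g⁻¹ ∈ P
  exists_conj : ∀ p ∈ P, ∀ q ∈ P, ∃ g : G, g * p * g⁻¹ = q
  large : ∀ p ∈ P, Large (Q p) p
  Q_conj : ∀ p ∈ P, ∀ g x : G, x ∈ Q p → g * x * g⁻¹ ∈ Q (g * p * g⁻¹)
  eq_of_mem : ∀ p ∈ P, ∀ x ∈ P, x ∈ Q p → x = p

/-- good pairs -/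
structure Good {G : Type*} [Group G] (P : Set G) (p t : G) : Prop extends Com P p t where
  nmem : p * t ∉ P

section base

variable {G : Type*} [Group G] {P : Set G} {Q : G → Subgroup G} (B : Base P Q)
include B

theorem Base.sq {p : G} (hp : p ∈ P) : p * p = 1 := (B.large p hp).z_sq

theorem Base.inv {p : G} (hp : p ∈ P) : p⁻¹ = p := (B.large p hp).z_inv

theorem Base.conj_iff {p : G} (hp : p ∈ P) (g x : G) : g * x * g⁻¹ ∈ Q (g * p * g⁻¹) ↔ x ∈ Q p := by
  constructor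
  · intro h
    have h1 := B.Q_conj _ (B.conj_mem p hp g) g⁻¹ _ h
    have e1 : g⁻¹ * (g * x * g⁻¹) * g⁻¹⁻¹ = x := by group
    have e2 : g⁻¹ * (g * p * g⁻¹) * g⁻¹⁻¹ = p := by group
    rwa [e1, e2] at h1
  · exact B.Q_conj p hp g x

theorem Base.card_eq {p t : G} (hp : p ∈ P) (ht : t ∈ P) : Nat.card (Q p) = Nat.card (Q t) := by
  obtain ⟨g, rfl⟩ := B.exists_conj p hp t ht
  apply Nat.card_congr
  exact
    { toFun := fun x => ⟨g * x * g⁻¹, B.Q_conj p hp g x x.2⟩
      invFun := fun x => ⟨g⁻¹ * x * g, by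
        rw [← B.conj_iff hp g]
        have : g * (g⁻¹ * (x : G) * g) * g⁻¹ = x := by group
        rw [this]; exact x.2⟩
      left_inv := fun x => Subtype.ext (by show g⁻¹ * (g * (x : G) * g⁻¹) * g = x; group)
      right_inv := fun x => Subtype.ext (by show g * (g⁻¹ * (x : G) * g) * g⁻¹ = x; group) }

end base

namespace Com

open Cfsg.Agent.LargeExtra.WC.Com

variable {G : Type*} [Group G] {P : Set G} {Q : G → Subgroup G} {p t : G}

variable (B : Base P Q) (c : Com P p t)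
include B c

theorem notMem : t ∉ Q p := fun h => c.ne (B.eq_of_mem p c.hp t c.ht h).symm

/-- `[x, t]` for `x ∈ Q p` -/
theorem u_mem {x : G} (hx : x ∈ Q p) : t * x * t⁻¹ * x⁻¹ ∈ Q p :=
  mul_mem ((B.large p c.hp).conj_mem t c.com.symm x hx) (inv_mem hx)

theorem inv_aux {x : G} : t * (t * x * t⁻¹ * x⁻¹) * t⁻¹ = (t * x * t⁻¹ * x⁻¹)⁻¹ := by
  have h1 := B.sq c.ht
  have h2 := B.inv c.ht
  simp only [mul_inv_rev, inv_inv, h2]
  calc t * (t * x * t * x⁻¹) * t = (t * t) * (x * t * x⁻¹ * t) := by group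
    _ = _ := by rw [h1]; group

/-- `x t x⁻¹ = t [t, x]` -/
theorem conj_eq (x : G) : x * t * x⁻¹ = t * (t * x * t⁻¹ * x⁻¹) := by
  have h1 := B.sq c.ht
  have h2 := B.inv c.ht
  calc x * t * x⁻¹ = (t * t) * (x * t⁻¹ * x⁻¹) := by rw [h1, h2, one_mul]
    _ = _ := by group

/-- action of `t` on `Q p / ⟨p⟩` -/
noncomputable def T : (B.large p c.hp).V ≃ₗ[ZMod 2] (B.large p c.hp).V :=
  ac (B.large p c.hp) t c.com.symm

theorem T_inv : (qs (B.large p c.hp)).Inv (Com.T B c) := by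
  refine ⟨ac_iso _ _ _, fun v => ?_⟩
  obtain ⟨x, hx, rfl⟩ := pr_surj _ v
  rw [T, ac_pr, ac_pr]
  congr 1
  apply Subtype.ext
  show t * (t * x * t⁻¹) * t⁻¹ = x
  calc t * (t * x * t⁻¹) * t⁻¹ = (t * t) * x * (t * t)⁻¹ := by group
    _ = x := by rw [B.sq c.ht]; group

theorem T_ne [Finite G] : ∃ v, Com.T B c v ≠ v := by
  by_contra hcon
  push Not at hcon
  exact notMem B c (mem_of_ac _ _ _ hcon)

/-- `D = Q p ∩ Q t` -/
theorem D_sq {d : G} (h1 : d ∈ Q p) (h2 : d ∈ Q t) : d * d = 1 := by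
  rcases (B.large p c.hp).sq d h1 with h | h
  · exact h
  · rcases (B.large t c.ht).sq d h2 with h' | h'
    · exact h'
    · exact absurd (h.symm.trans h') c.ne

theorem D_comm {d e : G} (h1 : d ∈ Q p) (h2 : d ∈ Q t) (h3 : e ∈ Q p) (h4 : e ∈ Q t) :
    d * e = e * d := by
  rcases (B.large p c.hp).comm d h1 e h3 with h | h
  · exact h
  · rcases (B.large t c.ht).comm d h2 e h4 with h' | h'
    · exact h'
    · exfalso
      rw [h] at h'
      exact c.ne (mul_left_cancel h')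

/-- `D` is central in `C_{Q p}(t)` -/
theorem D_central {d r : G} (h1 : d ∈ Q p) (h2 : d ∈ Q t) (h3 : r ∈ Q p) (h4 : r * t = t * r) :
    r * d = d * r := by
  have hc : r * d * r⁻¹ * d⁻¹ ∈ Q t :=
    mul_mem ((B.large t c.ht).conj_mem r h4 d h2) (inv_mem h2)
  rcases (B.large p c.hp).comm r h3 d h1 with h | h
  · exact h
  · exfalso
    have e : r * d * r⁻¹ * d⁻¹ = p := by
      rw [h, mul_assoc (d * r), ((B.large p c.hp).commz h3).inv_left.eq.symm,
        mul_assoc (d * r), mul_assoc r⁻¹, ((B.large p c.hp).commz h1).inv_left.eq.symm]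
      group
    rw [e] at hc
    exact notMem B c.symm hc

/-- elements of `D` commute with `t` -/
theorem D_t {d : G} (h2 : d ∈ Q t) : d * t = t * d := (B.large t c.ht).comm_z d h2

theorem D_p {d : G} (h1 : d ∈ Q p) : d * p = p * d := (B.large p c.hp).comm_z d h1

/-- `[R, X] ≤ D` -/
theorem RX {r x : G} (hr : r ∈ Q p) (hrt : r * t = t * r) (hx : x ∈ Q t) (hxp : x * p = p * x) :
    x * r * x⁻¹ * r⁻¹ ∈ Q p ⊓ Q t := by
  refine Subgroup.mem_inf.2 ⟨mul_mem ((B.large p c.hp).conj_mem x hxp r hr) (inv_mem hr), ?_⟩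
  have h3 := (B.large t c.ht).conj_mem r hrt x⁻¹ (inv_mem hx)
  have h4 := mul_mem hx h3
  have e : x * (r * x⁻¹ * r⁻¹) = x * r * x⁻¹ * r⁻¹ := by group
  rwa [e] at h4

end Com

namespace Good

variable {G : Type*} [Group G] {P : Set G} {Q : G → Subgroup G} {p t : G}

theorem symm (c : Good P p t) : Good P t p := by
  refine ⟨c.toCom.symm, ?_⟩
  rw [← c.com]; exact c.nmem

variable (B : Base P Q) (c : Good P p t)
include B c

/-- no `x` conjugates `t` to `t p` -/
theorem tau (y : G) : y * t * y⁻¹ ≠ t * p := by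
  intro h
  apply c.nmem
  rw [c.com, ← h]
  exact B.conj_mem t c.ht y

theorem ne_p (x : G) : t * x * t⁻¹ * x⁻¹ ≠ p := by
  intro h
  apply c.tau B x
  rw [Com.conj_eq B c.toCom, h]

theorem sq_comm {x : G} (hx : x ∈ Q p) : (t * x * t⁻¹ * x⁻¹) * (t * x * t⁻¹ * x⁻¹) = 1 := by
  rcases (B.large p c.hp).sq _ (Com.u_mem B c.toCom hx) with h | h
  · exact h
  · exfalso
    have h1 := Com.inv_aux B c.toCom (x := x)
    have hu := Com.u_mem B c.toCom hx
    revert h h1 hu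
    generalize t * x * t⁻¹ * x⁻¹ = u
    intro h h1 hu
    have h2 : u⁻¹ = u * p := by
      rw [inv_eq_iff_mul_eq_one, ← mul_assoc, h]; exact B.sq c.hp
    refine c.tau B u⁻¹ ?_
    rw [inv_inv, mul_assoc, inv_mul_eq_iff_eq_mul]
    have h3 : t * u = u * p * t := by
      rw [← h2, ← h1]; group
    rw [h3, mul_assoc, c.com]

theorem comm_of {x : G} (h : (t * x * t⁻¹ = x ∨ t * x * t⁻¹ = x * p)) (hx : x ∈ Q p) : t * x = x * t := by
  rcases h with h | h
  · rw [mul_inv_eq_iff_eq_mul] at h; exact h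
  · exfalso
    refine c.ne_p B x ?_
    rw [h, ((B.large p c.hp).commz hx).eq]; group

/-- `W` is totally singular -/
theorem q_W {w : (B.large p c.hp).V} (hw : w ∈ QS.W (Com.T B c.toCom)) : (B.large p c.hp).q w = 0 := by
  obtain ⟨v, rfl⟩ := hw
  obtain ⟨x, hx, rfl⟩ := pr_surj _ v
  show (B.large p c.hp).q (Com.T B c.toCom ((B.large p c.hp).pr ⟨x, hx⟩) +
    (B.large p c.hp).pr ⟨x, hx⟩) = 0
  rw [Com.T, ac_add]
  exact (B.large p c.hp).q_eq_zero.2 (c.sq_comm B hx)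

theorem fix_iff {x : G} (hx : x ∈ Q p) :
    (B.large p c.hp).pr ⟨x, hx⟩ ∈ (qs (B.large p c.hp)).perp (QS.W (Com.T B c.toCom)) ↔
      t * x = x * t := by
  rw [← (Com.T_inv B c.toCom).fix_iff, Com.T, ac_pr, (B.large p c.hp).pr_eq_pr]
  constructor
  · exact fun h => c.comm_of B h hx
  · intro h; left
    show t * x * t⁻¹ = x
    rw [h]; group

/-- `D̃ ≤ W` -/
theorem D_le [Finite G] {d : G} (h1 : d ∈ Q p) (h2 : d ∈ Q t) :
    (B.large p c.hp).pr ⟨d, h1⟩ ∈ QS.W (Com.T B c.toCom) := by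
  rw [← (qs (B.large p c.hp)).perp_perp (QS.W (Com.T B c.toCom)), QS.mem_perp]
  intro v hv
  obtain ⟨r, hr, rfl⟩ := pr_surj _ v
  rw [c.fix_iff B] at hv
  exact ((B.large p c.hp).b_pr _ _).2 (Com.D_central B c.toCom h1 h2 hr hv.symm)

/-- if `[t, x]` is `d ∈ D` modulo `⟨p⟩`, `d ≠ 1`, then `t^x = t d p` -/
theorem conj_of {x d : G} (hx : x ∈ Q p) (h1 : d ∈ Q p) (h2 : d ∈ Q t) (hd : d ≠ 1)
    (h : Com.T B c.toCom ((B.large p c.hp).pr ⟨x, hx⟩) + (B.large p c.hp).pr ⟨x, hx⟩ =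
      (B.large p c.hp).pr ⟨d, h1⟩) : x * t * x⁻¹ = t * (d * p) := by
  rw [Com.T, ac_add, (B.large p c.hp).pr_eq_pr] at h
  rcases h with h | h
  · exfalso
    have h3 : x * t * x⁻¹ = t * d := by rw [Com.conj_eq B c.toCom]; exact congrArg (t * ·) h
    have h4 : t * d ∈ P := h3 ▸ B.conj_mem t c.ht x
    have h5 := B.eq_of_mem t c.ht _ h4 (mul_mem (B.large t c.ht).z_mem h2)
    exact hd (mul_eq_left.1 h5)
  · rw [Com.conj_eq B c.toCom]; exact congrArg (t * ·) h

/-- each `d ∈ D`, `d ≠ 1`, has `x ∈ Q p` with `t^x = t d p` -/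
theorem exists_x [Finite G] {d : G} (h1 : d ∈ Q p) (h2 : d ∈ Q t) (hd : d ≠ 1) :
    ∃ x ∈ Q p, x * t * x⁻¹ = t * (d * p) := by
  obtain ⟨v, hv⟩ := c.D_le B h1 h2
  obtain ⟨x, hx, rfl⟩ := pr_surj _ v
  exact ⟨x, hx, c.conj_of B hx h1 h2 hd hv⟩

theorem T_of_conj {x d : G} (hx : x ∈ Q p) (h1 : d ∈ Q p) (h : x * t * x⁻¹ = t * (d * p)) :
    Com.T B c.toCom ((B.large p c.hp).pr ⟨x, hx⟩) + (B.large p c.hp).pr ⟨x, hx⟩ =
      (B.large p c.hp).pr ⟨d, h1⟩ := by
  rw [Com.T, ac_add, (B.large p c.hp).pr_eq_pr]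
  right
  rw [Com.conj_eq B c.toCom] at h
  exact mul_left_cancel h

/-- `[d, x_d] = 1` -/
theorem comm_x {x d : G} (hx : x ∈ Q p) (h1 : d ∈ Q p)
    (h : x * t * x⁻¹ = t * (d * p)) : x * d = d * x := by
  have h3 := c.T_of_conj B hx h1 h
  have h4 := (Com.T_inv B c.toCom).iso.q_f ((B.large p c.hp).pr ⟨x, hx⟩)
  rw [h3] at h4
  have h5 : (B.large p c.hp).q ((B.large p c.hp).pr ⟨d, h1⟩) = 0 := by
    rw [← h3]; exact c.q_W B (QS.f_mem_W _ _)
  have h6 : (B.large p c.hp).b ((B.large p c.hp).pr ⟨x, hx⟩) ((B.large p c.hp).pr ⟨d, h1⟩) = 0 :=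
    h4.symm.trans h5
  exact ((B.large p c.hp).b_pr _ _).1 h6

/-- `[d, x_e] = p` for `d ≠ e` -/
theorem comm_x' [Finite G] {x d e : G} (hx : x ∈ Q p) (h1 : d ∈ Q p) (h2 : d ∈ Q t) (h3 : e ∈ Q p)
    (h4 : e ∈ Q t) (hd : d ≠ 1) (hde : d ≠ e) (h : x * t * x⁻¹ = t * (e * p)) : x * d * x⁻¹ = d * p := by
  rcases (B.large p c.hp).comm x hx d h1 with h5 | h5
  · exfalso
    -- `d ∈ Q (t e p)`
    have h6 : d ∈ Q (t * (e * p)) := by
      rw [← h]
      have : d = x * d * x⁻¹ := by rw [h5]; group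
      rw [this]
      exact B.Q_conj t c.ht x d h2
    have hr : t * (e * p) ∈ P := by rw [← h]; exact B.conj_mem t c.ht x
    -- the pair `(p, t e p)` is good
    have hpx : x * p * x⁻¹ = p := by rw [(B.large p c.hp).comm_z x hx]; group
    have c' : Good P p (t * (e * p)) := by
      refine ⟨⟨c.hp, hr, ?_, ?_⟩, ?_⟩
      · intro h7
        have : p ∈ Q t := by
          have h8 : p = t * (e * p) := h7
          have h9 : t * e = 1 := by
            have : t * e * p = p := by rw [mul_assoc]; exact h8.symm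
            exact mul_eq_right.1 this
          exfalso
          have h10 : e = t := by
            rw [← B.inv c.ht]; exact (inv_eq_of_mul_eq_one_right h9).symm
          rw [h10] at h3
          exact Com.notMem B c.toCom h3
        exact Com.notMem B c.toCom.symm this
      · have e1 := Com.D_p B c.toCom h3
        have e2 := c.com
        calc p * (t * (e * p)) = (p * t) * (e * p) := by group
          _ = t * (p * e) * p := by rw [e2]; group
          _ = t * (e * p) * p := by rw [← e1]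
      · have : p * (t * (e * p)) = x * (p * t) * x⁻¹ := by
          calc p * (t * (e * p)) = (x * p * x⁻¹) * (x * t * x⁻¹) := by rw [hpx, h]
            _ = _ := by group
        rw [this]
        intro h7
        apply c.nmem
        have h8 := B.conj_mem _ h7 x⁻¹
        have h9 : x⁻¹ * (x * (p * t) * x⁻¹) * x⁻¹⁻¹ = p * t := by group
        rwa [h9] at h8
    obtain ⟨y, hy, hy2⟩ := c'.exists_x B h1 h6 hd
    have h7 : y * (t * (e * p)) * y⁻¹ = t * (e * d) := by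
      rw [hy2]
      have e1 := Com.D_p B c.toCom h1
      calc t * (e * p) * (d * p) = t * e * (p * (d * p)) := by group
        _ = t * e * (p * (p * d)) := by rw [e1]
        _ = t * e * ((p * p) * d) := by group
        _ = t * (e * d) := by rw [B.sq c.hp]; group
    have h8 : t * (e * d) ∈ P := by rw [← h7]; exact B.conj_mem _ hr y
    have h9 := B.eq_of_mem t c.ht _ h8 (mul_mem (B.large t c.ht).z_mem (mul_mem h4 h2))
    have h10 : e * d = 1 := mul_eq_left.1 h9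
    apply hde
    have h11 := Com.D_sq B c.toCom h3 h4
    have : e * d = e * e := h10.trans h11.symm
    exact mul_left_cancel this
  · rw [h5, mul_assoc (d * x), ← ((B.large p c.hp).commz hx).inv_left.eq]
    group

/-- `|D| ≤ 4` -/
theorem D_three [Finite G] {d e f : G} (hd1 : d ∈ Q p) (hd2 : d ∈ Q t) (he1 : e ∈ Q p) (he2 : e ∈ Q t)
    (hf1 : f ∈ Q p) (hf2 : f ∈ Q t) (hd : d ≠ 1) (he : e ≠ 1) (hf : f ≠ 1) (hde : d ≠ e) (hdf : d ≠ f)
    (hef : e ≠ f) : f = d * e := by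
  by_contra hne
  obtain ⟨x, hx, hxf⟩ := c.exists_x B hf1 hf2 hf
  have h1 := c.comm_x' B hx hd1 hd2 hf1 hf2 hd hdf hxf
  have h2 := c.comm_x' B hx he1 he2 hf1 hf2 he hef hxf
  have hde1 : d * e ≠ 1 := by
    intro h
    apply hde
    rw [← inv_eq_of_mul_eq_one_left (Com.D_sq B c.toCom he1 he2)]
    exact eq_inv_of_mul_eq_one_left h
  have h3 := c.comm_x' B hx (mul_mem hd1 he1) (mul_mem hd2 he2) hf1 hf2 hde1 (Ne.symm hne) hxf
  have h4 : x * (d * e) * x⁻¹ = d * e := by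
    calc x * (d * e) * x⁻¹ = (x * d * x⁻¹) * (x * e * x⁻¹) := by group
      _ = d * p * (e * p) := by rw [h1, h2]
      _ = d * p * (p * e) := by rw [Com.D_p B c.toCom he1]
      _ = d * (p * p) * e := by group
      _ = d * e := by rw [B.sq c.hp]; group
  rw [h4] at h3
  exact (B.large p c.hp).z_ne (mul_eq_left.1 h3.symm)

end Good

end Cfsg.Agent.LargeExtra.WCIrr
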