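import Cfsg.Agent.LargeExtra.WCIrrA
import Cfsg.Agent.LargeExtra.TwoCentral

/-!
# Large extraspecial 2-subgroups, case I, any width: the dichotomy (helper821)

For a good pair `(p, t)`: if `X = C_{Q t}(p)` is nonabelian, then `W = D̃` and `|D| = 4`.
-/

set_option autoImplicit false

namespace Cfsg.Agent.LargeExtra.WCIrr

open Cfsg.Agent.Co2Type.Quad Cfsg.Agent.LargeExtra.WC

/-! ### linear algebra -/

section lin

variable {V : Type*} [AddCommGroup V] [Module (ZMod 2) V] {S : QS V}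

theorem add_cancel_pair (a b c e v : V) : a + e = (a + b + (c + v)) + (e + c + (b + v)) := by
  have h : (a + b + (c + v)) + (e + c + (b + v)) = a + e + (b + b) + (c + c) + (v + v) := by abel
  rw [h, vadd_self, vadd_self, vadd_self, add_zero, add_zero, add_zero]

theorem duality [Finite V] {U W : Submodule (ZMod 2) V} {X : V ≃ₗ[ZMod 2] V} (hX : S.Iso X)
    (hXU : ∀ u ∈ U, X u = u) (hXW : ∀ r ∈ S.perp W, X r + r ∈ U) {v : V} (hv : v ∈ S.perp U) :
    X v + v ∈ W := by
  rw [← S.perp_perp W, S.mem_perp]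
  intro r hr
  have h1 := hXW r hr
  have h2 : S.b r (X v + v) = S.b (X r + r) (X v) := by
    rw [map_add, map_add, LinearMap.add_apply, hX.b_eq, add_comm]
  rw [h2]
  have h3 : S.b (X r + r) (X v) = S.b (X (X r + r)) (X v) := by rw [hXU _ h1]
  rw [h3, hX.b_eq]
  exact S.mem_perp.1 hv _ h1

theorem quad [Finite V] {U W : Submodule (ZMod 2) V} {X Y : V ≃ₗ[ZMod 2] V} (hX : S.Iso X) (hY : S.Iso Y)
    (hXU : ∀ u ∈ U, X u = u) (hYU : ∀ u ∈ U, Y u = u) (hXW : ∀ r ∈ S.perp W, X r + r ∈ U)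
    (hYW : ∀ r ∈ S.perp W, Y r + r ∈ U) (hW : W ≤ S.perp W) {v : V} (hv : v ∈ S.perp U) :
    X (Y v) + Y (X v) ∈ U := by
  have h1 := duality hX hXU hXW hv
  have h2 := duality hY hYU hYW hv
  have h3 := hXW _ (hW h2)
  have h4 := hYW _ (hW h1)
  have h5 := U.add_mem h3 h4
  rw [map_add, map_add] at h5
  rw [add_cancel_pair (X (Y v)) (X v) (Y v) (Y (X v)) v]
  exact h5

theorem card_four {W : Submodule (ZMod 2) V} {a b : V} (ha : a ∈ W) (hb : b ∈ W) (ha0 : a ≠ 0)
    (hb0 : b ≠ 0) (hab : a ≠ b) (h : ∀ v ∈ W, v = 0 ∨ v = a ∨ v = b ∨ v = a + b) : Nat.card W = 4 := by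
  classical
  have hab0 : a + b ≠ 0 := fun h => hab (eq_of_add h)
  have haab : a ≠ a + b := fun h => hb0 (left_eq_add.1 h)
  have hbab : b ≠ a + b := fun h => ha0 (right_eq_add.1 h)
  have h1 : (W : Set V) = (({0, a, b, a + b} : Finset V) : Set V) := by
    ext v
    simp only [SetLike.mem_coe, Finset.coe_insert, Finset.coe_singleton, Set.mem_insert_iff,
      Set.mem_singleton_iff]
    constructor
    · exact h v
    · rintro (rfl | rfl | rfl | rfl)
      · exact W.zero_mem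
      · exact ha
      · exact hb
      · exact W.add_mem ha hb
  have h2 : Nat.card W = Nat.card (W : Set V) := rfl
  rw [h2, h1, Nat.card_coe_set_eq, Set.ncard_coe_finset, Finset.card_insert_of_notMem,
    Finset.card_insert_of_notMem, Finset.card_insert_of_notMem, Finset.card_singleton]
  · simpa using hbab
  · simp only [Finset.mem_insert, Finset.mem_singleton, not_or]
    exact ⟨hab, haab⟩
  · simp only [Finset.mem_insert, Finset.mem_singleton, not_or]
    exact ⟨Ne.symm ha0, Ne.symm hb0, Ne.symm hab0⟩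

theorem card_le_four {W : Submodule (ZMod 2) V}
    (h : ∀ a ∈ W, ∀ b ∈ W, ∀ c ∈ W, a ≠ 0 → b ≠ 0 → c ≠ 0 → a ≠ b → a ≠ c → b ≠ c → c = a + b) :
    Nat.card W ≤ 4 := by
  classical
  by_cases h1 : ∀ v ∈ W, v = 0
  · have : Subsingleton W := ⟨fun v w => Subtype.ext ((h1 v v.2).trans (h1 w w.2).symm)⟩
    rw [Nat.card_unique]; norm_num
  push Not at h1
  obtain ⟨a, ha, ha0⟩ := h1
  by_cases h2 : ∀ v ∈ W, v = 0 ∨ v = a
  · have h3 : (W : Set V) ⊆ (({0, a} : Finset V) : Set V) := by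
      intro v hv
      simp only [Finset.coe_insert, Finset.coe_singleton, Set.mem_insert_iff, Set.mem_singleton_iff]
      exact h2 v hv
    have h4 : Nat.card W = Set.ncard (W : Set V) := rfl
    rw [h4]
    calc _ ≤ Set.ncard (({0, a} : Finset V) : Set V) := Set.ncard_le_ncard h3 (Finset.finite_toSet _)
      _ = ({0, a} : Finset V).card := Set.ncard_coe_finset _
      _ ≤ 2 := Finset.card_le_two
      _ ≤ 4 := by norm_num
  · push Not at h2
    obtain ⟨b, hb, hb0, hab⟩ := h2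
    apply le_of_eq
    apply card_four ha hb ha0 hb0 (Ne.symm hab)
    intro v hv
    by_cases hv0 : v = 0
    · exact Or.inl hv0
    by_cases hva : v = a
    · exact Or.inr (Or.inl hva)
    by_cases hvb : v = b
    · exact Or.inr (Or.inr (Or.inl hvb))
    · exact Or.inr (Or.inr (Or.inr (h a ha b hb v hv ha0 hb0 hv0 (Ne.symm hab) (Ne.symm hva) (Ne.symm hvb))))

end lin

/-! ### good pairs -/

namespace Com

variable {G : Type*} [Group G] {P : Set G} {Q : G → Subgroup G} {p t : G}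

variable (B : Base P Q) (c : Com P p t)

/-- `D̃` -/
def U (B : Base P Q) (c : Com P p t) : Submodule (ZMod 2) (B.large p c.hp).V :=
  Local.sub (B.large p c.hp) (Q t)

include B c

theorem mem_U {v : (B.large p c.hp).V} : v ∈ U B c ↔ ∃ (d : G) (h1 : d ∈ Q p) (_ : d ∈ Q t),
    (B.large p c.hp).pr ⟨d, h1⟩ = v := by
  constructor
  · rintro ⟨x, hx, rfl⟩
    exact ⟨x, x.2, hx, rfl⟩
  · rintro ⟨d, h1, h2, rfl⟩
    exact ⟨⟨d, h1⟩, h2, rfl⟩

/-- an element of `C_{Q t}(p)` centralises `D` -/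
theorem X_U {x : G} (hx : x ∈ Q t) (hxp : x * p = p * x) {u : (B.large p c.hp).V} (hu : u ∈ U B c) :
    ac (B.large p c.hp) x hxp u = u := by
  obtain ⟨d, h1, h2, rfl⟩ := (mem_U B c).1 hu
  rw [ac_pr]
  congr 1
  apply Subtype.ext
  show x * d * x⁻¹ = d
  rw [D_central B c.symm h2 h1 hx hxp]; group

end Com

namespace Good

variable {G : Type*} [Group G] {P : Set G} {Q : G → Subgroup G} {p t : G}

variable (B : Base P Q) (c : Good P p t)
include B c

theorem X_perp {x : G} (hx : x ∈ Q t) (hxp : x * p = p * x) {v : (B.large p c.hp).V}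
    (hv : v ∈ (qs (B.large p c.hp)).perp (QS.W (Com.T B c.toCom))) :
    ac (B.large p c.hp) x hxp v + v ∈ Com.U B c.toCom := by
  obtain ⟨r, hr, rfl⟩ := pr_surj _ v
  rw [c.fix_iff B] at hv
  rw [ac_add]
  have h1 := Subgroup.mem_inf.1 (Com.RX B c.toCom hr hv.symm hx hxp)
  exact (Com.mem_U B c.toCom).2 ⟨_, h1.1, h1.2, rfl⟩

/-- three distinct nonzero vectors of `D̃` -/
theorem card_U [Finite G] : Nat.card (Com.U B c.toCom) ≤ 4 := by
  apply card_le_four
  intro a ha b hb v hv ha0 hb0 hv0 hab hav hbv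
  obtain ⟨d, h1, h2, rfl⟩ := (Com.mem_U B c.toCom).1 ha
  obtain ⟨e, h3, h4, rfl⟩ := (Com.mem_U B c.toCom).1 hb
  obtain ⟨f, h5, h6, rfl⟩ := (Com.mem_U B c.toCom).1 hv
  have key : ∀ (d : G) (h1 : d ∈ Q p), (B.large p c.hp).pr ⟨d, h1⟩ ≠ 0 → d ≠ 1 := by
    rintro d h1 h rfl
    exact h ((B.large p c.hp).pr_eq_zero.2 (Or.inl rfl))
  have key2 : ∀ (d e : G) (h1 : d ∈ Q p) (h2 : e ∈ Q p),
      (B.large p c.hp).pr ⟨d, h1⟩ ≠ (B.large p c.hp).pr ⟨e, h2⟩ → d ≠ e := by
    rintro d e h1 h2 h rfl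
    exact h rfl
  have h7 := c.D_three B h1 h2 h3 h4 h5 h6 (key _ _ ha0) (key _ _ hb0) (key _ _ hv0) (key2 _ _ _ _ hab)
    (key2 _ _ _ _ hav) (key2 _ _ _ _ hbv)
  rw [← (B.large p c.hp).pr_mul]
  congr 1
  exact Subtype.ext h7

/-- if `X` is nonabelian, `[D̃^⊥, t] ≤ D̃` -/
theorem T_U [Finite G] {x y : G} (hx : x ∈ Q t) (hxp : x * p = p * x) (hy : y ∈ Q t) (hyp : y * p = p * y)
    (hxy : x * y = y * x * t) {v : (B.large p c.hp).V} (hv : v ∈ (qs (B.large p c.hp)).perp (Com.U B c.toCom)) :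
    Com.T B c.toCom v + v ∈ Com.U B c.toCom := by
  have h1 := quad (ac_iso (B.large p c.hp) x hxp) (ac_iso (B.large p c.hp) y hyp)
    (fun u hu => Com.X_U B c.toCom hx hxp hu) (fun u hu => Com.X_U B c.toCom hy hyp hu)
    (fun r hr => c.X_perp B hx hxp hr) (fun r hr => c.X_perp B hy hyp hr)
    (Com.T_inv B c.toCom).W_le hv
  have hxyp : x * y * p = p * (x * y) := by rw [mul_assoc, hyp, ← mul_assoc, hxp, mul_assoc]
  have hyxp : y * x * p = p * (y * x) := by rw [mul_assoc, hxp, ← mul_assoc, hyp, mul_assoc]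
  have hyxtp : y * x * t * p = p * (y * x * t) := by rw [← hxy]; exact hxyp
  have h2 : ac (B.large p c.hp) (x * y) hxyp v = ac (B.large p c.hp) (y * x * t) hyxtp v := by
    have : ∀ (a b : G) (ha : a * p = p * a) (hb : b * p = p * b), a = b →
        ac (B.large p c.hp) a ha = ac (B.large p c.hp) b hb := by
      rintro a b ha hb rfl; rfl
    rw [this _ _ hxyp hyxtp hxy]
  rw [ac_mul _ _ _ hyxp c.com.symm, ac_mul _ _ _ hxp hyp, ac_mul _ _ _ hyp hxp] at h2
  rw [h2, ← map_add, ← map_add] at h1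
  set m := Com.T B c.toCom v + v with hm
  have h3 : ac (B.large p c.hp) y hyp (ac (B.large p c.hp) x hxp m) ∈ Com.U B c.toCom := h1
  have h4 : ac (B.large p c.hp) y hyp (ac (B.large p c.hp) x hxp m) =
      ac (B.large p c.hp) y hyp (ac (B.large p c.hp) x hxp
        (ac (B.large p c.hp) y hyp (ac (B.large p c.hp) x hxp m))) := by
    rw [Com.X_U B c.toCom hx hxp h3, Com.X_U B c.toCom hy hyp h3]
  have h5 := (ac (B.large p c.hp) x hxp).injective ((ac (B.large p c.hp) y hyp).injective h4)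
  rw [h5]; exact h3

/-- if `D` has two distinct nontrivial elements, `X` nonabelian, then `W ≤ D̃` -/
theorem W_le_U_aux [Finite G] {d e : G} (h1 : d ∈ Q p) (h2 : d ∈ Q t) (h3 : e ∈ Q p) (h4 : e ∈ Q t)
    (hd : d ≠ 1) (he : e ≠ 1) (hde : d ≠ e)
    (hT : ∀ v ∈ (qs (B.large p c.hp)).perp (Com.U B c.toCom), Com.T B c.toCom v + v ∈ Com.U B c.toCom) :
    QS.W (Com.T B c.toCom) ≤ Com.U B c.toCom := by
  set S := qs (B.large p c.hp) with hS
  have key : S.perp (Com.U B c.toCom) ≤ S.perp (QS.W (Com.T B c.toCom)) := by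
    intro v hv
    rw [← (Com.T_inv B c.toCom).fix_iff]
    obtain ⟨f, h5, h6, h7⟩ := (Com.mem_U B c.toCom).1 (hT v hv)
    by_cases hf : f = 1
    · have : (B.large p c.hp).pr ⟨f, h5⟩ = 0 := (B.large p c.hp).pr_eq_zero.2 (Or.inl hf)
      rw [this] at h7
      exact eq_of_add h7.symm
    · exfalso
      obtain ⟨x, hx, rfl⟩ := pr_surj _ v
      have h8 := c.conj_of B hx h5 h6 hf h7.symm
      have hcomm : ∀ e : G, ∀ h3 : e ∈ Q p, e ∈ Q t → x * e * x⁻¹ = e := by
        intro e h3 h4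
        have h9 : (B.large p c.hp).b ((B.large p c.hp).pr ⟨e, h3⟩) ((B.large p c.hp).pr ⟨x, hx⟩) = 0 :=
          S.mem_perp.1 hv _ ((Com.mem_U B c.toCom).2 ⟨e, h3, h4, rfl⟩)
        have h10 : e * x = x * e := ((B.large p c.hp).b_pr _ _).1 h9
        rw [← h10]; group
      have hne : ∀ e : G, e ≠ e * p := fun e he => (B.large p c.hp).z_ne (mul_eq_left.1 he.symm)
      by_cases hdf : d = f
      · have hef : e ≠ f := fun h => hde (hdf.trans h.symm)
        have h9 := c.comm_x' B hx h3 h4 h5 h6 he hef h8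
        rw [hcomm e h3 h4] at h9
        exact hne e h9
      · have h9 := c.comm_x' B hx h1 h2 h5 h6 hd hdf h8
        rw [hcomm d h1 h2] at h9
        exact hne d h9
  intro w hw
  rw [← S.perp_perp (Com.U B c.toCom), S.mem_perp]
  intro u hu
  rw [S.b_comm]
  exact S.mem_perp.1 (key hu) w hw

/-- **Dichotomy, one side**: if `X` is nonabelian, then `W ≤ D̃` and `|D| ≥ 4`. -/
theorem of_noncomm [Finite G] {x y : G} (hx : x ∈ Q t) (hxp : x * p = p * x) (hy : y ∈ Q t)
    (hyp : y * p = p * y) (hxy : x * y = y * x * t) :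
    QS.W (Com.T B c.toCom) ≤ Com.U B c.toCom ∧
      ∃ d ∈ Q p, d ∈ Q t ∧ d ≠ 1 ∧ ∃ e ∈ Q p, e ∈ Q t ∧ e ≠ 1 ∧ d ≠ e := by
  have hT : ∀ v ∈ (qs (B.large p c.hp)).perp (Com.U B c.toCom), Com.T B c.toCom v + v ∈ Com.U B c.toCom :=
    fun v hv => c.T_U B hx hxp hy hyp hxy hv
  by_cases hex : ∃ d ∈ Q p, d ∈ Q t ∧ d ≠ 1 ∧ ∃ e ∈ Q p, e ∈ Q t ∧ e ≠ 1 ∧ d ≠ e
  · refine ⟨?_, hex⟩
    obtain ⟨d, h1, h2, hd, e, h3, h4, he, hde⟩ := hex
    exact c.W_le_U_aux B h1 h2 h3 h4 hd he hde hT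
  exfalso
  set S := qs (B.large p c.hp) with hS
  obtain ⟨v1, hv1⟩ := Com.T_ne B c.toCom
  by_cases hex1 : ∃ d ∈ Q p, d ∈ Q t ∧ d ≠ 1
  · obtain ⟨d, h1, h2, hd⟩ := hex1
    have hD : ∀ e ∈ Q p, e ∈ Q t → e = 1 ∨ e = d := by
      intro e h3 h4
      by_contra hcon
      push Not at hcon
      exact hex ⟨d, h1, h2, hd, e, h3, h4, hcon.1, Ne.symm hcon.2⟩
    set c0 := (B.large p c.hp).pr ⟨d, h1⟩ with hc0
    have hc00 : c0 ≠ 0 := by
      intro h
      rcases (B.large p c.hp).pr_eq_zero.1 h with h5 | h5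
      · exact hd h5
      · have h5' : d = p := h5
        rw [h5'] at h2
        exact Com.notMem B c.toCom.symm h2
    have hU : ∀ u ∈ Com.U B c.toCom, u = 0 ∨ u = c0 := by
      intro u hu
      obtain ⟨e, h3, h4, rfl⟩ := (Com.mem_U B c.toCom).1 hu
      rcases hD e h3 h4 with rfl | rfl
      · left; exact (B.large p c.hp).pr_eq_zero.2 (Or.inl rfl)
      · right; rfl
    have hcU : c0 ∈ Com.U B c.toCom := (Com.mem_U B c.toCom).2 ⟨d, h1, h2, rfl⟩
    have hcW : c0 ∈ QS.W (Com.T B c.toCom) := c.D_le B h1 h2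
    have hT' : ∀ v, S.b c0 v = 0 → Com.T B c.toCom v + v = 0 ∨ Com.T B c.toCom v + v = c0 := by
      intro v hv
      apply hU
      apply hT
      rw [S.mem_perp]
      intro u hu
      rcases hU u hu with rfl | rfl
      · rw [map_zero]; rfl
      · exact hv
    -- a vector `w ∈ W` outside `{0, c0}`
    obtain ⟨v0, hv0⟩ : ∃ v0, Com.T B c.toCom v0 + v0 ≠ 0 ∧ Com.T B c.toCom v0 + v0 ≠ c0 := by
      by_contra hcon
      push Not at hcon
      have h5 : Com.T B c.toCom = 1 := by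
        apply TwoCentral.eq_one_of_fix_perp (B.large p c.hp) (a := c0)
        · exact c.q_W B hcW
        · exact (Com.T_inv B c.toCom).iso
        · intro v hv
          rw [(Com.T_inv B c.toCom).fix_iff, QS.mem_perp]
          rintro _ ⟨w, rfl⟩
          show (B.large p c.hp).b (Com.T B c.toCom w + w) v = 0
          by_cases hw : Com.T B c.toCom w + w = 0
          · rw [hw, map_zero]; rfl
          · rw [hcon w hw]; exact hv
      apply hv1
      rw [h5]; rfl
    set w0 := Com.T B c.toCom v0 + v0 with hw0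
    have hb0 : S.b c0 v0 = 1 := by
      rcases zm_cases (S.b c0 v0) with h | h
      · rcases hT' v0 h with h' | h'
        · exact absurd h' hv0.1
        · exact absurd h' hv0.2
      · exact h
    have hcard : Nat.card (QS.W (Com.T B c.toCom)) = 4 := by
      apply card_four hcW (QS.f_mem_W _ v0) hc00 hv0.1 (Ne.symm hv0.2)
      rintro _ ⟨v, rfl⟩
      show Com.T B c.toCom v + v = 0 ∨ Com.T B c.toCom v + v = c0 ∨ Com.T B c.toCom v + v = w0 ∨
        Com.T B c.toCom v + v = c0 + w0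
      rcases zm_cases (S.b c0 v) with h | h
      · rcases hT' v h with h' | h'
        · exact Or.inl h'
        · exact Or.inr (Or.inl h')
      · have h5 : S.b c0 (v + v0) = 0 := by rw [map_add, h, hb0]; decide
        have h6 : Com.T B c.toCom (v + v0) + (v + v0) = (Com.T B c.toCom v + v) + w0 := by
          rw [map_add, hw0]; abel
        rcases hT' _ h5 with h' | h' <;> rw [h6] at h'
        · exact Or.inr (Or.inr (Or.inl (eq_of_add h')))
        · exact Or.inr (Or.inr (Or.inr (add_eq_iff.1 h')))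
    have hXp : ∀ x (hx : x ∈ Q t) (hxp : x * p = p * x), ∀ v ∈ S.perp (QS.W (Com.T B c.toCom)),
        ac (B.large p c.hp) x hxp v = v ∨ ac (B.large p c.hp) x hxp v = v + c0 := by
      intro x hx hxp v hv
      rcases hU _ (c.X_perp B hx hxp hv) with h | h
      · exact Or.inl (eq_of_add h)
      · right
        rw [add_comm v]
        exact add_eq_iff.1 h
    have hcomm := QS.siegel hcard (fun u hu => c.q_W B hu) hcW hc00 (ac_iso (B.large p c.hp) x hxp)
      (ac_iso (B.large p c.hp) y hyp) (Com.X_U B c.toCom hx hxp hcU) (Com.X_U B c.toCom hy hyp hcU)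
      (hXp x hx hxp) (hXp y hy hyp)
    apply hv1
    have hxyp : x * y * p = p * (x * y) := by rw [mul_assoc, hyp, ← mul_assoc, hxp, mul_assoc]
    have hyxp : y * x * p = p * (y * x) := by rw [mul_assoc, hxp, ← mul_assoc, hyp, mul_assoc]
    have hyxtp : y * x * t * p = p * (y * x * t) := by rw [← hxy]; exact hxyp
    have h5 : ac (B.large p c.hp) (x * y) hxyp v1 = ac (B.large p c.hp) (y * x) hyxp v1 := by
      rw [ac_mul _ _ _ hxp hyp, ac_mul _ _ _ hyp hxp, hcomm]
    have h6 : ac (B.large p c.hp) (x * y) hxyp v1 = ac (B.large p c.hp) (y * x * t) hyxtp v1 := by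
      have : ∀ (a b : G) (ha : a * p = p * a) (hb : b * p = p * b), a = b →
          ac (B.large p c.hp) a ha = ac (B.large p c.hp) b hb := by
        rintro a b ha hb rfl; rfl
      rw [this _ _ hxyp hyxtp hxy]
    rw [ac_mul _ _ _ hyxp c.com.symm, h5] at h6
    exact ((ac (B.large p c.hp) (y * x) hyxp).injective h6).symm
  · push Not at hex1
    apply hv1
    have h1 : v1 ∈ S.perp (Com.U B c.toCom) := by
      rw [S.mem_perp]
      intro u hu
      obtain ⟨e, h3, h4, rfl⟩ := (Com.mem_U B c.toCom).1 hu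
      have : (B.large p c.hp).pr ⟨e, h3⟩ = 0 := (B.large p c.hp).pr_eq_zero.2 (Or.inl (hex1 e h3 h4))
      rw [this, map_zero]; rfl
    obtain ⟨e, h3, h4, h5⟩ := (Com.mem_U B c.toCom).1 (hT v1 h1)
    have : (B.large p c.hp).pr ⟨e, h3⟩ = 0 := (B.large p c.hp).pr_eq_zero.2 (Or.inl (hex1 e h3 h4))
    rw [this] at h5
    exact eq_of_add h5.symm

end Good

end Cfsg.Agent.LargeExtra.WCIrr
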