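import Cfsg.Agent.LargeExtra.WCIrrB
import Cfsg.Agent.LargeExtra.LemmaR

/-!
# Large extraspecial 2-subgroups, case I, any width: good pairs of type U (helper821)

* `exists_good`: good pairs exist (Lemma R).
* `exists_typeU`: good pairs with `W = D̃`, `|D| = 4` on both sides exist.
-/

set_option autoImplicit false

namespace Cfsg.Agent.LargeExtra.WCIrr

open Cfsg.Agent.Co2Type.Quad Cfsg.Agent.LargeExtra.WC

variable {G : Type*} [Group G] {P : Set G} {Q : G → Subgroup G} {p t : G}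

/-- type U -/
structure TypeU (B : Base P Q) (c : Good P p t) : Prop where
  W_le : QS.W (Com.T B c.toCom) ≤ Com.U B c.toCom
  W_le' : QS.W (Com.T B c.symm.toCom) ≤ Com.U B c.symm.toCom
  ex : ∃ d ∈ Q p, d ∈ Q t ∧ d ≠ 1 ∧ ∃ e ∈ Q p, e ∈ Q t ∧ e ≠ 1 ∧ d ≠ e

/-- type F -/
structure TypeF (Q : G → Subgroup G) (p t : G) : Prop where
  comm : ∀ x ∈ Q p, ∀ y ∈ Q p, t * x = x * t → t * y = y * t → x * y = y * x
  comm' : ∀ x ∈ Q t, ∀ y ∈ Q t, p * x = x * p → p * y = y * p → x * y = y * x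

theorem TypeF.symm (f : TypeF Q p t) : TypeF Q t p := ⟨f.comm', f.comm⟩

theorem Base.cardV_eq [Finite G] (B : Base P Q) (hp : p ∈ P) (ht : t ∈ P) :
    Nat.card (B.large p hp).V = Nat.card (B.large t ht).V := by
  have h1 := (B.large p hp).card_eq
  have h2 := (B.large t ht).card_eq
  have h3 := B.card_eq hp ht
  omega

namespace Good

variable [Finite G] (B : Base P Q) (c : Good P p t)
include B c

/-- `X` nonabelian implies `R` nonabelian (`|V| ≥ 64`) -/
theorem exists_noncomm (h64 : 64 ≤ Nat.card (B.large p c.hp).V)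
    (hW : QS.W (Com.T B c.toCom) ≤ Com.U B c.toCom) :
    ∃ x ∈ Q p, ∃ y ∈ Q p, x * t = t * x ∧ y * t = t * y ∧ x * y = y * x * p := by
  by_contra hcon
  push Not at hcon
  set S := qs (B.large p c.hp) with hS
  have h1 : S.perp (QS.W (Com.T B c.toCom)) ≤ S.perp (S.perp (QS.W (Com.T B c.toCom))) := by
    intro v hv
    rw [S.mem_perp]
    intro u hu
    obtain ⟨x, hx, rfl⟩ := pr_surj _ v
    obtain ⟨y, hy, rfl⟩ := pr_surj _ u
    rw [c.fix_iff B] at hu hv
    have h3 := hcon x hx y hy hv.symm hu.symm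
    exact ((B.large p c.hp).b_pr _ _).2 (((B.large p c.hp).comm x hx y hy).resolve_right h3).symm
  rw [S.perp_perp] at h1
  have h2 := S.card_perp (QS.W (Com.T B c.toCom))
  have h3 : ∀ (M N : Submodule (ZMod 2) (B.large p c.hp).V), M ≤ N → Nat.card M ≤ Nat.card N :=
    fun M N h => Nat.card_le_card_of_injective (Submodule.inclusion h) (Submodule.inclusion_injective h)
  have h4 := h3 _ _ h1
  have h5 := h3 _ _ hW
  have h6 := c.card_U B
  have h7 : Nat.card (QS.W (Com.T B c.toCom)) * Nat.card (S.perp (QS.W (Com.T B c.toCom))) ≤ 4 * 4 :=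
    Nat.mul_le_mul (h5.trans h6) ((h4.trans h5).trans h6)
  omega

/-- **Dichotomy**: a good pair is of type U or of type F -/
theorem dichotomy (h64 : 64 ≤ Nat.card (B.large p c.hp).V) : TypeU B c ∨ TypeF Q p t := by
  have key : ∀ {p t : G} (c : Good P p t) (_ : 64 ≤ Nat.card (B.large p c.hp).V) (x : G) (_ : x ∈ Q t)
      (y : G) (_ : y ∈ Q t) (_ : x * p = p * x) (_ : y * p = p * y) (_ : x * y = y * x * t),
      TypeU B c := by
    intro p t c h64 x hx y hy hxp hyp hxy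
    obtain ⟨h1, h2⟩ := c.of_noncomm B hx hxp hy hyp hxy
    obtain ⟨x', hx', y', hy', h3, h4, h5⟩ := c.exists_noncomm B h64 h1
    exact ⟨h1, (c.symm.of_noncomm B hx' h3 hy' h4 h5).1, h2⟩
  by_cases h1 : ∃ x ∈ Q t, ∃ y ∈ Q t, x * p = p * x ∧ y * p = p * y ∧ x * y = y * x * t
  · obtain ⟨x, hx, y, hy, h2, h3, h4⟩ := h1
    exact Or.inl (key c h64 x hx y hy h2 h3 h4)
  by_cases h2 : ∃ x ∈ Q p, ∃ y ∈ Q p, x * t = t * x ∧ y * t = t * y ∧ x * y = y * x * p
  · obtain ⟨x, hx, y, hy, h2, h3, h4⟩ := h2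
    have h5 := key c.symm (by rw [B.cardV_eq c.ht c.hp]; exact h64) x hx y hy h2 h3 h4
    refine Or.inl ⟨h5.W_le', h5.W_le, ?_⟩
    obtain ⟨d, h6, h7, h8, e, h9, h10, h11, h12⟩ := h5.ex
    exact ⟨d, h7, h6, h8, e, h10, h9, h11, h12⟩
  · right
    refine ⟨fun x hx y hy h3 h4 => ?_, fun x hx y hy h3 h4 => ?_⟩
    · refine ((B.large p c.hp).comm x hx y hy).resolve_right fun h5 => h2 ⟨x, hx, y, hy, h3.symm, h4.symm, h5⟩
    · refine ((B.large t c.ht).comm x hx y hy).resolve_right fun h5 => h1 ⟨x, hx, y, hy, h3.symm, h4.symm, h5⟩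

/-- type F: `W = W^⊥` -/
theorem W_eq (f : TypeF Q p t) : (qs (B.large p c.hp)).perp (QS.W (Com.T B c.toCom)) =
    QS.W (Com.T B c.toCom) := by
  set S := qs (B.large p c.hp) with hS
  apply le_antisymm
  · have h1 : S.perp (QS.W (Com.T B c.toCom)) ≤ S.perp (S.perp (QS.W (Com.T B c.toCom))) := by
      intro v hv
      rw [S.mem_perp]
      intro u hu
      obtain ⟨x, hx, rfl⟩ := pr_surj _ v
      obtain ⟨y, hy, rfl⟩ := pr_surj _ u
      rw [c.fix_iff B] at hu hv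
      exact ((B.large p c.hp).b_pr _ _).2 (f.comm x hx y hy hv hu).symm
    rwa [S.perp_perp] at h1
  · exact (Com.T_inv B c.toCom).W_le

theorem card_W (f : TypeF Q p t) : Nat.card (QS.W (Com.T B c.toCom)) * Nat.card (QS.W (Com.T B c.toCom)) =
    Nat.card (B.large p c.hp).V := by
  have h1 := (qs (B.large p c.hp)).card_perp (QS.W (Com.T B c.toCom))
  rwa [c.W_eq B f] at h1

/-- `|R| = 2 |W^⊥|` -/
theorem card_R : Nat.card ↥(Subgroup.centralizer ({t} : Set G) ⊓ Q p) =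
    2 * Nat.card ((qs (B.large p c.hp)).perp (QS.W (Com.T B c.toCom))) := by
  have hz : p ∈ Subgroup.centralizer ({t} : Set G) := Subgroup.mem_centralizer_singleton_iff.2 c.com
  rw [Local.card_sub (B.large p c.hp) hz]
  congr 1
  have h1 : Local.sub (B.large p c.hp) (Subgroup.centralizer ({t} : Set G)) =
      (qs (B.large p c.hp)).perp (QS.W (Com.T B c.toCom)) := by
    ext v
    obtain ⟨x, hx, rfl⟩ := pr_surj _ v
    rw [c.fix_iff B, Local.pr_mem_sub _ hz, Subgroup.mem_centralizer_singleton_iff]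
    exact eq_comm
  rw [h1]

theorem card_R_eq (f : TypeF Q p t) : Nat.card ↥(Subgroup.centralizer ({t} : Set G) ⊓ Q p) =
    Nat.card ↥(Subgroup.centralizer ({p} : Set G) ⊓ Q t) := by
  rw [c.card_R B, c.symm.card_R B, c.W_eq B f, c.symm.W_eq B f.symm]
  congr 1
  have h1 := c.card_W B f
  have h2 := c.symm.card_W B f.symm
  rw [B.cardV_eq c.ht c.hp, ← h1] at h2
  exact (Nat.mul_self_inj.1 h2).symm

end Good

/-- **The shift**: a good pair of type F gives a good pair with larger `D`. -/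
theorem Good.shift [Finite G] (B : Base P Q) (c : Good P p t) (h64 : 64 ≤ Nat.card (B.large p c.hp).V)
    (f : TypeF Q p t) : ∃ s, Good P t s ∧ Nat.card ↥(Q p ⊓ Q t) < Nat.card ↥(Q t ⊓ Q s) := by
  classical
  set S := qs (B.large p c.hp) with hS
  have hWW := c.W_eq B f
  -- `q` commutes with `D`, not with `t`
  obtain ⟨q, hq, hqD, hqt⟩ : ∃ q ∈ Q p, (∀ d ∈ Q p, d ∈ Q t → q * d = d * q) ∧ t * q ≠ q * t := by
    by_contra hcon
    push Not at hcon
    have h1 : S.perp (Com.U B c.toCom) ≤ S.perp (QS.W (Com.T B c.toCom)) := by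
      intro v hv
      obtain ⟨x, hx, rfl⟩ := pr_surj _ v
      rw [c.fix_iff B]
      apply hcon x hx
      intro d h1 h2
      have h9 : (B.large p c.hp).b ((B.large p c.hp).pr ⟨d, h1⟩) ((B.large p c.hp).pr ⟨x, hx⟩) = 0 :=
        S.mem_perp.1 hv _ ((Com.mem_U B c.toCom).2 ⟨d, h1, h2, rfl⟩)
      have h10 : d * x = x * d := ((B.large p c.hp).b_pr _ _).1 h9
      exact h10.symm
    have h2 : QS.W (Com.T B c.toCom) ≤ Com.U B c.toCom := by
      intro w hw
      rw [← S.perp_perp (Com.U B c.toCom), S.mem_perp]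
      intro u hu
      rw [S.b_comm]
      exact S.mem_perp.1 (h1 hu) w hw
    have h3 : Nat.card (QS.W (Com.T B c.toCom)) ≤ 4 :=
      (Nat.card_le_card_of_injective (Submodule.inclusion h2) (Submodule.inclusion_injective h2)).trans
        (c.card_U B)
    have h4 := c.card_W B f
    have h5 := Nat.mul_le_mul h3 h3
    omega
  -- `[q, x]` for `x ∈ X`
  have hcom : ∀ x ∈ Q t, x * p = p * x → q * x * q⁻¹ * x⁻¹ ∈ Q p ∧
      t * (q * x * q⁻¹ * x⁻¹) = (q * x * q⁻¹ * x⁻¹) * t ∧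
      q * (q * x * q⁻¹ * x⁻¹) = (q * x * q⁻¹ * x⁻¹) * q := by
    intro x hx hxp
    have h1 : x * q⁻¹ * x⁻¹ ∈ Q p := (B.large p c.hp).conj_mem x hxp _ (inv_mem hq)
    have h2 : q * x * q⁻¹ * x⁻¹ ∈ Q p := by
      have := mul_mem hq h1
      have e : q * (x * q⁻¹ * x⁻¹) = q * x * q⁻¹ * x⁻¹ := by group
      rwa [e] at this
    have h3 : (B.large p c.hp).pr ⟨q * x * q⁻¹ * x⁻¹, h2⟩ =
        ac (B.large p c.hp) x hxp ((B.large p c.hp).pr ⟨q, hq⟩) + (B.large p c.hp).pr ⟨q, hq⟩ := by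
      have e1 : (⟨q * x * q⁻¹ * x⁻¹, h2⟩ : Q p) = ⟨q, hq⟩ * ⟨x * q * x⁻¹,
          (B.large p c.hp).conj_mem x hxp _ hq⟩⁻¹ := by
        apply Subtype.ext
        show q * x * q⁻¹ * x⁻¹ = q * (x * q * x⁻¹)⁻¹
        group
      rw [e1, (B.large p c.hp).pr_mul, (B.large p c.hp).pr_inv, (B.large p c.hp).neg_eq, ac_pr, add_comm]
    have h4 : (B.large p c.hp).pr ⟨q, hq⟩ ∈ S.perp (Com.U B c.toCom) := by
      rw [S.mem_perp]
      intro u hu
      obtain ⟨d, h5, h6, rfl⟩ := (Com.mem_U B c.toCom).1 hu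
      exact ((B.large p c.hp).b_pr _ _).2 (hqD d h5 h6).symm
    have h5 := duality (ac_iso (B.large p c.hp) x hxp) (fun u hu => Com.X_U B c.toCom hx hxp hu)
      (fun r hr => c.X_perp B hx hxp hr) h4
    refine ⟨h2, ?_, ?_⟩
    · rw [← c.fix_iff B h2, h3, hWW]
      exact h5
    · have h6 := (ac_iso (B.large p c.hp) x hxp).q_f ((B.large p c.hp).pr ⟨q, hq⟩)
      have h7 : (qs (B.large p c.hp)).q (ac (B.large p c.hp) x hxp ((B.large p c.hp).pr ⟨q, hq⟩) +
          (B.large p c.hp).pr ⟨q, hq⟩) = 0 := c.q_W B h5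
      rw [h7, ← h3] at h6
      exact ((B.large p c.hp).b_pr _ _).1 h6.symm
  set s := q * t * q⁻¹ with hs
  have hsP : s ∈ P := B.conj_mem t c.ht q
  have hts : t * s = t * q * t⁻¹ * q⁻¹ := by rw [hs, B.inv c.ht]; group
  have hgood : Good P t s := by
    refine ⟨⟨c.ht, hsP, ?_, ?_⟩, ?_⟩
    · intro h
      apply hqt
      have : s * q = q * t := by rw [hs]; group
      rw [← this, ← h]
    · have h1 := c.sq_comm B hq
      rw [← hts] at h1
      have h2 : (t * s)⁻¹ = t * s := inv_eq_of_mul_eq_one_left h1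
      rw [mul_inv_rev, B.inv c.ht, B.inv hsP] at h2
      exact h2.symm
    · intro h
      have h1 : t * s ∈ Q p := by rw [hts]; exact Com.u_mem B c.toCom hq
      have h2 := B.eq_of_mem p c.hp _ h h1
      rw [hts] at h2
      exact c.ne_p B q h2
  refine ⟨s, hgood, ?_⟩
  -- `D ≤ Q s`
  have hDs : ∀ d ∈ Q p, d ∈ Q t → d ∈ Q s := by
    intro d h1 h2
    have : d = q * d * q⁻¹ := by rw [hqD d h1 h2]; group
    rw [this]
    exact B.Q_conj t c.ht q d h2
  by_contra hcard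
  push Not at hcard
  -- the groups
  set X : Subgroup G := Subgroup.centralizer ({p} : Set G) ⊓ Q t with hX
  set K : Subgroup G := (Subgroup.centralizer ({t} : Set G) ⊓ Q p) ⊓ Subgroup.centralizer ({q} : Set G) with hK
  set D : Subgroup G := Q p ⊓ Q t with hD
  have hDX : D ≤ X := by
    intro d hd
    obtain ⟨h1, h2⟩ := Subgroup.mem_inf.1 hd
    exact Subgroup.mem_inf.2 ⟨Subgroup.mem_centralizer_singleton_iff.2 (Com.D_p B c.toCom h1), h2⟩
  have hDK : D ≤ K := by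
    intro d hd
    obtain ⟨h1, h2⟩ := Subgroup.mem_inf.1 hd
    exact Subgroup.mem_inf.2 ⟨Subgroup.mem_inf.2 ⟨Subgroup.mem_centralizer_singleton_iff.2
      (Com.D_t B c.toCom h2), h1⟩, Subgroup.mem_centralizer_singleton_iff.2 (hqD d h1 h2).symm⟩
  -- `D = Q t ∩ Q s`
  have hDle : D ≤ Q t ⊓ Q s := by
    intro d hd
    obtain ⟨h1, h2⟩ := Subgroup.mem_inf.1 hd
    exact Subgroup.mem_inf.2 ⟨h2, hDs d h1 h2⟩
  have hDeq : Q t ⊓ Q s = D := (Subgroup.eq_of_le_of_card_ge hDle hcard).symm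
  have hmem : ∀ x ∈ X, q * x * q⁻¹ * x⁻¹ ∈ D → x ∈ D := by
    intro x hx h1
    obtain ⟨hx1, hx2⟩ := Subgroup.mem_inf.1 hx
    rw [← hDeq]
    refine Subgroup.mem_inf.2 ⟨hx2, ?_⟩
    have h2 : q * x * q⁻¹ ∈ Q s := B.Q_conj t c.ht q x hx2
    have h3 : q * x * q⁻¹ * x⁻¹ ∈ Q s := by
      obtain ⟨h4, h5⟩ := Subgroup.mem_inf.1 h1
      exact hDs _ h4 h5
    have h4 := mul_mem (inv_mem h3) h2
    have e : (q * x * q⁻¹ * x⁻¹)⁻¹ * (q * x * q⁻¹) = x := by group
    rwa [e] at h4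
  have hXK : ∀ x : X, q * (x : G) * q⁻¹ * (x : G)⁻¹ ∈ K := by
    rintro ⟨x, hx⟩
    obtain ⟨hx1, hx2⟩ := Subgroup.mem_inf.1 hx
    obtain ⟨h1, h2, h3⟩ := hcom x hx2 (Subgroup.mem_centralizer_singleton_iff.1 hx1)
    exact Subgroup.mem_inf.2 ⟨Subgroup.mem_inf.2 ⟨Subgroup.mem_centralizer_singleton_iff.2 h2.symm, h1⟩,
      Subgroup.mem_centralizer_singleton_iff.2 h3.symm⟩
  -- conjugation by `x ∈ X` on `K` modulo `D`
  have hconj : ∀ x ∈ X, ∀ k ∈ K, x * k * x⁻¹ ∈ D ↔ k ∈ D := by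
    intro x hx k hk
    obtain ⟨hx1, hx2⟩ := Subgroup.mem_inf.1 hx
    obtain ⟨hk1, hk2⟩ := Subgroup.mem_inf.1 (Subgroup.mem_inf.1 hk).1
    have h1 : x * k * x⁻¹ * k⁻¹ ∈ D := Com.RX B c.toCom hk2
      (Subgroup.mem_centralizer_singleton_iff.1 hk1) hx2 (Subgroup.mem_centralizer_singleton_iff.1 hx1)
    have e : x * k * x⁻¹ = x * k * x⁻¹ * k⁻¹ * k := by group
    rw [e, Subgroup.mul_mem_cancel_left _ h1]
  have hdiff : ∀ x ∈ X, ∀ y ∈ X, x⁻¹ * y ∈ D ↔
      (q * x * q⁻¹ * x⁻¹)⁻¹ * (q * y * q⁻¹ * y⁻¹) ∈ D := by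
    intro x hx y hy
    have hxy : x⁻¹ * y ∈ X := mul_mem (inv_mem hx) hy
    have e : (q * x * q⁻¹ * x⁻¹)⁻¹ * (q * y * q⁻¹ * y⁻¹) =
        x * (q * (x⁻¹ * y) * q⁻¹ * (x⁻¹ * y)⁻¹) * x⁻¹ := by group
    rw [e, hconj x hx _ (hXK ⟨_, hxy⟩)]
    constructor
    · intro h
      have h1 : q * (x⁻¹ * y) * q⁻¹ * (x⁻¹ * y)⁻¹ = 1 := by
        obtain ⟨h2, h3⟩ := Subgroup.mem_inf.1 h
        rw [hqD _ h2 h3]; group
      rw [h1]; exact one_mem _
    · exact hmem _ hxy
  have hle : Nat.card (X ⧸ D.subgroupOf X) ≤ Nat.card (K ⧸ D.subgroupOf K) := by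
    let F : X ⧸ D.subgroupOf X → K ⧸ D.subgroupOf K :=
      Quotient.map' (fun x : X => (⟨q * (x : G) * q⁻¹ * (x : G)⁻¹, hXK x⟩ : K)) (by
        intro x y h
        rw [QuotientGroup.leftRel_apply] at h ⊢
        exact (hdiff x x.2 y y.2).1 h)
    apply Nat.card_le_card_of_injective F
    intro a b hab
    obtain ⟨x, rfl⟩ := QuotientGroup.mk_surjective a
    obtain ⟨y, rfl⟩ := QuotientGroup.mk_surjective b
    have h1 : ((⟨q * (x : G) * q⁻¹ * (x : G)⁻¹, hXK x⟩ : K) : K ⧸ D.subgroupOf K) =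
        ((⟨q * (y : G) * q⁻¹ * (y : G)⁻¹, hXK y⟩ : K) : K ⧸ D.subgroupOf K) := hab
    rw [QuotientGroup.eq] at h1 ⊢
    exact (hdiff x x.2 y y.2).2 h1
  have hXle : Nat.card X ≤ Nat.card K := by
    rw [Subgroup.card_eq_card_quotient_mul_card_subgroup (D.subgroupOf X),
      Subgroup.card_eq_card_quotient_mul_card_subgroup (D.subgroupOf K),
      Nat.card_congr (Subgroup.subgroupOfEquivOfLe hDX).toEquiv,
      Nat.card_congr (Subgroup.subgroupOfEquivOfLe hDK).toEquiv]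
    exact Nat.mul_le_mul_right _ hle
  have hRX := c.card_R_eq B f
  have hKR : K ≤ Subgroup.centralizer ({t} : Set G) ⊓ Q p := inf_le_left
  have hKeq : K = Subgroup.centralizer ({t} : Set G) ⊓ Q p :=
    Subgroup.eq_of_le_of_card_ge hKR (by rw [hRX]; exact hXle)
  -- `q` commutes with `R`, so with `t`
  apply hqt
  rw [← c.fix_iff B hq, S.mem_perp]
  intro u hu
  rw [← hWW] at hu
  obtain ⟨x, hx, rfl⟩ := pr_surj _ u
  rw [c.fix_iff B] at hu
  have h1 : x ∈ K := by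
    rw [hKeq]
    exact Subgroup.mem_inf.2 ⟨Subgroup.mem_centralizer_singleton_iff.2 hu.symm, hx⟩
  exact ((B.large p c.hp).b_pr _ _).2 (Subgroup.mem_centralizer_singleton_iff.1 (Subgroup.mem_inf.1 h1).2)

/-- Good pairs of type U exist if good pairs exist. -/
theorem exists_typeU [Finite G] (B : Base P Q) (h64 : ∀ p (hp : p ∈ P), 64 ≤ Nat.card (B.large p hp).V)
    (hex : ∃ p t, Good P p t) : ∃ p t, ∃ c : Good P p t, TypeU B c := by
  classical
  have hfin : Finite G := inferInstance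
  by_contra hcon
  push Not at hcon
  have key : ∀ n : ℕ, ∃ p t, Good P p t ∧ n ≤ Nat.card ↥(Q p ⊓ Q t) := by
    intro n
    induction n with
    | zero =>
      obtain ⟨p, t, c⟩ := hex
      exact ⟨p, t, c, Nat.zero_le _⟩
    | succ n ih =>
      obtain ⟨p, t, c, hn⟩ := ih
      rcases c.dichotomy B (h64 p c.hp) with h | h
      · exact absurd h (hcon p t c)
      · obtain ⟨s, c', h'⟩ := c.shift B (h64 p c.hp) h
        exact ⟨t, s, c', by omega⟩
  obtain ⟨p, t, c, h⟩ := key (Nat.card G + 1)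
  have := Subgroup.card_le_card_group (Q p ⊓ Q t)
  omega

/-- Good pairs exist (Lemma R and Z*). -/
theorem exists_good [Finite G] (B : Base P Q) (hG : ∀ H : Subgroup G, H.index ≠ 2)
    (h64 : ∀ p (hp : p ∈ P), 64 ≤ Nat.card (B.large p hp).V) (c : Com P p t) : ∃ s, Good P p s := by
  set h := B.large t c.ht with hh
  have c' := c.symm
  -- a vector `v` of `V_t` with `[p, v] ≠ 0` singular
  obtain ⟨v, hv0, hvq⟩ : ∃ v, Com.T B c.symm v + v ≠ 0 ∧ h.q (Com.T B c.symm v + v) = 0 := by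
    by_contra hcon
    push Not at hcon
    obtain ⟨v1, hv1⟩ := Com.T_ne B c.symm
    set w := Com.T B c.symm v1 + v1 with hw
    have hw0 : w ≠ 0 := fun h => hv1 (eq_of_add h)
    have hqw : h.q w = 1 := by
      rcases zm_cases (h.q w) with h1 | h1
      · exact absurd h1 (hcon v1 hw0)
      · exact h1
    have hT := Com.T_inv B c.symm
    -- `W = {0, w}`
    have hW : ∀ v, Com.T B c.symm v + v = 0 ∨ Com.T B c.symm v + v = w := by
      intro v
      by_contra hne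
      push Not at hne
      have h1 : h.q (Com.T B c.symm v + v) = 1 := by
        rcases zm_cases (h.q (Com.T B c.symm v + v)) with h1 | h1
        · exact absurd h1 (hcon v hne.1)
        · exact h1
      have h2 : Com.T B c.symm (v + v1) + (v + v1) = (Com.T B c.symm v + v) + w := by
        rw [map_add, hw]; abel
      have h3 : h.b (Com.T B c.symm v + v) w = 0 := hT.isotropic (QS.f_mem_W _ _) (QS.f_mem_W _ _)
      apply hcon (v + v1)
      · rw [h2]
        exact fun h4 => hne.2 (eq_of_add h4)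
      · rw [h2, h.q_add', h1, hqw, h3]; decide
    have hfix : ∀ v, h.b w v = 0 → Com.T B c.symm v = v := by
      intro v hv
      rw [hT.fix_iff, QS.mem_perp]
      rintro _ ⟨u, rfl⟩
      show h.b (Com.T B c.symm u + u) v = 0
      rcases hW u with h1 | h1
      · rw [h1, map_zero]; rfl
      · rw [h1]; exact hv
    rcases TwoCentral.eq_or_refl_of_fix_perp h (Com.T B c.symm) (fun v w => hT.iso.b_eq v w) hfix with h1 | h1
    · apply hv1
      rw [h1]; rfl
    · have h8 : 8 < Nat.card (Q t) := by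
        have h2 := h.card_eq
        have h3 := h64 t c.ht
        omega
      exact LemmaR.no_reflection hG h h8 hqw h1
  obtain ⟨y, hy, rfl⟩ := pr_surj _ v
  rw [Com.T, ac_add] at hv0 hvq
  have ha2 := h.q_eq_zero.1 hvq
  have ha2' : (p * y * p⁻¹ * y⁻¹) * (p * y * p⁻¹ * y⁻¹) = 1 := ha2
  have ha : p * y * p⁻¹ * y⁻¹ ∈ Q t := Com.u_mem B c.symm hy
  set a := p * y * p⁻¹ * y⁻¹ with haa
  have hs := Com.conj_eq B c.symm y
  rw [← haa] at hs
  have hsP : y * p * y⁻¹ ∈ P := B.conj_mem p c.hp y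
  refine ⟨y * p * y⁻¹, ⟨c.hp, hsP, ?_, ?_⟩, ?_⟩
  · intro h1
    rw [hs] at h1
    apply hv0
    exact h.pr_eq_zero.2 (Or.inl (mul_eq_left.1 h1.symm))
  · have h1 : p * (y * p * y⁻¹) = a := by rw [hs, ← mul_assoc, B.sq c.hp, one_mul]
    have h2 : (p * (y * p * y⁻¹))⁻¹ = p * (y * p * y⁻¹) := by
      rw [h1]; exact inv_eq_of_mul_eq_one_left ha2'
    rw [mul_inv_rev, B.inv c.hp, B.inv hsP] at h2
    exact h2.symm
  · have h1 : p * (y * p * y⁻¹) = a := by rw [hs, ← mul_assoc, B.sq c.hp, one_mul]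
    rw [h1]
    intro h2
    have h3 := B.eq_of_mem t c.ht _ h2 ha
    apply hv0
    exact h.pr_eq_zero.2 (Or.inr h3)

end Cfsg.Agent.LargeExtra.WCIrr
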