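import Cfsg.Agent.LargeExtra.WCIrrC
import Cfsg.Agent.LargeExtra.Perp

/-!
# Large extraspecial 2-subgroups, case I, any width: irreducibility (helper821)
-/

set_option autoImplicit false

namespace Cfsg.Agent.LargeExtra.WCIrr

open Cfsg.Agent.Co2Type.Quad Cfsg.Agent.LargeExtra.WC

variable {G : Type*} [Group G] {P : Set G} {Q : G → Subgroup G} {p t : G}

/-- `A` is a subgroup of `Q p` invariant under `C(p)` containing `p` -/
structure Inva (Q : G → Subgroup G) (p : G) (A : Subgroup G) : Prop where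
  p_mem : p ∈ A
  le : A ≤ Q p
  inv : ∀ c, c * p = p * c → ∀ x ∈ A, c * x * c⁻¹ ∈ A

namespace Good

variable [Finite G] (B : Base P Q) (c : Good P p t)
include B c

/-- if `d ∈ A ∩ D` is nontrivial, then `e ∈ A` for all `e ∈ D` -/
theorem mem_of_mem {A : Subgroup G} (hA : Inva Q p A) {d e : G} (h1 : d ∈ Q p) (h2 : d ∈ Q t)
    (h3 : e ∈ Q p) (h4 : e ∈ Q t) (hd : d ≠ 1) (he : e ≠ 1) (hde : d ≠ e) (hdA : d ∈ A) : e ∈ A := by
  have hpp := B.sq c.hp
  have htt := B.sq c.ht
  have hdd := Com.D_sq B c.toCom h1 h2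
  have hee := Com.D_sq B c.toCom h3 h4
  have hpt := c.com
  have hdp := Com.D_p B c.toCom h1
  have hep := Com.D_p B c.toCom h3
  have hdt := Com.D_t B c.toCom h2
  have het := Com.D_t B c.toCom h4
  have hdeC := Com.D_comm B c.toCom h1 h2 h3 h4
  -- `x = x_d ∈ Q p`, `y = y_d ∈ Q t`, `w = y_e ∈ Q t`
  obtain ⟨x, hx, hxt⟩ := c.exists_x B h1 h2 hd
  obtain ⟨y, hy, hyp⟩ := c.symm.exists_x B h2 h1 hd
  obtain ⟨w, hw, hwp⟩ := c.symm.exists_x B h4 h3 he
  have hxd : x * d * x⁻¹ = d := by rw [c.comm_x B hx h1 hxt]; group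
  have hyd : y * d * y⁻¹ = d := by rw [c.symm.comm_x B hy h2 hyp]; group
  have hye : y * e * y⁻¹ = e * t := c.symm.comm_x' B hy h4 h3 h2 h1 he (Ne.symm hde) hyp
  have hxe : x * e * x⁻¹ = e * p := c.comm_x' B hx h3 h4 h1 h2 he (Ne.symm hde) hxt
  have hwd : w * d * w⁻¹ = d * t := c.symm.comm_x' B hw h2 h1 h4 h3 hd hde hwp
  have hwe : w * e * w⁻¹ = e := by rw [c.symm.comm_x B hw h4 hwp]; group
  have hxp : x * p * x⁻¹ = p := by rw [(B.large p c.hp).comm_z x hx]; group
  have hyt : y * t * y⁻¹ = t := by rw [(B.large t c.ht).comm_z y hy]; group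
  have hwt : w * t * w⁻¹ = t := by rw [(B.large t c.ht).comm_z w hw]; group
  -- `g = x y` fixes `r = p (e t)`
  have hyr : y * (p * (e * t)) * y⁻¹ = p * (d * e) * t := by
    calc y * (p * (e * t)) * y⁻¹ = (y * p * y⁻¹) * ((y * e * y⁻¹) * (y * t * y⁻¹)) := by group
      _ = p * (d * t) * (e * t * t) := by rw [hyp, hye, hyt]
      _ = p * (d * t) * (e * (t * t)) := by group
      _ = p * d * (t * e) := by rw [htt]; group
      _ = p * (d * e) * t := by rw [← het]; group
  have hxr : x * (p * (d * e) * t) * x⁻¹ = p * (e * t) := by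
    calc x * (p * (d * e) * t) * x⁻¹ = (x * p * x⁻¹) * ((x * d * x⁻¹) * (x * e * x⁻¹)) * (x * t * x⁻¹) := by
          group
      _ = p * (d * (e * p)) * (t * (d * p)) := by rw [hxp, hxd, hxe, hxt]
      _ = p * (d * e) * (p * t) * (d * p) := by group
      _ = p * (d * e) * (t * p) * (d * p) := by rw [hpt]
      _ = p * (d * e) * t * (p * (d * p)) := by group
      _ = p * (d * e) * t * (p * (p * d)) := by rw [hdp]
      _ = p * (d * e) * t * ((p * p) * d) := by group
      _ = p * (d * e) * (t * d) := by rw [hpp]; group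
      _ = p * (e * d) * (d * t) := by rw [hdeC, hdt]
      _ = p * e * (d * d) * t := by group
      _ = p * (e * t) := by rw [hdd]; group
  have hgr : (x * y) * (p * (e * t)) * (x * y)⁻¹ = p * (e * t) := by
    calc (x * y) * (p * (e * t)) * (x * y)⁻¹ = x * (y * (p * (e * t)) * y⁻¹) * x⁻¹ := by group
      _ = _ := by rw [hyr, hxr]
  have hgd : (x * y) * (d * t) * (x * y)⁻¹ = t * p := by
    calc (x * y) * (d * t) * (x * y)⁻¹ = x * ((y * d * y⁻¹) * (y * t * y⁻¹)) * x⁻¹ := by group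
      _ = (x * d * x⁻¹) * (x * t * x⁻¹) := by rw [hyd, hyt]; group
      _ = d * (t * (d * p)) := by rw [hxd, hxt]
      _ = (d * t) * d * p := by group
      _ = t * (d * d) * p := by rw [hdt]; group
      _ = t * p := by rw [hdd]; group
  -- `w⁻¹ p w = p (e t)`
  have hwr : w * (p * (e * t)) * w⁻¹ = p := by
    calc w * (p * (e * t)) * w⁻¹ = (w * p * w⁻¹) * ((w * e * w⁻¹) * (w * t * w⁻¹)) := by group
      _ = p * (e * t) * (e * t) := by rw [hwp, hwe, hwt]
      _ = p * (e * t) * (t * e) := by rw [het]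
      _ = p * e * (t * t) * e := by group
      _ = p * (e * e) := by rw [htt]; group
      _ = p := by rw [hee, mul_one]
  have hwp' : w⁻¹ * p * w = p * (e * t) := by
    calc w⁻¹ * p * w = w⁻¹ * (w * (p * (e * t)) * w⁻¹) * w := by rw [hwr]
      _ = _ := by group
  -- `k = w⁻¹ (x y) w` centralises `p`
  have hk : (w⁻¹ * (x * y) * w) * p * (w⁻¹ * (x * y) * w)⁻¹ = p := by
    calc (w⁻¹ * (x * y) * w) * p * (w⁻¹ * (x * y) * w)⁻¹ =
        w⁻¹ * ((x * y) * (w * p * w⁻¹) * (x * y)⁻¹) * w := by group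
      _ = w⁻¹ * ((x * y) * (p * (e * t)) * (x * y)⁻¹) * w := by rw [hwp]
      _ = w⁻¹ * (p * (e * t)) * w := by rw [hgr]
      _ = w⁻¹ * (w * p * w⁻¹) * w := by rw [hwp]
      _ = p := by group
  have hk' : (w⁻¹ * (x * y) * w) * p = p * (w⁻¹ * (x * y) * w) := by
    rw [mul_inv_eq_iff_eq_mul] at hk; exact hk
  have h5 := hA.inv _ hk' d hdA
  have h6 : (w⁻¹ * (x * y) * w) * d * (w⁻¹ * (x * y) * w)⁻¹ = p * e := by
    calc (w⁻¹ * (x * y) * w) * d * (w⁻¹ * (x * y) * w)⁻¹ =
        w⁻¹ * ((x * y) * (w * d * w⁻¹) * (x * y)⁻¹) * w := by group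
      _ = w⁻¹ * ((x * y) * (d * t) * (x * y)⁻¹) * w := by rw [hwd]
      _ = w⁻¹ * (t * p) * w := by rw [hgd]
      _ = (w⁻¹ * (w * t * w⁻¹) * w) * (w⁻¹ * p * w) := by rw [hwt]; group
      _ = t * (p * (e * t)) := by rw [hwp']; group
      _ = (t * p) * (e * t) := by group
      _ = (p * t) * (t * e) := by rw [← hpt, het]
      _ = p * (t * t) * e := by group
      _ = p * e := by rw [htt]; group
  rw [h6] at h5
  exact (Subgroup.mul_mem_cancel_left _ hA.p_mem).1 h5

/-- type U: `A ∩ D = 1` implies `A = ⟨p⟩` -/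
theorem eq_of_inf (u : TypeU B c) {A : Subgroup G} (hA : Inva Q p A)
    (hAD : ∀ d ∈ Q p, d ∈ Q t → d ∈ A → d = 1) : ∀ m ∈ A, m = 1 ∨ m = p := by
  intro m hm
  have hmp := hA.le hm
  have htp : t * p = p * t := c.com.symm
  -- `m` commutes with `t`
  have hmt : t * m = m * t := by
    have h1 : t * m * t⁻¹ * m⁻¹ ∈ A := mul_mem (hA.inv t htp m hm) (inv_mem hm)
    have h2 : (B.large p c.hp).pr ⟨t * m * t⁻¹ * m⁻¹, Com.u_mem B c.toCom hmp⟩ ∈ Com.U B c.toCom := by
      apply u.W_le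
      rw [← ac_add (B.large p c.hp) t htp m hmp]
      exact QS.f_mem_W _ _
    obtain ⟨d, h3, h4, h5⟩ := (Com.mem_U B c.toCom).1 h2
    rw [(B.large p c.hp).pr_eq_pr] at h5
    have h6 : d ∈ A := by
      rcases h5 with h6 | h6
      · have h7 : d = t * m * t⁻¹ * m⁻¹ := h6
        rw [h7]; exact h1
      · have h7 : d = t * m * t⁻¹ * m⁻¹ * p := h6
        rw [h7]; exact mul_mem h1 hA.p_mem
    have h7 := hAD d h3 h4 h6
    rcases h5 with h8 | h8
    · have h9 : d = t * m * t⁻¹ * m⁻¹ := h8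
      rw [h7] at h9
      rw [eq_comm, mul_inv_eq_one, mul_inv_eq_iff_eq_mul] at h9
      exact h9
    · exfalso
      have h9 : d = t * m * t⁻¹ * m⁻¹ * p := h8
      rw [h7] at h9
      apply c.ne_p B m
      rw [eq_inv_of_mul_eq_one_left h9.symm, B.inv c.hp]
  have hmt' : m * t = t * m := hmt.symm
  -- `m` commutes with `X`
  have hmX : ∀ x ∈ Q t, x * p = p * x → m * x = x * m := by
    intro x hx hxp
    have h1 := Subgroup.mem_inf.1 (Com.RX B c.toCom hmp hmt' hx hxp)
    have h2 : x * m * x⁻¹ * m⁻¹ ∈ A := mul_mem (hA.inv x hxp m hm) (inv_mem hm)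
    have h3 := hAD _ h1.1 h1.2 h2
    rw [mul_inv_eq_one, mul_inv_eq_iff_eq_mul] at h3
    exact h3.symm
  -- action on `V_t`
  set S' := qs (B.large t c.ht) with hS'
  set T' := Com.T B c.symm.toCom with hT'
  set M := ac (B.large t c.ht) m hmt' with hM
  have hMiso : S'.Iso M := ac_iso _ _ _
  have hMfix : ∀ v ∈ S'.perp (QS.W T'), M v = v := by
    intro v hv
    obtain ⟨x, hx, rfl⟩ := pr_surj _ v
    rw [c.symm.fix_iff B] at hv
    rw [hM, ac_pr]
    congr 1
    apply Subtype.ext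
    show m * x * m⁻¹ = x
    rw [hmX x hx hv.symm]; group
  -- `|W_t| = 4`
  have hcardW : Nat.card (QS.W T') = 4 := by
    obtain ⟨d, h1, h2, hd, e, h3, h4, he, hde⟩ := u.ex
    have hle := u.W_le'
    have h5 := c.symm.card_U B
    have key : ∀ (d : G) (h1 : d ∈ Q t), d ∈ Q p → d ≠ 1 → (B.large t c.ht).pr ⟨d, h1⟩ ≠ 0 := by
      intro d h1 h2 hd h
      rcases (B.large t c.ht).pr_eq_zero.1 h with h6 | h6
      · exact hd h6
      · have h7 : d = t := h6
        rw [h7] at h2
        exact Com.notMem B c.toCom h2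
    have hdW := c.symm.D_le B h2 h1
    have heW := c.symm.D_le B h4 h3
    have hne : (B.large t c.ht).pr ⟨d, h2⟩ ≠ (B.large t c.ht).pr ⟨e, h4⟩ := by
      intro h
      rcases (B.large t c.ht).pr_eq_pr.1 h with h6 | h6
      · exact hde h6
      · have h7 : d = e * t := h6
        apply Com.notMem B c.toCom
        have h8 : e⁻¹ * d ∈ Q p := mul_mem (inv_mem h3) h1
        rw [h7, inv_mul_cancel_left] at h8
        exact h8
    apply card_four hdW heW (key d h2 h1 hd) (key e h4 h3 he) hne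
    intro v hv
    by_cases hv0 : v = 0
    · exact Or.inl hv0
    by_cases hvd : v = (B.large t c.ht).pr ⟨d, h2⟩
    · exact Or.inr (Or.inl hvd)
    by_cases hve : v = (B.large t c.ht).pr ⟨e, h4⟩
    · exact Or.inr (Or.inr (Or.inl hve))
    · right; right; right
      obtain ⟨f, h6, h7, rfl⟩ := (Com.mem_U B c.symm.toCom).1 (hle hv)
      have hf : f ≠ 1 := by
        rintro rfl
        exact hv0 ((B.large t c.ht).pr_eq_zero.2 (Or.inl rfl))
      have hdf : d ≠ f := by
        rintro rfl; exact hvd rfl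
      have hef : e ≠ f := by
        rintro rfl; exact hve rfl
      have h8 := c.symm.D_three B h2 h1 h4 h3 h6 h7 hd he hf hde hdf hef
      rw [← (B.large t c.ht).pr_mul]
      congr 1
      exact Subtype.ext h8
  have hTinv := Com.T_inv B c.symm.toCom
  -- `M v ∈ {v, T' v}`
  have hor : ∀ v, M v = v ∨ M v = T' v := by
    intro v
    by_cases hv : v ∈ S'.perp (QS.W T')
    · exact Or.inl (hMfix v hv)
    by_cases h0 : M v + v = 0
    · exact Or.inl (eq_of_add h0)
    right
    have h1 : M v + v ∈ QS.W T' := by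
      rw [← S'.perp_perp (QS.W T'), S'.mem_perp]
      intro r hr
      have h2 : S'.b r (M v) = S'.b r v := by
        have := hMiso.b_eq r v
        rw [hMfix r hr] at this
        exact this
      rw [map_add, h2]
      have : ∀ a : ZMod 2, a + a = 0 := by decide
      exact this _
    have h2 : S'.b (M v + v) v = 0 := by
      rw [S'.b_comm, ← hMiso.q_f]
      exact c.symm.q_W B h1
    have h3 : S'.b (T' v + v) v = 0 := by
      rw [S'.b_comm, ← hTinv.iso.q_f]
      exact c.symm.q_W B (QS.f_mem_W _ _)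
    have h4 : T' v + v ≠ 0 := fun h => hv (hTinv.fix_iff.1 (eq_of_add h))
    have h5 := QS.eq_of_perp S' hcardW h1 (QS.f_mem_W T' v) h0 h4 h2 h3 hv
    exact add_right_cancel h5
  have hall : (∀ v, M v = v) ∨ (∀ v, M v = T' v) := by
    by_contra hcon
    push Not at hcon
    obtain ⟨⟨v1, h1⟩, ⟨v2, h2⟩⟩ := hcon
    have h3 := (hor v1).resolve_left h1
    have h4 := (hor v2).resolve_right h2
    rcases hor (v1 + v2) with h5 | h5
    · rw [map_add, h4] at h5
      exact h1 (add_right_cancel h5)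
    · rw [map_add, map_add, h3] at h5
      exact h2 (add_left_cancel h5)
  rcases hall with h1 | h1
  · left
    exact hAD m hmp (mem_of_ac _ _ _ h1) hm
  · right
    have hmpt : m * p * t = t * (m * p) := by
      rw [mul_assoc, c.com, ← mul_assoc, hmt', mul_assoc]
    have h2 : m * p ∈ Q t := by
      apply mem_of_ac (B.large t c.ht) (m * p) hmpt
      intro v
      rw [ac_mul _ _ _ hmt' c.com hmpt v]
      have h3 := h1 (T' v)
      rw [hTinv.inv] at h3
      exact h3
    have h3 := hAD (m * p) (mul_mem hmp (B.large p c.hp).z_mem) h2 (mul_mem hm hA.p_mem)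
    rw [eq_inv_of_mul_eq_one_left h3, B.inv c.hp]

/-- type U: a nontrivial `A` contains `D` -/
theorem D_le_of (u : TypeU B c) {A : Subgroup G} (hA : Inva Q p A) (hne : ∃ m ∈ A, m ≠ 1 ∧ m ≠ p) :
    ∀ d ∈ Q p, d ∈ Q t → d ∈ A := by
  by_contra hcon
  push Not at hcon
  obtain ⟨d, h1, h2, h3⟩ := hcon
  obtain ⟨m, hm, hm1, hm2⟩ := hne
  have h4 : ∀ e ∈ Q p, e ∈ Q t → e ∈ A → e = 1 := by
    intro e h5 h6 h7
    by_contra he
    apply h3
    by_cases hd : d = 1
    · rw [hd]; exact one_mem _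
    by_cases hde : e = d
    · rw [← hde]; exact h7
    · exact c.mem_of_mem B hA h5 h6 h1 h2 he hd hde h7
  rcases c.eq_of_inf B u hA h4 m hm with h5 | h5
  · exact hm1 h5
  · exact hm2 h5

end Good

/-- `C_Q(A)` is also invariant. -/
theorem Inva.perp (B : Base P Q) (hp : p ∈ P) {A : Subgroup G} (hA : Inva Q p A) :
    Inva Q p (Subgroup.centralizer (A : Set G) ⊓ Q p) where
  p_mem := by
    refine Subgroup.mem_inf.2 ⟨?_, (B.large p hp).z_mem⟩
    rw [Subgroup.mem_centralizer_iff]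
    intro x hx
    exact (B.large p hp).comm_z x (hA.le hx)
  le := inf_le_right
  inv := by
    intro c hc x hx
    obtain ⟨h1, h2⟩ := Subgroup.mem_inf.1 hx
    refine Subgroup.mem_inf.2 ⟨?_, (B.large p hp).conj_mem c hc x h2⟩
    rw [Subgroup.mem_centralizer_iff] at h1 ⊢
    intro y hy
    have hc' : c⁻¹ * p = p * c⁻¹ := by
      rw [inv_mul_eq_iff_eq_mul, ← mul_assoc, hc, mul_inv_cancel_right]
    have h3 := h1 _ (hA.inv c⁻¹ hc' y hy)
    calc y * (c * x * c⁻¹) = c * ((c⁻¹ * y * c⁻¹⁻¹) * x) * c⁻¹ := by group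
      _ = c * (x * (c⁻¹ * y * c⁻¹⁻¹)) * c⁻¹ := by rw [h3]
      _ = c * x * c⁻¹ * y := by group

/-- type U and `O₂(C(p)) = Q p` imply irreducibility. -/
theorem Good.irreducible [Finite G] (B : Base P Q) (c : Good P p t) (u : TypeU B c)
    (hO : ∀ N : Subgroup (Subgroup.centralizer ({p} : Set G)), N.Normal → IsPGroup 2 N →
      ∀ x ∈ N, (x : G) ∈ Q p)
    {A : Subgroup G} (hA : Inva Q p A) : (∀ m ∈ A, m = 1 ∨ m = p) ∨ A = Q p := by
  by_contra hcon
  push Not at hcon
  obtain ⟨hne, hAQ⟩ := hcon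
  have h := B.large p c.hp
  set S := qs (B.large p c.hp) with hS
  have hA' := hA.perp B c.hp
  set A' := Subgroup.centralizer (A : Set G) ⊓ Q p with hA'def
  have hD := c.D_le_of B u hA hne
  -- `A'` is nontrivial
  have hne' : ∃ m ∈ A', m ≠ 1 ∧ m ≠ p := by
    by_contra hcon
    push Not at hcon
    apply hAQ
    apply le_antisymm hA.le
    intro x hx
    rw [← Local.pr_mem_sub (B.large p c.hp) hA.p_mem ⟨x, hx⟩]
    rw [← S.perp_perp (Local.sub (B.large p c.hp) A), S.mem_perp]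
    intro w hw
    have h1 : w = 0 := by
      obtain ⟨y, hy, rfl⟩ := pr_surj _ w
      have h2 : y ∈ A' := by
        refine Subgroup.mem_inf.2 ⟨?_, hy⟩
        rw [Subgroup.mem_centralizer_iff]
        intro a ha
        have h3 := S.mem_perp.1 hw ((B.large p c.hp).pr ⟨a, hA.le ha⟩) ⟨⟨a, hA.le ha⟩, ha, rfl⟩
        exact ((B.large p c.hp).b_pr _ _).1 h3
      rw [(B.large p c.hp).pr_eq_zero]
      by_cases h3 : y = 1
      · exact Or.inl h3
      · exact Or.inr (hcon y h2 h3)
    rw [h1, map_zero]; rfl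
  have hD' := c.D_le_of B u hA' hne'
  -- `M₀ = (A ∩ A') / ⟨p⟩`
  set M : Submodule (ZMod 2) (B.large p c.hp).V := Local.sub (B.large p c.hp) (A ⊓ A') with hM
  have hMinv : ∀ (g : G) (hg : g * p = p * g), ∀ v ∈ M, ac (B.large p c.hp) g hg v ∈ M := by
    rintro g hg _ ⟨x, hx, rfl⟩
    obtain ⟨h1, h2⟩ := Subgroup.mem_inf.1 hx
    exact ⟨⟨g * x * g⁻¹, (B.large p c.hp).conj_mem g hg x x.2⟩,
      Subgroup.mem_inf.2 ⟨hA.inv g hg x h1, hA'.inv g hg x h2⟩, (ac_pr _ g hg x x.2).symm⟩
  -- the normal 2-subgroup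
  let C := Subgroup.centralizer ({p} : Set G)
  have hC : ∀ g : C, (g : G) * p = p * g := fun g => Subgroup.mem_centralizer_singleton_iff.1 g.2
  have hac : ∀ (g : C) (v : (B.large p c.hp).V), ac (B.large p c.hp) g (hC g) v = (B.large p c.hp).act g v :=
    fun g v => rfl
  let N : Subgroup C :=
    { carrier := {g | (∀ v, (B.large p c.hp).act g v + v ∈ M) ∧ ∀ v ∈ M, (B.large p c.hp).act g v = v}
      one_mem' := by
        refine ⟨fun v => ?_, fun v _ => ?_⟩
        · rw [map_one]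
          show v + v ∈ M
          rw [vadd_self]; exact M.zero_mem
        · rw [map_one]; rfl
      mul_mem' := by
        rintro a b ⟨ha1, ha2⟩ ⟨hb1, hb2⟩
        refine ⟨fun v => ?_, fun v hv => ?_⟩
        · rw [map_mul]
          show (B.large p c.hp).act a ((B.large p c.hp).act b v) + v ∈ M
          have h1 := M.add_mem (ha1 ((B.large p c.hp).act b v)) (hb1 v)
          have h2 : (B.large p c.hp).act a ((B.large p c.hp).act b v) + (B.large p c.hp).act b v +
              ((B.large p c.hp).act b v + v) = (B.large p c.hp).act a ((B.large p c.hp).act b v) + v := by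
            rw [add_assoc, ← add_assoc ((B.large p c.hp).act b v), vadd_self, zero_add]
          rwa [h2] at h1
        · rw [map_mul]
          show (B.large p c.hp).act a ((B.large p c.hp).act b v) = v
          rw [hb2 v hv, ha2 v hv]
      inv_mem' := by
        rintro a ⟨ha1, ha2⟩
        have h1 : ∀ v, (B.large p c.hp).act a ((B.large p c.hp).act a⁻¹ v) = v := by
          intro v
          have : (B.large p c.hp).act (a * a⁻¹) v = v := by rw [mul_inv_cancel, map_one]; rfl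
          rw [map_mul] at this
          exact this
        refine ⟨fun v => ?_, fun v hv => ?_⟩
        · have h2 := ha1 ((B.large p c.hp).act a⁻¹ v)
          rw [h1, add_comm] at h2
          exact h2
        · apply ((B.large p c.hp).act a).injective
          rw [h1, ha2 v hv] }
  have hNn : N.Normal := by
    refine ⟨fun n hn g => ?_⟩
    obtain ⟨h1, h2⟩ := hn
    have h3 : ∀ v, (B.large p c.hp).act g⁻¹ ((B.large p c.hp).act g v) = v := by
      intro v
      have : (B.large p c.hp).act (g⁻¹ * g) v = v := by rw [inv_mul_cancel, map_one]; rfl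
      rw [map_mul] at this
      exact this
    have h3' : ∀ v, (B.large p c.hp).act g ((B.large p c.hp).act g⁻¹ v) = v := by
      intro v
      have : (B.large p c.hp).act (g * g⁻¹) v = v := by rw [mul_inv_cancel, map_one]; rfl
      rw [map_mul] at this
      exact this
    refine ⟨fun v => ?_, fun v hv => ?_⟩
    · rw [map_mul, map_mul]
      show (B.large p c.hp).act g ((B.large p c.hp).act n ((B.large p c.hp).act g⁻¹ v)) + v ∈ M
      have h4 := hMinv g (hC g) _ (h1 ((B.large p c.hp).act g⁻¹ v))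
      rw [hac, map_add, h3'] at h4
      exact h4
    · rw [map_mul, map_mul]
      show (B.large p c.hp).act g ((B.large p c.hp).act n ((B.large p c.hp).act g⁻¹ v)) = v
      have h5 : (B.large p c.hp).act n ((B.large p c.hp).act g⁻¹ v) = (B.large p c.hp).act g⁻¹ v :=
        h2 _ (hMinv (g⁻¹ : C) (hC g⁻¹) v hv)
      rw [h5, h3']
  have hN2 : IsPGroup 2 N := by
    rintro ⟨g, h1, h2⟩
    -- `g²` acts trivially
    have h3 : (B.large p c.hp).act (g * g) = 1 := by
      ext v
      rw [map_mul]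
      show (B.large p c.hp).act g ((B.large p c.hp).act g v) = v
      have h4 := h2 _ (h1 v)
      rw [map_add] at h4
      have h5 : (B.large p c.hp).act g ((B.large p c.hp).act g v) + (B.large p c.hp).act g v +
          (B.large p c.hp).act g v = v := by
        rw [h4, add_right_comm, vadd_self, zero_add]
      rw [add_assoc, vadd_self, add_zero] at h5
      exact h5
    have h4 : ((g * g : C) : G) ∈ Q p := (B.large p c.hp).mem_of_act _ h3
    have h4' : (g : G) * g ∈ Q p := h4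
    refine ⟨3, ?_⟩
    apply Subtype.ext
    apply Subtype.ext
    show (g : G) ^ (2 ^ 3) = 1
    have h5 : (g : G) ^ (2 ^ 3) = ((g * g) * (g * g)) * ((g * g) * (g * g)) := by
      rw [show (2 ^ 3 : ℕ) = 8 from rfl]
      simp only [pow_succ, pow_zero, one_mul, mul_assoc]
    rw [h5]
    rcases (B.large p c.hp).sq _ h4' with h6 | h6 <;> rw [h6]
    · rw [one_mul]
    · exact B.sq c.hp
  -- `t ∈ N`
  have htC : t ∈ C := Subgroup.mem_centralizer_singleton_iff.2 c.com.symm
  have htN : (⟨t, htC⟩ : C) ∈ N := by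
    refine ⟨fun v => ?_, fun v hv => ?_⟩
    · obtain ⟨d, h1, h2, h3⟩ := (Com.mem_U B c.toCom).1 (u.W_le (QS.f_mem_W _ v))
      have h4 : (B.large p c.hp).act ⟨t, htC⟩ v + v = (B.large p c.hp).pr ⟨d, h1⟩ := h3.symm
      rw [h4]
      exact ⟨⟨d, h1⟩, Subgroup.mem_inf.2 ⟨hD d h1 h2, hD' d h1 h2⟩, rfl⟩
    · have h1 : Com.T B c.toCom v = v := by
        rw [(Com.T_inv B c.toCom).fix_iff, QS.mem_perp]
        intro w hw
        obtain ⟨d, h1, h2, rfl⟩ := (Com.mem_U B c.toCom).1 (u.W_le hw)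
        obtain ⟨x, hx, rfl⟩ := hv
        have h3 := hD' d h1 h2
        have h4 := Subgroup.mem_centralizer_iff.1 (Subgroup.mem_inf.1 h3).1 x (Subgroup.mem_inf.1 hx).1
        exact ((B.large p c.hp).b_pr _ _).2 h4.symm
      exact h1
  exact Com.notMem B c.toCom (hO N hNn hN2 ⟨t, htC⟩ htN)

/-- **Case I**: if `z` is weakly closed in `Q`, `C(z)` acts irreducibly on `Q / ⟨z⟩`. -/
theorem main [Finite G] (B : Base P Q) (hG : ∀ H : Subgroup G, H.index ≠ 2)
    (h128 : ∀ p ∈ P, 128 ≤ Nat.card (Q p))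
    (hO : ∀ p ∈ P, ∀ N : Subgroup (Subgroup.centralizer ({p} : Set G)), N.Normal → IsPGroup 2 N →
      ∀ x ∈ N, (x : G) ∈ Q p)
    (hex : ∃ p t, Com P p t) {q : G} (hq : q ∈ P)
    {A : Subgroup G} (hA : Inva Q q A) : (∀ m ∈ A, m = 1 ∨ m = q) ∨ A = Q q := by
  have h64 : ∀ p (hp : p ∈ P), 64 ≤ Nat.card (B.large p hp).V := by
    intro p hp
    have h1 := (B.large p hp).card_eq
    have h2 := h128 p hp
    omega
  obtain ⟨p, t, c⟩ := hex
  obtain ⟨s, c'⟩ := exists_good B hG h64 c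
  obtain ⟨p, t, c, u⟩ := exists_typeU B h64 ⟨p, s, c'⟩
  -- transport `A`
  obtain ⟨g, hg⟩ := B.exists_conj q hq p c.hp
  have hA2 : Inva Q p (A.map (MulAut.conj g).toMonoidHom) := by
    refine ⟨⟨q, hA.p_mem, hg⟩, ?_, ?_⟩
    · rintro _ ⟨x, hx, rfl⟩
      rw [← hg]
      exact B.Q_conj q hq g x (hA.le hx)
    · rintro k hk _ ⟨x, hx, rfl⟩
      have hk' : (g⁻¹ * k * g) * q = q * (g⁻¹ * k * g) := by
        calc (g⁻¹ * k * g) * q = g⁻¹ * (k * (g * q * g⁻¹)) * g := by group
          _ = g⁻¹ * ((g * q * g⁻¹) * k) * g := by rw [hg, hk]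
          _ = q * (g⁻¹ * k * g) := by group
      refine ⟨_, hA.inv _ hk' x hx, ?_⟩
      show g * (g⁻¹ * k * g * x * (g⁻¹ * k * g)⁻¹) * g⁻¹ = k * (g * x * g⁻¹) * k⁻¹
      group
  rcases c.irreducible B u (hO p c.hp) hA2 with h1 | h1
  · left
    intro m hm
    rcases h1 (g * m * g⁻¹) ⟨m, hm, rfl⟩ with h2 | h2
    · left
      have : m = g⁻¹ * (g * m * g⁻¹) * g := by group
      rw [this, h2]; group
    · right
      have : m = g⁻¹ * (g * m * g⁻¹) * g := by group
      rw [this, h2, ← hg]; group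
  · right
    apply le_antisymm hA.le
    intro x hx
    have h2 : g * x * g⁻¹ ∈ A.map (MulAut.conj g).toMonoidHom := by
      rw [h1, ← hg]
      exact B.Q_conj q hq g x hx
    obtain ⟨y, hy, hxy⟩ := h2
    have hxy' : g * y * g⁻¹ = g * x * g⁻¹ := hxy
    have : y = x := mul_left_cancel (mul_right_cancel hxy')
    rw [← this]; exact hy

end Cfsg.Agent.LargeExtra.WCIrr
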