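import Cfsg.Agent.LargeExtra.WCLine
import Cfsg.Agent.LargeExtra.WC3

/-!
# Large extraspecial 2-subgroups, case I, any width: the points of a line (helper888)

For `l : Line P Q p t` (a pair of type U) the line `Lset Q p t = {p, t} ∪ {p t d | 1 ≠ d ∈ D}` has five points,
`⟨Q p, Q t⟩` acts 2-transitively on it, each pair of its points is a `Line` pair with the same point set.
-/

set_option autoImplicit false

namespace Cfsg.Agent.LargeExtra.WCIrr

open Cfsg.Agent.Co2Type.Quad Cfsg.Agent.LargeExtra.WC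

section

variable {G : Type*} [Group G] {P : Set G} {Q : G → Subgroup G} {p t : G}

theorem Base.Q_conj' (B : Base P Q) {p g x : G} (hp : p ∈ P) (h : x ∈ Q (g * p * g⁻¹)) :
    g⁻¹ * x * g ∈ Q p := by
  have h1 := B.Q_conj _ (B.conj_mem p hp g) g⁻¹ x h
  have e : g⁻¹ * (g * p * g⁻¹) * g⁻¹⁻¹ = p := by group
  rw [e, inv_inv] at h1
  exact h1

theorem Base.Q_conj_eq (B : Base P Q) {p q g x : G} (hp : p ∈ P) (h : g * p * g⁻¹ = q) (hx : x ∈ Q p) :
    g * x * g⁻¹ ∈ Q q := h ▸ B.Q_conj p hp g x hx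

theorem Lset_conj' (B : Base P Q) (hp : p ∈ P) (ht : t ∈ P) {a g : G} (ha : a ∈ Lset Q p t) :
    g * a * g⁻¹ ∈ Lset Q (g * p * g⁻¹) (g * t * g⁻¹) := by
  rcases ha with rfl | rfl | ⟨d, h1, h2, h3, rfl⟩
  · exact Or.inl rfl
  · exact Or.inr (Or.inl rfl)
  · refine Or.inr (Or.inr ⟨g * d * g⁻¹, B.Q_conj p hp g d h1, B.Q_conj t ht g d h2, ?_, by group⟩)
    intro h
    apply h3
    have : d = g⁻¹ * (g * d * g⁻¹) * g := by group
    rw [this, h]; group

theorem Line.toCom (c : Line P Q p t) : Com P p t := c.good.toCom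

theorem Line.hp (c : Line P Q p t) : p ∈ P := c.good.hp

theorem Line.ht (c : Line P Q p t) : t ∈ P := c.good.ht

theorem Line.ne (c : Line P Q p t) : p ≠ t := c.good.ne

theorem Line.com (c : Line P Q p t) : p * t = t * p := c.good.com

theorem Line.sing [Finite G] (B : Base P Q) (c : Line P Q p t) :
    (qs (B.large p c.hp)).Sing (Com.T B c.toCom) where
  toInv := Com.T_inv B c.toCom
  sing := fun v => c.good.q_W B (QS.f_mem_W _ v)
  card := c.card_W B

/-- `W = D̃` -/
theorem Line.W_mem (B : Base P Q) (c : Line P Q p t) {w : (B.large p c.hp).V}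
    (hw : w ∈ QS.W (Com.T B c.toCom)) :
    ∃ (d : G) (h1 : d ∈ Q p) (_ : d ∈ Q t), (B.large p c.hp).pr ⟨d, h1⟩ = w :=
  (Com.mem_U B c.toCom).1 ((c.typeU B).W_le hw)

end

namespace Line

variable {G : Type*} [Group G] {P : Set G} {Q : G → Subgroup G} {p t : G}
variable [Finite G] (B : Base P Q) (c : Line P Q p t)
include B c

theorem conj_t {x : G} (hx : x ∈ Q p) : x * t * x⁻¹ = t ∨ ∃ d ∈ Q p, d ∈ Q t ∧ d ≠ 1 ∧
    x * t * x⁻¹ = p * t * d := by
  obtain ⟨d, h1, h2, h3⟩ := c.W_mem B (QS.f_mem_W (Com.T B c.toCom) ((B.large p c.hp).pr ⟨x, hx⟩))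
  have h4 := ac_add (B.large p c.hp) t c.com.symm x hx
  have h5 := (B.large p c.hp).pr_eq_pr.1 (h3.trans h4)
  have e := Com.conj_eq B c.toCom x
  rcases h5 with h6 | h6
  · left
    have h6' : d = t * x * t⁻¹ * x⁻¹ := h6
    rw [← h6'] at e
    apply B.eq_of_mem t c.ht _ (B.conj_mem t c.ht x)
    rw [e]
    exact mul_mem (B.large t c.ht).z_mem h2
  · right
    have h6' : d = t * x * t⁻¹ * x⁻¹ * p := h6
    have h7 : t * x * t⁻¹ * x⁻¹ = d * p := by
      rw [h6', mul_assoc _ p p, B.sq c.hp, mul_one]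
    rw [h7, Com.D_p B c.toCom h1, ← mul_assoc, ← c.com] at e
    refine ⟨d, h1, h2, ?_, e⟩
    rintro rfl
    refine c.good.tau B x ?_
    rw [e, mul_one, c.com]

theorem exists_conj_t {d : G} (h1 : d ∈ Q p) (h2 : d ∈ Q t) (h3 : d ≠ 1) :
    ∃ x ∈ Q p, x * t * x⁻¹ = p * t * d := by
  obtain ⟨v, hv⟩ := c.good.D_le B h1 h2
  obtain ⟨x, hx, rfl⟩ := pr_surj _ v
  have h4 := ac_add (B.large p c.hp) t c.com.symm x hx
  have h5 : (B.large p c.hp).pr ⟨_, mul_mem ((B.large p c.hp).conj_mem t c.com.symm x hx) (inv_mem hx)⟩ =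
      (B.large p c.hp).pr ⟨d, h1⟩ := h4.symm.trans hv
  have e := Com.conj_eq B c.toCom x
  refine ⟨x, hx, ?_⟩
  rcases (B.large p c.hp).pr_eq_pr.1 h5 with h6 | h6
  · exfalso
    have h6' : t * x * t⁻¹ * x⁻¹ = d := h6
    rw [h6'] at e
    have h7 := B.eq_of_mem t c.ht _ (B.conj_mem t c.ht x) (by
      rw [e]; exact mul_mem (B.large t c.ht).z_mem h2)
    rw [h7] at e
    exact h3 (mul_eq_left.1 e.symm)
  · have h6' : t * x * t⁻¹ * x⁻¹ = d * p := h6
    rw [e, h6', Com.D_p B c.toCom h1, ← mul_assoc, ← c.com]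

/-- two nontrivial elements of `D`, giving all of `D` -/
theorem D_four : ∃ d₁ ∈ Q p, ∃ d₂ ∈ Q p, d₁ ∈ Q t ∧ d₂ ∈ Q t ∧ d₁ ≠ 1 ∧ d₂ ≠ 1 ∧ d₁ ≠ d₂ ∧
    ∀ d ∈ Q p, d ∈ Q t → d = 1 ∨ d = d₁ ∨ d = d₂ ∨ d = d₁ * d₂ := by
  classical
  have hsing := c.sing B
  obtain ⟨w1, hw1, w2, hw2, h10, h20, h12⟩ : ∃ w1 ∈ QS.W (Com.T B c.toCom), ∃ w2 ∈ QS.W (Com.T B c.toCom), w1 ≠ 0 ∧ w2 ≠ 0 ∧
      w1 ≠ w2 := by
    have hfin : Finite (QS.W (Com.T B c.toCom)) := Nat.finite_of_card_ne_zero (by rw [hsing.card]; norm_num)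
    have : Fintype (QS.W (Com.T B c.toCom)) := Fintype.ofFinite _
    have h4 : Fintype.card (QS.W (Com.T B c.toCom)) = 4 := by rw [← Nat.card_eq_fintype_card]; exact hsing.card
    obtain ⟨a, b, cc, hab, hac, hbc⟩ := Fintype.two_lt_card_iff.1 (by rw [h4]; norm_num : 2 < Fintype.card _)
    by_cases ha : (a : _) = 0
    · refine ⟨b, b.2, cc, cc.2, ?_, ?_, fun h => hbc (Subtype.ext h)⟩
      · intro h; exact hab (ha.trans (Subtype.ext h).symm)
      · intro h; exact hac (ha.trans (Subtype.ext h).symm)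
    · by_cases hb : (b : _) = 0
      · refine ⟨a, a.2, cc, cc.2, fun h => ha (Subtype.ext h), ?_, fun h => hac (Subtype.ext h)⟩
        intro h; exact hbc (hb.trans (Subtype.ext h).symm)
      · exact ⟨a, a.2, b, b.2, fun h => ha (Subtype.ext h), fun h => hb (Subtype.ext h),
          fun h => hab (Subtype.ext h)⟩
  obtain ⟨d1, h1, h1', e1⟩ := c.W_mem B hw1
  obtain ⟨d2, h2, h2', e2⟩ := c.W_mem B hw2
  have hinj : ∀ d e (hd : d ∈ Q p) (he : e ∈ Q p), d ∈ Q t → e ∈ Q t →
      (B.large p c.hp).pr ⟨d, hd⟩ = (B.large p c.hp).pr ⟨e, he⟩ → d = e := by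
    intro d e hd he hd' he' h
    rcases (B.large p c.hp).pr_eq_pr.1 h with h3 | h3
    · exact h3
    · exfalso
      apply Com.notMem B c.symm.toCom
      have h3' : d = e * p := h3
      have : p = e⁻¹ * d := by rw [h3']; group
      rw [this]; exact mul_mem (inv_mem he') hd'
  refine ⟨d1, h1, d2, h2, h1', h2', ?_, ?_, ?_, ?_⟩
  · rintro rfl; exact h10 (e1.symm.trans (B.large p c.hp).pr_one)
  · rintro rfl; exact h20 (e2.symm.trans (B.large p c.hp).pr_one)
  · rintro rfl; exact h12 (e1.symm.trans e2)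
  · intro d hd hd'
    rcases QS.four hsing.card hw1 hw2 (c.good.D_le B hd hd') h10 h20 h12 with h | h | h | h
    · left
      exact hinj d 1 hd (one_mem _) hd' (one_mem _) (h.trans (B.large p c.hp).pr_one.symm)
    · right; left
      exact hinj d d1 hd h1 hd' h1' (h.trans e1.symm)
    · right; right; left
      exact hinj d d2 hd h2 hd' h2' (h.trans e2.symm)
    · right; right; right
      refine hinj d (d1 * d2) hd (mul_mem h1 h2) hd' (mul_mem h1' h2') (h.trans ?_)
      rw [← e1, ← e2]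
      exact ((B.large p c.hp).pr_mul ⟨d1, h1⟩ ⟨d2, h2⟩).symm

/-- elements of `Q p` commuting with `t` centralise the line -/
theorem cent_L {r : G} (hr : r ∈ Q p) (hrt : r * t = t * r) {x : G} (hx : x ∈ Lset Q p t) :
    r * x = x * r := by
  rcases hx with rfl | rfl | ⟨d, h1, h2, h3, rfl⟩
  · exact (B.large _ c.hp).comm_z r hr
  · exact hrt
  · have e1 := (B.large p c.hp).comm_z r hr
    have e2 := Com.D_central B c.toCom h1 h2 hr hrt
    calc r * (p * t * d) = (r * p) * t * d := by group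
      _ = p * (r * t) * d := by rw [e1]; group
      _ = p * t * (r * d) := by rw [hrt]; group
      _ = p * t * d * r := by rw [e2]; group

/-- `p t ∉ P` -/
theorem mul_notMem : p * t ∉ P := by
  intro hP
  obtain ⟨v, hv⟩ := Com.T_ne B c.toCom
  obtain ⟨x, hx, rfl⟩ := pr_surj _ v
  have hne : x * t * x⁻¹ ≠ t := by
    intro h
    apply hv
    rw [Com.T, ac_pr, (B.large p c.hp).pr_eq_pr]
    left
    show t * x * t⁻¹ = x
    rw [mul_inv_eq_iff_eq_mul] at h ⊢
    exact h.symm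
  obtain ⟨d, h1, h2, h3, h4⟩ := (c.conj_t B hx).resolve_left hne
  have h5 : x * (p * t) * x⁻¹ = t * d := by
    have e1 := (B.large p c.hp).comm_z x hx
    calc x * (p * t) * x⁻¹ = (x * p) * t * x⁻¹ := by group
      _ = p * (x * t * x⁻¹) := by rw [e1]; group
      _ = (p * p) * t * d := by rw [h4]; group
      _ = t * d := by rw [B.sq c.hp, one_mul]
  have h6 := B.conj_mem _ hP x
  rw [h5] at h6
  have h7 := B.eq_of_mem t c.ht _ h6 (mul_mem (B.large t c.ht).z_mem h2)
  exact h3 (mul_eq_left.1 h7)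

theorem L_sub {a : G} (ha : a ∈ Lset Q p t) : a ∈ P := by
  rcases ha with rfl | rfl | ⟨d, h1, h2, h3, rfl⟩
  · exact c.hp
  · exact c.ht
  · obtain ⟨x, hx, h⟩ := c.exists_conj_t B h1 h2 h3
    rw [← h]; exact B.conj_mem t c.ht x

theorem L_comm {a b : G} (ha : a ∈ Lset Q p t) (hb : b ∈ Lset Q p t) : a * b = b * a := by
  have key : ∀ x, (x * p = p * x) → (x * t = t * x) → (∀ d ∈ Q p, d ∈ Q t → x * d = d * x) →
      ∀ a ∈ Lset Q p t, x * a = a * x := by
    intro x h1 h2 h3 a ha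
    rcases ha with rfl | rfl | ⟨d, h4, h5, h6, rfl⟩
    · exact h1
    · exact h2
    · calc x * (p * t * d) = (x * p) * t * d := by group
        _ = p * (x * t) * d := by rw [h1]; group
        _ = p * t * (x * d) := by rw [h2]; group
        _ = p * t * d * x := by rw [h3 d h4 h5]; group
  have hp : ∀ a ∈ Lset Q p t, p * a = a * p :=
    key p rfl c.com (fun d h1 _ => (Com.D_p B c.toCom h1).symm)
  have ht : ∀ a ∈ Lset Q p t, t * a = a * t :=
    key t c.com.symm rfl (fun d _ h2 => (Com.D_t B c.toCom h2).symm)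
  have hd : ∀ d ∈ Q p, d ∈ Q t → ∀ a ∈ Lset Q p t, d * a = a * d := fun d h1 h2 =>
    key d (Com.D_p B c.toCom h1) (Com.D_t B c.toCom h2) (fun e h3 h4 => Com.D_comm B c.toCom h1 h2 h3 h4)
  refine key a (hp a ha).symm (ht a ha).symm (fun d h1 h2 => (hd d h1 h2 a ha).symm) b hb

/-- `Q p` normalises the line -/
theorem L_conj {x : G} (hx : x ∈ Q p) {a : G} (ha : a ∈ Lset Q p t) : x * a * x⁻¹ ∈ Lset Q p t := by
  have haP := B.conj_mem _ (c.L_sub B ha) x
  rcases ha with rfl | rfl | ⟨d, h1, h2, h3, rfl⟩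
  · left
    rw [(B.large _ c.hp).comm_z x hx]; group
  · rcases c.conj_t B hx with h | h
    · right; left; exact h
    · right; right
      exact h
  · have e1 := (B.large p c.hp).comm_z x hx
    have hxp : x * p * x⁻¹ = p := by rw [e1]; group
    have hxd : x * d * x⁻¹ = d ∨ x * d * x⁻¹ = d * p := by
      rcases (B.large p c.hp).comm x hx d h1 with h | h
      · left; rw [h]; group
      · right
        have e2 := ((B.large p c.hp).commz hx).inv_left.eq
        rw [h, mul_assoc (d * x), ← e2]; group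
    have e3 : x * (p * t * d) * x⁻¹ = (x * p * x⁻¹) * (x * t * x⁻¹) * (x * d * x⁻¹) := by group
    rw [hxp] at e3
    have hdp := Com.D_p B c.toCom h1
    have hpt := c.com
    have hdt := Com.D_t B c.toCom h2
    rcases c.conj_t B hx with h | ⟨d', h1', h2', h3', h⟩ <;> rcases hxd with h' | h' <;>
      rw [h, h'] at e3
    · rw [e3]; exact Or.inr (Or.inr ⟨d, h1, h2, h3, rfl⟩)
    · right; left
      apply B.eq_of_mem t c.ht _ haP
      have : p * t * (d * p) = t * d := by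
        calc p * t * (d * p) = p * (t * d) * p := by group
          _ = t * p * d * p := by rw [← mul_assoc, hpt]
          _ = t * (p * d) * p := by group
          _ = t * d * (p * p) := by rw [← hdp]; group
          _ = t * d := by rw [B.sq c.hp, mul_one]
      rw [e3, this]
      exact mul_mem (B.large t c.ht).z_mem h2
    · right; left
      apply B.eq_of_mem t c.ht _ haP
      have : p * (p * t * d') * d = t * (d' * d) := by
        calc p * (p * t * d') * d = (p * p) * t * (d' * d) := by group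
          _ = t * (d' * d) := by rw [B.sq c.hp, one_mul]
      rw [e3, this]
      exact mul_mem (B.large t c.ht).z_mem (mul_mem h2' h2)
    · have e4 : p * (p * t * d') * (d * p) = p * t * (d' * d) := by
        have hdd : d' * d * p = p * (d' * d) := by
          rw [mul_assoc, hdp, ← mul_assoc, Com.D_p B c.toCom h1', mul_assoc]
        calc p * (p * t * d') * (d * p) = (p * p) * t * (d' * d * p) := by group
          _ = t * (p * (d' * d)) := by rw [B.sq c.hp, one_mul, hdd]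
          _ = (t * p) * (d' * d) := by group
          _ = _ := by rw [← hpt]
      rw [e3, e4]
      rw [e3, e4] at haP
      refine Or.inr (Or.inr ⟨d' * d, mul_mem h1' h1, mul_mem h2' h2, ?_, rfl⟩)
      intro h5
      rw [h5, mul_one] at haP
      exact c.mul_notMem B haP

theorem Qp_le : Q p ≤ Subgroup.normalizer (Lset Q p t) := by
  intro x hx a
  constructor
  · exact fun ha => c.L_conj B hx ha
  · intro ha
    have := c.L_conj B (inv_mem hx) ha
    have e : x⁻¹ * (x * a * x⁻¹) * x⁻¹⁻¹ = a := by group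
    rwa [e] at this

theorem Qt_le : Q t ≤ Subgroup.normalizer (Lset Q p t) := by
  have := c.symm.Qp_le B
  rwa [Lset_symm c.toCom] at this

theorem exists_D : ∃ d ∈ Q p, d ∈ Q t ∧ d ≠ 1 := by
  obtain ⟨d1, h1, d2, h2, h1', h2', h, -⟩ := c.D_four B
  exact ⟨d1, h1, h1', h⟩

/-- two-transitivity on the line -/
theorem two_trans {a b : G} (ha : a ∈ Lset Q p t) (hb : b ∈ Lset Q p t) (hab : a ≠ b) :
    ∃ g ∈ Subgroup.normalizer (Lset Q p t), g * p * g⁻¹ = a ∧ g * t * g⁻¹ = b := by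
  -- `Q p` is transitive on the points other than `p`
  have htr : ∀ b ∈ Lset Q p t, b ≠ p → ∃ x ∈ Q p, x * t * x⁻¹ = b := by
    rintro b (rfl | rfl | ⟨d, h1, h2, h3, rfl⟩) hb
    · exact absurd rfl hb
    · exact ⟨1, one_mem _, by group⟩
    · exact c.exists_conj_t B h1 h2 h3
  -- `p` can be moved to `a`
  have hpa : ∃ g ∈ Subgroup.normalizer (Lset Q p t), g * p * g⁻¹ = a := by
    obtain ⟨d, h1, h2, h3⟩ := c.exists_D B
    rcases ha with rfl | rfl | ⟨e, e1, e2, e3, rfl⟩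
    · exact ⟨1, one_mem _, by group⟩
    · obtain ⟨x, hx, hx'⟩ := c.symm.exists_conj_t B h2 h1 h3
      obtain ⟨y, hy, hy'⟩ := c.exists_conj_t B h1 h2 h3
      refine ⟨y⁻¹ * x, mul_mem (inv_mem (c.Qp_le B hy)) (c.Qt_le B hx), ?_⟩
      calc y⁻¹ * x * p * (y⁻¹ * x)⁻¹ = y⁻¹ * (x * p * x⁻¹) * y := by group
        _ = y⁻¹ * (y * a * y⁻¹) * y := by rw [hx', hy', c.com]
        _ = a := by group
    · obtain ⟨x, hx, hx'⟩ := c.symm.exists_conj_t B e2 e1 e3
      refine ⟨x, c.Qt_le B hx, ?_⟩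
      rw [hx', c.com]
  obtain ⟨g, hg, hga⟩ := hpa
  have hb' : g⁻¹ * b * g ∈ Lset Q p t := by
    have := (inv_mem hg : g⁻¹ ∈ Subgroup.normalizer (Lset Q p t))
    have h1 := (this b).1 hb
    rwa [inv_inv] at h1
  have hbp : g⁻¹ * b * g ≠ p := by
    intro h
    apply hab
    rw [← hga, ← h]; group
  obtain ⟨x, hx, hxt⟩ := htr _ hb' hbp
  refine ⟨g * x, mul_mem hg (c.Qp_le B hx), ?_, ?_⟩
  · have e1 := (B.large p c.hp).comm_z x hx
    calc g * x * p * (g * x)⁻¹ = g * (x * p * x⁻¹) * g⁻¹ := by group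
      _ = g * p * g⁻¹ := by rw [e1]; group
      _ = a := hga
  · calc g * x * t * (g * x)⁻¹ = g * (x * t * x⁻¹) * g⁻¹ := by group
      _ = b := by rw [hxt]; group

/-- all pairs of points of the line are good and have the same line -/
theorem of_mem {a b : G} (ha : a ∈ Lset Q p t) (hb : b ∈ Lset Q p t) (hab : a ≠ b) :
    Line P Q a b ∧ Lset Q a b = Lset Q p t := by
  obtain ⟨g, hg, hga, hgb⟩ := c.two_trans B ha hb hab
  have hgood := c.conj B g
  rw [hga, hgb] at hgood
  refine ⟨hgood, ?_⟩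
  ext x
  constructor
  · intro hx
    have h1 := Lset_conj' B hgood.hp hgood.ht (g := g⁻¹) hx
    have e1 : g⁻¹ * a * g⁻¹⁻¹ = p := by rw [← hga]; group
    have e2 : g⁻¹ * b * g⁻¹⁻¹ = t := by rw [← hgb]; group
    rw [e1, e2] at h1
    have h2 := (hg _).1 h1
    have e3 : g * (g⁻¹ * x * g⁻¹⁻¹) * g⁻¹ = x := by group
    rwa [e3] at h2
  · intro hx
    have h1 : g⁻¹ * x * g⁻¹⁻¹ ∈ Lset Q p t := ((inv_mem hg : g⁻¹ ∈ Subgroup.normalizer _) x).1 hx
    have h2 := Lset_conj' B c.hp c.ht (g := g) h1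
    rw [hga, hgb] at h2
    have e3 : g * (g⁻¹ * x * g⁻¹⁻¹) * g⁻¹ = x := by group
    rwa [e3] at h2

theorem Q_le_of_mem {a : G} (ha : a ∈ Lset Q p t) : Q a ≤ Subgroup.normalizer (Lset Q p t) := by
  by_cases hap : a = p
  · subst hap; exact c.Qp_le B
  · obtain ⟨h1, h2⟩ := c.of_mem B ha (Or.inl rfl) hap
    have := h1.Qp_le B
    rwa [h2] at this

/-- the five points -/
theorem five : ∃ a b e : G, a ∈ Lset Q p t ∧ b ∈ Lset Q p t ∧ e ∈ Lset Q p t ∧
    [p, t, a, b, e].Nodup ∧ (∀ x ∈ Lset Q p t, x = p ∨ x = t ∨ x = a ∨ x = b ∨ x = e) ∧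
    p * t * a * b * e = 1 := by
  obtain ⟨d1, h1, d2, h2, h1', h2', h10, h20, h12, hall⟩ := c.D_four B
  have h3 : d1 * d2 ≠ 1 := by
    intro h
    apply h12
    have : d1 = d1 * (d2 * d2) := by rw [Com.D_sq B c.toCom h2 h2', mul_one]
    rw [this, ← mul_assoc, h, one_mul]
  have hne : ∀ d ∈ Q p, d ∈ Q t → p * t * d ≠ p ∧ p * t * d ≠ t := by
    intro d hd hd'
    constructor
    · intro h
      apply Com.notMem B c.toCom
      have : t = p⁻¹ * (p * t * d) * d⁻¹ := by group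
      rw [this, h]
      exact mul_mem (mul_mem (inv_mem (B.large p c.hp).z_mem) (B.large p c.hp).z_mem) (inv_mem hd)
    · intro h
      apply Com.notMem B c.symm.toCom
      have e1 : p = p * t * d * d⁻¹ * t⁻¹ := by group
      rw [e1, h]
      exact mul_mem (mul_mem (B.large t c.ht).z_mem (inv_mem hd')) (inv_mem (B.large t c.ht).z_mem)
  refine ⟨p * t * d1, p * t * d2, p * t * (d1 * d2), Or.inr (Or.inr ⟨d1, h1, h1', h10, rfl⟩),
    Or.inr (Or.inr ⟨d2, h2, h2', h20, rfl⟩),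
    Or.inr (Or.inr ⟨d1 * d2, mul_mem h1 h2, mul_mem h1' h2', h3, rfl⟩), ?_, ?_, ?_⟩
  · have k1 := hne d1 h1 h1'
    have k2 := hne d2 h2 h2'
    have k3 := hne (d1 * d2) (mul_mem h1 h2) (mul_mem h1' h2')
    have k4 : p * t * d1 ≠ p * t * d2 := fun h => h12 (mul_left_cancel h)
    have k5 : p * t * d1 ≠ p * t * (d1 * d2) := fun h => h20 (left_eq_mul.1 (mul_left_cancel h))
    have k6 : p * t * d2 ≠ p * t * (d1 * d2) := fun h => h10 (right_eq_mul.1 (mul_left_cancel h))
    simp only [List.nodup_cons, List.mem_cons, List.not_mem_nil, or_false, not_or, List.nodup_nil, and_true,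
      not_false_eq_true]
    exact ⟨⟨c.ne, k1.1.symm, k2.1.symm, k3.1.symm⟩, ⟨k1.2.symm, k2.2.symm, k3.2.symm⟩, ⟨k4, k5⟩, k6⟩
  · rintro x (rfl | rfl | ⟨d, hd, hd', hd0, rfl⟩)
    · left; rfl
    · right; left; rfl
    · rcases hall d hd hd' with rfl | rfl | rfl | rfl
      · exact absurd rfl hd0
      · right; right; left; rfl
      · right; right; right; left; rfl
      · right; right; right; right; rfl
  · have hpt2 : p * t * (p * t) = 1 := by
      calc p * t * (p * t) = p * (t * p) * t := by group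
        _ = (p * p) * (t * t) := by rw [← c.com]; group
        _ = 1 := by rw [B.sq c.hp, B.sq c.ht, mul_one]
    have hd1 : d1 * (p * t) = p * t * d1 := by
      rw [← mul_assoc, Com.D_p B c.toCom h1, mul_assoc, Com.D_t B c.toCom h1', mul_assoc]
    have hd2 : d2 * (p * t) = p * t * d2 := by
      rw [← mul_assoc, Com.D_p B c.toCom h2, mul_assoc, Com.D_t B c.toCom h2', mul_assoc]
    calc p * t * (p * t * d1) * (p * t * d2) * (p * t * (d1 * d2))
        = (p * t * (p * t)) * (d1 * (p * t)) * d2 * (p * t) * (d1 * d2) := by group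
      _ = p * t * d1 * (d2 * (p * t)) * (d1 * d2) := by rw [hpt2, one_mul, hd1]; group
      _ = p * t * (d1 * (p * t)) * d2 * d1 * d2 := by rw [hd2]; group
      _ = (p * t * (p * t)) * d1 * (d2 * d1) * d2 := by rw [hd1]; group
      _ = (d1 * d1) * (d2 * d2) := by rw [hpt2, one_mul, Com.D_comm B c.toCom h2 h2' h1 h1']; group
      _ = 1 := by rw [Com.D_sq B c.toCom h1 h1', Com.D_sq B c.toCom h2 h2', mul_one]

end Line

end Cfsg.Agent.LargeExtra.WCIrr
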