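import Cfsg.Agent.LargeExtra.WG9

/-!
# Large extraspecial 2-subgroups, case I, `|Q| = 2 ^ 9`, all commuting pairs of type U: the axiom (A5), the action of
`C_{Q t}(p)` on the points opposite to `t`, existence of a second line (helper888)
-/

set_option autoImplicit false

namespace Cfsg.Agent.LargeExtra.WCIrr

open Cfsg.Agent.Co2Type.Quad Cfsg.Agent.LargeExtra.WC

variable {G : Type*} [Group G] {P : Set G} {Q : G → Subgroup G} {p t s : G}

/-- `D̃` as a submodule, for an arbitrary element -/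
def Wd (B : Base P Q) (hp : p ∈ P) (y : G) : Submodule (ZMod 2) (B.large p hp).V :=
  Local.sub (B.large p hp) (Q y)

theorem Line.Wd_eq [Finite G] (B : Base P Q) (c : Line P Q p t) : Wd B c.hp t = QS.W (Com.T B c.toCom) := by
  apply le_antisymm
  · rintro _ ⟨x, hx, rfl⟩
    exact c.good.D_le B x.2 hx
  · exact (c.typeU B).W_le

/-- `W` depends only on the line -/
theorem Line.Wd_congr [Finite G] (B : Base P Q) (c : Line P Q p t) (c' : Line P Q p s) (h : Lset Q p s = Lset Q p t) :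
    Wd B c.hp s = Wd B c.hp t := by
  rw [c.Wd_eq B, show Wd B c.hp s = Wd B c'.hp s from rfl, c'.Wd_eq B]
  ext v
  obtain ⟨x, hx, rfl⟩ := pr_surj _ v
  rw [c.mem_W_iff B hx, ← h]
  exact c'.mem_W_iff B hx

namespace AllU

/-- commuting points have perpendicular `W` -/
theorem perp_of_comm' [Finite G] (A : AllU P Q) (c : Line P Q p t) (c' : Line P Q p s) (hts : t * s = s * t) :
    Wd A.toBase c.hp t ≤ (qs (A.large p c.hp)).perp (Wd A.toBase c.hp s) := by
  rw [c.Wd_eq A.toBase, show Wd A.toBase c.hp s = Wd A.toBase c'.hp s from rfl, c'.Wd_eq A.toBase]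
  exact c.perp_of_comm A.toBase A.h64 c' hts

theorem comm_of_perp' [Finite G] (A : AllU P Q) (c : Line P Q p t) (c' : Line P Q p s)
    {g : (A.large p c.hp).V} (hg : g ∈ Wd A.toBase c.hp s)
    (hgT : g ∈ (qs (A.large p c.hp)).perp (Wd A.toBase c.hp t)) (hg0 : g ≠ 0) : t * s = s * t := by
  rw [c.Wd_eq A.toBase] at hgT
  rw [show Wd A.toBase c.hp s = Wd A.toBase c'.hp s from rfl, c'.Wd_eq A.toBase] at hg
  exact A.comm_of_perp c c' hg hgT hg0

theorem meet' [Finite G] (A : AllU P Q) (c : Line P Q p t) (c' : Line P Q p s)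
    {v : (A.large p c.hp).V} (hv : v ∈ Wd A.toBase c.hp t) (hv' : v ∈ Wd A.toBase c.hp s) (hv0 : v ≠ 0) :
    s ∈ Lset Q p t ∧ s ≠ p := by
  refine ⟨?_, c'.ne.symm⟩
  have h1 : v ∈ (qs (A.large p c.hp)).perp (Wd A.toBase c.hp t) := by
    rw [c.Wd_eq A.toBase] at hv ⊢
    exact (c.sing A.toBase).W_le hv
  have hts := A.comm_of_perp' c c' hv' h1 hv0
  rw [c.Wd_eq A.toBase] at hv
  rw [show Wd A.toBase c.hp s = Wd A.toBase c'.hp s from rfl, c'.Wd_eq A.toBase] at hv'
  exact A.meet c c' hts hv hv' hv0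

theorem card_Wd [Finite G] (A : AllU P Q) (c : Line P Q p t) : Nat.card (Wd A.toBase c.hp t) = 4 := by
  rw [c.Wd_eq A.toBase]; exact (c.sing A.toBase).card

theorem q_Wd [Finite G] (A : AllU P Q) (c : Line P Q p t) {v : (A.large p c.hp).V}
    (hv : v ∈ Wd A.toBase c.hp t) : (qs (A.large p c.hp)).q v = 0 := by
  rw [c.Wd_eq A.toBase] at hv; exact (c.sing A.toBase).q_W hv

theorem Wd_le_perp [Finite G] (A : AllU P Q) (c : Line P Q p t) :
    Wd A.toBase c.hp t ≤ (qs (A.large p c.hp)).perp (Wd A.toBase c.hp t) := by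
  rw [c.Wd_eq A.toBase]; exact (c.sing A.toBase).W_le

theorem Wd_four [Finite G] (A : AllU P Q) (c : Line P Q p t) : ∃ u v : (A.large p c.hp).V,
    ∀ w ∈ Wd A.toBase c.hp t, w = 0 ∨ w = u ∨ w = v ∨ w = u + v := by
  rw [c.Wd_eq A.toBase]
  obtain ⟨u, hu, v, hv, hu0, hv0, huv⟩ := (c.sing A.toBase).exists_basis
  exact ⟨u, v, fun w hw => QS.four (c.sing A.toBase).card hu hv hw hu0 hv0 huv⟩

/-- a commuting pair `t, s` (not collinear with `p`): all points of `L(t, s)` commute with `p` -/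
theorem comm_line [Finite G] (A : AllU P Q) (c : Line P Q p t) (l : Line P Q t s)
    (hps : p * s = s * p) : ∀ r ∈ Lset Q t s, r * p = p * r := by
  intro r hr
  have h1 := l.K A.toBase A.h64 c.symm hps.symm r hr
  exact (mul_inv_eq_iff_eq_mul.1 h1).symm

/-- the cover of `(W_t + W_s)^⊥` by the five `W_r`, `r ∈ L(t, s)` -/
theorem cover [Finite G] (A : AllU P Q) (c : Line P Q p t) (c' : Line P Q p s) (l : Line P Q t s)
    (hp : p ∉ Lset Q t s) {g : (A.large p c.hp).V}
    (hg : g ∈ (qs (A.large p c.hp)).perp (Wd A.toBase c.hp t ⊔ Wd A.toBase c.hp s)) (hg0 : g ≠ 0) :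
    ∃ r ∈ Lset Q t s, g ∈ Wd A.toBase c.hp r := by
  have B := A.toBase
  have hcl := A.comm_line c l c'.com
  have hline : ∀ r ∈ Lset Q t s, Line P Q p r := by
    intro r hr
    refine A.all p c.hp r (l.L_sub B hr) ?_ (hcl r hr).symm
    rintro rfl
    exact hp hr
  have hdisj : ∀ r ∈ Lset Q t s, ∀ r' ∈ Lset Q t s, r ≠ r' → ∀ v ∈ Wd B c.hp r, v ∈ Wd B c.hp r' → v = 0 := by
    intro r hr r' hr' hne v hv hv'
    by_contra hv0
    obtain ⟨h1, h2⟩ := A.meet' (hline r hr) (hline r' hr') hv hv' hv0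
    obtain ⟨-, e1⟩ := (hline r hr).of_mem B (Or.inr (Or.inl rfl)) h1 hne
    obtain ⟨-, e2⟩ := l.of_mem B hr hr' hne
    apply hp
    rw [← e2, e1]
    exact Or.inl rfl
  have ht : t ∈ Lset Q t s := Or.inl rfl
  have hs : s ∈ Lset Q t s := Or.inr (Or.inl rfl)
  have hle : ∀ r ∈ Lset Q t s, Wd B c.hp r ≤
      (qs (A.large p c.hp)).perp (Wd A.toBase c.hp t ⊔ Wd A.toBase c.hp s) := by
    intro r hr w hw
    rw [QS.mem_perp]
    intro u hu
    obtain ⟨a, ha, b, hb, rfl⟩ := Submodule.mem_sup.1 hu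
    have h1 : (qs (A.large p c.hp)).b a w = 0 := by
      by_cases hrt : r = t
      · rw [hrt] at hw
        exact (QS.mem_perp _).1 (A.Wd_le_perp c hw) a ha
      · exact (QS.mem_perp _).1 (A.perp_of_comm' (hline r hr) c (l.L_comm B hr ht) hw) a ha
    have h2 : (qs (A.large p c.hp)).b b w = 0 := by
      by_cases hrs : r = s
      · rw [hrs] at hw
        exact (QS.mem_perp _).1 (A.Wd_le_perp c' hw) b hb
      · exact (QS.mem_perp _).1 (A.perp_of_comm' (hline r hr) c' (l.L_comm B hr hs) hw) b hb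
    rw [map_add, LinearMap.add_apply, h1, h2, add_zero]
  have hM : Nat.card ((qs (A.large p c.hp)).perp (Wd A.toBase c.hp t ⊔ Wd A.toBase c.hp s)) = 16 := by
    have h1 := (qs (A.large p c.hp)).card_perp (Wd A.toBase c.hp t ⊔ Wd A.toBase c.hp s)
    rw [A.cardV c.hp, QS.card_sup (fun v hv hv' => hdisj t ht s hs l.ne v hv hv'), A.card_Wd c,
      show Wd A.toBase c.hp s = Wd A.toBase c'.hp s from rfl, A.card_Wd c'] at h1
    omega
  obtain ⟨a, b, e, ha, hb, he, hnd, -, -⟩ := l.five B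
  have hmem : ∀ i : Fin 5, (![t, s, a, b, e] : Fin 5 → G) i ∈ Lset Q t s := by
    intro i
    fin_cases i
    · exact ht
    · exact hs
    · exact ha
    · exact hb
    · exact he
  have hinj : ∀ i j : Fin 5, i ≠ j → (![t, s, a, b, e] : Fin 5 → G) i ≠ (![t, s, a, b, e] : Fin 5 → G) j := by
    have h1 : (List.ofFn (![t, s, a, b, e] : Fin 5 → G)).Nodup := by
      have e1 : List.ofFn (![t, s, a, b, e] : Fin 5 → G) = [t, s, a, b, e] := by simp [List.ofFn_succ]
      rw [e1]; exact hnd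
    intro i j hij h
    exact hij (List.nodup_ofFn.1 h1 h)
  obtain ⟨i, hi⟩ := QS.cover (fun i => Wd B c.hp ((![t, s, a, b, e] : Fin 5 → G) i)) _ hM
    (fun i => A.card_Wd (hline _ (hmem i))) (fun i => hle _ (hmem i))
    (fun i j hij => hdisj _ (hmem i) _ (hmem j) (hinj i j hij)) hg hg0
  exact ⟨_, hmem i, hi⟩

/-- (A5) -/
theorem polar [Finite G] (A : AllU P Q) {x : G} (c : Line P Q p t) (c' : Line P Q p s) (l : Line P Q t s)
    (hp : p ∉ Lset Q t s) (hx : Line P Q p x) : ∃ r ∈ Lset Q t s, r * x = x * r := by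
  have B := A.toBase
  have hcl := A.comm_line c l c'.com
  have hline : ∀ r ∈ Lset Q t s, Line P Q p r := by
    intro r hr
    refine A.all p c.hp r (l.L_sub B hr) ?_ (hcl r hr).symm
    rintro rfl
    exact hp hr
  have hdisj : ∀ v ∈ Wd B c.hp t, v ∈ Wd B c.hp s → v = 0 := by
    intro v hv hv'
    by_contra hv0
    obtain ⟨h1, h2⟩ := A.meet' c c' hv hv' hv0
    obtain ⟨-, e1⟩ := c.of_mem B (Or.inr (Or.inl rfl)) h1 l.ne
    apply hp
    rw [e1]
    exact Or.inl rfl
  obtain ⟨u, v, huv⟩ := A.Wd_four hx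
  have hM : 4 < Nat.card ((qs (A.large p c.hp)).perp (Wd A.toBase c.hp t ⊔ Wd A.toBase c.hp s)) := by
    have h1 := (qs (A.large p c.hp)).card_perp (Wd A.toBase c.hp t ⊔ Wd A.toBase c.hp s)
    rw [A.cardV c.hp, QS.card_sup hdisj, A.card_Wd c,
      show Wd A.toBase c.hp s = Wd A.toBase c'.hp s from rfl, A.card_Wd c'] at h1
    omega
  obtain ⟨g, hg, hg0, hgx⟩ := QS.exists_perp (qs (A.large p c.hp)) hM huv
  obtain ⟨r, hr, hgr⟩ := A.cover c c' l hp hg hg0
  refine ⟨r, hr, ?_⟩
  exact (A.comm_of_perp' hx (hline r hr) hgr hgx hg0).symm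

/-- opposite points -/
theorem opp_of_not_comm [Finite G] (A : AllU P Q) (c : Line P Q p t) (c' : Line P Q p s) (hts : t * s ≠ s * t) :
    ∀ w ∈ Wd A.toBase c.hp s, w ∈ (qs (A.large p c.hp)).perp (Wd A.toBase c.hp t) → w = 0 := by
  intro w hw hw'
  by_contra hw0
  exact hts (A.comm_of_perp' c c' hw hw' hw0)

/-- `C_{Q t}(p)` acts semiregularly on the points opposite to `t` -/
theorem semireg [Finite G] (A : AllU P Q) (c : Line P Q p t) (c' : Line P Q p s) (hts : t * s ≠ s * t) {x : G}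
    (hx : x ∈ Q t) (hxp : x * p = p * x) (hxs : x * s = s * x) : x = 1 := by
  have B := A.toBase
  set S := qs (A.large p c.hp) with hS
  set X := ac (A.large p c.hp) x hxp with hX
  have hXiso : S.Iso X := ac_iso (A.large p c.hp) x hxp
  have hopp := A.opp_of_not_comm c c' hts
  have hopp' := A.opp_of_not_comm c' c (Ne.symm hts)
  -- `X` fixes `W_t`
  have h1 : ∀ u ∈ Wd A.toBase c.hp t, X u = u := fun u hu => Com.X_U B c.toCom hx hxp hu
  -- `X v + v ∈ W_t^⊥`
  have h2 : ∀ v, X v + v ∈ S.perp (Wd A.toBase c.hp t) := by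
    intro v
    rw [QS.mem_perp]
    intro u hu
    have h3 := hXiso.b_eq u v
    rw [h1 u hu] at h3
    rw [map_add, h3]
    have : ∀ a : ZMod 2, a + a = 0 := by decide
    exact this _
  -- `X` preserves `W_s`
  have h3 : ∀ w ∈ Wd A.toBase c.hp s, X w ∈ Wd A.toBase c.hp s := by
    rintro _ ⟨e, he, rfl⟩
    have h4 : x * e * x⁻¹ ∈ Q s := (B.large s c'.ht).conj_mem x hxs e he
    refine ⟨⟨x * e * x⁻¹, (A.large p c.hp).conj_mem x hxp e e.2⟩, h4, ?_⟩
    exact (ac_pr (A.large p c.hp) x hxp e e.2).symm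
  have h4 : ∀ w ∈ Wd A.toBase c.hp s, X w = w := fun w hw =>
    eq_of_add (hopp _ (Submodule.add_mem _ (h3 w hw) hw) (h2 w))
  have h5 : ∀ v, X v + v ∈ S.perp (Wd A.toBase c.hp s) := by
    intro v
    rw [QS.mem_perp]
    intro u hu
    have h6 := hXiso.b_eq u v
    rw [h4 u hu] at h6
    rw [map_add, h6]
    have : ∀ a : ZMod 2, a + a = 0 := by decide
    exact this _
  -- `T0`
  have h6 : ∀ r ∈ S.perp (Wd A.toBase c.hp t ⊔ Wd A.toBase c.hp s), X r = r := by
    intro r hr
    have h7 : r ∈ S.perp (Wd A.toBase c.hp t) := by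
      rw [QS.mem_perp]
      exact fun u hu => (QS.mem_perp _).1 hr u (Submodule.mem_sup_left hu)
    have h8 : X r + r ∈ Wd A.toBase c.hp t := by
      rw [c.Wd_eq B] at h7
      exact c.good.X_perp B hx hxp h7
    exact eq_of_add (hopp' _ h8 (h5 r))
  have h7 : ∀ v, X v = v := by
    intro v
    have h8 : X v + v ∈ Wd A.toBase c.hp t ⊔ Wd A.toBase c.hp s := by
      rw [← S.perp_perp (Wd A.toBase c.hp t ⊔ Wd A.toBase c.hp s), QS.mem_perp]
      intro r hr
      have h9 := hXiso.b_eq r v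
      rw [h6 r hr] at h9
      rw [map_add, h9]
      have : ∀ a : ZMod 2, a + a = 0 := by decide
      exact this _
    obtain ⟨a, ha, b, hb, hab⟩ := Submodule.mem_sup.1 h8
    have hb0 : b = 0 := by
      apply hopp b hb
      have h9 : b = (X v + v) + a := by
        rw [← hab, add_comm a b, add_assoc, vadd_self, add_zero]
      rw [h9]
      exact Submodule.add_mem _ (h2 v) (A.Wd_le_perp c ha)
    have ha0 : a = 0 := by
      apply hopp' a ha
      have h9 : a = X v + v := by rw [← hab, hb0, add_zero]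
      rw [h9]; exact h5 v
    apply eq_of_add
    rw [← hab, ha0, hb0, add_zero]
  have h8 : x ∈ Q p := mem_of_ac _ _ hxp h7
  have h9 : (A.large p c.hp).pr ⟨x, h8⟩ = 0 := by
    apply hopp' _ (show _ ∈ Wd A.toBase c.hp t from ⟨⟨x, h8⟩, hx, rfl⟩)
    show (A.large p c.hp).pr ⟨x, h8⟩ ∈ (qs (A.large p c.hp)).perp (Wd A.toBase c.hp s)
    rw [show Wd A.toBase c.hp s = Wd A.toBase c'.hp s from rfl, c'.Wd_eq B]
    exact (c'.good.fix_iff B h8).2 hxs.symm
  rcases (A.large p c.hp).pr_eq_zero.1 h9 with h10 | h10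
  · exact h10
  · exfalso
    have h11 : x = p := h10
    rw [h11] at hx
    exact Com.notMem B c.symm.toCom hx

/-- a point which commutes with `s` and is not on the line `L(p, s)` -/
theorem exists_partner [Finite G] (A : AllU P Q) (c' : Line P Q p s)
    (hO : ∀ N : Subgroup (Subgroup.centralizer ({p} : Set G)), N.Normal → IsPGroup 2 N →
      ∀ x ∈ N, (x : G) ∈ Q p) : ∃ s', ∃ _ : Line P Q p s', s * s' = s' * s ∧ s' ∉ Lset Q p s := by
  have B := A.toBase
  obtain ⟨t, c, -, hopp'⟩ := c'.exists_opposite B hO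
  have hopp := (c'.sing B).opp_symm (c.sing B) hopp'
  obtain ⟨w0, hw0, w1, hw1, hw00, hw10, hw01⟩ := (c.sing B).exists_basis
  obtain ⟨v0, hv0, v1, hv1, b1, b2, b3, b4⟩ := (c.sing B).exists_dual_basis (c'.sing B) hopp hw0 hw1 hw00 hw10 hw01
  obtain ⟨d1, h1, h1', e1⟩ := c.W_mem B hw0
  obtain ⟨d2, h2, h2', e2⟩ := c.W_mem B hw1
  have h10 : d1 ≠ 1 := by
    rintro rfl
    exact hw00 (e1.symm.trans (B.large p c.hp).pr_one)
  have h20 : d2 ≠ 1 := by
    rintro rfl
    exact hw10 (e2.symm.trans (B.large p c.hp).pr_one)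
  have h12 : d1 ≠ d2 := by
    rintro rfl
    exact hw01 (e1.symm.trans e2)
  obtain ⟨ρ, -, -, -, r4⟩ := c.exists_rho B h1 h1' h2 h2' h10 h20 h12
  rw [e1, e2] at r4
  have hdisj : ∀ v ∈ QS.W (Com.T B c.toCom), v ∈ QS.W (Com.T B c'.toCom) → v = 0 := fun v hv hv' =>
    hopp' v hv ((c'.sing B).W_le hv')
  have hM : 4 < Nat.card ((qs (A.large p c.hp)).perp (QS.W (Com.T B c.toCom) ⊔ QS.W (Com.T B c'.toCom))) := by
    have h3 := (qs (A.large p c.hp)).card_perp (QS.W (Com.T B c.toCom) ⊔ QS.W (Com.T B c'.toCom))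
    rw [A.cardV c.hp, QS.card_sup hdisj, (c.sing B).card, (c'.sing B).card] at h3
    omega
  obtain ⟨u, hu, hu0, hqu⟩ := QS.exists_singular (qs (A.large p c.hp)) hM
  have hut : u ∈ (qs (A.large p c.hp)).perp (QS.W (Com.T B c.toCom)) := by
    rw [QS.mem_perp]
    exact fun w hw => (QS.mem_perp _).1 hu w (Submodule.mem_sup_left hw)
  have hus : u ∈ (qs (A.large p c.hp)).perp (QS.W (Com.T B c'.toCom)) := by
    rw [QS.mem_perp]
    exact fun w hw => (QS.mem_perp _).1 hu w (Submodule.mem_sup_right hw)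
  obtain ⟨y, hy, hyp, hact⟩ := r4 u hut
  -- `g = w0'^y`
  have key : ∃ y ∈ Q t, ∃ hyp : y * p = p * y, ∃ a ∈ QS.W (Com.T B c.toCom),
      ac (B.large p c.hp) y hyp v0 = v0 + u + a ∧
      ac (B.large p c.hp) y hyp v0 ∈ (qs (A.large p c.hp)).perp (QS.W (Com.T B c'.toCom)) := by
    set S := qs (A.large p c.hp) with hS
    set X := ac (A.large p c.hp) y hyp with hX
    have hXiso : S.Iso X := ac_iso (A.large p c.hp) y hyp
    have hXfix : ∀ w ∈ QS.W (Com.T B c.toCom), X w = w := by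
      intro w hw
      exact Com.X_U B c.toCom hy hyp ((c.typeU B).W_le hw)
    have haa : ∀ a : ZMod 2, a + a = 0 := by decide
    -- `a0`
    have ha0 : X v0 + v0 + u ∈ QS.W (Com.T B c.toCom) := by
      rw [← S.perp_perp (QS.W (Com.T B c.toCom)), QS.mem_perp]
      intro r hr
      have k1 := hXiso.b_eq r v0
      have k2 : X r = r + S.b u r • w0 + S.b (ρ u) r • w1 := hact r hr
      have k3 : S.b w0 (X v0) = 1 := by
        have := hXiso.b_eq w0 v0
        rw [hXfix w0 hw0] at this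
        rw [this]; exact b1
      have k4 : S.b w1 (X v0) = 0 := by
        have := hXiso.b_eq w1 v0
        rw [hXfix w1 hw1] at this
        rw [this]; exact b4
      rw [k2] at k1
      simp only [map_add, map_smul, LinearMap.add_apply, LinearMap.smul_apply, smul_eq_mul, k3, k4,
        mul_one, mul_zero, add_zero] at k1
      -- `b r (X v0) + b u r = b r v0`
      rw [map_add, map_add, ← k1, S.b_comm u r]
      have : S.b r (X v0) + (S.b r (X v0) + S.b r u) + S.b r u =
          (S.b r (X v0) + S.b r (X v0)) + (S.b r u + S.b r u) := by ring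
      rw [this, haa, haa, add_zero]
    set a := X v0 + v0 + u with ha
    have hg : X v0 = v0 + u + a := by
      have : v0 + u + a = X v0 + (v0 + v0) + (u + u) := by rw [ha]; abel
      rw [this, vadd_self, vadd_self, add_zero, add_zero]
    have hqv0 : S.q v0 = 0 := (c'.sing B).q_W hv0
    have hqa : S.q a = 0 := (c.sing B).q_W ha0
    have hbua : S.b u a = 0 := by rw [S.b_comm]; exact (QS.mem_perp _).1 hut a ha0
    have hbvg : S.b v0 (X v0) = 0 := by
      have k1 := hXiso v0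
      rw [hqv0, hg, add_assoc, S.q_add, S.q_add, hqv0, hqu, hqa, hbua] at k1
      rw [hg, add_assoc, map_add, S.b_self, zero_add]
      simpa using k1
    rcases zm_cases (S.b v1 (X v0)) with hb | hb
    · refine ⟨y, hy, hyp, a, ha0, hg, ?_⟩
      rw [QS.mem_perp]
      intro w hw
      have hv00 : v0 ≠ 0 := by
        rintro rfl
        rw [map_zero] at b1; exact absurd b1 (by decide)
      have hv10 : v1 ≠ 0 := by
        rintro rfl
        rw [map_zero] at b2; exact absurd b2 (by decide)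
      have hv01 : v0 ≠ v1 := by
        rintro rfl
        rw [b1] at b3; exact absurd b3 (by decide)
      rcases QS.four (c'.sing B).card hv0 hv1 hw hv00 hv10 hv01 with rfl | rfl | rfl | rfl
      · rw [map_zero]; rfl
      · exact hbvg
      · exact hb
      · rw [map_add, LinearMap.add_apply]
        show S.b v0 (X v0) + S.b v1 (X v0) = 0
        rw [hbvg, hb, add_zero]
    · -- replace `y` by `y t`
      have hytp : y * t * p = p * (y * t) := by rw [mul_assoc, ← c.com, ← mul_assoc, hyp, mul_assoc]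
      have hXT : ac (A.large p c.hp) (y * t) hytp v0 = X v0 + w1 := by
        rw [ac_mul _ _ _ hyp c.com.symm]
        have k1 : ac (A.large p c.hp) t c.com.symm v0 = v0 + w1 := by
          have k2 := (c.sing B).formula hw0 hw1 hw00 hw10 hw01 v0
          have k3 : S.b v0 w0 = 1 := by rw [S.b_comm]; exact b1
          have k4 : S.b v0 w1 = 0 := by rw [S.b_comm]; exact b4
          have k5 : Com.T B c.toCom v0 = v0 + S.b v0 w0 • w1 + S.b v0 w1 • w0 := k2
          rw [k3, k4, one_smul, zero_smul, add_zero] at k5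
          exact k5
        rw [k1, map_add]
        show X v0 + X w1 = _
        rw [hXfix w1 hw1]
      refine ⟨y * t, mul_mem hy (B.large t c.ht).z_mem, hytp, a + w1, Submodule.add_mem _ ha0 hw1, ?_, ?_⟩
      · rw [hXT, hg]; abel
      · rw [hXT, QS.mem_perp]
        intro w hw
        have hv00 : v0 ≠ 0 := by
          rintro rfl
          rw [map_zero] at b1; exact absurd b1 (by decide)
        have hv10 : v1 ≠ 0 := by
          rintro rfl
          rw [map_zero] at b2; exact absurd b2 (by decide)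
        have hv01 : v0 ≠ v1 := by
          rintro rfl
          rw [b1] at b3; exact absurd b3 (by decide)
        have k4 : S.b v0 w1 = 0 := by rw [S.b_comm]; exact b4
        have k5 : S.b v1 w1 = 1 := by rw [S.b_comm]; exact b2
        have m1 : S.b v0 (X v0 + w1) = 0 := by rw [map_add, hbvg, k4, add_zero]
        have m2 : S.b v1 (X v0 + w1) = 0 := by rw [map_add, hb, k5]; decide
        rcases QS.four (c'.sing B).card hv0 hv1 hw hv00 hv10 hv01 with rfl | rfl | rfl | rfl
        · rw [map_zero]; rfl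
        · exact m1
        · exact m2
        · have e3 : S.b (v0 + v1) = S.b v0 + S.b v1 := map_add _ _ _
          rw [e3, LinearMap.add_apply, m1, m2, add_zero]
  obtain ⟨y, hy, hyp, a, ha, hg, hgs⟩ := key
  have hypp : y * p * y⁻¹ = p := by rw [hyp]; group
  have l : Line P Q p (y * s * y⁻¹) := by
    have := c'.conj B y
    rwa [hypp] at this
  have hv0' : v0 ∈ Wd A.toBase c.hp s := by
    rw [show Wd A.toBase c.hp s = Wd A.toBase c'.hp s from rfl, c'.Wd_eq B]; exact hv0
  have hgl : ac (B.large p c.hp) y hyp v0 ∈ Wd A.toBase c.hp (y * s * y⁻¹) := by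
    obtain ⟨e, he, hee⟩ := hv0'
    refine ⟨⟨y * e * y⁻¹, (A.large p c.hp).conj_mem y hyp e e.2⟩, B.Q_conj s c'.ht y e he, ?_⟩
    rw [← hee]
    exact (ac_pr (A.large p c.hp) y hyp e e.2).symm
  have hv00 : v0 ≠ 0 := by
    rintro rfl
    rw [map_zero] at b1; exact absurd b1 (by decide)
  have hg0 : ac (B.large p c.hp) y hyp v0 ≠ 0 := fun h => hv00 ((LinearEquiv.map_eq_zero_iff _).1 h)
  refine ⟨_, l, A.comm_of_perp' c' l hgl (by
    show _ ∈ (qs (A.large p c.hp)).perp (Wd A.toBase c'.hp s)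
    rw [c'.Wd_eq B]; exact hgs) hg0, ?_⟩
  intro hL
  obtain ⟨-, hL'⟩ := c'.of_mem B (Or.inl rfl) hL l.ne
  have h3 := c'.Wd_congr B l hL'
  rw [show Wd A.toBase c.hp (y * s * y⁻¹) = Wd B c'.hp (y * s * y⁻¹) from rfl, h3, c'.Wd_eq B] at hgl
  have h4 : u + a ∈ QS.W (Com.T B c'.toCom) := by
    have e3 : u + a = v0 + ac (B.large p c.hp) y hyp v0 := by
      rw [hg, add_assoc v0, ← add_assoc, vadd_self, zero_add]
    rw [e3]; exact Submodule.add_mem _ hv0 hgl
  have h5 : u + a = 0 := hopp _ h4 (Submodule.add_mem _ hut ((c.sing B).W_le ha))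
  have h6 : u = a := eq_of_add h5
  apply hu0
  apply hopp' u (by rw [h6]; exact ha) hus

end AllU

end Cfsg.Agent.LargeExtra.WCIrr
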