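import Cfsg.Agent.LargeExtra.WG10

/-!
# Large extraspecial 2-subgroups, case I, `|Q| = 2 ^ 9`, all commuting pairs of type U: the counts 180 and 128
(helper888)
-/

set_option autoImplicit false

namespace Cfsg.Agent.LargeExtra.WCIrr

open Cfsg.Agent.Co2Type.Quad Cfsg.Agent.LargeExtra.WC

variable {G : Type*} [Group G] {P : Set G} {Q : G → Subgroup G} {p t s : G}

theorem Line.ncard_L [Finite G] (B : Base P Q) (c : Line P Q p t) : (Lset Q p t \ {p}).ncard = 4 := by
  classical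
  obtain ⟨a, b, e, ha, hb, he, hnd, hall, -⟩ := c.five B
  have hnd' : [t, a, b, e].Nodup := (List.nodup_cons.1 hnd).2
  have hp : p ∉ [t, a, b, e] := (List.nodup_cons.1 hnd).1
  have h1 : Lset Q p t \ {p} = (([t, a, b, e].toFinset : Finset G) : Set G) := by
    ext x
    simp only [Set.mem_sdiff, Set.mem_singleton_iff, List.coe_toFinset, List.mem_cons, List.not_mem_nil, or_false,
      Set.mem_ofPred_eq]
    constructor
    · rintro ⟨hx, hxp⟩
      rcases hall x hx with h | h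
      · exact absurd h hxp
      · exact h
    · rintro (rfl | rfl | rfl | rfl)
      · exact ⟨Or.inr (Or.inl rfl), fun h => hp (by rw [← h]; simp)⟩
      · exact ⟨ha, fun h => hp (by rw [← h]; simp)⟩
      · exact ⟨hb, fun h => hp (by rw [← h]; simp)⟩
      · exact ⟨he, fun h => hp (by rw [← h]; simp)⟩
  rw [h1, Set.ncard_coe_finset, List.toFinset_card_of_nodup hnd']
  rfl

/-- the points of the residue of `p` -/
def nbr (P : Set G) (p : G) : Set G := {y | y ∈ P ∧ y ≠ p ∧ y * p = p * y}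

/-- those commuting with `r` -/
def AA (P : Set G) (p r : G) : Set G := {y | y ∈ P ∧ y ≠ p ∧ y * p = p * y ∧ y * r = r * y}

/-- those opposite to `r` -/
def BB (P : Set G) (p r : G) : Set G := {y | y ∈ P ∧ y * p = p * y ∧ y * r ≠ r * y}

namespace AllU

variable [Finite G]

theorem line_of_AA (A : AllU P Q) (c : Line P Q p t) {r y : G} (hy : y ∈ AA P p r) : Line P Q p y :=
  A.all p c.hp y hy.1 (Ne.symm hy.2.1) hy.2.2.1.symm

theorem ncard_Wd (A : AllU P Q) (c : Line P Q p t) :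
    {v : (A.large p c.hp).V | v ∈ Wd A.toBase c.hp t ∧ v ≠ 0}.ncard = 3 := by
  have h1 := QS.card_ne_zero (Wd A.toBase c.hp t)
  rw [A.card_Wd c] at h1
  have h2 : {v : (A.large p c.hp).V | v ∈ Wd A.toBase c.hp t ∧ v ≠ 0}.ncard =
    Nat.card {v : (A.large p c.hp).V // v ∈ Wd A.toBase c.hp t ∧ v ≠ 0} := rfl
  omega

/-- (C1) -/
theorem card_AA_le (A : AllU P Q) (c : Line P Q p t) : (AA P p t).ncard ≤ 52 := by
  have B := A.toBase
  set T : Set (A.large p c.hp).V := {v | v ∈ (qs (A.large p c.hp)).perp (Wd A.toBase c.hp t) ∧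
    v ∉ Wd A.toBase c.hp t ∧ (qs (A.large p c.hp)).q v = 0} with hT
  have hTc : T.ncard ≤ 36 := QS.card_sing_le (A.cardV c.hp) (Wd A.toBase c.hp t)
    (fun w hw => A.q_Wd c hw) (A.Wd_le_perp c) (A.card_Wd c)
  set AA' : Set G := {y | y ∈ AA P p t ∧ y ∉ Lset Q p t} with hAA'
  have h1 : AA'.ncard * 3 ≤ T.ncard * 4 := by
    apply dcount (fun y v => v ∈ Wd A.toBase c.hp y)
    · rintro y ⟨hy, hyL⟩
      have l := A.line_of_AA c hy
      have h2 := A.ncard_Wd l
      rw [← h2]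
      apply Set.ncard_le_ncard _ (Set.toFinite _)
      rintro v ⟨hv, hv0⟩
      refine ⟨⟨?_, ?_, A.q_Wd l hv⟩, hv⟩
      · exact A.perp_of_comm' l c hy.2.2.2 hv
      · intro hv'
        exact hyL (A.meet' c l hv' hv hv0).1
    · rintro v ⟨hv1, hv2, hv3⟩
      by_cases hne : ∃ y0, y0 ∈ AA' ∧ v ∈ Wd A.toBase c.hp y0
      · obtain ⟨y0, hy0, hvy0⟩ := hne
        have l0 := A.line_of_AA c hy0.1
        rw [← l0.ncard_L B]
        apply Set.ncard_le_ncard _ (Set.toFinite _)
        rintro y ⟨hy, hvy⟩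
        have l := A.line_of_AA c hy.1
        have hv0 : v ≠ 0 := by
          rintro rfl
          exact hv2 (Submodule.zero_mem _)
        exact A.meet' l0 l hvy0 hvy hv0
      · push Not at hne
        have : {a | a ∈ AA' ∧ v ∈ Wd A.toBase c.hp a} = ∅ := by
          ext y
          simp only [Set.mem_ofPred_eq, Set.mem_empty_iff_false, iff_false, not_and]
          exact hne y
        rw [this, Set.ncard_empty]
        norm_num
  have h2 : AA P p t ⊆ (Lset Q p t \ {p}) ∪ AA' := by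
    intro y hy
    by_cases hyL : y ∈ Lset Q p t
    · left
      exact ⟨hyL, hy.2.1⟩
    · right
      exact ⟨hy, hyL⟩
  have h3 := Set.ncard_le_ncard h2 (Set.toFinite _)
  have h4 := Set.ncard_union_le (Lset Q p t \ {p}) AA'
  rw [c.ncard_L B] at h4
  omega

/-- (C2) -/
theorem le_card_BB (A : AllU P Q) (c : Line P Q p t) (c' : Line P Q p s) (hts : t * s ≠ s * t) :
    128 ≤ (BB P p t).ncard := by
  have B := A.toBase
  have h1 := c.symm.good.card_R B
  have h2 := (qs (B.large t c.ht)).card_perp (QS.W (Com.T B c.symm.toCom))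
  have h3 := (c.symm.sing B).card
  have h4 := A.cardV c.ht
  rw [h3, h4] at h2
  have h5 : Nat.card ↥(Subgroup.centralizer ({p} : Set G) ⊓ Q t) = 128 := by
    have h6 : Nat.card ((qs (B.large t c.ht)).perp (QS.W (Com.T B c.symm.toCom))) = 64 := by omega
    rw [h1]
    show 2 * Nat.card ((qs (B.large t c.ht)).perp (QS.W (Com.T B c.symm.toCom))) = 128
    rw [h6]
  rw [← h5]
  have hmem : ∀ x : ↥(Subgroup.centralizer ({p} : Set G) ⊓ Q t), (x : G) * s * (x : G)⁻¹ ∈ BB P p t := by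
    intro x
    obtain ⟨hx1, hx2⟩ := Subgroup.mem_inf.1 x.2
    have hxp := Subgroup.mem_centralizer_singleton_iff.1 hx1
    have hxt : (x : G) * t = t * x := (B.large t c.ht).comm_z _ hx2
    refine ⟨B.conj_mem s c'.ht x, ?_, ?_⟩
    · have hxpp : (x : G) * p * (x : G)⁻¹ = p := by rw [hxp]; group
      calc (x : G) * s * (x : G)⁻¹ * p = (x : G) * s * (x : G)⁻¹ * ((x : G) * p * (x : G)⁻¹) := by rw [hxpp]
        _ = (x : G) * (s * p) * (x : G)⁻¹ := by group
        _ = (x : G) * (p * s) * (x : G)⁻¹ := by rw [c'.com]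
        _ = ((x : G) * p * (x : G)⁻¹) * ((x : G) * s * (x : G)⁻¹) := by group
        _ = _ := by rw [hxpp]
    · intro h
      apply hts
      have hxtt : (x : G) * t * (x : G)⁻¹ = t := by rw [hxt]; group
      have h6 : (x : G) * (s * t) * (x : G)⁻¹ = (x : G) * (t * s) * (x : G)⁻¹ := by
        calc (x : G) * (s * t) * (x : G)⁻¹ = ((x : G) * s * (x : G)⁻¹) * ((x : G) * t * (x : G)⁻¹) := by group
          _ = ((x : G) * t * (x : G)⁻¹) * ((x : G) * s * (x : G)⁻¹) := by rw [hxtt, h]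
          _ = _ := by group
      exact (mul_left_cancel (mul_right_cancel h6)).symm
  have hinj : Function.Injective (fun x : ↥(Subgroup.centralizer ({p} : Set G) ⊓ Q t) =>
      (⟨(x : G) * s * (x : G)⁻¹, hmem x⟩ : BB P p t)) := by
    intro x y hxy
    have h6 : (x : G) * s * (x : G)⁻¹ = (y : G) * s * (y : G)⁻¹ := congrArg Subtype.val hxy
    have h7 : ((y⁻¹ * x : ↥(Subgroup.centralizer ({p} : Set G) ⊓ Q t)) : G) * s =
        s * ((y⁻¹ * x : ↥(Subgroup.centralizer ({p} : Set G) ⊓ Q t)) : G) := by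
      show (y : G)⁻¹ * x * s = s * ((y : G)⁻¹ * x)
      calc (y : G)⁻¹ * x * s = (y : G)⁻¹ * ((x : G) * s * (x : G)⁻¹) * x := by group
        _ = (y : G)⁻¹ * ((y : G) * s * (y : G)⁻¹) * x := by rw [h6]
        _ = _ := by group
    obtain ⟨hx1, hx2⟩ := Subgroup.mem_inf.1 (y⁻¹ * x).2
    have h8 := A.semireg c c' hts hx2 (Subgroup.mem_centralizer_singleton_iff.1 hx1) h7
    have h9 : y⁻¹ * x = 1 := Subtype.ext h8
    exact (inv_mul_eq_one.1 h9).symm
  exact Nat.card_le_card_of_injective _ hinj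

/-- (C3a) -/
theorem le_card_inter (A : AllU P Q) (c : Line P Q p t) (c' : Line P Q p s) (l : Line P Q t s)
    (hp : p ∉ Lset Q t s) {r : G} (hr : r ∈ Lset Q t s) : 20 ≤ (AA P p r ∩ AA P p t).ncard := by
  have B := A.toBase
  have hcl := A.comm_line c l c'.com
  have hline : ∀ r ∈ Lset Q t s, Line P Q p r := by
    intro r hr
    refine A.all p c.hp r (l.L_sub B hr) ?_ (hcl r hr).symm
    rintro rfl
    exact hp hr
  have hdisj : ∀ v ∈ Wd B c.hp t, v ∈ Wd B c.hp s → v = 0 := by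
    intro v hv hv'
    by_contra hv0
    obtain ⟨h1, h2⟩ := A.meet' c c' hv hv' hv0
    obtain ⟨-, e1⟩ := c.of_mem B (Or.inr (Or.inl rfl)) h1 l.ne
    apply hp
    rw [e1]
    exact Or.inl rfl
  set M := (qs (A.large p c.hp)).perp (Wd A.toBase c.hp t ⊔ Wd A.toBase c.hp s) with hMd
  have hM : Nat.card M = 16 := by
    have h1 := (qs (A.large p c.hp)).card_perp (Wd A.toBase c.hp t ⊔ Wd A.toBase c.hp s)
    rw [A.cardV c.hp, QS.card_sup hdisj, A.card_Wd c,
      show Wd A.toBase c.hp s = Wd A.toBase c'.hp s from rfl, A.card_Wd c'] at h1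
    have h2 : 4 * 4 * Nat.card M = 256 := h1
    omega
  have hS : {v : (A.large p c.hp).V | v ∈ M ∧ v ≠ 0}.ncard = 15 := by
    have h1 := QS.card_ne_zero M
    rw [hM] at h1
    have h2 : {v : (A.large p c.hp).V | v ∈ M ∧ v ≠ 0}.ncard =
      Nat.card {v : (A.large p c.hp).V // v ∈ M ∧ v ≠ 0} := rfl
    omega
  have h1 : {v : (A.large p c.hp).V | v ∈ M ∧ v ≠ 0}.ncard * 4 ≤ (AA P p r ∩ AA P p t).ncard * 3 := by
    apply dcount (fun v y => v ∈ Wd A.toBase c.hp y)
    · rintro v ⟨hv, hv0⟩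
      obtain ⟨r', hr', hvr'⟩ := A.cover c c' l hp hv hv0
      have l' := hline r' hr'
      rw [← l'.ncard_L B]
      apply Set.ncard_le_ncard _ (Set.toFinite _)
      rintro y ⟨hy, hyp⟩
      have hyP := l'.L_sub B hy
      have hyc : y * p = p * y := l'.L_comm B hy (Or.inl rfl)
      have hyp' : y ≠ p := hyp
      have key : ∀ r ∈ Lset Q t s, y * r = r * y := by
        intro r hr
        have h2 := l'.K B A.h64 (hline r hr) (l.L_comm B hr' hr) y hy
        exact (mul_inv_eq_iff_eq_mul.1 h2).symm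
      refine ⟨⟨⟨hyP, hyp', hyc, key r hr⟩, ⟨hyP, hyp', hyc, key t (Or.inl rfl)⟩⟩, ?_⟩
      obtain ⟨ly, hLy⟩ := l'.of_mem B (Or.inl rfl) hy (Ne.symm hyp')
      rw [show Wd A.toBase c.hp y = Wd B l'.hp y from rfl, l'.Wd_congr B ly hLy]
      exact hvr'
    · rintro y ⟨hy, -⟩
      have ly := A.line_of_AA c hy
      rw [← A.ncard_Wd ly]
      apply Set.ncard_le_ncard _ (Set.toFinite _)
      rintro v ⟨⟨-, hv0⟩, hv⟩
      exact ⟨hv, hv0⟩
  rw [hS] at h1
  omega

/-- (C3) -/
theorem card_BB_le (A : AllU P Q) (c : Line P Q p t) (c' : Line P Q p s) (hts : t * s = s * t)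
    (hs : s ∉ Lset Q p t) : (BB P p t).ncard + 20 ≤ (AA P p s).ncard + 96 := by
  have B := A.toBase
  have hne : t ≠ s := by
    rintro rfl
    exact hs (Or.inr (Or.inl rfl))
  have l := A.all t c.ht s c'.ht hne hts
  have hp : p ∉ Lset Q t s := by
    intro hp
    obtain ⟨-, e1⟩ := l.of_mem B (Or.inl rfl) hp c.ne.symm
    apply hs
    rw [← Lset_symm (Q := Q) c.toCom, e1]
    exact Or.inr (Or.inl rfl)
  have hcl := A.comm_line c l c'.com
  obtain ⟨a, b, e, ha, hb, he, hnd, hall, -⟩ := l.five B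
  have hline : ∀ r ∈ Lset Q t s, Line P Q p r := by
    intro r hr
    refine A.all p c.hp r (l.L_sub B hr) ?_ (hcl r hr).symm
    rintro rfl
    exact hp hr
  have hdiff : ∀ r ∈ Lset Q t s, (AA P p r \ AA P p t).ncard + 20 ≤ (AA P p r).ncard := by
    intro r hr
    have h1 := A.le_card_inter c c' l hp hr
    have h2 := Set.ncard_inter_add_ncard_sdiff_eq_ncard (AA P p r) (AA P p t) (Set.toFinite _)
    omega
  have hsub : BB P p t ⊆ ((AA P p s \ AA P p t) ∪ (AA P p a \ AA P p t)) ∪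
      ((AA P p b \ AA P p t) ∪ (AA P p e \ AA P p t)) := by
    rintro x ⟨hx, hxp, hxt⟩
    have hxp' : x ≠ p := by
      rintro rfl
      exact hxt c.com
    have lx := A.all p c.hp x hx (Ne.symm hxp') hxp.symm
    obtain ⟨r, hr, hrx⟩ := A.polar c c' l hp lx
    have hxA : x ∉ AA P p t := fun h => hxt h.2.2.2
    have hxr : x ∈ AA P p r := ⟨hx, hxp', hxp, hrx.symm⟩
    rcases hall r hr with rfl | rfl | rfl | rfl | rfl
    · exact absurd hrx.symm hxt
    · exact Or.inl (Or.inl ⟨hxr, hxA⟩)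
    · exact Or.inl (Or.inr ⟨hxr, hxA⟩)
    · exact Or.inr (Or.inl ⟨hxr, hxA⟩)
    · exact Or.inr (Or.inr ⟨hxr, hxA⟩)
  have h1 := Set.ncard_le_ncard hsub (Set.toFinite _)
  have h2 := Set.ncard_union_le ((AA P p s \ AA P p t) ∪ (AA P p a \ AA P p t))
    ((AA P p b \ AA P p t) ∪ (AA P p e \ AA P p t))
  have h3 := Set.ncard_union_le (AA P p s \ AA P p t) (AA P p a \ AA P p t)
  have h4 := Set.ncard_union_le (AA P p b \ AA P p t) (AA P p e \ AA P p t)
  have ds := hdiff s (Or.inr (Or.inl rfl))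
  have da := hdiff a ha
  have db := hdiff b hb
  have de := hdiff e he
  have ca := A.card_AA_le (hline a ha)
  have cb := A.card_AA_le (hline b hb)
  have ce := A.card_AA_le (hline e he)
  omega

/-- **The counts** -/
theorem counts (A : AllU P Q) (hO : ∀ p ∈ P, ∀ N : Subgroup (Subgroup.centralizer ({p} : Set G)), N.Normal →
    IsPGroup 2 N → ∀ x ∈ N, (x : G) ∈ Q p) (c : Line P Q p s) :
    (AA P p s).ncard = 52 ∧ (BB P p s).ncard = 128 := by
  have B := A.toBase
  -- for every point `t` of the residue, `128 ≤ |BB t|`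
  have key : ∀ t, Line P Q p t → 128 ≤ (BB P p t).ncard := by
    intro t c
    obtain ⟨u, lu, -, hopp⟩ := c.exists_opposite B (hO p c.hp)
    apply A.le_card_BB c lu
    intro h
    obtain ⟨x, hx, y, hy, hx0, -, -⟩ := (lu.sing B).exists_basis
    apply hx0
    apply hopp x hx
    exact lu.perp_of_comm B A.h64 c h.symm hx
  obtain ⟨t, l, hst, ht⟩ := A.exists_partner c (hO p c.hp)
  have hs : s ∉ Lset Q p t := by
    intro hs
    apply ht
    obtain ⟨-, e1⟩ := l.of_mem B (Or.inl rfl) hs c.ne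
    rw [e1]
    exact Or.inr (Or.inl rfl)
  have h1 := key t l
  have h2 := A.card_BB_le l c hst.symm hs
  have h3 := A.card_AA_le c
  have h4 := key s c
  have h5 := A.card_BB_le c l hst ht
  have h6 := A.card_AA_le l
  omega

theorem card_nbr (A : AllU P Q) (hO : ∀ p ∈ P, ∀ N : Subgroup (Subgroup.centralizer ({p} : Set G)), N.Normal →
    IsPGroup 2 N → ∀ x ∈ N, (x : G) ∈ Q p) (c : Line P Q p s) : (nbr P p).ncard = 180 := by
  obtain ⟨h1, h2⟩ := A.counts hO c
  have h3 : nbr P p = AA P p s ∪ BB P p s := by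
    ext y
    constructor
    · rintro ⟨k1, k2, k3⟩
      by_cases hy : y * s = s * y
      · exact Or.inl ⟨k1, k2, k3, hy⟩
      · exact Or.inr ⟨k1, k3, hy⟩
    · rintro (⟨k1, k2, k3, k4⟩ | ⟨k1, k3, k4⟩)
      · exact ⟨k1, k2, k3⟩
      · refine ⟨k1, ?_, k3⟩
        rintro rfl
        exact k4 c.com
  have h4 : Disjoint (AA P p s) (BB P p s) := by
    rw [Set.disjoint_left]
    rintro y hy hy'
    exact hy'.2.2 hy.2.2.2
  rw [h3, Set.ncard_union_eq h4 (Set.toFinite _) (Set.toFinite _), h1, h2]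

end AllU

end Cfsg.Agent.LargeExtra.WCIrr
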