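import Cfsg.Agent.LargeExtra.WG11
import Cfsg.Agent.LargeExtra.NineUnitary.Geo

/-!
# Large extraspecial 2-subgroups, case I, `|Q| = 2 ^ 9`, all commuting pairs of type U: the structure `Geo6`
(helper888)
-/

set_option autoImplicit false

namespace Cfsg.Agent.LargeExtra.WCIrr

open Cfsg.Agent.Co2Type.Quad Cfsg.Agent.LargeExtra.WC Cfsg.Agent.LargeExtra.NineUnitary

variable {G : Type*} [Group G] {P : Set G} {Q : G → Subgroup G} {p t s : G}

/-- **all commuting pairs of type U: `Geo6`** -/
theorem AllU.geo6 [Finite G] (A : AllU P Q)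
    (hO : ∀ p ∈ P, ∀ N : Subgroup (Subgroup.centralizer ({p} : Set G)), N.Normal →
      IsPGroup 2 N → ∀ x ∈ N, (x : G) ∈ Q p)
    (hex : ∃ p t, Com P p t) : Geo6 P Q where
  conj_mem := A.conj_mem
  exists_conj := A.exists_conj
  large := A.large
  Q_conj := A.Q_conj
  eq_of_mem := A.eq_of_mem
  mul_notMem := fun p hp t ht hne hc => (A.all p hp t ht hne hc).good.nmem
  line := by
    intro p hp t ht hne hc
    have B := A.toBase
    have l := A.all p hp t ht hne hc
    obtain ⟨a, b, e, ha, hb, he, hnd, hall, hprod⟩ := l.five B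
    have hpL : p ∈ Lset Q p t := Or.inl rfl
    have htL : t ∈ Lset Q p t := Or.inr (Or.inl rfl)
    have hmem : ∀ x ∈ [p, t, a, b, e], x ∈ Lset Q p t := by
      intro x hx
      simp only [List.mem_cons, List.not_mem_nil, or_false] at hx
      rcases hx with rfl | rfl | rfl | rfl | rfl
      · exact hpL
      · exact htL
      · exact ha
      · exact hb
      · exact he
    refine ⟨a, l.L_sub B ha, b, l.L_sub B hb, e, l.L_sub B he, hnd, ?_, ?_, ?_, ?_⟩
    · intro x hx y hy
      exact l.L_comm B (hmem x hx) (hmem y hy)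
    · rw [← hprod]
      simp [mul_assoc]
    · intro x hx y hy z hz hxy hxz hyz
      exact l.mul_mem_Q B (hmem x hx) (hmem y hy) (hmem z hz) hxy hxz hyz
    · intro s hs hsp hst
      obtain ⟨h1, h2⟩ := l.mem_of_mul_mem B (by rw [A.cardV hp]; norm_num) hs hsp hst
      have h3 := hall s h1
      simp only [List.mem_cons, List.not_mem_nil, or_false]
      rcases h3 with h | h | h | h | h
      · exact absurd h h2
      · exact Or.inl h
      · exact Or.inr (Or.inl h)
      · exact Or.inr (Or.inr (Or.inl h))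
      · exact Or.inr (Or.inr (Or.inr h))
  comm_of := fun p hp t ht s hs htp hsp h => A.comm_of_sq hp ht hs htp hsp h
  ord_three := by
    intro p hp t ht s hs htp hsp hts
    have htp' : t ≠ p := by
      rintro rfl
      exact hts hsp.symm
    have hsp' : s ≠ p := by
      rintro rfl
      exact hts htp
    exact A.ord_three (A.all p hp t ht htp'.symm htp.symm) (A.all p hp s hs hsp'.symm hsp.symm) hts
  no_tri := by
    intro p hp t ht s hs x hx htp hsp hxp h1 h2 h3 hts
    exact A.no_tri (A.all p hp t ht h1.symm htp.symm) (A.all p hp s hs h2.symm hsp.symm)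
      (A.all p hp x hx h3.symm hxp.symm) hts
  polar := by
    intro p hp t ht s hs x hx htp hsp hxp h1 h2 hts hn
    have B := A.toBase
    by_cases hxp' : x = p
    · exact ⟨t, ht, Or.inl rfl, by rw [hxp']; exact htp⟩
    have c := A.all p hp t ht h1.symm htp.symm
    have c' := A.all p hp s hs h2.symm hsp.symm
    have lx := A.all p hp x hx (Ne.symm hxp') hxp.symm
    have hne : t ≠ s := by
      rintro rfl
      apply hn
      rw [B.sq ht]; exact one_mem _
    have l := A.all t ht s hs hne hts
    have hpn : p ∉ Lset Q t s := by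
      intro h
      apply hn
      exact l.mul_mem_Q B (Or.inl rfl) (Or.inr (Or.inl rfl)) h hne h1 h2
    obtain ⟨r, hr, hrx⟩ := A.polar c c' l hpn lx
    refine ⟨r, l.L_sub B hr, ?_, hrx⟩
    by_cases hrt : r = t
    · exact Or.inl hrt
    · right
      have hrt' : r * t = t * r := l.L_comm B hr (Or.inl rfl)
      exact ⟨hrt', (A.mem_L_iff l (l.L_sub B hr) hrt').1 ⟨hr, hrt⟩⟩
  card_nbr := by
    intro p hp
    obtain ⟨p0, t0, c0⟩ := hex
    obtain ⟨g, hg⟩ := A.exists_conj p0 c0.hp p hp
    have l0 := A.all p0 c0.hp t0 c0.ht c0.ne c0.com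
    have l := l0.conj A.toBase g
    rw [hg] at l
    exact A.card_nbr hO l
  card_far := by
    intro p hp t ht hne hc
    exact (A.counts hO (A.all p hp t ht hne.symm hc.symm)).2

end Cfsg.Agent.LargeExtra.WCIrr
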