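import Cfsg.Agent.LargeExtra.WG2

/-!
# Large extraspecial 2-subgroups, case I, any width: the components of a line as graphs (helper888)

For a third point `e` of the line `L(p, t)` the group `R_e = C_{Q e}(L)` is, modulo `F = ⟨L⟩`, the graph of an isometry
`W_p^⊥ / W_p → W_t^⊥ / W_t`; here it is the relation `Gr e v w`.
-/

set_option autoImplicit false

namespace Cfsg.Agent.LargeExtra.WCIrr

open Cfsg.Agent.Co2Type.Quad Cfsg.Agent.LargeExtra.WC

variable {G : Type*} [Group G] {P : Set G} {Q : G → Subgroup G} {p t : G}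

/-- the component of `e`, as a relation between `V_p` and `V_t` -/
def Gr (B : Base P Q) (c : Com P p t) (e : G) (v : (B.large p c.hp).V) (w : (B.large t c.ht).V) : Prop :=
  ∃ (r : G) (hr : r ∈ Q p) (x : G) (hx : x ∈ Q t), (∀ a ∈ Lset Q p t, r * a = a * r) ∧
    (∀ a ∈ Lset Q p t, x * a = a * x) ∧ (B.large p c.hp).pr ⟨r, hr⟩ = v ∧
    (B.large t c.ht).pr ⟨x, hx⟩ = w ∧ ∃ f ∈ Subgroup.closure (Lset Q p t), r * x * f ∈ Q e

theorem inv_L {L : Set G} {a : G} (ha : ∀ z ∈ L, a * z = z * a) : ∀ z ∈ L, a⁻¹ * z = z * a⁻¹ := by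
  intro z hz
  rw [inv_mul_eq_iff_eq_mul, ← mul_assoc, ha z hz]; group

namespace Line

variable (B : Base P Q) (c : Line P Q p t)
include B c

theorem D_F [Finite G] {d : G} (h : d ∈ Q p ⊓ Q t) : d ∈ Subgroup.closure (Lset Q p t) :=
  (c.mem_F B).2 ⟨d, (Subgroup.mem_inf.1 h).1, (Subgroup.mem_inf.1 h).2, Or.inl rfl⟩

theorem gr_symm [Finite G] {e : G} {v : (B.large p c.hp).V} {w : (B.large t c.ht).V}
    (h : Gr B c.toCom e v w) : Gr B c.symm.toCom e w v := by
  obtain ⟨r, hr, x, hx, hrL, hxL, h1, h2, f, hf, h3⟩ := h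
  have hrt := hrL t (Or.inr (Or.inl rfl))
  have hxp := hxL p (Or.inl rfl)
  have hd := c.D_F B (Com.RX B c.toCom hr hrt hx hxp)
  have hLs := Lset_symm (Q := Q) c.toCom
  refine ⟨x, hx, r, hr, by rw [hLs]; exact hxL, by rw [hLs]; exact hrL, h2, h1,
    (x * r * x⁻¹ * r⁻¹)⁻¹ * f, by rw [hLs]; exact mul_mem (inv_mem hd) hf, ?_⟩
  have hc1 := F_comm hrL hd
  have hc2 := F_comm hxL hd
  have h5 : x * r = (x * r * x⁻¹ * r⁻¹) * (r * x) := by group
  revert h5 hc1 hc2
  generalize x * r * x⁻¹ * r⁻¹ = δ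
  intro hc1 hc2 h5
  have e1 : x * r * (δ⁻¹ * f) = r * x * f := by
    have h6 : r * x = δ⁻¹ * (x * r) := by rw [h5, inv_mul_cancel_left]
    have h7 : x * r * δ = δ * (x * r) := by rw [mul_assoc, hc1, ← mul_assoc, hc2, mul_assoc]
    have h8 : x * r * δ⁻¹ = δ⁻¹ * (x * r) := by
      rw [eq_inv_mul_iff_mul_eq, ← mul_assoc, ← h7, mul_assoc, mul_inv_cancel, mul_one]
    rw [← mul_assoc, h8, ← h6]
  rw [e1]
  exact h3

theorem gr_add [Finite G] {e : G} {v v' : (B.large p c.hp).V} {w w' : (B.large t c.ht).V}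
    (h : Gr B c.toCom e v w) (h' : Gr B c.toCom e v' w') : Gr B c.toCom e (v + v') (w + w') := by
  obtain ⟨r, hr, x, hx, hrL, hxL, rfl, rfl, f, hf, h3⟩ := h
  obtain ⟨r', hr', x', hx', hrL', hxL', rfl, rfl, f', hf', h3'⟩ := h'
  have hcomm : ∀ a b : G, (∀ z ∈ Lset Q p t, a * z = z * a) → (∀ z ∈ Lset Q p t, b * z = z * b) →
      ∀ z ∈ Lset Q p t, (a * b) * z = z * (a * b) := by
    intro a b ha hb z hz
    rw [mul_assoc, hb z hz, ← mul_assoc, ha z hz, mul_assoc]
  have hinv : ∀ a : G, (∀ z ∈ Lset Q p t, a * z = z * a) → ∀ z ∈ Lset Q p t, a⁻¹ * z = z * a⁻¹ := by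
    intro a ha z hz
    rw [inv_mul_eq_iff_eq_mul, ← mul_assoc, ha z hz]; group
  have hd := c.D_F B (Com.RX B c.toCom (inv_mem hr') (hinv r' hrL' t (Or.inr (Or.inl rfl))) (inv_mem hx)
    (hinv x hxL p (Or.inl rfl)))
  rw [inv_inv, inv_inv] at hd
  refine ⟨r * r', mul_mem hr hr', x * x', mul_mem hx hx', hcomm r r' hrL hrL', hcomm x x' hxL hxL',
    (B.large p c.hp).pr_mul ⟨r, hr⟩ ⟨r', hr'⟩, (B.large t c.ht).pr_mul ⟨x, hx⟩ ⟨x', hx'⟩,
    (x⁻¹ * r'⁻¹ * x * r') * f * f', mul_mem (mul_mem hd hf) hf', ?_⟩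
  have k1 := F_comm hxL' (mul_mem hd hf)
  have k2 := F_comm hrL' hf
  have k3 := F_comm hxL' hf
  have h4 := mul_mem h3 h3'
  have e1 : r * r' * (x * x') * (x⁻¹ * r'⁻¹ * x * r' * f * f') = r * x * f * (r' * x' * f') := by
    calc r * r' * (x * x') * (x⁻¹ * r'⁻¹ * x * r' * f * f')
        = r * r' * x * (x' * ((x⁻¹ * r'⁻¹ * x * r') * f)) * f' := by group
      _ = r * r' * x * (((x⁻¹ * r'⁻¹ * x * r') * f) * x') * f' := by rw [k1]
      _ = r * x * (r' * f) * x' * f' := by group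
      _ = r * x * (f * r') * x' * f' := by rw [k2]
      _ = _ := by group
  rw [e1]; exact h4

theorem perp_iff [Finite G] {r : G} (hr : r ∈ Q p) :
    (B.large p c.hp).pr ⟨r, hr⟩ ∈ (qs (B.large p c.hp)).perp (QS.W (Com.T B c.toCom)) ↔
      ∀ a ∈ Lset Q p t, r * a = a * r := by
  rw [c.good.fix_iff B hr]
  constructor
  · exact fun h a ha => c.cent_L B hr h.symm ha
  · exact fun h => (h t (Or.inr (Or.inl rfl))).symm

theorem gr_left [Finite G] {e : G} (he : e ∈ Lset Q p t) (hep : e ≠ p) (het : e ≠ t)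
    {v : (B.large p c.hp).V} (hv : v ∈ (qs (B.large p c.hp)).perp (QS.W (Com.T B c.toCom))) :
    ∃ w ∈ (qs (B.large t c.ht)).perp (QS.W (Com.T B c.symm.toCom)), Gr B c.toCom e v w := by
  obtain ⟨r, hr, rfl⟩ := pr_surj _ v
  rw [c.perp_iff B] at hv
  obtain ⟨l, hL⟩ := c.of_mem B he (Or.inr (Or.inl rfl)) het
  obtain ⟨a, ha, b, hb, haL, hbL, hrab⟩ := l.third B (e := p) (by rw [hL]; exact Or.inl rfl) hep.symm hr
    (by rw [hL]; exact hv)
  rw [hL] at haL hbL
  have hbL' := inv_L hbL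
  refine ⟨(B.large t c.ht).pr ⟨b⁻¹, inv_mem hb⟩, ?_, r, hr, b⁻¹, inv_mem hb, hv, hbL', rfl, rfl, 1, one_mem _, ?_⟩
  · rw [c.symm.perp_iff B (inv_mem hb), Lset_symm (Q := Q) c.toCom]
    exact hbL'
  · rw [hrab]
    have : a * b * b⁻¹ * 1 = a := by group
    rw [this]; exact ha

theorem gr_right [Finite G] {e : G} (he : e ∈ Lset Q p t) (hep : e ≠ p) (het : e ≠ t)
    {w : (B.large t c.ht).V} (hw : w ∈ (qs (B.large t c.ht)).perp (QS.W (Com.T B c.symm.toCom))) :
    ∃ v ∈ (qs (B.large p c.hp)).perp (QS.W (Com.T B c.toCom)), Gr B c.toCom e v w := by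
  obtain ⟨v, hv, h⟩ := c.symm.gr_left B (by rw [Lset_symm (Q := Q) c.toCom]; exact he) het hep hw
  exact ⟨v, hv, c.symm.gr_symm B h⟩

/-- `Gr` contains `W × W` -/
theorem gr_W [Finite G] {e : G} {v : (B.large p c.hp).V} {w : (B.large t c.ht).V}
    (hv : v ∈ QS.W (Com.T B c.toCom)) (hw : w ∈ QS.W (Com.T B c.symm.toCom)) : Gr B c.toCom e v w := by
  obtain ⟨r, hr, rfl⟩ := pr_surj _ v
  obtain ⟨x, hx, rfl⟩ := pr_surj _ w
  have h1 := hv
  have h2 := hw
  rw [c.mem_W_iff B] at h1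
  rw [c.symm.mem_W_iff B, Lset_symm (Q := Q) c.toCom] at h2
  refine ⟨r, hr, x, hx, ?_, ?_, rfl, rfl, (r * x)⁻¹, inv_mem (mul_mem h1 h2), ?_⟩
  · exact (c.perp_iff B hr).1 ((c.sing B).W_le hv)
  · have := (c.symm.perp_iff B hx).1 ((c.symm.sing B).W_le hw)
    rwa [Lset_symm (Q := Q) c.toCom] at this
  · rw [mul_inv_cancel]; exact one_mem _

theorem gr_zero_right [Finite G] {e : G} (he : e ∈ Lset Q p t) (hep : e ≠ p)
    {v : (B.large p c.hp).V} (h : Gr B c.toCom e v 0) : v ∈ QS.W (Com.T B c.toCom) := by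
  obtain ⟨r, hr, x, hx, hrL, hxL, rfl, h2, f, hf, h3⟩ := h
  rw [c.mem_W_iff B]
  obtain ⟨l, hL⟩ := c.of_mem B (Or.inl rfl) he hep.symm
  have hxF : x ∈ Subgroup.closure (Lset Q p t) := by
    rcases (B.large t c.ht).pr_eq_zero.1 h2 with h4 | h4
    · have h4' : x = 1 := h4
      rw [h4']; exact one_mem _
    · have h4' : x = t := h4
      rw [h4']; exact Subgroup.subset_closure (Or.inr (Or.inl rfl))
  have h4 := l.K3 B hr h3 (f := (x * f)⁻¹) (by rw [hL]; exact inv_mem (mul_mem hxF hf)) (by group)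
  rwa [hL] at h4

theorem gr_zero_left [Finite G] {e : G} (he : e ∈ Lset Q p t) (het : e ≠ t)
    {w : (B.large t c.ht).V} (h : Gr B c.toCom e 0 w) : w ∈ QS.W (Com.T B c.symm.toCom) :=
  c.symm.gr_zero_right B (by rw [Lset_symm (Q := Q) c.toCom]; exact he) het (c.gr_symm B h)

theorem gr_add_W [Finite G] {e : G} {v v' : (B.large p c.hp).V} {w w' : (B.large t c.ht).V}
    (h : Gr B c.toCom e v w) (hv : v + v' ∈ QS.W (Com.T B c.toCom))
    (hw : w + w' ∈ QS.W (Com.T B c.symm.toCom)) : Gr B c.toCom e v' w' := by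
  have h1 := c.gr_add B h (c.gr_W B (e := e) hv hw)
  rwa [← add_assoc, ← add_assoc, vadd_self, vadd_self, zero_add, zero_add] at h1

theorem gr_perp_left [Finite G] {e : G} {v : (B.large p c.hp).V} {w : (B.large t c.ht).V}
    (h : Gr B c.toCom e v w) : v ∈ (qs (B.large p c.hp)).perp (QS.W (Com.T B c.toCom)) := by
  obtain ⟨r, hr, x, hx, hrL, hxL, rfl, rfl, f, hf, h3⟩ := h
  exact (c.perp_iff B hr).2 hrL

theorem gr_perp_right [Finite G] {e : G} {v : (B.large p c.hp).V} {w : (B.large t c.ht).V}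
    (h : Gr B c.toCom e v w) : w ∈ (qs (B.large t c.ht)).perp (QS.W (Com.T B c.symm.toCom)) :=
  c.symm.gr_perp_left B (c.gr_symm B h)

/-- the relation is an isometry -/
theorem gr_q [Finite G] {e : G} (he : e ∈ Lset Q p t) (hep : e ≠ p) (het : e ≠ t)
    {v : (B.large p c.hp).V} {w : (B.large t c.ht).V}
    (h : Gr B c.toCom e v w) : (B.large p c.hp).q v = (B.large t c.ht).q w := by
  obtain ⟨r, hr, x, hx, hrL, hxL, rfl, rfl, f, hf, h3⟩ := h
  have heP := c.L_sub B he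
  obtain ⟨d, h6, h7, h8, hed⟩ : ∃ d ∈ Q p, d ∈ Q t ∧ d ≠ 1 ∧ e = p * t * d := by
    rcases he with h | h | h
    · exact absurd h hep
    · exact absurd h het
    · exact h
  have hrt := hrL t (Or.inr (Or.inl rfl))
  have hxp := hxL p (Or.inl rfl)
  -- `f ^ 2 = 1`
  have hp2 := B.sq c.hp
  have ht2 := B.sq c.ht
  have hf2 : f * f = 1 := by
    have key : ∀ a ∈ Lset Q p t, a * f = f * a := fun a ha => F_comm (fun x hx => c.L_comm B ha hx) hf
    obtain ⟨d', h1, h2, h⟩ := (c.mem_F B).1 hf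
    have hd2 := Com.D_sq B c.toCom h1 h2
    have e1 := Com.D_p B c.toCom h1
    have e2 := Com.D_t B c.toCom h2
    have e3 := c.com
    rcases h with rfl | rfl | rfl | rfl
    · exact hd2
    · calc p * d' * (p * d') = p * (d' * p) * d' := by group
        _ = (p * p) * (d' * d') := by rw [e1]; group
        _ = 1 := by rw [hp2, hd2, one_mul]
    · calc t * d' * (t * d') = t * (d' * t) * d' := by group
        _ = (t * t) * (d' * d') := by rw [e2]; group
        _ = 1 := by rw [ht2, hd2, one_mul]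
    · calc p * t * d' * (p * t * d') = p * t * (d' * p) * t * d' := by group
        _ = p * (t * p) * (d' * t) * d' := by rw [e1]; group
        _ = (p * p) * (t * t) * (d' * d') := by rw [← e3, e2]; group
        _ = 1 := by rw [hp2, ht2, hd2, one_mul, one_mul]
  have hsq : (r * x * f) * (r * x * f) = (r * r) * (r⁻¹ * x * r * x⁻¹) * (x * x) := by
    have k1 := F_comm hrL hf
    have k2 := F_comm hxL hf
    calc (r * x * f) * (r * x * f) = r * x * (f * r) * x * f := by group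
      _ = r * x * r * (f * x) * f := by rw [← k1]; group
      _ = r * x * r * x * (f * f) := by rw [← k2]; group
      _ = _ := by rw [hf2]; group
  have hδ' : r⁻¹ * x * r * x⁻¹ ∈ Q p ⊓ Q t := by
    have h0 := Com.RX B c.toCom hr hrt hx hxp
    have h1 := F_comm hrL (c.D_F B h0)
    have h2 : r⁻¹ * x * r * x⁻¹ = x * r * x⁻¹ * r⁻¹ := by
      calc r⁻¹ * x * r * x⁻¹ = r⁻¹ * ((x * r * x⁻¹ * r⁻¹) * r) := by group
        _ = r⁻¹ * (r * (x * r * x⁻¹ * r⁻¹)) := by rw [h1]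
        _ = _ := by group
    rw [h2]; exact h0
  obtain ⟨h9, h10⟩ := Subgroup.mem_inf.1 hδ'
  have hs := (B.large e heP).sq _ h3
  rw [hsq] at hs
  have hpn : p ∉ Q t := Com.notMem B c.symm.toCom
  have htn : t ∉ Q p := Com.notMem B c.toCom
  revert hs h9 h10
  generalize r⁻¹ * x * r * x⁻¹ = δ
  intro h9 h10 hs
  rcases (B.large p c.hp).sq r hr with hr2 | hr2 <;> rcases (B.large t c.ht).sq x hx with hx2 | hx2
  · rw [(B.large p c.hp).q_eq_zero.2 hr2, (B.large t c.ht).q_eq_zero.2 hx2]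
  · exfalso
    rw [hr2, hx2, one_mul] at hs
    rcases hs with hs | hs
    · apply htn
      have : t = δ⁻¹ := (inv_eq_of_mul_eq_one_right hs).symm
      rw [this]; exact inv_mem h9
    · -- `δ t = p t d`
      apply hpn
      have : p = δ * t * d⁻¹ * t⁻¹ := by rw [hs, hed]; group
      rw [this]
      have htm := (B.large t c.ht).z_mem
      exact mul_mem (mul_mem (mul_mem h10 htm) (inv_mem h7)) (inv_mem htm)
  · exfalso
    rw [hr2, hx2, mul_one] at hs
    rcases hs with hs | hs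
    · apply hpn
      have : p = δ⁻¹ := eq_inv_of_mul_eq_one_left hs
      rw [this]; exact inv_mem h10
    · apply htn
      have : t = p⁻¹ * (p * δ) * d⁻¹ := by rw [hs, hed]; group
      rw [this]
      have hpm := (B.large p c.hp).z_mem
      exact mul_mem (mul_mem (inv_mem hpm) (mul_mem hpm h9)) (inv_mem h6)
  · rw [(B.large p c.hp).q_eq_one.2 hr2, (B.large t c.ht).q_eq_one.2 hx2]

/-- `D ∩ Q e = {1, d}` for `e = p t d` -/
theorem d_mem [Finite G] {d : G} (h1 : d ∈ Q p) (h2 : d ∈ Q t) (h3 : d ≠ 1) : d ∈ Q (p * t * d) := by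
  have he : p * t * d ∈ Lset Q p t := Or.inr (Or.inr ⟨d, h1, h2, h3, rfl⟩)
  have hep : p * t * d ≠ p := by
    intro h
    have : t = d⁻¹ := by
      rw [mul_assoc] at h
      exact eq_inv_of_mul_eq_one_left (mul_eq_left.1 h)
    apply Com.notMem B c.toCom
    rw [this]; exact inv_mem h1
  have het : p * t * d ≠ t := by
    intro h
    have e1 : t * (p * d) = t := by rw [← mul_assoc, ← c.com]; exact h
    have : p = d⁻¹ := eq_inv_of_mul_eq_one_left (mul_eq_left.1 e1)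
    apply Com.notMem B c.symm.toCom
    rw [this]; exact inv_mem h2
  obtain ⟨l, hL⟩ := c.of_mem B (Or.inl rfl) he hep.symm
  have ht : t ∈ Lset Q p (p * t * d) := by rw [hL]; exact Or.inr (Or.inl rfl)
  rcases ht with h | h | ⟨d', h4, h5, h6, h7⟩
  · exact absurd h.symm c.ne
  · exact absurd h.symm het
  · have : d' = d := by
      have e1 : t = t * (d * d') := by
        calc t = p * (p * t * d) * d' := h7
          _ = (p * p) * t * (d * d') := by group
          _ = t * (d * d') := by rw [B.sq c.hp, one_mul]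
      have e2 : d * d' = 1 := (left_eq_mul.1 e1)
      have e3 := Com.D_sq B c.toCom h1 h2
      exact mul_left_cancel (e2.trans e3.symm)
    rw [← this] at h5 ⊢
    exact h5

theorem d_notMem [Finite G] {d d' : G} (h1 : d ∈ Q p) (h2 : d ∈ Q t) (h3 : d ≠ 1) (h4 : d' ∈ Q p) (h5 : d' ∈ Q t)
    (h6 : d' ≠ 1) (hne : d ≠ d') : d' ∉ Q (p * t * d) := by
  intro h
  have hd := c.d_mem B h1 h2 h3
  have he : p * t * d ∈ Lset Q p t := Or.inr (Or.inr ⟨d, h1, h2, h3, rfl⟩)
  have he' : p * t * d' ∈ Lset Q p t := Or.inr (Or.inr ⟨d', h4, h5, h6, rfl⟩)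
  have heP := c.L_sub B he
  have heP' := c.L_sub B he'
  have e3 := Com.D_sq B c.toCom h1 h2
  have h7 : p * t * d' ∈ Q (p * t * d) := by
    have e1 : p * t * d' = (p * t * d) * (d * d') := by
      calc p * t * d' = p * t * (d * d) * d' := by rw [e3, mul_one]
        _ = _ := by group
    rw [e1]
    exact mul_mem (B.large _ heP).z_mem (mul_mem hd h)
  have h8 := B.eq_of_mem _ heP _ heP' h7
  exact hne (mul_left_cancel h8).symm

/-- the form `b` and the commutator map `R × X → D` -/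
theorem gr_b [Finite G] {e : G} (he : e ∈ Lset Q p t) (hep : e ≠ p) (het : e ≠ t)
    {v : (B.large p c.hp).V} {x : G} (hx : x ∈ Q t) (hxL : ∀ a ∈ Lset Q p t, x * a = a * x)
    (h : Gr B c.toCom e v ((B.large t c.ht).pr ⟨x, hx⟩)) {r : G} (hr : r ∈ Q p)
    (hrL : ∀ a ∈ Lset Q p t, r * a = a * r) :
    (B.large p c.hp).b v ((B.large p c.hp).pr ⟨r, hr⟩) = 0 ↔ x * r * x⁻¹ * r⁻¹ ∈ Q e := by
  obtain ⟨s, hs, y, hy, hsL, hyL, rfl, hyx, f, hf, h3⟩ := h
  have heP := c.L_sub B he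
  -- `[y, r] = [x, r]`
  have hyr : y * r * y⁻¹ * r⁻¹ = x * r * x⁻¹ * r⁻¹ := by
    have hrt := hrL t (Or.inr (Or.inl rfl))
    rcases (B.large t c.ht).pr_eq_pr.1 hyx with h4 | h4
    · have h4' : y = x := h4
      rw [h4']
    · have h4' : y = x * t := h4
      rw [h4']
      calc x * t * r * (x * t)⁻¹ * r⁻¹ = x * (t * r) * t⁻¹ * x⁻¹ * r⁻¹ := by group
        _ = x * (r * t) * t⁻¹ * x⁻¹ * r⁻¹ := by rw [hrt]
        _ = _ := by group
  have hδ := Com.RX B c.toCom hr (hrL t (Or.inr (Or.inl rfl))) hy (hyL p (Or.inl rfl))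
  rw [← hyr]
  have hδF := c.D_F B hδ
  -- `[s y f, r] ∈ Q e`
  have h4 : (s * y * f) * r * (s * y * f)⁻¹ * r⁻¹ ∈ Q e := by
    have h5 := (B.large e heP).conj_mem r (hrL e he) _ (inv_mem h3)
    have h6 := mul_mem h3 h5
    have e1 : s * y * f * (r * (s * y * f)⁻¹ * r⁻¹) = (s * y * f) * r * (s * y * f)⁻¹ * r⁻¹ := by group
    rwa [e1] at h6
  have h5 : (s * y * f) * r * (s * y * f)⁻¹ * r⁻¹ = (s * r * s⁻¹ * r⁻¹) * (y * r * y⁻¹ * r⁻¹) := by
    have k1 := F_comm hrL hf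
    have k2 := F_comm hsL hδF
    have k3 := F_comm hrL hδF
    calc (s * y * f) * r * (s * y * f)⁻¹ * r⁻¹ = s * y * (f * r) * f⁻¹ * y⁻¹ * s⁻¹ * r⁻¹ := by group
      _ = s * y * (r * f) * f⁻¹ * y⁻¹ * s⁻¹ * r⁻¹ := by rw [k1]
      _ = (s * (y * r * y⁻¹ * r⁻¹)) * r * s⁻¹ * r⁻¹ := by group
      _ = (y * r * y⁻¹ * r⁻¹) * (s * r * s⁻¹ * r⁻¹) := by rw [k2]; group
      _ = _ := by
        have hcs : ∀ a : G, s * a = a * s → r * a = a * r → (s * r * s⁻¹ * r⁻¹) * a = a * (s * r * s⁻¹ * r⁻¹) := by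
          intro a h1 h2
          have c1 : Commute a s := h1.symm
          have c2 : Commute a r := h2.symm
          exact ((((c1.mul_right c2).mul_right c1.inv_right).mul_right c2.inv_right)).eq.symm
        exact (hcs _ k2 k3).symm
  rw [h5] at h4
  have hpm := (B.large p c.hp).z_mem
  -- `p ∉ Q e`
  obtain ⟨l, hL⟩ := c.of_mem B (Or.inl rfl) he hep.symm
  have hpe : p ∉ Q e := Com.notMem B l.symm.toCom
  constructor
  · intro h6
    have h7 : s * r = r * s := ((B.large p c.hp).b_pr _ _).1 h6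
    have h8 : s * r * s⁻¹ * r⁻¹ = 1 := by rw [h7]; group
    rw [h8, one_mul] at h4
    exact h4
  · intro h6
    rw [(B.large p c.hp).b_pr]
    show s * r = r * s
    rcases (B.large p c.hp).comm s hs r hr with h7 | h7
    · exact h7
    · exfalso
      apply hpe
      have h8 : s * r * s⁻¹ * r⁻¹ = p := by
        rw [h7]
        have c1 := ((B.large p c.hp).commz hs).inv_left.eq
        have c2 := ((B.large p c.hp).commz hr).inv_left.eq
        calc r * s * p * s⁻¹ * r⁻¹ = r * s * (p * s⁻¹) * r⁻¹ := by group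
          _ = r * (p * r⁻¹) := by rw [← c1]; group
          _ = p := by rw [← c2]; group
      rw [h8] at h4
      have := mul_mem h4 (inv_mem h6)
      rwa [mul_inv_cancel_right] at this

end Line

end Cfsg.Agent.LargeExtra.WCIrr
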