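import Cfsg.Agent.LargeExtra.WG3

/-!
# Large extraspecial 2-subgroups, case I, any width: the isometry `ρ` of `W^⊥ / W`, `ρ² + ρ + 1 = 0` (helper888)
-/

set_option autoImplicit false

namespace Cfsg.Agent.LargeExtra.WCIrr

open Cfsg.Agent.Co2Type.Quad Cfsg.Agent.LargeExtra.WC

theorem exists_lin {V : Type*} [AddCommGroup V] [Module (ZMod 2) V] (M : Submodule (ZMod 2) V)
    (Rel : V → V → Prop) (hadd : ∀ v v' u u', Rel v v' → Rel u u' → Rel (v + u) (v' + u')) (h0 : Rel 0 0)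
    (htot : ∀ v ∈ M, ∃ v', Rel v v') : ∃ ρ : V →ₗ[ZMod 2] V, ∀ v ∈ M, Rel v (ρ v) := by
  let S : Submodule (ZMod 2) (M × V) :=
    { carrier := {x | Rel x.1 x.2}
      zero_mem' := h0
      add_mem' := fun {a b} ha hb => hadd _ _ _ _ ha hb
      smul_mem' := by
        intro a x hx
        rcases zm_cases a with rfl | rfl
        · rw [zero_smul]; exact h0
        · rw [one_smul]; exact hx }
  let π : S →ₗ[ZMod 2] M := (LinearMap.fst (ZMod 2) M V).comp S.subtype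
  have hπ : LinearMap.range π = ⊤ := by
    rw [LinearMap.range_eq_top]
    intro v
    obtain ⟨v', hv'⟩ := htot v v.2
    exact ⟨⟨(v, v'), hv'⟩, rfl⟩
  obtain ⟨σ, hσ⟩ := LinearMap.exists_rightInverse_of_surjective π hπ
  obtain ⟨ρ, hρ⟩ := LinearMap.exists_extend ((LinearMap.snd (ZMod 2) M V).comp (S.subtype.comp σ))
  refine ⟨ρ, fun v hv => ?_⟩
  have h1 : ρ v = ((σ ⟨v, hv⟩ : S) : M × V).2 := LinearMap.congr_fun hρ ⟨v, hv⟩
  have h2 : ((σ ⟨v, hv⟩ : S) : M × V).1 = ⟨v, hv⟩ := LinearMap.congr_fun hσ ⟨v, hv⟩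
  have h3 : Rel (((σ ⟨v, hv⟩ : S) : M × V).1) ((σ ⟨v, hv⟩ : S) : M × V).2 := (σ ⟨v, hv⟩).2
  rw [h2] at h3
  rw [h1]; exact h3

variable {G : Type*} [Group G] {P : Set G} {Q : G → Subgroup G} {p t : G}

open Classical in
/-- `0` if `δ ∈ Q e`, else `1` -/
noncomputable def chi (Q : G → Subgroup G) (δ e : G) : ZMod 2 := if δ ∈ Q e then 0 else 1

theorem chi_eq_zero {δ e : G} : chi Q δ e = 0 ↔ δ ∈ Q e := by
  classical
  unfold chi
  split_ifs with h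
  · exact ⟨fun _ => h, fun _ => rfl⟩
  · exact ⟨fun h' => absurd h' (by decide), fun h' => absurd h' h⟩

theorem chi_of_mem {δ e : G} (h : δ ∈ Q e) : chi Q δ e = 0 := chi_eq_zero.2 h

theorem chi_of_notMem {δ e : G} (h : δ ∉ Q e) : chi Q δ e = 1 := by
  rcases zm_cases (chi Q δ e) with h1 | h1
  · exact absurd (chi_eq_zero.1 h1) h
  · exact h1

namespace Line

variable [Finite G] (B : Base P Q) (c : Line P Q p t)
include B c

theorem gr_chi {e : G} (he : e ∈ Lset Q p t) (hep : e ≠ p) (het : e ≠ t)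
    {v : (B.large p c.hp).V} {x : G} (hx : x ∈ Q t) (hxL : ∀ a ∈ Lset Q p t, x * a = a * x)
    (h : Gr B c.toCom e v ((B.large t c.ht).pr ⟨x, hx⟩)) {r : G} (hr : r ∈ Q p)
    (hrL : ∀ a ∈ Lset Q p t, r * a = a * r) :
    (B.large p c.hp).b v ((B.large p c.hp).pr ⟨r, hr⟩) = chi Q (x * r * x⁻¹ * r⁻¹) e := by
  have h1 := c.gr_b B he hep het hx hxL h hr hrL
  rcases zm_cases ((B.large p c.hp).b v ((B.large p c.hp).pr ⟨r, hr⟩)) with h2 | h2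
  · rw [h2, chi_of_mem (h1.1 h2)]
  · rw [h2, chi_of_notMem]
    intro h3
    rw [h1.2 h3] at h2
    exact absurd h2 (by decide)

theorem third_mem {d : G} (h1 : d ∈ Q p) (h2 : d ∈ Q t) (h3 : d ≠ 1) :
    p * t * d ∈ Lset Q p t ∧ p * t * d ≠ p ∧ p * t * d ≠ t := by
  refine ⟨Or.inr (Or.inr ⟨d, h1, h2, h3, rfl⟩), ?_, ?_⟩
  · intro h
    have : t = d⁻¹ := by
      rw [mul_assoc] at h
      exact eq_inv_of_mul_eq_one_left (mul_eq_left.1 h)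
    apply Com.notMem B c.toCom
    rw [this]; exact inv_mem h1
  · intro h
    have e1 : t * (p * d) = t := by rw [← mul_assoc, ← c.com]; exact h
    have : p = d⁻¹ := eq_inv_of_mul_eq_one_left (mul_eq_left.1 e1)
    apply Com.notMem B c.symm.toCom
    rw [this]; exact inv_mem h2

theorem chi_sum {d₁ d₂ δ : G} (h1 : d₁ ∈ Q p) (h1' : d₁ ∈ Q t) (h2 : d₂ ∈ Q p) (h2' : d₂ ∈ Q t) (h10 : d₁ ≠ 1)
    (h20 : d₂ ≠ 1) (h12 : d₁ ≠ d₂) (hδ : δ ∈ Q p) (hδ' : δ ∈ Q t) :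
    chi Q δ (p * t * d₁) + chi Q δ (p * t * d₂) + chi Q δ (p * t * (d₁ * d₂)) = 0 ∧
    (B.large p c.hp).pr ⟨δ, hδ⟩ = chi Q δ (p * t * d₂) • (B.large p c.hp).pr ⟨d₁, h1⟩ +
      chi Q δ (p * t * d₁) • (B.large p c.hp).pr ⟨d₂, h2⟩ := by
  have h3 : d₁ * d₂ ≠ 1 := by
    intro h
    apply h12
    have : d₁ = d₁ * (d₂ * d₂) := by rw [Com.D_sq B c.toCom h2 h2', mul_one]
    rw [this, ← mul_assoc, h, one_mul]
  have h13 : d₁ ≠ d₁ * d₂ := fun h => h20 (left_eq_mul.1 h)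
  have h23 : d₂ ≠ d₁ * d₂ := fun h => h10 (right_eq_mul.1 h)
  have m1 := c.d_mem B h1 h1' h10
  have m2 := c.d_mem B h2 h2' h20
  have m3 := c.d_mem B (mul_mem h1 h2) (mul_mem h1' h2') h3
  have n12 := c.d_notMem B h1 h1' h10 h2 h2' h20 h12
  have n13 := c.d_notMem B h1 h1' h10 (mul_mem h1 h2) (mul_mem h1' h2') h3 h13
  have n21 := c.d_notMem B h2 h2' h20 h1 h1' h10 h12.symm
  have n23 := c.d_notMem B h2 h2' h20 (mul_mem h1 h2) (mul_mem h1' h2') h3 h23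
  have n31 := c.d_notMem B (mul_mem h1 h2) (mul_mem h1' h2') h3 h1 h1' h10 h13.symm
  have n32 := c.d_notMem B (mul_mem h1 h2) (mul_mem h1' h2') h3 h2 h2' h20 h23.symm
  rcases c.D_eq B h1 h1' h2 h2' h10 h20 h12 hδ hδ' with rfl | rfl | rfl | rfl
  · rw [chi_of_mem (one_mem _), chi_of_mem (one_mem _), chi_of_mem (one_mem _)]
    refine ⟨by decide, ?_⟩
    rw [zero_smul, zero_smul, add_zero]
    exact (B.large p c.hp).pr_eq_zero.2 (Or.inl rfl)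
  · rw [chi_of_mem m1, chi_of_notMem n21, chi_of_notMem n31]
    refine ⟨by decide, ?_⟩
    rw [one_smul, zero_smul, add_zero]
  · rw [chi_of_notMem n12, chi_of_mem m2, chi_of_notMem n32]
    refine ⟨by decide, ?_⟩
    rw [one_smul, zero_smul, zero_add]
  · rw [chi_of_notMem n13, chi_of_notMem n23, chi_of_mem m3]
    refine ⟨by decide, ?_⟩
    rw [one_smul, one_smul]
    exact (B.large p c.hp).pr_mul ⟨d₁, h1⟩ ⟨d₂, h2⟩

/-- (Σ) -/
theorem gr_sum {d₁ d₂ : G} (h1 : d₁ ∈ Q p) (h1' : d₁ ∈ Q t) (h2 : d₂ ∈ Q p) (h2' : d₂ ∈ Q t) (h10 : d₁ ≠ 1)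
    (h20 : d₂ ≠ 1) (h12 : d₁ ≠ d₂) {v₁ v₂ v₃ : (B.large p c.hp).V} {w : (B.large t c.ht).V}
    (g1 : Gr B c.toCom (p * t * d₁) v₁ w) (g2 : Gr B c.toCom (p * t * d₂) v₂ w)
    (g3 : Gr B c.toCom (p * t * (d₁ * d₂)) v₃ w) : v₁ + v₂ + v₃ ∈ QS.W (Com.T B c.toCom) := by
  have h3 : d₁ * d₂ ≠ 1 := by
    intro h
    apply h12
    have : d₁ = d₁ * (d₂ * d₂) := by rw [Com.D_sq B c.toCom h2 h2', mul_one]
    rw [this, ← mul_assoc, h, one_mul]
  obtain ⟨x, hx, rfl⟩ := pr_surj _ w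
  have hxL := (c.symm.perp_iff B hx).1 (c.gr_perp_right B g1)
  rw [Lset_symm (Q := Q) c.toCom] at hxL
  rw [← (qs (B.large p c.hp)).perp_perp (QS.W (Com.T B c.toCom)), QS.mem_perp]
  intro u hu
  obtain ⟨r, hr, rfl⟩ := pr_surj _ u
  rw [c.perp_iff B] at hu
  rw [(qs (B.large p c.hp)).b_comm]
  have hδ := Subgroup.mem_inf.1 (Com.RX B c.toCom hr (hu t (Or.inr (Or.inl rfl))) hx (hxL p (Or.inl rfl)))
  obtain ⟨a1, a2, a3⟩ := c.third_mem B h1 h1' h10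
  obtain ⟨b1, b2, b3⟩ := c.third_mem B h2 h2' h20
  obtain ⟨c1, c2, c3⟩ := c.third_mem B (mul_mem h1 h2) (mul_mem h1' h2') h3
  have k1 := c.gr_chi B a1 a2 a3 hx hxL g1 hr hu
  have k2 := c.gr_chi B b1 b2 b3 hx hxL g2 hr hu
  have k3 := c.gr_chi B c1 c2 c3 hx hxL g3 hr hu
  show (B.large p c.hp).b (v₁ + v₂ + v₃) ((B.large p c.hp).pr ⟨r, hr⟩) = 0
  rw [map_add, map_add, LinearMap.add_apply, LinearMap.add_apply, k1, k2, k3]
  exact (c.chi_sum B h1 h1' h2 h2' h10 h20 h12 hδ.1 hδ.2).1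

/-- the action of an element of `X` -/
theorem gr_act {d₁ d₂ : G} (h1 : d₁ ∈ Q p) (h1' : d₁ ∈ Q t) (h2 : d₂ ∈ Q p) (h2' : d₂ ∈ Q t) (h10 : d₁ ≠ 1)
    (h20 : d₂ ≠ 1) (h12 : d₁ ≠ d₂) {v₁ v₂ : (B.large p c.hp).V} {x : G} (hx : x ∈ Q t) (hxp : x * p = p * x)
    (g1 : Gr B c.toCom (p * t * d₁) v₁ ((B.large t c.ht).pr ⟨x, hx⟩))
    (g2 : Gr B c.toCom (p * t * d₂) v₂ ((B.large t c.ht).pr ⟨x, hx⟩)) {r : (B.large p c.hp).V}
    (hr : r ∈ (qs (B.large p c.hp)).perp (QS.W (Com.T B c.toCom))) :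
    ac (B.large p c.hp) x hxp r = r + (B.large p c.hp).b v₂ r • (B.large p c.hp).pr ⟨d₁, h1⟩ +
      (B.large p c.hp).b v₁ r • (B.large p c.hp).pr ⟨d₂, h2⟩ := by
  obtain ⟨r, hr', rfl⟩ := pr_surj _ r
  rw [c.perp_iff B] at hr
  have hxL := (c.symm.perp_iff B hx).1 (c.gr_perp_right B g1)
  rw [Lset_symm (Q := Q) c.toCom] at hxL
  have hδ := Subgroup.mem_inf.1 (Com.RX B c.toCom hr' (hr t (Or.inr (Or.inl rfl))) hx (hxL p (Or.inl rfl)))
  obtain ⟨a1, a2, a3⟩ := c.third_mem B h1 h1' h10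
  obtain ⟨b1, b2, b3⟩ := c.third_mem B h2 h2' h20
  have k1 := c.gr_chi B a1 a2 a3 hx hxL g1 hr' hr
  have k2 := c.gr_chi B b1 b2 b3 hx hxL g2 hr' hr
  rw [k1, k2]
  have h5 := ac_add (B.large p c.hp) x hxp r hr'
  rw [(c.chi_sum B h1 h1' h2 h2' h10 h20 h12 hδ.1 hδ.2).2] at h5
  rw [add_assoc, ← h5, add_comm (ac _ _ _ _), ← add_assoc, vadd_self, zero_add]

/-- **[A]** the local theorem -/
theorem exists_rho {d₁ d₂ : G} (h1 : d₁ ∈ Q p) (h1' : d₁ ∈ Q t) (h2 : d₂ ∈ Q p) (h2' : d₂ ∈ Q t) (h10 : d₁ ≠ 1)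
    (h20 : d₂ ≠ 1) (h12 : d₁ ≠ d₂) : ∃ ρ : (B.large p c.hp).V →ₗ[ZMod 2] (B.large p c.hp).V,
    (∀ x ∈ QS.W (Com.T B c.toCom), ρ x ∈ QS.W (Com.T B c.toCom)) ∧
    (∀ x ∈ (qs (B.large p c.hp)).perp (QS.W (Com.T B c.toCom)),
      ρ x ∈ (qs (B.large p c.hp)).perp (QS.W (Com.T B c.toCom)) ∧
      (B.large p c.hp).q (ρ x) = (B.large p c.hp).q x ∧ ρ (ρ x) + ρ x + x ∈ QS.W (Com.T B c.toCom)) ∧
    (∀ y ∈ Q t, ∀ hy : y * p = p * y, ∃ x ∈ (qs (B.large p c.hp)).perp (QS.W (Com.T B c.toCom)),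
      ∀ r ∈ (qs (B.large p c.hp)).perp (QS.W (Com.T B c.toCom)), ac (B.large p c.hp) y hy r =
        r + (B.large p c.hp).b x r • (B.large p c.hp).pr ⟨d₁, h1⟩ +
          (B.large p c.hp).b (ρ x) r • (B.large p c.hp).pr ⟨d₂, h2⟩) ∧
    (∀ x ∈ (qs (B.large p c.hp)).perp (QS.W (Com.T B c.toCom)), ∃ y ∈ Q t, ∃ hy : y * p = p * y,
      ∀ r ∈ (qs (B.large p c.hp)).perp (QS.W (Com.T B c.toCom)), ac (B.large p c.hp) y hy r =
        r + (B.large p c.hp).b x r • (B.large p c.hp).pr ⟨d₁, h1⟩ +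
          (B.large p c.hp).b (ρ x) r • (B.large p c.hp).pr ⟨d₂, h2⟩) := by
  have h3 : d₁ * d₂ ≠ 1 := by
    intro h
    apply h12
    have : d₁ = d₁ * (d₂ * d₂) := by rw [Com.D_sq B c.toCom h2 h2', mul_one]
    rw [this, ← mul_assoc, h, one_mul]
  obtain ⟨a1, a2, a3⟩ := c.third_mem B h1 h1' h10
  obtain ⟨b1, b2, b3⟩ := c.third_mem B h2 h2' h20
  obtain ⟨c1, c2, c3⟩ := c.third_mem B (mul_mem h1 h2) (mul_mem h1' h2') h3
  have z1 : (0 : (B.large p c.hp).V) ∈ QS.W (Com.T B c.toCom) := Submodule.zero_mem _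
  have z2 : (0 : (B.large t c.ht).V) ∈ QS.W (Com.T B c.symm.toCom) := Submodule.zero_mem _
  obtain ⟨ρ, hρ⟩ := exists_lin ((qs (B.large p c.hp)).perp (QS.W (Com.T B c.toCom)))
    (fun v v' => ∃ w, Gr B c.toCom (p * t * d₂) v w ∧ Gr B c.toCom (p * t * d₁) v' w)
    (by
      rintro v v' u u' ⟨w, g1, g2⟩ ⟨w', g1', g2'⟩
      exact ⟨w + w', c.gr_add B g1 g1', c.gr_add B g2 g2'⟩)
    ⟨0, c.gr_W B z1 z2, c.gr_W B z1 z2⟩
    (by
      intro v hv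
      obtain ⟨w, hw, g⟩ := c.gr_left B b1 b2 b3 hv
      obtain ⟨v', -, g'⟩ := c.gr_right B a1 a2 a3 hw
      exact ⟨v', w, g, g'⟩)
  -- `w` determined by `v`
  have huniq : ∀ {e : G}, e ∈ Lset Q p t → e ≠ t → ∀ {v : (B.large p c.hp).V} {w w' : (B.large t c.ht).V},
      Gr B c.toCom e v w → Gr B c.toCom e v w' → w + w' ∈ QS.W (Com.T B c.symm.toCom) := by
    intro e he het v w w' g g'
    have := c.gr_add B g g'
    rw [vadd_self] at this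
    exact c.gr_zero_left B he het this
  refine ⟨ρ, ?_, ?_, ?_, ?_⟩
  · intro x hx
    obtain ⟨w, g1, g2⟩ := hρ x ((c.sing B).W_le hx)
    have hw := huniq b1 b3 g1 (c.gr_W B hx z2)
    rw [add_zero] at hw
    have g3 := c.gr_add_W B g2 (v' := ρ x) (w' := 0) (by rw [vadd_self]; exact z1) (by rw [add_zero]; exact hw)
    exact c.gr_zero_right B a1 a2 g3
  · intro x hx
    obtain ⟨w, g1, g2⟩ := hρ x hx
    have hρx := c.gr_perp_left B g2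
    obtain ⟨w', g1', g2'⟩ := hρ _ hρx
    refine ⟨hρx, ?_, ?_⟩
    · rw [c.gr_q B a1 a2 a3 g2, c.gr_q B b1 b2 b3 g1]
    · obtain ⟨w'', -, g3⟩ := c.gr_left B c1 c2 c3 hρx
      obtain ⟨v3, -, g4⟩ := c.gr_right B c1 c2 c3 (c.gr_perp_right B g1)
      have s1 : w + w' + w'' ∈ QS.W (Com.T B c.symm.toCom) := by
        have := c.symm.gr_sum B h1' h1 h2' h2 h10 h20 h12 (v₁ := w) (v₂ := w') (v₃ := w'') (w := ρ x)
          (by rw [← c.com]; exact c.gr_symm B g2) (by rw [← c.com]; exact c.gr_symm B g1')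
          (by rw [← c.com]; exact c.gr_symm B g3)
        exact this
      have s2 := c.gr_sum B h1 h1' h2 h2' h10 h20 h12 g2 g1 g4
      have g5 : Gr B c.toCom (p * t * (d₁ * d₂)) (x + ρ x) w :=
        c.gr_add_W B g4 (by
          have : v3 + (x + ρ x) = ρ x + x + v3 := by abel
          rw [this]; exact s2) (by rw [vadd_self]; exact z2)
      have g6 : Gr B c.toCom (p * t * (d₁ * d₂)) x w' :=
        c.gr_add_W B (c.gr_add B g5 g3) (by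
          have : x + ρ x + ρ x + x = (x + x) + (ρ x + ρ x) := by abel
          rw [this, vadd_self, vadd_self, add_zero]; exact z1) (by
          have : w + w'' + w' = w + w' + w'' := by abel
          rw [this]; exact s1)
      exact c.gr_sum B h1 h1' h2 h2' h10 h20 h12 g2' g1' g6
  · intro y hy hyp
    have hw : (B.large t c.ht).pr ⟨y, hy⟩ ∈ (qs (B.large t c.ht)).perp (QS.W (Com.T B c.symm.toCom)) := by
      rw [c.symm.perp_iff B]
      exact fun a ha => c.symm.cent_L B hy hyp ha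
    obtain ⟨v, hv, g⟩ := c.gr_right B b1 b2 b3 hw
    obtain ⟨w1, g1, g2⟩ := hρ v hv
    have h5 := huniq b1 b3 g1 g
    have g3 := c.gr_add_W B g2 (v' := ρ v) (by rw [vadd_self]; exact z1) h5
    exact ⟨v, hv, fun r hr => c.gr_act B h1 h1' h2 h2' h10 h20 h12 hy hyp g3 g hr⟩
  · intro x hx
    obtain ⟨w, g1, g2⟩ := hρ x hx
    have hw := c.gr_perp_right B g1
    obtain ⟨y, hy, rfl⟩ := pr_surj _ w
    rw [c.symm.perp_iff B] at hw
    have hyp : y * p = p * y := hw p (Or.inr (Or.inl rfl))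
    exact ⟨y, hy, hyp, fun r hr => c.gr_act B h1 h1' h2 h2' h10 h20 h12 hy hyp g2 g1 hr⟩

end Line

end Cfsg.Agent.LargeExtra.WCIrr
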