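import Cfsg.Agent.LargeExtra.WG4

/-!
# Large extraspecial 2-subgroups, case I, `|V| ≥ 128`: a point acting as a Siegel element of a totally singular line
forms a `Line` pair (helper888)
-/

set_option autoImplicit false

namespace Cfsg.Agent.LargeExtra.WCIrr

open Cfsg.Agent.Co2Type.Quad Cfsg.Agent.LargeExtra.WC

section lin

variable {V : Type*} [AddCommGroup V] [Module (ZMod 2) V]

theorem card_le_two_mul [Finite V] {N M : Submodule (ZMod 2) V}
    (h : ∀ u ∈ M, ∀ v ∈ M, u ∉ N → v ∉ N → u + v ∈ N) : Nat.card M ≤ 2 * Nat.card N := by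
  classical
  by_cases hle : M ≤ N
  · have := Nat.card_le_card_of_injective (Submodule.inclusion hle) (Submodule.inclusion_injective hle)
    omega
  · obtain ⟨u, hu, huN⟩ := SetLike.not_le_iff_exists.1 hle
    let f : M → N × Bool := fun v =>
      if hv : (v : V) ∈ N then (⟨v, hv⟩, false) else (⟨u + v, h u hu v v.2 huN hv⟩, true)
    have hf : Function.Injective f := by
      intro v w hvw
      by_cases hv : (v : V) ∈ N <;> by_cases hw : (w : V) ∈ N
      · simp only [f, hv, hw, dif_pos, Prod.mk.injEq, Subtype.mk.injEq, and_true] at hvw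
        exact Subtype.ext hvw
      · simp only [f, hv, hw, dif_pos, dif_neg, not_false_eq_true, Prod.mk.injEq, Bool.false_eq_true,
          and_false] at hvw
      · simp only [f, hv, hw, dif_pos, dif_neg, not_false_eq_true, Prod.mk.injEq, Bool.true_eq_false,
          and_false] at hvw
      · simp only [f, hv, hw, dif_neg, not_false_eq_true, Prod.mk.injEq, Subtype.mk.injEq, and_true] at hvw
        exact Subtype.ext (add_left_cancel hvw)
    have h1 := Nat.card_le_card_of_injective f hf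
    rw [Nat.card_prod, Nat.card_eq_fintype_card (α := Bool), Fintype.card_bool] at h1
    omega

end lin

end Cfsg.Agent.LargeExtra.WCIrr

namespace Cfsg.Agent.LargeExtra.WC.QS

variable {V : Type*} [AddCommGroup V] [Module (ZMod 2) V] {S : QS V}

/-- isometries trivial on `W^⊥`, `W` a totally singular line -/
theorem Sing.eq_or_of_fix [Finite V] {T X : V ≃ₗ[ZMod 2] V} (h : S.Sing T) (hX : S.Iso X)
    (hfix : ∀ v ∈ S.perp (W T), X v = v) : (∀ v, X v = v) ∨ (∀ v, X v = T v) := by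
  by_cases hall : ∀ v, X v = v
  · exact Or.inl hall
  right
  push Not at hall
  obtain ⟨v0, hv0⟩ := hall
  have hW : ∀ v, X v + v ∈ W T := by
    intro v
    rw [← S.perp_perp (W T), S.mem_perp]
    intro r hr
    have h1 := hX.b_eq r v
    rw [hfix r hr] at h1
    rw [map_add, h1]
    have : ∀ a : ZMod 2, a + a = 0 := by decide
    exact this _
  have hb : ∀ v, S.b (X v + v) v = 0 := by
    intro v
    rw [S.b_comm, ← hX.q_f, h.q_W (hW v)]
  have key : ∀ v, v ∉ S.perp (W T) → X v + v ≠ 0 → X v + v = T v + v := fun v hv h0 =>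
    eq_of_perp S h.card (hW v) (f_mem_W T v) h0 (h.f_ne hv) (hb v) (h.alt v) hv
  have hv0' : v0 ∉ S.perp (W T) := fun h1 => hv0 (hfix v0 h1)
  have hX0 : X v0 + v0 ≠ 0 := fun h1 => hv0 (eq_of_add h1)
  have h0 := key v0 hv0' hX0
  intro v
  by_cases hv : v ∈ S.perp (W T)
  · rw [hfix v hv, h.fix_iff.2 hv]
  by_cases hXv : X v + v = 0
  · exfalso
    have e1 : X (v + v0) + (v + v0) = X v0 + v0 := by
      rw [map_add]
      have : X v + X v0 + (v + v0) = (X v + v) + (X v0 + v0) := by abel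
      rw [this, hXv, zero_add]
    have h1 : v + v0 ∉ S.perp (W T) := by
      intro h2
      rw [hfix _ h2, vadd_self] at e1
      exact hX0 e1.symm
    have h2 := key _ h1 (by rw [e1]; exact hX0)
    rw [e1, h0, map_add] at h2
    have e2 : T v + T v0 + (v + v0) = (T v + v) + (T v0 + v0) := by abel
    rw [e2] at h2
    exact h.f_ne hv (right_eq_add.1 h2)
  · exact add_right_cancel (key v hv hXv)

end Cfsg.Agent.LargeExtra.WC.QS

namespace Cfsg.Agent.LargeExtra.WCIrr

open Cfsg.Agent.Co2Type.Quad Cfsg.Agent.LargeExtra.WC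

variable {G : Type*} [Group G] {P : Set G} {Q : G → Subgroup G} {p t : G}

namespace Com

/-- the image of `C_{Q p}(t)` in `V_p` -/
def N (B : Base P Q) (c : Com P p t) : Submodule (ZMod 2) (B.large p c.hp).V :=
  Local.sub (B.large p c.hp) (Subgroup.centralizer ({t} : Set G))

variable (B : Base P Q) (c : Com P p t)
include B c

theorem mem_N {x : G} (hx : x ∈ Q p) : (B.large p c.hp).pr ⟨x, hx⟩ ∈ N B c ↔ t * x = x * t := by
  rw [N, Local.pr_mem_sub _ (Subgroup.mem_centralizer_singleton_iff.2 c.com),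
    Subgroup.mem_centralizer_singleton_iff]
  exact eq_comm

theorem N_le : N B c ≤ (qs (B.large p c.hp)).perp (QS.W (Com.T B c)) := by
  intro v hv
  obtain ⟨x, hx, rfl⟩ := pr_surj _ v
  rw [mem_N B c] at hv
  rw [← (Com.T_inv B c).fix_iff, Com.T, ac_pr]
  congr 1
  apply Subtype.ext
  show t * x * t⁻¹ = x
  rw [hv]; group

theorem N_index {u v : (B.large p c.hp).V} (hu : u ∈ (qs (B.large p c.hp)).perp (QS.W (Com.T B c)))
    (hv : v ∈ (qs (B.large p c.hp)).perp (QS.W (Com.T B c))) (hu' : u ∉ N B c) (hv' : v ∉ N B c) :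
    u + v ∈ N B c := by
  obtain ⟨x, hx, rfl⟩ := pr_surj _ u
  obtain ⟨y, hy, rfl⟩ := pr_surj _ v
  rw [mem_N B c] at hu' hv'
  have key : ∀ x (hx : x ∈ Q p), (B.large p c.hp).pr ⟨x, hx⟩ ∈ (qs (B.large p c.hp)).perp (QS.W (Com.T B c)) →
      t * x ≠ x * t → t * x * t⁻¹ = x * p := by
    intro x hx hu hu'
    rw [← (Com.T_inv B c).fix_iff, Com.T, ac_pr, (B.large p c.hp).pr_eq_pr] at hu
    rcases hu with h | h
    · exact absurd (by have h' : t * x * t⁻¹ = x := h
                       rwa [mul_inv_eq_iff_eq_mul] at h') hu'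
    · exact h
  have h1 := key x hx hu hu'
  have h2 := key y hy hv hv'
  have h3 : (B.large p c.hp).pr ⟨x, hx⟩ + (B.large p c.hp).pr ⟨y, hy⟩ =
      (B.large p c.hp).pr ⟨x * y, mul_mem hx hy⟩ := ((B.large p c.hp).pr_mul ⟨x, hx⟩ ⟨y, hy⟩).symm
  rw [h3, mem_N B c, ← mul_inv_eq_iff_eq_mul]
  calc t * (x * y) * t⁻¹ = (t * x * t⁻¹) * (t * y * t⁻¹) := by group
    _ = x * (p * y) * p := by rw [h1, h2]; group
    _ = x * (y * p) * p := by rw [(B.large p c.hp).comm_z y hy]
    _ = x * y * (p * p) := by group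
    _ = x * y := by rw [B.sq c.hp, mul_one]

theorem W_le_N (hq : ∀ x ∈ Q p, (t * x * t⁻¹ * x⁻¹) * (t * x * t⁻¹ * x⁻¹) = 1) :
    QS.W (Com.T B c) ≤ N B c := by
  rintro _ ⟨v, rfl⟩
  obtain ⟨x, hx, rfl⟩ := pr_surj _ v
  show Com.T B c ((B.large p c.hp).pr ⟨x, hx⟩) + (B.large p c.hp).pr ⟨x, hx⟩ ∈ N B c
  rw [Com.T, ac_add, mem_N B c, ← mul_inv_eq_iff_eq_mul, Com.inv_aux B c]
  exact inv_eq_of_mul_eq_one_left (hq x hx)

theorem perp_N_le [Finite G] (hq : ∀ x ∈ Q p, (t * x * t⁻¹ * x⁻¹) * (t * x * t⁻¹ * x⁻¹) = 1) :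
    (qs (B.large p c.hp)).perp (N B c) ≤ N B c := by
  intro u hu
  by_contra hun
  have hWN := W_le_N B c hq
  have hu1 : u ∈ (qs (B.large p c.hp)).perp (QS.W (Com.T B c)) := by
    rw [QS.mem_perp]
    exact fun w hw => (QS.mem_perp _).1 hu w (hWN hw)
  apply hun
  apply hWN
  rw [← (qs (B.large p c.hp)).perp_perp (QS.W (Com.T B c)), QS.mem_perp]
  intro r hr
  by_cases hrN : r ∈ N B c
  · exact (QS.mem_perp _).1 hu r hrN
  · have h1 := (QS.mem_perp _).1 hu _ (N_index B c hr hu1 hrN hun)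
    rwa [map_add, LinearMap.add_apply, QS.b_self, add_zero] at h1

/-- `D̃ ∩ W = 0` if `p t ∈ P` -/
theorem U_inf_W (hpt : p * t ∈ P) {v : (B.large p c.hp).V} (hv : v ∈ Com.U B c)
    (hv' : v ∈ QS.W (Com.T B c)) : v = 0 := by
  obtain ⟨d, h1, h2, rfl⟩ := (Com.mem_U B c).1 hv
  obtain ⟨u, hu⟩ := hv'
  obtain ⟨y, hy, rfl⟩ := pr_surj _ u
  change Com.T B c ((B.large p c.hp).pr ⟨y, hy⟩) + (B.large p c.hp).pr ⟨y, hy⟩ = _ at hu
  rw [Com.T, ac_add, (B.large p c.hp).pr_eq_pr] at hu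
  have hyp : y * p = p * y := (B.large p c.hp).comm_z y hy
  have htd : t * d ∈ P := by
    rcases hu with h | h
    · have h3 : y * t * y⁻¹ = t * d := by rw [Com.conj_eq B c]; exact congrArg (t * ·) h
      rw [← h3]; exact B.conj_mem t c.ht y
    · have h3 : y * t * y⁻¹ = t * (d * p) := by rw [Com.conj_eq B c]; exact congrArg (t * ·) h
      have h4 : y * (p * t) * y⁻¹ = t * d := by
        calc y * (p * t) * y⁻¹ = (y * p) * t * y⁻¹ := by group
          _ = p * (y * t * y⁻¹) := by rw [hyp]; group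
          _ = p * (t * (d * p)) := by rw [h3]
          _ = (p * t) * (d * p) := by group
          _ = t * p * (p * d) := by rw [c.com, Com.D_p B c h1]
          _ = t * (p * p) * d := by group
          _ = t * d := by rw [B.sq c.hp, mul_one]
      rw [← h4]; exact B.conj_mem _ hpt y
  have h5 := B.eq_of_mem t c.ht _ htd (mul_mem (B.large t c.ht).z_mem h2)
  exact (B.large p c.hp).pr_eq_zero.2 (Or.inl (mul_eq_left.1 h5))

theorem U_le_perp_N : Com.U B c ≤ (qs (B.large p c.hp)).perp (N B c) := by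
  intro v hv
  obtain ⟨d, h1, h2, rfl⟩ := (Com.mem_U B c).1 hv
  rw [QS.mem_perp]
  intro u hu
  obtain ⟨r, hr, rfl⟩ := pr_surj _ u
  rw [mem_N B c] at hu
  exact ((B.large p c.hp).b_pr _ _).2 (Com.D_central B c h1 h2 hr hu.symm)

/-- (a) if `[V_p, t]` is totally singular and `p t ∈ P`, then `C_{Q t}(p)` is abelian -/
theorem comm_of_sing [Finite G] (hpt : p * t ∈ P)
    (hq : ∀ x ∈ Q p, (t * x * t⁻¹ * x⁻¹) * (t * x * t⁻¹ * x⁻¹) = 1) {x y : G} (hx : x ∈ Q t)
    (hxp : x * p = p * x) (hy : y ∈ Q t) (hyp : y * p = p * y) : x * y = y * x := by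
  rcases (B.large t c.ht).comm x hx y hy with h | hxy
  · exact h
  exfalso
  have hNN := perp_N_le B c hq
  have hXN : ∀ x (hx : x ∈ Q t) (hxp : x * p = p * x), ∀ v ∈ (qs (B.large p c.hp)).perp
      ((qs (B.large p c.hp)).perp (N B c)), ac (B.large p c.hp) x hxp v + v ∈ Com.U B c := by
    intro x hx hxp v hv
    rw [QS.perp_perp] at hv
    obtain ⟨r, hr, rfl⟩ := pr_surj _ v
    rw [mem_N B c] at hv
    rw [ac_add]
    have h1 := Subgroup.mem_inf.1 (Com.RX B c hr hv.symm hx hxp)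
    exact (Com.mem_U B c).2 ⟨_, h1.1, h1.2, rfl⟩
  have hT : ∀ v ∈ (qs (B.large p c.hp)).perp (Com.U B c), Com.T B c v + v ∈ Com.U B c := by
    intro v hv
    have h1 := quad (ac_iso (B.large p c.hp) x hxp) (ac_iso (B.large p c.hp) y hyp)
      (fun u hu => Com.X_U B c hx hxp hu) (fun u hu => Com.X_U B c hy hyp hu)
      (hXN x hx hxp) (hXN y hy hyp) (by rw [QS.perp_perp]; exact hNN) hv
    have hxyp : x * y * p = p * (x * y) := by rw [mul_assoc, hyp, ← mul_assoc, hxp, mul_assoc]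
    have hyxp : y * x * p = p * (y * x) := by rw [mul_assoc, hxp, ← mul_assoc, hyp, mul_assoc]
    have hyxtp : y * x * t * p = p * (y * x * t) := by rw [← hxy]; exact hxyp
    have h2 : ac (B.large p c.hp) (x * y) hxyp v = ac (B.large p c.hp) (y * x * t) hyxtp v := by
      have : ∀ (a b : G) (ha : a * p = p * a) (hb : b * p = p * b), a = b →
          ac (B.large p c.hp) a ha = ac (B.large p c.hp) b hb := by
        rintro a b ha hb rfl; rfl
      rw [this _ _ hxyp hyxtp hxy]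
    rw [ac_mul _ _ _ hyxp c.com.symm, ac_mul _ _ _ hxp hyp, ac_mul _ _ _ hyp hxp] at h2
    rw [h2, ← map_add, ← map_add] at h1
    set m := Com.T B c v + v with hm
    have h3 : ac (B.large p c.hp) y hyp (ac (B.large p c.hp) x hxp m) ∈ Com.U B c := h1
    have h4 : ac (B.large p c.hp) y hyp (ac (B.large p c.hp) x hxp m) =
        ac (B.large p c.hp) y hyp (ac (B.large p c.hp) x hxp
          (ac (B.large p c.hp) y hyp (ac (B.large p c.hp) x hxp m))) := by
      rw [Com.X_U B c hx hxp h3, Com.X_U B c hy hyp h3]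
    have h5 := (ac (B.large p c.hp) x hxp).injective ((ac (B.large p c.hp) y hyp).injective h4)
    rw [h5]; exact h3
  have hT' : ∀ v ∈ (qs (B.large p c.hp)).perp (Com.U B c), Com.T B c v + v = 0 := fun v hv =>
    U_inf_W B c hpt (hT v hv) (QS.f_mem_W _ v)
  have hWU : QS.W (Com.T B c) ≤ Com.U B c := by
    intro w hw
    rw [← (qs (B.large p c.hp)).perp_perp (Com.U B c), QS.mem_perp]
    intro v hv
    have h1 := (Com.T_inv B c).fix_iff.1 (eq_of_add (hT' v hv))
    rw [QS.b_comm]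
    exact (QS.mem_perp _).1 h1 w hw
  obtain ⟨v, hv⟩ := Com.T_ne B c
  apply hv
  apply eq_of_add
  exact U_inf_W B c hpt (hWU (QS.f_mem_W _ v)) (QS.f_mem_W _ v)

omit c in
/-- (b) -/
theorem sing_symm {p t r y : G} (c : Com P p t) (hr : r ∈ Q p) (hrt : r * t * r⁻¹ = t * p) (hy : y ∈ Q t)
    (hyp : y * p * y⁻¹ = p * t)
    (hq : ∀ x ∈ Q p, (t * x * t⁻¹ * x⁻¹) * (t * x * t⁻¹ * x⁻¹) = 1) {x : G} (hx : x ∈ Q t) :
    (p * x * p⁻¹ * x⁻¹) * (p * x * p⁻¹ * x⁻¹) = 1 := by
  have hp2 := B.sq c.hp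
  have ht2 := B.sq c.ht
  have hrp : r * p * r⁻¹ = p := by rw [(B.large p c.hp).comm_z r hr]; group
  have hyt : y * t * y⁻¹ = t := by rw [(B.large t c.ht).comm_z y hy]; group
  set g := y * r * y with hg
  have hgp : g * p * g⁻¹ = t := by
    calc g * p * g⁻¹ = y * (r * (y * p * y⁻¹) * r⁻¹) * y⁻¹ := by rw [hg]; group
      _ = y * ((r * p * r⁻¹) * (r * t * r⁻¹)) * y⁻¹ := by rw [hyp]; group
      _ = y * (p * t * p) * y⁻¹ := by rw [hrp, hrt]; group
      _ = y * (t * (p * p)) * y⁻¹ := by rw [c.com]; group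
      _ = t := by rw [hp2, mul_one, hyt]
  have hgt : g * t * g⁻¹ = p := by
    calc g * t * g⁻¹ = y * (r * (y * t * y⁻¹) * r⁻¹) * y⁻¹ := by rw [hg]; group
      _ = y * (t * p) * y⁻¹ := by rw [hyt, hrt]
      _ = (y * t * y⁻¹) * (y * p * y⁻¹) := by group
      _ = (t * p) * t := by rw [hyt, hyp]; group
      _ = p * (t * t) := by rw [← c.com]; group
      _ = p := by rw [ht2, mul_one]
  have hx' : g * x * g⁻¹ ∈ Q p := B.Q_conj_eq c.ht hgt hx
  have h1 := hq _ hx'
  have e1 : t * (g * x * g⁻¹) * t⁻¹ * (g * x * g⁻¹)⁻¹ = g * (p * x * p⁻¹ * x⁻¹) * g⁻¹ := by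
    calc t * (g * x * g⁻¹) * t⁻¹ * (g * x * g⁻¹)⁻¹ =
        (g * p * g⁻¹) * (g * x * g⁻¹) * (g * p * g⁻¹)⁻¹ * (g * x * g⁻¹)⁻¹ := by rw [hgp]
      _ = _ := by group
  rw [e1] at h1
  calc (p * x * p⁻¹ * x⁻¹) * (p * x * p⁻¹ * x⁻¹) =
      g⁻¹ * (g * (p * x * p⁻¹ * x⁻¹) * g⁻¹ * (g * (p * x * p⁻¹ * x⁻¹) * g⁻¹)) * g := by group
    _ = 1 := by rw [h1]; group

/-- (c) -/
theorem sing_of_tau (hτ : ∀ y ∈ Q p, y * t * y⁻¹ ≠ t * p) {x : G} (hx : x ∈ Q p) :
    (t * x * t⁻¹ * x⁻¹) * (t * x * t⁻¹ * x⁻¹) = 1 := by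
  rcases (B.large p c.hp).sq _ (Com.u_mem B c hx) with h | h
  · exact h
  · exfalso
    have h1 := Com.inv_aux B c (x := x)
    have hu := Com.u_mem B c hx
    revert h h1 hu
    generalize t * x * t⁻¹ * x⁻¹ = u
    intro h h1 hu
    have h2 : u⁻¹ = u * p := by
      rw [inv_eq_iff_mul_eq_one, ← mul_assoc, h]; exact B.sq c.hp
    refine hτ u⁻¹ (inv_mem hu) ?_
    rw [inv_inv, mul_assoc, inv_mul_eq_iff_eq_mul]
    have h3 : t * u = u * p * t := by
      rw [← h2, ← h1]; group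
    rw [h3, mul_assoc, c.com]

theorem N_eq_of_tau (hτ : ∀ y ∈ Q p, y * t * y⁻¹ ≠ t * p) :
    (qs (B.large p c.hp)).perp (QS.W (Com.T B c)) ≤ N B c := by
  intro v hv
  obtain ⟨x, hx, rfl⟩ := pr_surj _ v
  rw [mem_N B c]
  rw [← (Com.T_inv B c).fix_iff, Com.T, ac_pr, (B.large p c.hp).pr_eq_pr] at hv
  rcases hv with h | h
  · have h' : t * x * t⁻¹ = x := h
    rwa [mul_inv_eq_iff_eq_mul] at h'
  · exfalso
    have h' : t * x * t⁻¹ = x * p := h
    apply hτ x hx
    rw [Com.conj_eq B c, h', (B.large p c.hp).comm_z x hx, mul_inv_cancel_right]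

/-- (d) -/
theorem false_of_tau [Finite G] (hpt : p * t ∈ P) (h64 : 5 ≤ Nat.card (B.large t c.ht).V)
    (hs : (qs (B.large p c.hp)).Sing (Com.T B c)) (hτ : ∀ y ∈ Q p, y * t * y⁻¹ ≠ t * p) : False := by
  -- `D = 1`
  have hD : ∀ d ∈ Q p, d ∈ Q t → d = 1 := by
    intro d h1 h2
    have h3 : (B.large p c.hp).pr ⟨d, h1⟩ ∈ Com.U B c := (Com.mem_U B c).2 ⟨d, h1, h2, rfl⟩
    have h4 : (B.large p c.hp).pr ⟨d, h1⟩ ∈ QS.W (Com.T B c) := by
      rw [← (qs (B.large p c.hp)).perp_perp (QS.W (Com.T B c)), QS.mem_perp]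
      intro r hr
      have h5 := (QS.mem_perp _).1 (U_le_perp_N B c h3) r (N_eq_of_tau B c hτ hr)
      exact h5
    have h5 := U_inf_W B c hpt h3 h4
    rcases (B.large p c.hp).pr_eq_zero.1 h5 with h6 | h6
    · exact h6
    · exfalso
      have h7 : d = p := h6
      rw [h7] at h2
      exact Com.notMem B c.symm h2
  -- `C_{Q t}(p) = {1, t}`
  have hX : ∀ x ∈ Q t, x * p = p * x → x = 1 ∨ x = t := by
    intro x hx hxp
    have hfix : ∀ v ∈ (qs (B.large p c.hp)).perp (QS.W (Com.T B c)), ac (B.large p c.hp) x hxp v = v := by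
      intro v hv
      have hv' := N_eq_of_tau B c hτ hv
      obtain ⟨r, hr, rfl⟩ := pr_surj _ v
      rw [mem_N B c] at hv'
      have h1 := Subgroup.mem_inf.1 (Com.RX B c hr hv'.symm hx hxp)
      have h2 := hD _ h1.1 h1.2
      apply eq_of_add
      rw [ac_add]
      exact (B.large p c.hp).pr_eq_zero.2 (Or.inl h2)
    rcases hs.eq_or_of_fix (ac_iso (B.large p c.hp) x hxp) hfix with h | h
    · left
      exact hD x (mem_of_ac _ _ hxp h) hx
    · right
      have hxt : (t * x) * p = p * (t * x) := by rw [mul_assoc, hxp, ← mul_assoc, ← c.com, mul_assoc]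
      have h1 : t * x ∈ Q p := by
        refine mem_of_ac (B.large p c.hp) (t * x) hxt fun v => ?_
        rw [ac_mul _ _ _ c.com.symm hxp, h v]
        exact (Com.T_inv B c).inv v
      have h2 := hD _ h1 (mul_mem (B.large t c.ht).z_mem hx)
      have h3 : x = t⁻¹ := (inv_eq_of_mul_eq_one_right h2).symm
      rw [h3, B.inv c.ht]
  -- count in `V_t`
  have hN : N B c.symm = ⊥ := by
    rw [eq_bot_iff]
    intro v hv
    obtain ⟨x, hx, rfl⟩ := pr_surj _ v
    rw [mem_N B c.symm] at hv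
    exact (Submodule.mem_bot _).2 ((B.large t c.ht).pr_eq_zero.2 (hX x hx hv.symm))
  have h1 := card_le_two_mul (N := N B c.symm)
    (M := (qs (B.large t c.ht)).perp (QS.W (Com.T B c.symm)))
    (fun u hu v hv hu' hv' => N_index B c.symm hu hv hu' hv')
  have h2 := (qs (B.large t c.ht)).card_perp (QS.W (Com.T B c.symm))
  have h3 : Nat.card (QS.W (Com.T B c.symm)) ≤
      Nat.card ((qs (B.large t c.ht)).perp (QS.W (Com.T B c.symm))) :=
    Nat.card_le_card_of_injective (Submodule.inclusion (Com.T_inv B c.symm).W_le)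
      (Submodule.inclusion_injective _)
  rw [hN] at h1
  have h4 : Nat.card (⊥ : Submodule (ZMod 2) (B.large t c.ht).V) = 1 := Nat.card_unique
  rw [h4] at h1
  have h5 := Nat.mul_le_mul (h3.trans h1) h1
  omega

/-- `p t ∉ P` if `t` acts as a Siegel element of a totally singular line -/
theorem mul_notMem_of_sing [Finite G] (h128 : 128 ≤ Nat.card (B.large p c.hp).V)
    (hs : (qs (B.large p c.hp)).Sing (Com.T B c)) : p * t ∉ P := by
  intro hpt
  have hq : ∀ x ∈ Q p, (t * x * t⁻¹ * x⁻¹) * (t * x * t⁻¹ * x⁻¹) = 1 := by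
    intro x hx
    have h1 := hs.sing ((B.large p c.hp).pr ⟨x, hx⟩)
    rw [Com.T, ac_add] at h1
    exact (B.large p c.hp).q_eq_zero.1 h1
  have htp : t * p ∈ P := by rw [← c.com]; exact hpt
  -- `C_{Q p}(t)` is not abelian
  have hnc : ∃ x ∈ Q p, ∃ y ∈ Q p, x * t = t * x ∧ y * t = t * y ∧ x * y ≠ y * x := by
    by_contra hcon
    push Not at hcon
    have h1 := card_le_two_mul (N := N B c) (M := (qs (B.large p c.hp)).perp (QS.W (Com.T B c)))
      (fun u hu v hv hu' hv' => N_index B c hu hv hu' hv')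
    have h2 := (qs (B.large p c.hp)).card_perp (QS.W (Com.T B c))
    have h3 := (qs (B.large p c.hp)).card_perp (N B c)
    have h4 : N B c ≤ (qs (B.large p c.hp)).perp (N B c) := by
      intro v hv
      rw [QS.mem_perp]
      intro u hu
      obtain ⟨x, hx, rfl⟩ := pr_surj _ v
      obtain ⟨y, hy, rfl⟩ := pr_surj _ u
      rw [mem_N B c] at hv hu
      exact ((B.large p c.hp).b_pr _ _).2 (hcon y hy x hx hu.symm hv.symm)
    have h5 := Nat.card_le_card_of_injective (Submodule.inclusion h4) (Submodule.inclusion_injective h4)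
    rw [hs.card] at h2
    have h6 := Nat.mul_le_mul h1 (le_refl (Nat.card ((qs (B.large p c.hp)).perp (N B c))))
    rw [mul_assoc, h3] at h6
    -- `|W^⊥| |N^⊥| ≤ 2 |V| = 8 |W^⊥|`
    have h7 : Nat.card ((qs (B.large p c.hp)).perp (QS.W (Com.T B c))) ≠ 0 := by
      intro h; rw [h] at h2; omega
    have h8 : Nat.card ((qs (B.large p c.hp)).perp (N B c)) ≤ 8 := by
      by_contra h9
      push Not at h9
      have h10 := Nat.mul_le_mul (le_refl (Nat.card ((qs (B.large p c.hp)).perp (QS.W (Com.T B c)))))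
        (by omega : 9 ≤ Nat.card ((qs (B.large p c.hp)).perp (N B c)))
      omega
    have h9 := Nat.mul_le_mul (h5.trans h8) h8
    omega
  obtain ⟨x, hx, y, hy, hxt, hyt, hxy⟩ := hnc
  by_cases h1 : ∃ y ∈ Q t, y * p * y⁻¹ = p * t
  · obtain ⟨y', hy', hyp'⟩ := h1
    by_cases h2 : ∃ r ∈ Q p, r * t * r⁻¹ = t * p
    · obtain ⟨r, hr, hrt⟩ := h2
      exact hxy (comm_of_sing B c.symm htp (fun x hx => sing_symm B c hr hrt hy' hyp' hq hx) hx hxt hy hyt)
    · push Not at h2
      exact false_of_tau B c hpt (by rw [B.cardV_eq c.ht c.hp]; omega) hs h2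
  · push Not at h1
    exact hxy (comm_of_sing B c.symm htp (fun x hx => sing_of_tau B c.symm h1 hx) hx hxt hy hyt)

end Com

/-- **A point acting as a Siegel element of a totally singular line forms a `Line` pair.** -/
theorem line_of_sing [Finite G] (B : Base P Q) (c : Com P p t) (h128 : 128 ≤ Nat.card (B.large p c.hp).V)
    (hs : (qs (B.large p c.hp)).Sing (Com.T B c)) : Line P Q p t := by
  have hgood : Good P p t := ⟨c, Com.mul_notMem_of_sing B c h128 hs⟩
  rcases hgood.dichotomy B (by omega) with h | h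
  · exact line_of_typeU B hgood h
  · exfalso
    have h1 := hgood.card_W B h
    have h2 : Nat.card (QS.W (Com.T B hgood.toCom)) = 4 := hs.card
    rw [h2] at h1
    have h3 : 128 ≤ Nat.card (B.large p hgood.hp).V := h128
    omega

/-- two points which act in the same way are conjugate under `Q p` -/
theorem Line.same [Finite G] (B : Base P Q) {s : G} (c : Line P Q p t) (c' : Com P p s)
    (h128 : 128 ≤ Nat.card (B.large p c.hp).V) (hT : ∀ v, Com.T B c' v = Com.T B c.toCom v) :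
    ∃ x ∈ Q p, x * t * x⁻¹ = s := by
  have hT' : Com.T B c' = Com.T B c.toCom := LinearEquiv.ext hT
  have l' : Line P Q p s := line_of_sing B c' h128 (by
    have := c.sing B
    rw [← hT'] at this
    exact this)
  have hp2 := B.sq c.hp
  have ht2 := B.sq c.ht
  have hs2 := B.sq l'.ht
  have hts : t * s * p = p * (t * s) := by rw [mul_assoc, ← l'.com, ← mul_assoc, ← c.com, mul_assoc]
  have hq : t * s ∈ Q p := by
    refine mem_of_ac (B.large p c.hp) (t * s) hts fun v => ?_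
    rw [ac_mul _ _ _ c.com.symm l'.com.symm]
    have h1 : ac (B.large p c.hp) s l'.com.symm v = Com.T B c.toCom v := hT v
    rw [h1]
    exact (Com.T_inv B c.toCom).inv v
  obtain ⟨q, hqd⟩ : ∃ q, q = t * s := ⟨_, rfl⟩
  rw [← hqd] at hq
  have hsq : s = t * q := by rw [hqd, ← mul_assoc, ht2, one_mul]
  -- `t q t⁻¹ = q⁻¹`
  have h1 : t * q * t⁻¹ = q⁻¹ := by
    rw [eq_inv_iff_mul_eq_one, hqd, B.inv c.ht]
    calc t * (t * s) * t * (t * s) = (t * t) * s * (t * t) * s := by group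
      _ = s * s := by rw [ht2]; group
      _ = 1 := hs2
  have h2 : q⁻¹ = q ∨ q⁻¹ = q * p := by
    rcases (B.large p c.hp).sq q hq with h | h
    · left; exact inv_eq_of_mul_eq_one_left h
    · right
      rw [inv_eq_iff_mul_eq_one, ← mul_assoc, h]; exact hp2
  rw [← h1] at h2
  have htq : t * q = q * t := c.good.comm_of B h2 hq
  by_cases hW : (B.large p c.hp).pr ⟨q, hq⟩ ∈ QS.W (Com.T B c.toCom)
  · obtain ⟨d, h3, h4, h5⟩ := c.W_mem B hW
    rcases (B.large p c.hp).pr_eq_pr.1 h5 with h6 | h6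
    · have h6' : d = q := h6
      refine ⟨1, one_mem _, ?_⟩
      have h7 : s ∈ Q t := by rw [hsq, ← h6']; exact mul_mem (B.large t c.ht).z_mem h4
      rw [B.eq_of_mem t c.ht s l'.ht h7]; group
    · have h6' : d = q * p := h6
      have h7 : q = d * p := by rw [h6', mul_assoc, hp2, mul_one]
      have h8 : s = p * t * d := by
        rw [hsq, h7, Com.D_p B c.toCom h3, ← mul_assoc, ← c.com]
      by_cases hd : d = 1
      · exfalso
        rw [hd, mul_one] at h8
        apply c.good.nmem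
        rw [← h8]; exact l'.ht
      · obtain ⟨x, hx, hx'⟩ := c.exists_conj_t B h3 h4 hd
        exact ⟨x, hx, by rw [hx', h8]⟩
  · exfalso
    rw [← (qs (B.large p c.hp)).perp_perp (QS.W (Com.T B c.toCom)), QS.mem_perp] at hW
    push Not at hW
    obtain ⟨u, hu, hb⟩ := hW
    obtain ⟨r, hr, rfl⟩ := pr_surj _ u
    rw [c.good.fix_iff B] at hu
    have hrq : r * q = q * r * p := by
      rcases (B.large p c.hp).comm r hr q hq with h | h
      · exact absurd (((B.large p c.hp).b_pr _ _).2 h) hb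
      · exact h
    apply l'.good.tau B r
    have h3 : r * q * r⁻¹ = q * p := by
      rw [hrq, mul_assoc (q * r), ← ((B.large p c.hp).commz hr).inv_left.eq]; group
    calc r * s * r⁻¹ = (r * t * r⁻¹) * (r * q * r⁻¹) := by rw [hsq]; group
      _ = t * (q * p) := by rw [← hu, h3]; group
      _ = s * p := by rw [hsq, mul_assoc]

end Cfsg.Agent.LargeExtra.WCIrr
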