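import Cfsg.Agent.LargeExtra.WG6

/-!
# Large extraspecial 2-subgroups, case I: all commuting pairs of type U (helper888)

(K) a point commuting with `p` and `t` centralises the line `L(p, t)`; (N); (A1) points which commute modulo `Q p`
commute.
-/

set_option autoImplicit false

namespace Cfsg.Agent.LargeExtra.WCIrr

open Cfsg.Agent.Co2Type.Quad Cfsg.Agent.LargeExtra.WC

variable {G : Type*} [Group G] {P : Set G} {Q : G → Subgroup G} {p t s : G}

namespace Line

/-- the product of two points of a line lies in `Q` of a third point -/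
theorem mul_mem_Q [Finite G] (B : Base P Q) (c : Line P Q p t) {a b e : G} (ha : a ∈ Lset Q p t)
    (hb : b ∈ Lset Q p t) (he : e ∈ Lset Q p t) (hab : a ≠ b) (hae : a ≠ e) (hbe : b ≠ e) :
    a * b ∈ Q e := by
  obtain ⟨l, hL⟩ := c.of_mem B ha hb hab
  rw [← hL] at he
  rcases he with h | h | ⟨d, h1, h2, h3, h4⟩
  · exact absurd h.symm hae
  · exact absurd h.symm hbe
  · have h5 := l.d_mem B h1 h2 h3
    rw [← h4] at h5
    have heP : e ∈ P := by
      rw [h4]; exact l.L_sub B (l.third_mem B h1 h2 h3).1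
    have h6 : a * b = e * d⁻¹ := by rw [h4]; group
    rw [h6]
    exact mul_mem (B.large e heP).z_mem (inv_mem h5)

/-- (2b) -/
theorem mem_of_mul_mem [Finite G] (B : Base P Q) (c : Line P Q p t)
    (h128 : 128 ≤ Nat.card (B.large p c.hp).V) (hs : s ∈ P) (hsp : s * p = p * s) (hst : s * t ∈ Q p) :
    s ∈ Lset Q p t ∧ s ≠ p := by
  have hne : s ≠ p := by
    rintro rfl
    apply Com.notMem B c.toCom
    have h1 := mul_mem (inv_mem (B.large s c.hp).z_mem) hst
    rwa [inv_mul_cancel_left] at h1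
  have c' : Com P p s := ⟨c.hp, hs, hne.symm, hsp.symm⟩
  have hstp : s * t * p = p * (s * t) := by rw [mul_assoc, ← c.com, ← mul_assoc, hsp, mul_assoc]
  obtain ⟨x, hx, h⟩ := c.same B c' h128 (by
    intro v
    have h1 : ac (B.large p c.hp) (s * t) hstp v = v := by
      have h2 : (B.large p c.hp).act ⟨s * t, Subgroup.mem_centralizer_singleton_iff.2 hstp⟩ = 1 :=
        (B.large p c.hp).act_mem _ hst
      show (B.large p c.hp).act ⟨s * t, Subgroup.mem_centralizer_singleton_iff.2 hstp⟩ v = v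
      rw [h2]; rfl
    rw [ac_mul _ _ _ hsp c.com.symm] at h1
    have h2 := congrArg (Com.T B c') h1
    have h3 : Com.T B c' (ac (B.large p c.hp) s hsp (ac (B.large p c.hp) t c.com.symm v)) =
        ac (B.large p c.hp) t c.com.symm v := (Com.T_inv B c').inv _
    rw [h3] at h2
    exact h2.symm)
  refine ⟨?_, hne⟩
  rw [← h]
  exact c.L_conj B hx (Or.inr (Or.inl rfl))

/-- `s` acts on `V_p` by a Siegel element moving a vector of `W_t`, `s` normalises the line -/
theorem K_aux [Finite G] (B : Base P Q) (c : Line P Q p t) (c' : Line P Q p s) (hts : t * s = s * t)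
    {d : G} (h1 : d ∈ Q p) (h2 : d ∈ Q t) (hd : s * d * s⁻¹ ≠ d) {r : G} (hr : r ∈ Q p)
    (hrL : ∀ x ∈ Lset Q p t, r * x = x * r) : s * r * s⁻¹ * r⁻¹ ∈ Subgroup.closure (Lset Q p t) := by
  have hst : s * t * s⁻¹ = t := by rw [← hts]; group
  have hsp : s * p * s⁻¹ = p := by rw [← c'.com]; group
  have hD : s * d * s⁻¹ * d⁻¹ ∈ Q p ∧ s * d * s⁻¹ * d⁻¹ ∈ Q t :=
    ⟨mul_mem (B.Q_conj_eq c.hp hsp h1) (inv_mem h1), mul_mem (B.Q_conj_eq c.ht hst h2) (inv_mem h2)⟩
  -- `g`
  have hgW : (B.large p c.hp).pr ⟨_, hD.1⟩ ∈ QS.W (Com.T B c.toCom) := c.good.D_le B hD.1 hD.2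
  have hgS : (B.large p c.hp).pr ⟨_, hD.1⟩ ∈ QS.W (Com.T B c'.toCom) := by
    refine ⟨(B.large p c.hp).pr ⟨d, h1⟩, ?_⟩
    exact ac_add (B.large p c.hp) s c'.com.symm d h1
  have hg0 : (B.large p c.hp).pr ⟨_, hD.1⟩ ≠ 0 := by
    intro h
    rcases (B.large p c.hp).pr_eq_zero.1 h with h3 | h3
    · have h3' : s * d * s⁻¹ * d⁻¹ = 1 := h3
      exact hd (mul_inv_eq_one.1 h3')
    · exact c'.good.ne_p B d h3
  have hdW : (B.large p c.hp).pr ⟨d, h1⟩ ∈ QS.W (Com.T B c.toCom) := c.good.D_le B h1 h2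
  have hdn : (B.large p c.hp).pr ⟨d, h1⟩ ∉ (qs (B.large p c.hp)).perp (QS.W (Com.T B c'.toCom)) := by
    intro h
    have h3 := (c'.good.fix_iff B h1).1 h
    exact hd (by rw [h3]; group)
  -- `[s, r]`
  have hrt := hrL t (Or.inr (Or.inl rfl))
  have hu := Com.u_mem B c'.toCom hr
  have hyS : (B.large p c.hp).pr ⟨_, hu⟩ ∈ QS.W (Com.T B c'.toCom) :=
    ⟨(B.large p c.hp).pr ⟨r, hr⟩, ac_add (B.large p c.hp) s c'.com.symm r hr⟩
  have hyP : (B.large p c.hp).pr ⟨_, hu⟩ ∈ (qs (B.large p c.hp)).perp (QS.W (Com.T B c.toCom)) := by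
    rw [c.good.fix_iff B hu]
    have h3 : (s * r * s⁻¹) * t = t * (s * r * s⁻¹) := by
      calc (s * r * s⁻¹) * t = (s * r * s⁻¹) * (s * t * s⁻¹) := by rw [hst]
        _ = s * (r * t) * s⁻¹ := by group
        _ = s * (t * r) * s⁻¹ := by rw [hrt]
        _ = (s * t * s⁻¹) * (s * r * s⁻¹) := by group
        _ = _ := by rw [hst]
    have h4 : r⁻¹ * t = t * r⁻¹ := inv_L (L := {t}) (fun z hz => by rw [hz]; exact hrt) t rfl
    exact ((show Commute t (s * r * s⁻¹) from h3.symm).mul_right (show Commute t r⁻¹ from h4.symm)).eq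
  rw [← c.mem_W_iff B hu]
  by_cases hy0 : (B.large p c.hp).pr ⟨_, hu⟩ = 0
  · rw [hy0]; exact Submodule.zero_mem _
  · have h3 := QS.eq_of_perp (qs (B.large p c.hp)) (c'.sing B).card hyS hgS hy0 hg0
      (by rw [QS.b_comm]; exact (QS.mem_perp _).1 hyP _ hdW)
      ((c.sing B).isotropic hgW hdW) hdn
    rw [h3]; exact hgW

/-- (K) -/
theorem K [Finite G] (B : Base P Q) (h64 : ∀ p (hp : p ∈ P), 64 ≤ Nat.card (B.large p hp).V)
    (c : Line P Q p t) (c' : Line P Q p s) (hts : t * s = s * t) :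
    ∀ x ∈ Lset Q p t, s * x * s⁻¹ = x := by
  have hs2 := B.sq c'.ht
  have hsp : s * p * s⁻¹ = p := by rw [← c'.com]; group
  have hst : s * t * s⁻¹ = t := by rw [← hts]; group
  by_contra hcon
  push Not at hcon
  obtain ⟨x0, hx0, hx0s⟩ := hcon
  -- a vector of `W_t` moved by `s`
  obtain ⟨d, h1, h2, hd⟩ : ∃ d ∈ Q p, d ∈ Q t ∧ s * d * s⁻¹ ≠ d := by
    rcases hx0 with rfl | rfl | ⟨d, h1, h2, h3, rfl⟩
    · exact absurd hsp hx0s
    · exact absurd hst hx0s
    · refine ⟨d, h1, h2, fun h => hx0s ?_⟩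
      calc s * (p * t * d) * s⁻¹ = (s * p * s⁻¹) * (s * t * s⁻¹) * (s * d * s⁻¹) := by group
        _ = p * t * d := by rw [hsp, hst, h]
  have hconj : ∀ x ∈ Lset Q p t, s * x * s⁻¹ ∈ Lset Q p t := by
    intro x hx
    have := Lset_conj' B c.hp c.ht (g := s) hx
    rwa [hsp, hst] at this
  have hsN : s ∈ Subgroup.normalizer (Lset Q p t) := by
    intro x
    refine ⟨hconj x, fun h => ?_⟩
    have h1 := hconj _ h
    have h2 : s * (s * x * s⁻¹) * s⁻¹ = x := by
      calc s * (s * x * s⁻¹) * s⁻¹ = (s * s) * x * (s * s)⁻¹ := by group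
        _ = x := by rw [hs2]; group
    rwa [h2] at h1
  obtain ⟨a, b, e, ha, hb, he, hnd, hall, -⟩ := c.five B
  simp only [List.nodup_cons, List.mem_cons, List.not_mem_nil, or_false, not_or, List.nodup_nil, and_true,
    not_false_eq_true, ← ne_eq] at hnd
  obtain ⟨⟨hpt, hpa, hpb, hpe⟩, ⟨hta, htb, hte⟩, ⟨hab, hae⟩, hbe⟩ := hnd
  have hinj : ∀ x z : G, s * x * s⁻¹ = s * z * s⁻¹ → x = z := fun x z h =>
    mul_left_cancel (mul_right_cancel h)
  have hinv : ∀ x z : G, s * x * s⁻¹ = z → s * z * s⁻¹ = x := by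
    rintro x z rfl
    calc s * (s * x * s⁻¹) * s⁻¹ = (s * s) * x * (s * s)⁻¹ := by group
      _ = x := by rw [hs2]; group
  -- a fixed point among a, b, e
  obtain ⟨f, hf, hfp, hft, hsf⟩ : ∃ f ∈ Lset Q p t, f ≠ p ∧ f ≠ t ∧ s * f * s⁻¹ = f := by
    have h1 : ∀ x ∈ Lset Q p t, x ≠ p → x ≠ t → s * x * s⁻¹ = a ∨ s * x * s⁻¹ = b ∨ s * x * s⁻¹ = e := by
      intro x hx hxp hxt
      rcases hall _ (hconj x hx) with h | h | h | h | h
      · exact absurd (hinj _ _ (h.trans hsp.symm)) hxp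
      · exact absurd (hinj _ _ (h.trans hst.symm)) hxt
      · exact Or.inl h
      · exact Or.inr (Or.inl h)
      · exact Or.inr (Or.inr h)
    rcases h1 a ha hpa.symm hta.symm with h | h | h
    · exact ⟨a, ha, hpa.symm, hta.symm, h⟩
    · refine ⟨e, he, hpe.symm, hte.symm, ?_⟩
      rcases h1 e he hpe.symm hte.symm with h' | h' | h'
      · exact absurd (hinj _ _ (h'.trans (hinv _ _ h).symm)) hbe.symm
      · exact absurd (hinj _ _ (h'.trans h.symm)) hae.symm
      · exact h'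
    · refine ⟨b, hb, hpb.symm, htb.symm, ?_⟩
      rcases h1 b hb hpb.symm htb.symm with h' | h' | h'
      · exact absurd (hinj _ _ (h'.trans (hinv _ _ h).symm)) hbe
      · exact h'
      · exact absurd (hinj _ _ (h'.trans h.symm)) hab.symm
  have key : ∀ x ∈ Lset Q p t, s * x * s⁻¹ = x := by
    intro x hx
    by_cases hxp : x = p
    · rw [hxp]; exact hsp
    · exact c.K2 B h64 hsN hst hf hfp hft hsf (fun r hr hrL => c.K_aux B c' hts h1 h2 hd hr hrL) hx hxp
  exact hx0s (key x0 hx0)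

/-- commuting points have perpendicular `W` -/
theorem perp_of_comm [Finite G] (B : Base P Q) (h64 : ∀ p (hp : p ∈ P), 64 ≤ Nat.card (B.large p hp).V)
    (c : Line P Q p t) (c' : Line P Q p s) (hts : t * s = s * t) :
    QS.W (Com.T B c.toCom) ≤ (qs (B.large p c.hp)).perp (QS.W (Com.T B c'.toCom)) := by
  intro w hw
  obtain ⟨d, h1, h2, rfl⟩ := c.W_mem B hw
  rw [c'.good.fix_iff B h1]
  by_cases hd : d = 1
  · rw [hd, mul_one, one_mul]
  have h3 := c.K B h64 c' hts (p * t * d) (Or.inr (Or.inr ⟨d, h1, h2, hd, rfl⟩))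
  have hsp : s * p * s⁻¹ = p := by rw [← c'.com]; group
  have hst : s * t * s⁻¹ = t := by rw [← hts]; group
  have h4 : p * t * (s * d * s⁻¹) = p * t * d := by
    calc p * t * (s * d * s⁻¹) = (s * p * s⁻¹) * (s * t * s⁻¹) * (s * d * s⁻¹) := by rw [hsp, hst]
      _ = s * (p * t * d) * s⁻¹ := by group
      _ = _ := h3
  have h5 := mul_left_cancel h4
  rwa [mul_inv_eq_iff_eq_mul] at h5

/-- (N) a point commuting with `p` which normalises the line fixes a second point of it -/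
theorem N [Finite G] (B : Base P Q) (c : Line P Q p t) (c' : Good P p s)
    (hconj : ∀ x ∈ Lset Q p t, s * x * s⁻¹ ∈ Lset Q p t) : ∃ x ∈ Lset Q p t, x ≠ p ∧ s * x * s⁻¹ = x := by
  by_contra hcon
  push Not at hcon
  have hs2 := B.sq c'.ht
  have hsp : s * p * s⁻¹ = p := by rw [← c'.com]; group
  have hinj : ∀ x z : G, s * x * s⁻¹ = s * z * s⁻¹ → x = z := fun x z h =>
    mul_left_cancel (mul_right_cancel h)
  have hinv : ∀ x z : G, s * x * s⁻¹ = z → s * z * s⁻¹ = x := by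
    rintro x z rfl
    calc s * (s * x * s⁻¹) * s⁻¹ = (s * s) * x * (s * s)⁻¹ := by group
      _ = x := by rw [hs2]; group
  -- `t' = t^s`
  set t' := s * t * s⁻¹ with ht'
  have htL : t ∈ Lset Q p t := Or.inr (Or.inl rfl)
  have ht'L : t' ∈ Lset Q p t := hconj t htL
  have htt' : t' ≠ t := hcon t htL c.ne.symm
  have ht'p : t' ≠ p := fun h => c.ne.symm (hinj _ _ (h.trans hsp.symm))
  -- a third point `a`
  obtain ⟨d, h1, h2, h3, hd⟩ : ∃ d ∈ Q p, d ∈ Q t ∧ d ≠ 1 ∧ t' = p * t * d := by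
    rcases ht'L with h | h | h
    · exact absurd h ht'p
    · exact absurd h htt'
    · exact h
  obtain ⟨e, h4, h5, h6, h7⟩ : ∃ e ∈ Q p, e ∈ Q t ∧ e ≠ 1 ∧ e ≠ d := by
    obtain ⟨d1, k1, k1', k10, e1, k2, k2', k20, k12⟩ := c.ex
    by_cases hh : d1 = d
    · refine ⟨e1, k2, k2', k20, ?_⟩
      rw [← hh]; exact k12.symm
    · exact ⟨d1, k1, k1', k10, hh⟩
  have hp2 := B.sq c.hp
  have ht2 := B.sq c.ht
  have hdd := Com.D_sq B c.toCom h1 h2
  have hee := Com.D_sq B c.toCom h4 h5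
  have hde := Com.D_comm B c.toCom h1 h2 h4 h5
  have hde1 : d * e ≠ 1 := by
    intro h
    apply h7
    exact mul_left_cancel (h.trans hdd.symm)
  -- the two remaining points are `p t e`, `p t d e`
  have haL : p * t * e ∈ Lset Q p t := Or.inr (Or.inr ⟨e, h4, h5, h6, rfl⟩)
  obtain ⟨m1, m2, m3⟩ := c.third_mem B h4 h5 h6
  have hb : s * (p * t * e) * s⁻¹ = p * t * (d * e) := by
    have h8 := hconj _ haL
    rcases h8 with h | h | ⟨f, k1, k2, k3, h⟩
    · exact absurd (hinj _ _ (h.trans hsp.symm)) m2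
    · exfalso
      have h9 := hinv _ _ h
      rw [← ht'] at h9
      have : p * t * d = p * t * e := by rw [← hd, h9]
      exact h7 (mul_left_cancel this).symm
    · rcases c.D_eq B h1 h2 h4 h5 h3 h6 h7.symm k1 k2 with rfl | rfl | rfl | rfl
      · exact absurd rfl k3
      · exfalso
        rw [← hd] at h
        have h9 := hinj _ _ (h.trans ht')
        exact m3 h9
      · exact absurd h (hcon _ haL m2)
      · exact h
  -- `e = p t (p t e)`
  have he : e = p * t * (p * t * e) := by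
    calc e = (p * p) * (t * t) * e := by rw [hp2, ht2]; group
      _ = p * (p * t) * t * e := by group
      _ = p * (t * p) * t * e := by rw [c.com]
      _ = _ := by group
  have h8 : s * e * s⁻¹ = e * p := by
    have hdt := Com.D_t B c.toCom h2
    have hdp := Com.D_p B c.toCom h1
    have hep := Com.D_p B c.toCom h4
    calc s * e * s⁻¹ = s * (p * t * (p * t * e)) * s⁻¹ := by rw [← he]
      _ = (s * p * s⁻¹) * (s * t * s⁻¹) * (s * (p * t * e) * s⁻¹) := by group
      _ = p * (p * t * d) * (p * t * (d * e)) := by rw [hsp, ← ht', hd, hb]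
      _ = (p * p) * t * (d * p) * t * (d * e) := by group
      _ = t * p * (d * t) * (d * e) := by rw [hp2, hdp]; group
      _ = t * (p * t) * (d * d) * e := by rw [hdt]; group
      _ = (t * t) * p * e := by rw [hdd, c.com]; group
      _ = e * p := by rw [ht2, one_mul, hep]
  apply c'.ne_p B e
  rw [h8, Com.D_p B c.toCom h4, mul_inv_cancel_right]

end Line

end Cfsg.Agent.LargeExtra.WCIrr
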