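import Cfsg.Agent.LargeExtra.WG7

/-!
# Large extraspecial 2-subgroups, case I, `|Q| = 2 ^ 9`, all commuting pairs of type U: the axioms (A1), (A2), (A3)
(helper888)
-/

set_option autoImplicit false

namespace Cfsg.Agent.LargeExtra.WC.QS

variable {V : Type*} [AddCommGroup V] [Module (ZMod 2) V] {S : QS V}

theorem Sing.opp_symm {T R : V ≃ₗ[ZMod 2] V} (h : S.Sing T) (h' : S.Sing R)
    (hopp : ∀ w ∈ W R, w ∈ S.perp (W T) → w = 0) : ∀ w ∈ W T, w ∈ S.perp (W R) → w = 0 := by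
  intro w hw hwR
  by_contra hw0
  obtain ⟨v, hv, hv0, hwv⟩ : ∃ v ∈ W T, v ≠ 0 ∧ w ≠ v := by
    obtain ⟨a, ha, b, hb, ha0, hb0, hab⟩ := h.exists_basis
    by_cases hwa : w = a
    · exact ⟨b, hb, hb0, by rw [hwa]; exact hab⟩
    · exact ⟨a, ha, ha0, hwa⟩
  obtain ⟨u', hu', v', hv', b1, b2, b3, b4⟩ := h.exists_dual_basis h' hopp hw hv hw0 hv0 hwv
  have h1 := S.mem_perp.1 hwR u' hu'
  rw [S.b_comm, b1] at h1
  exact absurd h1 (by decide)

end Cfsg.Agent.LargeExtra.WC.QS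

namespace Cfsg.Agent.LargeExtra.WCIrr

open Cfsg.Agent.Co2Type.Quad Cfsg.Agent.LargeExtra.WC

/-- all commuting pairs are of type U, `|Q p| = 2 ^ 9` -/
structure AllU {G : Type*} [Group G] (P : Set G) (Q : G → Subgroup G) : Prop extends Base P Q where
  all : ∀ p ∈ P, ∀ t ∈ P, p ≠ t → p * t = t * p → Line P Q p t
  card : ∀ p ∈ P, Nat.card (Q p) = 2 ^ 9

variable {G : Type*} [Group G] {P : Set G} {Q : G → Subgroup G} {p t s : G}

namespace AllU

theorem cardV (A : AllU P Q) (hp : p ∈ P) : Nat.card (A.large p hp).V = 256 := by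
  have h1 := (A.large p hp).card_eq
  rw [A.card p hp] at h1
  omega

theorem h64 (A : AllU P Q) : ∀ p (hp : p ∈ P), 64 ≤ Nat.card (A.large p hp).V := by
  intro p hp
  rw [A.cardV hp]; norm_num

/-- (A1) -/
theorem comm_of_sq [Finite G] (A : AllU P Q) (hp : p ∈ P) (ht : t ∈ P) (hs : s ∈ P) (htp : t * p = p * t)
    (hsp : s * p = p * s) (h : (t * s) * (t * s) ∈ Q p) : t * s = s * t := by
  have B := A.toBase
  by_cases h1 : t = p
  · rw [h1, hsp]
  by_cases h2 : s = p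
  · rw [h2, htp]
  have c := A.all p hp t ht (Ne.symm h1) htp.symm
  have c' := A.all p hp s hs (Ne.symm h2) hsp.symm
  have hs2 := B.sq hs
  have hsi := B.inv hs
  have hsp' : s * p * s⁻¹ = p := by rw [hsp]; group
  have h3 : s * t * s⁻¹ * t ∈ Q p := by
    have h4 := (B.large p hp).conj_mem s hsp _ h
    have e : s * (t * s * (t * s)) * s⁻¹ = s * t * s⁻¹ * t := by
      rw [hsi]
      calc s * (t * s * (t * s)) * s = s * t * s * t * (s * s) := by group
        _ = _ := by rw [hs2, mul_one]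
    rwa [e] at h4
  have h4 : s * t * s⁻¹ * p = p * (s * t * s⁻¹) := by
    calc s * t * s⁻¹ * p = s * t * s⁻¹ * (s * p * s⁻¹) := by rw [hsp']
      _ = s * (t * p) * s⁻¹ := by group
      _ = s * (p * t) * s⁻¹ := by rw [htp]
      _ = (s * p * s⁻¹) * (s * t * s⁻¹) := by group
      _ = _ := by rw [hsp']
  obtain ⟨h5, h6⟩ := c.mem_of_mul_mem B (by rw [A.cardV hp]; norm_num) (B.conj_mem t ht s) h4 h3
  obtain ⟨-, hL⟩ := c.of_mem B (Or.inl rfl) h5 (Ne.symm h6)
  have hconj : ∀ x ∈ Lset Q p t, s * x * s⁻¹ ∈ Lset Q p t := by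
    intro x hx
    have := Lset_conj' B hp ht (g := s) hx
    rwa [hsp', hL] at this
  obtain ⟨x, hx, hxp, hxs⟩ := c.N B c'.good hconj
  obtain ⟨l, hL'⟩ := c.of_mem B (Or.inl rfl) hx (Ne.symm hxp)
  have hxs' : x * s = s * x := (mul_inv_eq_iff_eq_mul.1 hxs).symm
  have h7 := l.K B A.h64 c' hxs' t (by rw [hL']; exact Or.inr (Or.inl rfl))
  exact (mul_inv_eq_iff_eq_mul.1 h7).symm

theorem meet_aux [Finite G] (A : AllU P Q) (c : Line P Q p t) (c' : Line P Q p s) (hts : t * s = s * t)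
    (hne : t ≠ s) {d : G} (h1 : d ∈ Q p) (h2 : d ∈ Q t) (h3 : d ≠ 1) (h4 : d * p ∈ Q s) :
    s ∈ Lset Q p t := by
  have B := A.toBase
  obtain ⟨m1, m2, m3⟩ := c.third_mem B h1 h2 h3
  have hcP := c.L_sub B m1
  have hcs : p * t * d * s = s * (p * t * d) :=
    (mul_inv_eq_iff_eq_mul.1 (c.K B A.h64 c' hts _ m1)).symm
  have l := A.all s c'.ht t c.ht (Ne.symm hne) hts.symm
  have h5 : p * t * d * t ∈ Q s := by
    have hdt := Com.D_t B c.toCom h2
    have hdp := Com.D_p B c.toCom h1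
    have e : p * t * d * t = d * p := by
      calc p * t * d * t = p * t * (d * t) := by group
        _ = p * (t * t) * d := by rw [hdt]; group
        _ = d * p := by rw [B.sq c.ht, mul_one, hdp]
    rw [e]; exact h4
  obtain ⟨h6, h7⟩ := l.mem_of_mul_mem B (by rw [A.cardV c'.ht]; norm_num) hcP hcs h5
  obtain ⟨-, e1⟩ := l.of_mem B (Or.inr (Or.inl rfl)) h6 (Ne.symm m3)
  obtain ⟨-, e2⟩ := c.of_mem B (Or.inr (Or.inl rfl)) m1 (Ne.symm m3)
  rw [← e2, e1]
  exact Or.inl rfl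

/-- two lines through `p` with commuting points and `W_s ∩ W_t ≠ 0` coincide -/
theorem meet [Finite G] (A : AllU P Q) (c : Line P Q p t) (c' : Line P Q p s) (hts : t * s = s * t)
    {v : (A.large p c.hp).V} (hv : v ∈ QS.W (Com.T A.toBase c.toCom))
    (hv' : v ∈ QS.W (Com.T A.toBase c'.toCom)) (hv0 : v ≠ 0) : s ∈ Lset Q p t := by
  have B := A.toBase
  by_cases hne : t = s
  · rw [← hne]; exact Or.inr (Or.inl rfl)
  obtain ⟨d, h1, h2, h3⟩ := c.W_mem B hv
  obtain ⟨e, h4, h5, h6⟩ := c'.W_mem B hv'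
  have hd : d ≠ 1 := by
    rintro rfl
    exact hv0 (h3.symm.trans (B.large p c.hp).pr_one)
  have hp2 := B.sq c.hp
  rcases (B.large p c.hp).pr_eq_pr.1 (h3.trans h6.symm) with h7 | h7
  · have h7' : d = e := h7
    have hds : d ∈ Q s := by rw [h7']; exact h5
    obtain ⟨d', k1, k2, k3, k4⟩ : ∃ d' ∈ Q p, d' ∈ Q t ∧ d' ≠ 1 ∧ d' ≠ d := by
      obtain ⟨d1, k1, k1', k10, e1, k2, k2', k20, k12⟩ := c.ex
      by_cases hh : d1 = d
      · exact ⟨e1, k2, k2', k20, by rw [← hh]; exact k12.symm⟩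
      · exact ⟨d1, k1, k1', k10, hh⟩
    obtain ⟨m1, m2, m3⟩ := c.third_mem B h1 h2 hd
    obtain ⟨n1, n2, n3⟩ := c.third_mem B k1 k2 k3
    by_cases hbs : p * t * d' = s
    · rw [← hbs]; exact n1
    obtain ⟨l, hL⟩ := c.of_mem B (Or.inl rfl) n1 (Ne.symm n2)
    have hcs : p * t * d' * s = s * (p * t * d') :=
      (mul_inv_eq_iff_eq_mul.1 (c.K B A.h64 c' hts _ n1)).symm
    have h8 : d * p ∈ Q (p * t * d') := by
      have h9 := c.mul_mem_Q B (Or.inr (Or.inl rfl)) m1 n1 (Ne.symm m3) (Ne.symm n3)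
        (fun h => k4 (mul_left_cancel h).symm)
      have e1 : t * (p * t * d) = d * p := by
        rw [Com.D_p B c.toCom h1]
        calc t * (p * t * d) = (t * p) * t * d := by group
          _ = p * (t * t) * d := by rw [← c.com]; group
          _ = p * d := by rw [B.sq c.ht, mul_one]
      rwa [e1] at h9
    have h9 := A.meet_aux l c' hcs hbs (d := d * p) (mul_mem h1 (B.large p c.hp).z_mem) h8 (by
      intro h
      apply Com.notMem B c.symm.toCom
      have : p = d⁻¹ := (inv_eq_of_mul_eq_one_right h).symm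
      rw [this]; exact inv_mem h2) (by rw [mul_assoc, hp2, mul_one]; exact hds)
    rwa [hL] at h9
  · have h7' : d = e * p := h7
    exact A.meet_aux c c' hts hne h1 h2 hd (by rw [h7', mul_assoc, hp2, mul_one]; exact h5)

/-- points acting by the same element -/
theorem mem_L_iff [Finite G] (A : AllU P Q) (c : Line P Q p t) (hs : s ∈ P) (hsp : s * p = p * s) :
    (s ∈ Lset Q p t ∧ s ≠ p) ↔ s * t ∈ Q p := by
  have B := A.toBase
  constructor
  · rintro ⟨h1, h2⟩
    by_cases h3 : s = t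
    · rw [h3, B.sq c.ht]; exact one_mem _
    · exact c.mul_mem_Q B h1 (Or.inr (Or.inl rfl)) (Or.inl rfl) h3 h2 (Ne.symm c.ne)
  · exact fun h => c.mem_of_mul_mem B (by rw [A.cardV c.hp]; norm_num) hs hsp h

/-- not opposite implies commuting -/
theorem comm_of_perp [Finite G] (A : AllU P Q) (c : Line P Q p t) (c' : Line P Q p s)
    {g : (A.large p c.hp).V} (hg : g ∈ QS.W (Com.T A.toBase c'.toCom))
    (hgT : g ∈ (qs (A.large p c.hp)).perp (QS.W (Com.T A.toBase c.toCom))) (hg0 : g ≠ 0) :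
    t * s = s * t := by
  have B := A.toBase
  have h := B.large p c.hp
  have hsp : s * p = p * s := c'.com.symm
  have htp : t * p = p * t := c.com.symm
  have hs2 := B.sq c'.ht
  have ht2 := B.sq c.ht
  have hsi := B.inv c'.ht
  -- `(t s) ^ 4 ∈ Q p`
  have htC : t ∈ Subgroup.centralizer ({p} : Set G) := Subgroup.mem_centralizer_singleton_iff.2 htp
  have hsC : s ∈ Subgroup.centralizer ({p} : Set G) := Subgroup.mem_centralizer_singleton_iff.2 hsp
  have hcomm : h.act ⟨t, htC⟩ * h.act ⟨s, hsC⟩ * h.act ⟨t, htC⟩ * h.act ⟨s, hsC⟩ =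
      h.act ⟨s, hsC⟩ * h.act ⟨t, htC⟩ * h.act ⟨s, hsC⟩ * h.act ⟨t, htC⟩ := by
    ext v
    exact (c.sing B).conj_comm (c'.sing B) hg hg0 hgT v
  have ha : h.act ⟨t, htC⟩ * h.act ⟨t, htC⟩ = 1 := by
    rw [← map_mul]
    have : (⟨t, htC⟩ * ⟨t, htC⟩ : Subgroup.centralizer ({p} : Set G)) = 1 := Subtype.ext ht2
    rw [this, map_one]
  have hb : h.act ⟨s, hsC⟩ * h.act ⟨s, hsC⟩ = 1 := by
    rw [← map_mul]
    have : (⟨s, hsC⟩ * ⟨s, hsC⟩ : Subgroup.centralizer ({p} : Set G)) = 1 := Subtype.ext hs2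
    rw [this, map_one]
  have h4 := pow_four_of_comm ha hb hcomm
  rw [← map_mul, ← map_mul, ← map_mul] at h4
  have h5 : (t * s) * (t * s) * ((t * s) * (t * s)) ∈ Q p := h.mem_of_act _ h4
  -- `t1 = s t s⁻¹`
  have ht1 : s * t * s⁻¹ ∈ P := B.conj_mem t c.ht s
  have hspp : s * p * s⁻¹ = p := by rw [hsp]; group
  have ht1p : s * t * s⁻¹ * p = p * (s * t * s⁻¹) := by
    calc s * t * s⁻¹ * p = s * t * s⁻¹ * (s * p * s⁻¹) := by rw [hspp]
      _ = s * (t * p) * s⁻¹ := by group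
      _ = s * (p * t) * s⁻¹ := by rw [htp]
      _ = (s * p * s⁻¹) * (s * t * s⁻¹) := by group
      _ = _ := by rw [hspp]
  have h6 : t * (s * t * s⁻¹) = (t * s) * (t * s) := by rw [hsi]; group
  have h7 : t * (s * t * s⁻¹) = (s * t * s⁻¹) * t :=
    A.comm_of_sq c.hp c.ht ht1 htp ht1p (by rw [h6]; exact h5)
  by_cases h8 : s * t * s⁻¹ = t
  · exact (mul_inv_eq_iff_eq_mul.1 h8).symm
  -- a vector of `W_t` perpendicular to `W_s`
  obtain ⟨g2, hg2, hg2S, hg20⟩ : ∃ g2 ∈ QS.W (Com.T B c.toCom),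
      g2 ∈ (qs (B.large p c.hp)).perp (QS.W (Com.T B c'.toCom)) ∧ g2 ≠ 0 := by
    by_contra hcon
    push Not at hcon
    exact hg0 ((c'.sing B).opp_symm (c.sing B) (fun w hw hw' => hcon w hw hw') g hg hgT)
  have l : Line P Q p (s * t * s⁻¹) := by
    have := c.conj B s
    rwa [hspp] at this
  have hg2' : g2 ∈ QS.W (Com.T B l.toCom) := by
    obtain ⟨d, k1, k2, k3⟩ := c.W_mem B hg2
    -- `s` fixes `g2`
    rw [← k3] at hg2S ⊢
    have k4 := (c'.good.fix_iff B k1).1 hg2S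
    have k5 : s * d * s⁻¹ = d := by rw [k4]; group
    have k6 : d ∈ Q (s * t * s⁻¹) := by
      rw [← k5]
      exact B.Q_conj t c.ht s d k2
    exact l.good.D_le B k1 k6
  have h9 := A.meet c l h7 hg2 hg2' hg20
  have h10 := (A.mem_L_iff c ht1 ht1p).1 ⟨h9, fun h => c.ne (by
    have : t = s⁻¹ * p * s := by rw [← h]; group
    rw [this]
    calc p = s⁻¹ * (s * p * s⁻¹) * s := by group
      _ = _ := by rw [hspp])⟩
  apply A.comm_of_sq c.hp c.ht c'.ht htp hsp
  rw [← h6, h7]; exact h10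

/-- (A2) -/
theorem ord_three [Finite G] (A : AllU P Q) (c : Line P Q p t) (c' : Line P Q p s) (hts : t * s ≠ s * t) :
    (t * s) ^ 3 ∈ Q p := by
  have B := A.toBase
  have h1 : ∀ w ∈ QS.W (Com.T B c'.toCom),
      w ∈ (qs (B.large p c.hp)).perp (QS.W (Com.T B c.toCom)) → w = 0 := by
    intro w hw hw'
    by_contra hw0
    exact hts (A.comm_of_perp c c' hw hw' hw0)
  have h2 := (c.sing B).opp_symm (c'.sing B) h1
  have htC : t ∈ Subgroup.centralizer ({p} : Set G) := Subgroup.mem_centralizer_singleton_iff.2 c.com.symm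
  have hsC : s ∈ Subgroup.centralizer ({p} : Set G) := Subgroup.mem_centralizer_singleton_iff.2 c'.com.symm
  have h := B.large p c.hp
  have hbr : h.act ⟨t, htC⟩ * h.act ⟨s, hsC⟩ * h.act ⟨t, htC⟩ =
      h.act ⟨s, hsC⟩ * h.act ⟨t, htC⟩ * h.act ⟨s, hsC⟩ := by
    ext v
    exact (c.sing B).braid (c'.sing B) h1 h2 v
  have hb : h.act ⟨s, hsC⟩ * h.act ⟨s, hsC⟩ = 1 := by
    rw [← map_mul]
    have : (⟨s, hsC⟩ * ⟨s, hsC⟩ : Subgroup.centralizer ({p} : Set G)) = 1 := Subtype.ext (B.sq c'.ht)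
    rw [this, map_one]
  have ha : h.act ⟨t, htC⟩ * h.act ⟨t, htC⟩ = 1 := by
    rw [← map_mul]
    have : (⟨t, htC⟩ * ⟨t, htC⟩ : Subgroup.centralizer ({p} : Set G)) = 1 := Subtype.ext (B.sq c.ht)
    rw [this, map_one]
  have h3 : h.act ((⟨t, htC⟩ * ⟨s, hsC⟩) ^ 3) = 1 := by
    rw [map_pow, map_mul]
    generalize h.act ⟨t, htC⟩ = a at *
    generalize h.act ⟨s, hsC⟩ = b at *
    calc (a * b) ^ 3 = (a * b * a) * (b * a * b) := by
          simp only [pow_succ, pow_zero, one_mul, mul_assoc]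
      _ = (b * a * b) * (b * a * b) := by rw [hbr]
      _ = b * a * (b * b) * a * b := by group
      _ = b * (a * a) * b := by rw [hb]; group
      _ = 1 := by rw [ha, mul_one, hb]
  exact h.mem_of_act _ h3

/-- (A3) -/
theorem no_tri [Finite G] (A : AllU P Q) {x : G} (c : Line P Q p t) (c' : Line P Q p s) (l : Line P Q p x)
    (hts : t * s = s * t) : t * s * x ∉ Q p := by
  intro hQ
  have B := A.toBase
  have hx2 := B.sq l.ht
  -- `x` acts as `t s`
  have htsp : t * s * p = p * (t * s) := by rw [mul_assoc, ← c'.com, ← mul_assoc, ← c.com, mul_assoc]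
  have htsxp : t * s * x * p = p * (t * s * x) := by rw [mul_assoc, ← l.com, ← mul_assoc, htsp, mul_assoc]
  have hact : ∀ v, Com.T B c.toCom (Com.T B c'.toCom v) = Com.T B l.toCom v := by
    intro v
    have h1 : ∀ v, ac (B.large p c.hp) (t * s * x) htsxp v = v := by
      intro v
      have h2 : (B.large p c.hp).act ⟨t * s * x, Subgroup.mem_centralizer_singleton_iff.2 htsxp⟩ = 1 :=
        (B.large p c.hp).act_mem _ hQ
      show (B.large p c.hp).act ⟨t * s * x, Subgroup.mem_centralizer_singleton_iff.2 htsxp⟩ v = v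
      rw [h2]; rfl
    have h2 := h1 (Com.T B l.toCom v)
    rw [ac_mul _ _ _ htsp l.com.symm, ac_mul _ _ _ c.com.symm c'.com.symm] at h2
    have h3 : ac (B.large p c.hp) x l.com.symm (Com.T B l.toCom v) = v := (Com.T_inv B l.toCom).inv v
    rw [h3] at h2
    exact h2
  by_cases hsL : s ∈ Lset Q p t
  · have h1 := (A.mem_L_iff c c'.ht c'.com.symm).1 ⟨hsL, c'.ne.symm⟩
    apply Com.notMem B l.toCom
    have h2 := mul_mem (inv_mem h1) hQ
    rw [hts] at h2
    rwa [inv_mul_cancel_left] at h2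
  have hdisj : ∀ v, v ∈ QS.W (Com.T B c.toCom) → v ∈ QS.W (Com.T B c'.toCom) → v = 0 := by
    intro v hv hv'
    by_contra hv0
    exact hsL (A.meet c c' hts hv hv' hv0)
  -- `W_x^⊥ ≤ W_t^⊥ ∩ W_s^⊥`
  have h1 : ∀ v ∈ (qs (B.large p c.hp)).perp (QS.W (Com.T B l.toCom)),
      Com.T B c.toCom v = v ∧ Com.T B c'.toCom v = v := by
    intro v hv
    rw [← (Com.T_inv B l.toCom).fix_iff] at hv
    have h2 : Com.T B c.toCom (Com.T B c'.toCom v) = v := (hact v).trans hv
    have h3 : Com.T B c'.toCom v = Com.T B c.toCom v := by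
      have := congrArg (Com.T B c.toCom) h2
      rw [(Com.T_inv B c.toCom).inv] at this
      exact this
    have h4 : Com.T B c.toCom v + v = 0 := by
      apply hdisj _ (QS.f_mem_W _ v)
      rw [← h3]; exact QS.f_mem_W _ v
    have h5 := eq_of_add h4
    exact ⟨h5, h3.trans h5⟩
  have h2 : QS.W (Com.T B c.toCom) ≤ QS.W (Com.T B l.toCom) := by
    intro w hw
    rw [← (qs (B.large p c.hp)).perp_perp (QS.W (Com.T B l.toCom)), QS.mem_perp]
    intro v hv
    rw [QS.b_comm]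
    exact (QS.mem_perp _).1 ((Com.T_inv B c.toCom).fix_iff.1 (h1 v hv).1) w hw
  have h3 : QS.W (Com.T B c'.toCom) ≤ QS.W (Com.T B l.toCom) := by
    intro w hw
    rw [← (qs (B.large p c.hp)).perp_perp (QS.W (Com.T B l.toCom)), QS.mem_perp]
    intro v hv
    rw [QS.b_comm]
    exact (QS.mem_perp _).1 ((Com.T_inv B c'.toCom).fix_iff.1 (h1 v hv).2) w hw
  have h4 := Line.card_W_eq B c l h2
  have h5 := Line.card_W_eq B c' l h3
  obtain ⟨u, hu, v, hv, hu0, hv0, huv⟩ := (c.sing B).exists_basis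
  apply hu0
  apply hdisj u hu
  rw [h5, ← h4]; exact hu

end AllU

end Cfsg.Agent.LargeExtra.WCIrr
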