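import Cfsg.Agent.LargeExtra.WG8

/-!
# Linear algebra over `ZMod 2` for the counts of S1763, case I (helper888)
-/

set_option autoImplicit false

namespace Cfsg.Agent.LargeExtra.WC.QS

variable {V : Type*} [AddCommGroup V] [Module (ZMod 2) V] {S : QS V}

/-- the sign -/
def sgn (a : ZMod 2) : ℤ := if a = 0 then 1 else -1

theorem sgn_add (a b : ZMod 2) : sgn (a + b) = sgn a * sgn b := by
  revert a b; decide

open Classical in
theorem sum_sgn_b [Finite V] (S : QS V) (U : Submodule (ZMod 2) V) [Fintype U] (u : V) :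
    (∑ v : U, sgn (S.b u v)) = if u ∈ S.perp U then (Fintype.card U : ℤ) else 0 := by
  split_ifs with h
  · have : ∀ v : U, sgn (S.b u v) = 1 := by
      intro v
      rw [S.b_comm, S.mem_perp.1 h v v.2]; rfl
    rw [Finset.sum_congr rfl (fun v _ => this v)]
    simp
  · have h1 : ∃ v0 : U, S.b u v0 = 1 := by
      by_contra hcon
      push Not at hcon
      apply h
      rw [S.mem_perp]
      intro w hw
      rw [S.b_comm]
      rcases zm_cases (S.b u w) with h2 | h2
      · exact h2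
      · exact absurd h2 (hcon ⟨w, hw⟩)
    obtain ⟨v0, hv0⟩ := h1
    have h2 : (∑ v : U, sgn (S.b u v)) = ∑ v : U, sgn (S.b u (v + v0 : U)) :=
      (Fintype.sum_equiv (Equiv.addRight v0) _ _ (fun v => rfl)).symm
    have h3 : ∀ v : U, sgn (S.b u (v + v0 : U)) = - sgn (S.b u v) := by
      intro v
      have : ((v + v0 : U) : V) = (v : V) + v0 := rfl
      rw [this, map_add, sgn_add, hv0]
      show sgn (S.b u v) * (-1) = _
      ring
    rw [Finset.sum_congr rfl (fun v _ => h3 v), Finset.sum_neg_distrib] at h2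
    linarith

/-- Gauss sum over `W^⊥`, `W` totally singular -/
theorem gauss [Finite V] (S : QS V) (W : Submodule (ZMod 2) V) (hW : ∀ w ∈ W, S.q w = 0)
    (hWW : W ≤ S.perp W) [Fintype (S.perp W)] [Fintype W] :
    (∑ v : S.perp W, sgn (S.q v)) * (∑ v : S.perp W, sgn (S.q v)) =
      (Fintype.card (S.perp W) : ℤ) * Fintype.card W := by
  classical
  have h1 : ∀ v : S.perp W, (∑ v' : S.perp W, sgn (S.q v)  * sgn (S.q v')) =
      ∑ u : S.perp W, sgn (S.q u) * sgn (S.b u v) := by
    intro v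
    have h2 : (∑ v' : S.perp W, sgn (S.q v) * sgn (S.q v')) =
        ∑ u : S.perp W, sgn (S.q v) * sgn (S.q (u + v : S.perp W)) :=
      (Fintype.sum_equiv (Equiv.addRight v) _ _ (fun v => rfl)).symm
    rw [h2]
    apply Finset.sum_congr rfl
    intro u _
    have : ((u + v : S.perp W) : V) = (u : V) + v := rfl
    rw [this, S.q_add, sgn_add, sgn_add]
    have h3 : sgn (S.q v) * sgn (S.q v) = 1 := by
      rcases zm_cases (S.q v) with h | h <;> rw [h] <;> rfl
    calc sgn (S.q v) * (sgn (S.q u) * sgn (S.q v) * sgn (S.b u v)) =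
        (sgn (S.q v) * sgn (S.q v)) * (sgn (S.q u) * sgn (S.b u v)) := by ring
      _ = _ := by rw [h3, one_mul]
  rw [Finset.sum_mul]
  simp only [Finset.mul_sum]
  rw [Finset.sum_congr rfl (fun v _ => h1 v), Finset.sum_comm]
  have h2 : ∀ u : S.perp W, (∑ v : S.perp W, sgn (S.q u) * sgn (S.b u v)) =
      if (u : V) ∈ W then (Fintype.card (S.perp W) : ℤ) else 0 := by
    intro u
    rw [← Finset.mul_sum, sum_sgn_b S (S.perp W) u, S.perp_perp]
    split_ifs with h
    · rw [hW u h]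
      show 1 * _ = _
      rw [one_mul]
    · rw [mul_zero]
  rw [Finset.sum_congr rfl (fun u _ => h2 u), ← Finset.sum_filter, Finset.sum_const, nsmul_eq_mul,
    mul_comm]
  congr 2
  rw [← Fintype.card_subtype]
  exact Fintype.card_congr
    { toFun := fun u => ⟨u.1, u.2⟩
      invFun := fun w => ⟨⟨w, hWW w.2⟩, w.2⟩
      left_inv := fun u => rfl
      right_inv := fun w => rfl }

/-- the number of singular vectors of `W^⊥` -/
theorem card_sing_le [Finite V] (hV : Nat.card V = 256) (W : Submodule (ZMod 2) V)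
    (hW : ∀ w ∈ W, S.q w = 0) (hWW : W ≤ S.perp W) (h4 : Nat.card W = 4) :
    {v : V | v ∈ S.perp W ∧ v ∉ W ∧ S.q v = 0}.ncard ≤ 36 := by
  classical
  have := Fintype.ofFinite (S.perp W)
  have := Fintype.ofFinite W
  have := Fintype.ofFinite V
  have hg := gauss S W hW hWW
  have h1 := S.card_perp W
  rw [h4, hV] at h1
  have h64 : Fintype.card (S.perp W) = 64 := by rw [← Nat.card_eq_fintype_card]; omega
  have h4' : Fintype.card W = 4 := by rw [← Nat.card_eq_fintype_card]; exact h4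
  rw [h64, h4'] at hg
  set g := ∑ v : S.perp W, sgn (S.q v) with hgd
  have hg' : g * g = 256 := by rw [hg]; norm_num
  have hg16 : g ≤ 16 := by nlinarith
  -- `g = N0 - N1`
  have h2 : g = 2 * ((Finset.univ.filter (fun v : S.perp W => S.q v = 0)).card : ℤ) - 64 := by
    have h3 : ∀ v : S.perp W, sgn (S.q v) = 2 * (if S.q v = 0 then 1 else 0) - 1 := by
      intro v
      rcases zm_cases (S.q v) with h | h <;> rw [h] <;> rfl
    rw [hgd, Finset.sum_congr rfl (fun v _ => h3 v), Finset.sum_sub_distrib, ← Finset.mul_sum,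
      Finset.sum_boole]
    simp only [Finset.sum_const, Finset.card_univ, h64]
    norm_num
  have h3 : (Finset.univ.filter (fun v : S.perp W => S.q v = 0)).card ≤ 40 := by
    have : (((Finset.univ.filter (fun v : S.perp W => S.q v = 0)).card : ℕ) : ℤ) ≤ 40 := by linarith
    exact_mod_cast this
  -- the set of all singular vectors of `W^⊥`
  have h5 : {v : V | v ∈ S.perp W ∧ S.q v = 0}.ncard ≤ 40 := by
    have h6 : {v : V | v ∈ S.perp W ∧ S.q v = 0} =
        (fun v : S.perp W => (v : V)) '' {v : S.perp W | S.q v = 0} := by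
      ext v
      constructor
      · rintro ⟨h7, h8⟩
        exact ⟨⟨v, h7⟩, h8, rfl⟩
      · rintro ⟨w, h7, rfl⟩
        exact ⟨w.2, h7⟩
    rw [h6]
    refine (Set.ncard_image_le (Set.toFinite _)).trans ?_
    have h7 : {v : S.perp W | S.q v = 0} =
        ((Finset.univ.filter (fun v : S.perp W => S.q v = 0) : Finset (S.perp W)) : Set (S.perp W)) := by
      ext v; simp
    rw [h7, Set.ncard_coe_finset]
    exact h3
  have h6 : {v : V | v ∈ S.perp W ∧ v ∉ W ∧ S.q v = 0} = {v : V | v ∈ S.perp W ∧ S.q v = 0} \ (W : Set V) := by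
    ext v
    simp only [Set.mem_ofPred_eq, Set.mem_sdiff, SetLike.mem_coe]
    tauto
  have h7 : (W : Set V) ⊆ {v : V | v ∈ S.perp W ∧ S.q v = 0} := fun w hw => ⟨hWW hw, hW w hw⟩
  rw [h6, Set.ncard_sdiff h7 (Set.toFinite _)]
  have h8 : (W : Set V).ncard = 4 := h4
  rw [h8]
  omega

theorem card_ne_zero (W : Submodule (ZMod 2) V) [Finite W] : Nat.card {v : V // v ∈ W ∧ v ≠ 0} + 1 = Nat.card W := by
  have h1 : ({v : V | v ∈ W ∧ v ≠ 0} : Set V) = (W : Set V) \ {0} := by
    ext v; simp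
  have h2 : ((W : Set V) \ {0}).ncard + 1 = (W : Set V).ncard :=
    Set.ncard_sdiff_singleton_add_one W.zero_mem (Set.toFinite _)
  rw [← h1] at h2
  exact h2

/-- five disjoint lines cover a space of order `16` -/
theorem cover [Finite V] (W : Fin 5 → Submodule (ZMod 2) V) (M : Submodule (ZMod 2) V) (hM : Nat.card M = 16)
    (h4 : ∀ i, Nat.card (W i) = 4) (hle : ∀ i, W i ≤ M) (hdisj : ∀ i j, i ≠ j → ∀ v ∈ W i, v ∈ W j → v = 0)
    {g : V} (hg : g ∈ M) (hg0 : g ≠ 0) : ∃ i, g ∈ W i := by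
  let f : (Σ i, {v : V // v ∈ W i ∧ v ≠ 0}) → {v : V // v ∈ M ∧ v ≠ 0} := fun x =>
    ⟨x.2.1, hle _ x.2.2.1, x.2.2.2⟩
  have hf : Function.Injective f := by
    rintro ⟨i, v, hv, hv0⟩ ⟨j, w, hw, hw0⟩ h
    have h1 : v = w := congrArg Subtype.val h
    subst h1
    by_cases hij : i = j
    · subst hij; rfl
    · exact absurd (hdisj i j hij v hv hw) hv0
  have h1 : Nat.card (Σ i, {v : V // v ∈ W i ∧ v ≠ 0}) = 15 := by
    rw [Nat.card_sigma]
    have : ∀ i, Nat.card {v : V // v ∈ W i ∧ v ≠ 0} = 3 := by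
      intro i
      have := card_ne_zero (W i)
      rw [h4 i] at this
      omega
    rw [Finset.sum_congr rfl (fun i _ => this i)]
    rfl
  have h2 : Nat.card {v : V // v ∈ M ∧ v ≠ 0} = 15 := by
    have := card_ne_zero M
    rw [hM] at this
    omega
  have h3 := hf.bijective_of_nat_card_le (by rw [h1, h2])
  obtain ⟨⟨i, v, hv, hv0⟩, h4⟩ := h3.2 ⟨g, hg, hg0⟩
  have h5 : v = g := congrArg Subtype.val h4
  exact ⟨i, h5 ▸ hv⟩

theorem card_sup {U W : Submodule (ZMod 2) V} (h : ∀ v ∈ U, v ∈ W → v = 0) :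
    Nat.card ↥(U ⊔ W) = Nat.card U * Nat.card W := by
  rw [← Nat.card_prod]
  symm
  apply Nat.card_congr
  refine Equiv.ofBijective (fun x : U × W => (⟨x.1 + x.2, Submodule.add_mem_sup x.1.2 x.2.2⟩ : ↥(U ⊔ W)))
    ⟨?_, ?_⟩
  · intro x y hxy
    have h1 : (x.1 : V) + x.2 = y.1 + y.2 := congrArg Subtype.val hxy
    have h2 : (x.1 : V) + y.1 = x.2 + y.2 := by
      have e1 : (x.1 : V) + y.1 + (x.2 + y.2) = (x.1 + x.2) + (y.1 + y.2) := by abel
      apply eq_of_add
      rw [e1, h1, vadd_self]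
    have h3 := h _ (U.add_mem x.1.2 y.1.2) (by rw [h2]; exact W.add_mem x.2.2 y.2.2)
    have h4 := eq_of_add h3
    rw [h4, vadd_self] at h2
    exact Prod.ext (Subtype.ext h4) (Subtype.ext (eq_of_add h2.symm))
  · rintro ⟨v, hv⟩
    obtain ⟨a, ha, b, hb, rfl⟩ := Submodule.mem_sup.1 hv
    exact ⟨(⟨a, ha⟩, ⟨b, hb⟩), rfl⟩

/-- a nonzero vector of `M` orthogonal to a subspace of order four -/
theorem exists_perp [Finite V] (S : QS V) {M W : Submodule (ZMod 2) V} (hM : 4 < Nat.card M) {u v : V}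
    (hW : ∀ w ∈ W, w = 0 ∨ w = u ∨ w = v ∨ w = u + v) : ∃ g ∈ M, g ≠ 0 ∧ g ∈ S.perp W := by
  have h1 : ¬ Function.Injective (fun m : M => ((S.b u m, S.b v m) : ZMod 2 × ZMod 2)) := by
    intro h
    have := Nat.card_le_card_of_injective _ h
    rw [Nat.card_prod, Nat.card_zmod] at this
    omega
  rw [Function.Injective] at h1
  push Not at h1
  obtain ⟨x, y, hxy, hne⟩ := h1
  have h2 : S.b u x = S.b u y := congrArg Prod.fst hxy
  have h3 : S.b v x = S.b v y := congrArg Prod.snd hxy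
  have haa : ∀ a : ZMod 2, a + a = 0 := by decide
  refine ⟨x + y, M.add_mem x.2 y.2, fun h => hne (Subtype.ext (eq_of_add h)), ?_⟩
  rw [S.mem_perp]
  intro w hw
  rcases hW w hw with rfl | rfl | rfl | rfl
  · rw [map_zero]; rfl
  · rw [map_add, h2, haa]
  · rw [map_add, h3, haa]
  · rw [map_add, map_add, LinearMap.add_apply, LinearMap.add_apply, h2, h3, haa]

/-- a nonzero singular vector in a space of order `> 4` -/
theorem exists_singular [Finite V] (S : QS V) {M : Submodule (ZMod 2) V} (hM : 4 < Nat.card M) :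
    ∃ g ∈ M, g ≠ 0 ∧ S.q g = 0 := by
  have h1 : ∃ a ∈ M, a ≠ 0 := by
    by_contra hcon
    push Not at hcon
    have : Subsingleton M := ⟨fun x y => Subtype.ext ((hcon x x.2).trans (hcon y y.2).symm)⟩
    rw [Nat.card_unique] at hM
    omega
  obtain ⟨a, ha, ha0⟩ := h1
  rcases zm_cases (S.q a) with hqa | hqa
  · exact ⟨a, ha, ha0, hqa⟩
  -- `K = M ∩ a^⊥`
  set K : Submodule (ZMod 2) V := M ⊓ S.perp (Submodule.span (ZMod 2) {a}) with hK
  have hmemK : ∀ v, v ∈ K ↔ v ∈ M ∧ S.b a v = 0 := by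
    intro v
    rw [hK, Submodule.mem_inf, S.mem_perp]
    constructor
    · rintro ⟨h1, h2⟩
      exact ⟨h1, h2 a (Submodule.subset_span rfl)⟩
    · rintro ⟨h1, h2⟩
      refine ⟨h1, fun u hu => ?_⟩
      rw [Submodule.mem_span_singleton] at hu
      obtain ⟨c, rfl⟩ := hu
      rw [map_smul, LinearMap.smul_apply, h2, smul_zero]
  have h2 : Nat.card M ≤ 2 * Nat.card K := by
    apply Cfsg.Agent.LargeExtra.WCIrr.card_le_two_mul
    intro u hu v hv huK hvK
    have h3 : ∀ u ∈ M, u ∉ K → S.b a u = 1 := by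
      intro u hu huK
      rcases zm_cases (S.b a u) with h | h
      · exact absurd ((hmemK u).2 ⟨hu, h⟩) huK
      · exact h
    rw [hmemK]
    refine ⟨M.add_mem hu hv, ?_⟩
    rw [map_add, h3 u hu huK, h3 v hv hvK]; decide
  obtain ⟨c, hc, hc0, hca⟩ : ∃ c ∈ K, c ≠ 0 ∧ c ≠ a := by
    by_contra hcon
    push Not at hcon
    have h3 : (K : Set V) ⊆ {0, a} := by
      intro v hv
      simp only [Set.mem_insert_iff, Set.mem_singleton_iff]
      by_cases h : v = 0
      · exact Or.inl h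
      · exact Or.inr (hcon v hv h)
    have h4 : Nat.card K ≤ 2 := by
      have h5 : Nat.card K = (K : Set V).ncard := rfl
      rw [h5]
      calc _ ≤ ({0, a} : Set V).ncard := Set.ncard_le_ncard h3 (Set.toFinite _)
        _ ≤ ({a} : Set V).ncard + 1 := Set.ncard_insert_le _ _
        _ = 2 := by rw [Set.ncard_singleton]
    omega
  obtain ⟨h3, h4⟩ := (hmemK c).1 hc
  rcases zm_cases (S.q c) with hqc | hqc
  · exact ⟨c, h3, hc0, hqc⟩
  · refine ⟨a + c, M.add_mem ha h3, fun h => hca (eq_of_add h).symm, ?_⟩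
    rw [S.q_add, hqa, hqc, h4]; decide

end Cfsg.Agent.LargeExtra.WC.QS

namespace Cfsg.Agent.LargeExtra.WCIrr

/-- double counting -/
theorem dcount {α β : Type*} [Finite α] [Finite β] (r : α → β → Prop) (s : Set α) (t : Set β) (m n : ℕ)
    (hm : ∀ a ∈ s, m ≤ {b | b ∈ t ∧ r a b}.ncard) (hn : ∀ b ∈ t, {a | a ∈ s ∧ r a b}.ncard ≤ n) :
    s.ncard * m ≤ t.ncard * n := by
  classical
  have := Fintype.ofFinite α
  have := Fintype.ofFinite β
  have h1 := Finset.card_mul_le_card_mul r (s := s.toFinset) (t := t.toFinset) (m := m) (n := n) (by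
    intro a ha
    rw [Set.mem_toFinset] at ha
    have h2 := hm a ha
    rw [Set.ncard_eq_toFinset_card'] at h2
    refine h2.trans (Finset.card_le_card ?_)
    intro b hb
    rw [Set.mem_toFinset] at hb
    rw [Finset.mem_bipartiteAbove, Set.mem_toFinset]
    exact hb) (by
    intro b hb
    rw [Set.mem_toFinset] at hb
    have h2 := hn b hb
    rw [Set.ncard_eq_toFinset_card'] at h2
    refine le_trans (Finset.card_le_card ?_) h2
    intro a ha
    rw [Finset.mem_bipartiteBelow, Set.mem_toFinset] at ha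
    rw [Set.mem_toFinset]
    exact ha)
  rwa [← Set.ncard_eq_toFinset_card', ← Set.ncard_eq_toFinset_card'] at h1

end Cfsg.Agent.LargeExtra.WCIrr
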