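import Cfsg.Agent.LargeExtra.WN1

/-!
# Large extraspecial 2-subgroups, `z` weakly closed in `Q`, any width, all commuting pairs of type U:
the axiom (A5) (helper888)
-/

set_option autoImplicit false

namespace Cfsg.Agent.LargeExtra.WCIrr

open Cfsg.Agent.Co2Type.Quad Cfsg.Agent.LargeExtra.WC

variable {G : Type*} [Group G] {P : Set G} {Q : G → Subgroup G} {p t s : G}

namespace AllN

/-- commuting points have perpendicular `W` -/
theorem perp_of_comm' [Finite G] (A : AllN P Q) (c : Line P Q p t) (c' : Line P Q p s) (hts : t * s = s * t) :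
    Wd A.toBase c.hp t ≤ (qs (A.large p c.hp)).perp (Wd A.toBase c.hp s) := by
  rw [c.Wd_eq A.toBase, show Wd A.toBase c.hp s = Wd A.toBase c'.hp s from rfl, c'.Wd_eq A.toBase]
  exact c.perp_of_comm A.toBase A.h64 c' hts

theorem comm_of_perp' [Finite G] (A : AllN P Q) (c : Line P Q p t) (c' : Line P Q p s)
    {g : (A.large p c.hp).V} (hg : g ∈ Wd A.toBase c.hp s)
    (hgT : g ∈ (qs (A.large p c.hp)).perp (Wd A.toBase c.hp t)) (hg0 : g ≠ 0) : t * s = s * t := by
  rw [c.Wd_eq A.toBase] at hgT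
  rw [show Wd A.toBase c.hp s = Wd A.toBase c'.hp s from rfl, c'.Wd_eq A.toBase] at hg
  exact A.comm_of_perp c c' hg hgT hg0

theorem meet' [Finite G] (A : AllN P Q) (c : Line P Q p t) (c' : Line P Q p s)
    {v : (A.large p c.hp).V} (hv : v ∈ Wd A.toBase c.hp t) (hv' : v ∈ Wd A.toBase c.hp s) (hv0 : v ≠ 0) :
    s ∈ Lset Q p t ∧ s ≠ p := by
  refine ⟨?_, c'.ne.symm⟩
  have h1 : v ∈ (qs (A.large p c.hp)).perp (Wd A.toBase c.hp t) := by
    rw [c.Wd_eq A.toBase] at hv ⊢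
    exact (c.sing A.toBase).W_le hv
  have hts := A.comm_of_perp' c c' hv' h1 hv0
  rw [c.Wd_eq A.toBase] at hv
  rw [show Wd A.toBase c.hp s = Wd A.toBase c'.hp s from rfl, c'.Wd_eq A.toBase] at hv'
  exact A.meet c c' hts hv hv' hv0

theorem card_Wd [Finite G] (A : AllN P Q) (c : Line P Q p t) : Nat.card (Wd A.toBase c.hp t) = 4 := by
  rw [c.Wd_eq A.toBase]; exact (c.sing A.toBase).card

theorem Wd_four [Finite G] (A : AllN P Q) (c : Line P Q p t) : ∃ u v : (A.large p c.hp).V,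
    ∀ w ∈ Wd A.toBase c.hp t, w = 0 ∨ w = u ∨ w = v ∨ w = u + v := by
  rw [c.Wd_eq A.toBase]
  obtain ⟨u, hu, v, hv, hu0, hv0, huv⟩ := (c.sing A.toBase).exists_basis
  exact ⟨u, v, fun w hw => QS.four (c.sing A.toBase).card hu hv hw hu0 hv0 huv⟩

/-- a commuting pair `t, s` (not collinear with `p`): all points of `L(t, s)` commute with `p` -/
theorem comm_line [Finite G] (A : AllN P Q) (c : Line P Q p t) (l : Line P Q t s)
    (hps : p * s = s * p) : ∀ r ∈ Lset Q t s, r * p = p * r := by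
  intro r hr
  have h1 := l.K A.toBase A.h64 c.symm hps.symm r hr
  exact (mul_inv_eq_iff_eq_mul.1 h1).symm

/-- `W_r ≤ W_t + W_s` for `r ∈ L(t, s)` -/
theorem Wd_le_sup [Finite G] (A : AllN P Q) (c : Line P Q p t) (c' : Line P Q p s) (l : Line P Q t s)
    (hp : p ∉ Lset Q t s) {r : G} (hr : r ∈ Lset Q t s) :
    Wd A.toBase c.hp r ≤ Wd A.toBase c.hp t ⊔ Wd A.toBase c.hp s := by
  have B := A.toBase
  have h := B.large p c.hp
  have hcl := A.comm_line c l c'.com
  have hrp : r * p = p * r := hcl r hr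
  have lr : Line P Q p r := by
    refine A.all p c.hp r (l.L_sub B hr) ?_ hrp.symm
    rintro rfl
    exact hp hr
  have hdisj : ∀ v ∈ Wd B c.hp t, v ∈ Wd B c.hp s → v = 0 := by
    intro v hv hv'
    by_contra hv0
    obtain ⟨h1, h2⟩ := A.meet' c c' hv hv' hv0
    obtain ⟨-, e1⟩ := c.of_mem B (Or.inr (Or.inl rfl)) h1 l.ne
    apply hp
    rw [e1]
    exact Or.inl rfl
  -- `Q p ∩ Q t ∩ Q s = 1`
  have hone : ∀ x ∈ Q p, x ∈ Q t → x ∈ Q s → x = 1 := by
    intro x h1 h2 h3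
    have h4 : (A.large p c.hp).pr ⟨x, h1⟩ = 0 := hdisj _ ⟨⟨x, h1⟩, h2, rfl⟩ ⟨⟨x, h1⟩, h3, rfl⟩
    rcases (A.large p c.hp).pr_eq_zero.1 h4 with h5 | h5
    · exact h5
    · exfalso
      have h6 : x = p := h5
      rw [h6] at h2
      exact Com.notMem B c.symm.toCom h2
  -- perpendicular
  rw [← (qs (A.large p c.hp)).perp_perp (Wd A.toBase c.hp t ⊔ Wd A.toBase c.hp s)]
  intro w hw
  rw [QS.mem_perp]
  intro v hv
  rw [QS.b_comm]
  obtain ⟨y, hy, rfl⟩ := pr_surj _ v
  have hyt : y * t = t * y := by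
    refine ((c.good.fix_iff B hy).1 ?_).symm
    rw [← c.Wd_eq B, QS.mem_perp]
    exact fun u hu => (QS.mem_perp _).1 hv u (Submodule.mem_sup_left hu)
  have hys : y * s = s * y := by
    refine ((c'.good.fix_iff B hy).1 ?_).symm
    rw [← c'.Wd_eq B, QS.mem_perp]
    exact fun u hu => (QS.mem_perp _).1 hv u (Submodule.mem_sup_right hu)
  have hyr : y * r = r * y := by
    rcases hr with rfl | rfl | ⟨d, hd1, hd2, hd3, rfl⟩
    · exact hyt
    · exact hys
    · -- `[d, y] ∈ Q p ∩ Q t ∩ Q s`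
      have hdp : d * p = p * d := by
        have e1 : d = s⁻¹ * t⁻¹ * (t * s * d) := by group
        rw [e1]
        calc s⁻¹ * t⁻¹ * (t * s * d) * p = s⁻¹ * t⁻¹ * (t * s * d * p) := by group
          _ = s⁻¹ * t⁻¹ * (p * (t * s * d)) := by rw [hrp]
          _ = s⁻¹ * (t⁻¹ * p) * (t * s * d) := by group
          _ = s⁻¹ * (p * t⁻¹) * (t * s * d) := by rw [(Commute.inv_left (show Commute t p from c.com.symm)).eq]
          _ = (s⁻¹ * p) * t⁻¹ * (t * s * d) := by group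
          _ = (p * s⁻¹) * t⁻¹ * (t * s * d) := by rw [(Commute.inv_left (show Commute s p from c'.com.symm)).eq]
          _ = _ := by group
      have k1 : d * y * d⁻¹ * y⁻¹ = 1 := by
        apply hone
        · exact mul_mem (h.conj_mem d hdp y hy) (inv_mem hy)
        · have := mul_mem hd1 ((B.large t c.ht).conj_mem y hyt _ (inv_mem hd1))
          have e : d * (y * d⁻¹ * y⁻¹) = d * y * d⁻¹ * y⁻¹ := by group
          rwa [e] at this
        · have := mul_mem hd2 ((B.large s c'.ht).conj_mem y hys _ (inv_mem hd2))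
          have e : d * (y * d⁻¹ * y⁻¹) = d * y * d⁻¹ * y⁻¹ := by group
          rwa [e] at this
      have k2 : d * y = y * d := by
        have := mul_inv_eq_one.1 k1
        exact mul_inv_eq_iff_eq_mul.1 this
      calc y * (t * s * d) = (y * t) * s * d := by group
        _ = t * (y * s) * d := by rw [hyt]; group
        _ = t * s * (y * d) := by rw [hys]; group
        _ = t * s * d * y := by rw [← k2]; group
  have h1 : (A.large p c.hp).pr ⟨y, hy⟩ ∈ (qs (A.large p c.hp)).perp (Wd A.toBase c.hp r) := by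
    rw [show Wd A.toBase c.hp r = Wd A.toBase lr.hp r from rfl, lr.Wd_eq B]
    exact (lr.good.fix_iff B hy).2 hyr.symm
  exact (QS.mem_perp _).1 h1 w hw

/-- `W_t + W_s` is covered by the five `W_r`, `r ∈ L(t, s)` -/
theorem cover [Finite G] (A : AllN P Q) (c : Line P Q p t) (c' : Line P Q p s) (l : Line P Q t s)
    (hp : p ∉ Lset Q t s) {g : (A.large p c.hp).V}
    (hg : g ∈ Wd A.toBase c.hp t ⊔ Wd A.toBase c.hp s) (hg0 : g ≠ 0) :
    ∃ r ∈ Lset Q t s, g ∈ Wd A.toBase c.hp r := by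
  have B := A.toBase
  have hcl := A.comm_line c l c'.com
  have hline : ∀ r ∈ Lset Q t s, Line P Q p r := by
    intro r hr
    refine A.all p c.hp r (l.L_sub B hr) ?_ (hcl r hr).symm
    rintro rfl
    exact hp hr
  have hdisj : ∀ r ∈ Lset Q t s, ∀ r' ∈ Lset Q t s, r ≠ r' → ∀ v ∈ Wd B c.hp r, v ∈ Wd B c.hp r' → v = 0 := by
    intro r hr r' hr' hne v hv hv'
    by_contra hv0
    obtain ⟨h1, h2⟩ := A.meet' (hline r hr) (hline r' hr') hv hv' hv0
    obtain ⟨-, e1⟩ := (hline r hr).of_mem B (Or.inr (Or.inl rfl)) h1 hne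
    obtain ⟨-, e2⟩ := l.of_mem B hr hr' hne
    apply hp
    rw [← e2, e1]
    exact Or.inl rfl
  have ht : t ∈ Lset Q t s := Or.inl rfl
  have hs : s ∈ Lset Q t s := Or.inr (Or.inl rfl)
  have hle : ∀ r ∈ Lset Q t s, Wd B c.hp r ≤ Wd A.toBase c.hp t ⊔ Wd A.toBase c.hp s := fun r hr =>
    A.Wd_le_sup c c' l hp hr
  have hM : Nat.card (↥(Wd A.toBase c.hp t ⊔ Wd A.toBase c.hp s)) = 16 := by
    rw [QS.card_sup (fun v hv hv' => hdisj t ht s hs l.ne v hv hv'), A.card_Wd c,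
      show Wd A.toBase c.hp s = Wd A.toBase c'.hp s from rfl, A.card_Wd c']
  obtain ⟨a, b, e, ha, hb, he, hnd, -, -⟩ := l.five B
  have hmem : ∀ i : Fin 5, (![t, s, a, b, e] : Fin 5 → G) i ∈ Lset Q t s := by
    intro i
    fin_cases i
    · exact ht
    · exact hs
    · exact ha
    · exact hb
    · exact he
  have hinj : ∀ i j : Fin 5, i ≠ j → (![t, s, a, b, e] : Fin 5 → G) i ≠ (![t, s, a, b, e] : Fin 5 → G) j := by
    have h1 : (List.ofFn (![t, s, a, b, e] : Fin 5 → G)).Nodup := by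
      have e1 : List.ofFn (![t, s, a, b, e] : Fin 5 → G) = [t, s, a, b, e] := by simp [List.ofFn_succ]
      rw [e1]; exact hnd
    intro i j hij h
    exact hij (List.nodup_ofFn.1 h1 h)
  obtain ⟨i, hi⟩ := QS.cover (fun i => Wd B c.hp ((![t, s, a, b, e] : Fin 5 → G) i)) _ hM
    (fun i => A.card_Wd (hline _ (hmem i))) (fun i => hle _ (hmem i))
    (fun i j hij => hdisj _ (hmem i) _ (hmem j) (hinj i j hij)) hg hg0
  exact ⟨_, hmem i, hi⟩

/-- (A5) -/
theorem polar [Finite G] (A : AllN P Q) {x : G} (c : Line P Q p t) (c' : Line P Q p s) (l : Line P Q t s)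
    (hp : p ∉ Lset Q t s) (hx : Line P Q p x) : ∃ r ∈ Lset Q t s, r * x = x * r := by
  have B := A.toBase
  have hcl := A.comm_line c l c'.com
  have hline : ∀ r ∈ Lset Q t s, Line P Q p r := by
    intro r hr
    refine A.all p c.hp r (l.L_sub B hr) ?_ (hcl r hr).symm
    rintro rfl
    exact hp hr
  have hdisj : ∀ v ∈ Wd B c.hp t, v ∈ Wd B c.hp s → v = 0 := by
    intro v hv hv'
    by_contra hv0
    obtain ⟨h1, h2⟩ := A.meet' c c' hv hv' hv0
    obtain ⟨-, e1⟩ := c.of_mem B (Or.inr (Or.inl rfl)) h1 l.ne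
    apply hp
    rw [e1]
    exact Or.inl rfl
  obtain ⟨u, v, huv⟩ := A.Wd_four hx
  have hM : 4 < Nat.card (↥(Wd A.toBase c.hp t ⊔ Wd A.toBase c.hp s)) := by
    rw [QS.card_sup hdisj, A.card_Wd c,
      show Wd A.toBase c.hp s = Wd A.toBase c'.hp s from rfl, A.card_Wd c']
    norm_num
  obtain ⟨g, hg, hg0, hgx⟩ := QS.exists_perp (qs (A.large p c.hp)) hM huv
  obtain ⟨r, hr, hgr⟩ := A.cover c c' l hp hg hg0
  refine ⟨r, hr, ?_⟩
  exact (A.comm_of_perp' hx (hline r hr) hgr hgx hg0).symm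

end AllN

end Cfsg.Agent.LargeExtra.WCIrr
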