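import Cfsg.Agent.LargeExtra.WN2
import Cfsg.Agent.LargeExtra.Wide.Three
import Cfsg.Agent.LargeExtra.WCEndPSU

/-!
# Large extraspecial 2-subgroups, `z` weakly closed in `Q`, any width, all commuting pairs of type U: `P` is a class
of 3-transpositions (helper888)
-/

set_option autoImplicit false

namespace Cfsg.Agent.LargeExtra.WCIrr

open Cfsg.Agent.Co2Type.Quad Cfsg.Agent.LargeExtra.WC Cfsg.Agent.LargeExtra.Wide

variable {G : Type*} [Group G] {P : Set G} {Q : G → Subgroup G} {p t s : G}

/-- **all commuting pairs of type U: `GeoN`** -/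
theorem AllN.geoN [Finite G] (A : AllN P Q) : GeoN P Q where
  conj_mem := A.conj_mem
  exists_conj := A.exists_conj
  large := A.large
  Q_conj := A.Q_conj
  eq_of_mem := A.eq_of_mem
  mul_notMem := fun p hp t ht hne hc => (A.all p hp t ht hne hc).good.nmem
  line := by
    intro p hp t ht hne hc
    have B := A.toBase
    have l := A.all p hp t ht hne hc
    obtain ⟨a, b, e, ha, hb, he, hnd, hall, hprod⟩ := l.five B
    have hpL : p ∈ Lset Q p t := Or.inl rfl
    have htL : t ∈ Lset Q p t := Or.inr (Or.inl rfl)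
    have hmem : ∀ x ∈ [p, t, a, b, e], x ∈ Lset Q p t := by
      intro x hx
      simp only [List.mem_cons, List.not_mem_nil, or_false] at hx
      rcases hx with rfl | rfl | rfl | rfl | rfl
      · exact hpL
      · exact htL
      · exact ha
      · exact hb
      · exact he
    refine ⟨a, l.L_sub B ha, b, l.L_sub B hb, e, l.L_sub B he, hnd, ?_, ?_, ?_, ?_⟩
    · intro x hx y hy
      exact l.L_comm B (hmem x hx) (hmem y hy)
    · rw [← hprod]
      simp [mul_assoc]
    · intro x hx y hy z hz hxy hxz hyz
      exact l.mul_mem_Q B (hmem x hx) (hmem y hy) (hmem z hz) hxy hxz hyz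
    · intro s hs hsp hst
      obtain ⟨h1, h2⟩ := l.mem_of_mul_mem B (A.h128 hp) hs hsp hst
      have h3 := hall s h1
      simp only [List.mem_cons, List.not_mem_nil, or_false]
      rcases h3 with h | h | h | h | h
      · exact absurd h h2
      · exact Or.inl h
      · exact Or.inr (Or.inl h)
      · exact Or.inr (Or.inr (Or.inl h))
      · exact Or.inr (Or.inr (Or.inr h))
  comm_of := fun p hp t ht s hs htp hsp h => A.comm_of_sq hp ht hs htp hsp h
  ord_three := by
    intro p hp t ht s hs htp hsp hts
    have htp' : t ≠ p := by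
      rintro rfl
      exact hts hsp.symm
    have hsp' : s ≠ p := by
      rintro rfl
      exact hts htp
    exact A.ord_three (A.all p hp t ht htp'.symm htp.symm) (A.all p hp s hs hsp'.symm hsp.symm) hts
  no_tri := by
    intro p hp t ht s hs x hx htp hsp hxp h1 h2 h3 hts
    exact A.no_tri (A.all p hp t ht h1.symm htp.symm) (A.all p hp s hs h2.symm hsp.symm)
      (A.all p hp x hx h3.symm hxp.symm) hts
  polar := by
    intro p hp t ht s hs x hx htp hsp hxp h1 h2 hts hn
    have B := A.toBase
    by_cases hxp' : x = p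
    · exact ⟨t, ht, Or.inl rfl, by rw [hxp']; exact htp⟩
    have c := A.all p hp t ht h1.symm htp.symm
    have c' := A.all p hp s hs h2.symm hsp.symm
    have lx := A.all p hp x hx (Ne.symm hxp') hxp.symm
    have hne : t ≠ s := by
      rintro rfl
      apply hn
      rw [B.sq ht]; exact one_mem _
    have l := A.all t ht s hs hne hts
    have hpn : p ∉ Lset Q t s := by
      intro h
      apply hn
      exact l.mul_mem_Q B (Or.inl rfl) (Or.inr (Or.inl rfl)) h hne h1 h2
    obtain ⟨r, hr, hrx⟩ := A.polar c c' l hpn lx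
    refine ⟨r, l.L_sub B hr, ?_, hrx⟩
    by_cases hrt : r = t
    · exact Or.inl hrt
    · right
      have hrt' : r * t = t * r := l.L_comm B hr (Or.inl rfl)
      exact ⟨hrt', (A.mem_L_iff l (l.L_sub B hr) hrt').1 ⟨hr, hrt⟩⟩

end Cfsg.Agent.LargeExtra.WCIrr

namespace Cfsg.Agent.LargeExtra.Wide

open Cfsg.Agent.Co2Type.Quad Cfsg.Agent.LargeExtra.WC Cfsg.Agent.LargeExtra.WCEnd

universe u

section

variable {G : Type u} [Group G] [Finite G] {P : Set G} {Q : G → Subgroup G}

theorem GeoN.isThree [IsSimpleGroup G] (hG : ¬ IsMulCommutative G) (hg : GeoN P Q) {z : G} (hz : z ∈ P) :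
    Cfsg.IsThreeTranspositionClass P := by
  classical
  have hz2 : orderOf z = 2 := orderOf_eq_prime (by rw [pow_two]; exact hg.sq hz) (hg.ne_one hz)
  -- a commuting pair
  obtain ⟨g, hg1, hg2⟩ := Cfsg.Agent.StandardComponent.AltFinal.exists_conj hG hz2
  have hex : ∃ p ∈ P, ∃ t ∈ P, p ≠ t ∧ Commute p t :=
    ⟨z, hz, g * z * g⁻¹, hg.conj_mem z hz g, hg1.symm, hg2.symm⟩
  have hcl : Subgroup.closure P = ⊤ := by
    have hn : (Subgroup.closure P).Normal := by
      constructor
      intro n hn g
      induction hn using Subgroup.closure_induction with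
      | mem x hx => exact Subgroup.subset_closure (hg.conj_mem x hx g)
      | one => rw [mul_one, mul_inv_cancel]; exact Subgroup.one_mem _
      | mul x y _ _ hx hy =>
        have e : g * (x * y) * g⁻¹ = (g * x * g⁻¹) * (g * y * g⁻¹) := by group
        rw [e]; exact Subgroup.mul_mem _ hx hy
      | inv x _ hx =>
        have e : g * x⁻¹ * g⁻¹ = (g * x * g⁻¹)⁻¹ := by group
        rw [e]; exact Subgroup.inv_mem _ hx
    rcases hn.eq_bot_or_eq_top with h | h
    · exfalso
      have : z ∈ Subgroup.closure P := Subgroup.subset_closure hz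
      rw [h, Subgroup.mem_bot] at this
      exact hg.ne_one hz this
    · exact h
  refine ⟨⟨?_, ?_⟩, ⟨z, hz, ?_⟩, hcl⟩
  · intro d hd
    exact orderOf_eq_prime (by rw [pow_two]; exact hg.sq hd) (hg.ne_one hd)
  · intro d hd e he
    by_cases hc : Commute d e
    · left
      rw [hc.mul_pow, pow_two, pow_two, hg.sq hd, hg.sq he, one_mul]
    · right
      exact hg.three zStar hex hd he hc
  · ext x
    constructor
    · intro hx
      exact isConj_iff.2 (hg.exists_conj z hz x hx)
    · intro hx
      obtain ⟨c, rfl⟩ := isConj_iff.1 (show IsConj z x from hx)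
      exact hg.conj_mem z hz c

end

end Cfsg.Agent.LargeExtra.Wide
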