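import Cfsg.Agent.LargeExtra.WG9

/-!
# Alternating forms over `ZMod 2`: the radical has square index (helper888)
-/

set_option autoImplicit false

namespace Cfsg.Agent.LargeExtra.WC

variable {V : Type*} [AddCommGroup V] [Module (ZMod 2) V]

section alt

variable (β : V →ₗ[ZMod 2] V →ₗ[ZMod 2] ZMod 2)

/-- the radical of `β` on `N` -/
def rad (N : Submodule (ZMod 2) V) : Submodule (ZMod 2) V where
  carrier := {v | v ∈ N ∧ ∀ u ∈ N, β u v = 0}
  zero_mem' := ⟨N.zero_mem, fun u _ => map_zero _⟩
  add_mem' := by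
    rintro a b ⟨h1, h2⟩ ⟨h3, h4⟩
    refine ⟨N.add_mem h1 h3, fun u hu => ?_⟩
    rw [map_add, h2 u hu, h4 u hu, add_zero]
  smul_mem' := by
    rintro r a ⟨h1, h2⟩
    refine ⟨N.smul_mem r h1, fun u hu => ?_⟩
    rw [map_smul, h2 u hu, smul_zero]

/-- `N ∩ {x, y}^⊥` -/
def sub2 (x y : V) (N : Submodule (ZMod 2) V) : Submodule (ZMod 2) V where
  carrier := {v | v ∈ N ∧ β x v = 0 ∧ β y v = 0}
  zero_mem' := ⟨N.zero_mem, map_zero _, map_zero _⟩
  add_mem' := by
    rintro a b ⟨h1, h2, h3⟩ ⟨h4, h5, h6⟩
    refine ⟨N.add_mem h1 h4, ?_, ?_⟩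
    · rw [map_add, h2, h5, add_zero]
    · rw [map_add, h3, h6, add_zero]
  smul_mem' := by
    rintro r a ⟨h1, h2, h3⟩
    refine ⟨N.smul_mem r h1, ?_, ?_⟩
    · rw [map_smul, h2, smul_zero]
    · rw [map_smul, h3, smul_zero]

variable {β} (alt : ∀ v, β v v = 0)
include alt

theorem alt_symm (v w : V) : β v w = β w v := by
  have h := alt (v + w)
  simp only [map_add, LinearMap.add_apply, alt, zero_add, add_zero] at h
  revert h
  generalize β v w = a
  generalize β w v = c
  revert a c; decide

theorem sub2_proj {x y : V} (hxy : β x y = 1) {N : Submodule (ZMod 2) V} (hx : x ∈ N) (hy : y ∈ N) {v : V}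
    (hv : v ∈ N) : v + β y v • x + β x v • y ∈ sub2 β x y N := by
  have hyx : β y x = 1 := by rw [alt_symm alt]; exact hxy
  have haa : ∀ a : ZMod 2, a + a = 0 := by decide
  refine ⟨N.add_mem (N.add_mem hv (N.smul_mem _ hx)) (N.smul_mem _ hy), ?_, ?_⟩
  · rw [map_add, map_add, map_smul, map_smul, alt, hxy, smul_zero, add_zero, smul_eq_mul, mul_one, haa]
  · rw [map_add, map_add, map_smul, map_smul, alt, hyx, smul_zero, add_zero, smul_eq_mul, mul_one, haa]

theorem card_sub2 [Finite V] {x y : V} (hxy : β x y = 1) {N : Submodule (ZMod 2) V} (hx : x ∈ N) (hy : y ∈ N) :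
    Nat.card N = 4 * Nat.card (sub2 β x y N) := by
  have hyx : β y x = 1 := by rw [alt_symm alt]; exact hxy
  have h1 : Nat.card N = Nat.card (sub2 β x y N × (ZMod 2 × ZMod 2)) := by
    apply Nat.card_congr
    exact
      { toFun := fun v => (⟨(v : V) + β y v • x + β x v • y, sub2_proj alt hxy hx hy v.2⟩, (β y v, β x v))
        invFun := fun u => ⟨(u.1 : V) + u.2.1 • x + u.2.2 • y,
          N.add_mem (N.add_mem u.1.2.1 (N.smul_mem _ hx)) (N.smul_mem _ hy)⟩
        left_inv := by
          intro v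
          apply Subtype.ext
          show (v : V) + β y v • x + β x v • y + β y v • x + β x v • y = v
          have : (v : V) + β y v • x + β x v • y + β y v • x + β x v • y =
              v + (β y v • x + β y v • x) + (β x v • y + β x v • y) := by abel
          rw [this, vadd_self, vadd_self, add_zero, add_zero]
        right_inv := by
          rintro ⟨⟨v, hv, hvx, hvy⟩, a, b⟩
          have e1 : β y (v + a • x + b • y) = a := by
            rw [map_add, map_add, map_smul, map_smul, hvy, hyx, alt, smul_zero, zero_add, add_zero, smul_eq_mul, mul_one]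
          have e2 : β x (v + a • x + b • y) = b := by
            rw [map_add, map_add, map_smul, map_smul, hvx, hxy, alt, smul_zero, zero_add, zero_add, smul_eq_mul, mul_one]
          refine Prod.ext (Subtype.ext ?_) (Prod.ext e1 e2)
          show (v + a • x + b • y) + β y (v + a • x + b • y) • x + β x (v + a • x + b • y) • y = v
          rw [e1, e2]
          have : v + a • x + b • y + a • x + b • y = v + (a • x + a • x) + (b • y + b • y) := by abel
          rw [this, vadd_self, vadd_self, add_zero, add_zero] }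
  rw [h1, Nat.card_prod, Nat.card_prod, Nat.card_zmod]
  ring

theorem rad_sub2 {x y : V} (hxy : β x y = 1) {N : Submodule (ZMod 2) V} (hx : x ∈ N) (hy : y ∈ N) :
    rad β (sub2 β x y N) = rad β N := by
  apply le_antisymm
  · rintro v ⟨⟨h1, h2, h3⟩, h4⟩
    refine ⟨h1, fun u hu => ?_⟩
    have h5 := h4 _ (sub2_proj alt hxy hx hy hu)
    rw [map_add, map_add, map_smul, map_smul, LinearMap.add_apply, LinearMap.add_apply, LinearMap.smul_apply,
      LinearMap.smul_apply, h2, h3, smul_zero, smul_zero, add_zero, add_zero] at h5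
    exact h5
  · rintro v ⟨h1, h2⟩
    exact ⟨⟨h1, h2 x hx, h2 y hy⟩, fun u hu => h2 u hu.1⟩

theorem card_rad [Finite V] (n : ℕ) : ∀ N : Submodule (ZMod 2) V, Nat.card N ≤ n →
    ∃ k : ℕ, Nat.card N = 4 ^ k * Nat.card (rad β N) := by
  induction n with
  | zero =>
    intro N hN
    have := Nat.card_pos (α := N)
    omega
  | succ n ih =>
    intro N hN
    by_cases h : ∀ x ∈ N, ∀ y ∈ N, β x y = 0
    · refine ⟨0, ?_⟩
      have : rad β N = N := by
        apply le_antisymm
        · exact fun v hv => hv.1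
        · exact fun v hv => ⟨hv, fun u hu => h u hu v hv⟩
      rw [this, pow_zero, one_mul]
    · push Not at h
      obtain ⟨x, hx, y, hy, hxy⟩ := h
      have hxy1 : β x y = 1 := by
        rcases zm_cases (β x y) with h | h
        · exact absurd h hxy
        · exact h
      have h1 := card_sub2 alt hxy1 hx hy
      have h2 := Nat.card_pos (α := sub2 β x y N)
      obtain ⟨k, hk⟩ := ih (sub2 β x y N) (by omega)
      refine ⟨k + 1, ?_⟩
      rw [h1, hk, rad_sub2 alt hxy1 hx hy, pow_succ]
      ring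

end alt

namespace QS

variable {S : QS V}

/-- `T` an isometric involution with `[V, T]` totally singular and equal to `C_V(T)`: the dimension of `[V, T]` is
even -/
theorem Inv.card_W [Finite V] {T : V ≃ₗ[ZMod 2] V} (h : S.Inv T) (hq : ∀ v, S.q (T v + v) = 0)
    (hW : S.perp (W T) = W T) : ∃ k : ℕ, Nat.card (W T) = 4 ^ k := by
  let β : V →ₗ[ZMod 2] V →ₗ[ZMod 2] ZMod 2 := S.b.compl₂ (T.toLinearMap + LinearMap.id)
  have hβ : ∀ v w, β v w = S.b v (T w + w) := fun v w => rfl
  have alt : ∀ v, β v v = 0 := by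
    intro v
    rw [hβ, ← h.iso.q_f, hq]
  obtain ⟨k, hk⟩ := card_rad alt (Nat.card (⊤ : Submodule (ZMod 2) V)) ⊤ le_rfl
  have hr : rad β ⊤ = W T := by
    rw [← hW]
    ext v
    rw [← h.fix_iff]
    constructor
    · rintro ⟨-, h1⟩
      apply eq_of_add
      apply S.nondeg
      intro w
      rw [S.b_comm, ← hβ]
      exact h1 w trivial
    · intro h1
      refine ⟨trivial, fun u _ => ?_⟩
      rw [hβ, h1, vadd_self, map_zero]
  rw [hr] at hk
  have h1 := S.card_perp (W T)
  rw [hW] at h1
  have h2 : Nat.card (⊤ : Submodule (ZMod 2) V) = Nat.card V := Nat.card_congr Submodule.topEquiv.toEquiv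
  rw [h2, ← h1] at hk
  exact ⟨k, Nat.eq_of_mul_eq_mul_right Nat.card_pos hk⟩

end QS

end Cfsg.Agent.LargeExtra.WC
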