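import Cfsg.Agent.LargeExtra.WN4
import Cfsg.Agent.LargeExtra.WG10
import Cfsg.Agent.LargeExtra.NineUnitary.HallA

/-!
# Large extraspecial 2-subgroups, `z` weakly closed in `Q`, width at least five: no pairs of type F (helper888)
-/

set_option autoImplicit false

namespace Cfsg.Agent.LargeExtra.WCIrr

open Cfsg.Agent.Co2Type.Quad Cfsg.Agent.LargeExtra.WC Cfsg.Agent.LargeExtra.NineUnitary.Hall

variable {G : Type*} [Group G] {P : Set G} {Q : G → Subgroup G} {p t : G}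

theorem card_Wd' [Finite G] (B : Base P Q) (c : Line P Q p t) : Nat.card (Wd B c.hp t) = 4 := by
  rw [c.Wd_eq B]; exact (c.sing B).card

/-- an element of `Q t` acts trivially on `V_t` -/
theorem ac_triv (B : Base P Q) (ht : t ∈ P) {g : G} (hg : g * t = t * g) (h : g ∈ Q t) (v : (B.large t ht).V) :
    ac (B.large t ht) g hg v = v := by
  have h1 : (B.large t ht).act ⟨g, Subgroup.mem_centralizer_singleton_iff.2 hg⟩ = 1 := (B.large t ht).act_mem _ h
  show (B.large t ht).act ⟨g, _⟩ v = v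
  rw [h1]; rfl

theorem ac_congr (B : Base P Q) (ht : t ∈ P) {g k : G} (hg : g * t = t * g) (hk : k * t = t * k) (h : g = k)
    (v : (B.large t ht).V) : ac (B.large t ht) g hg v = ac (B.large t ht) k hk v := by
  subst h; rfl

/-- three root elements with product `1` on `V_t`: the lines meet -/
theorem meet_three [Finite G] (B : Base P Q) {s₁ s₂ s₃ : G} (l₁ : Line P Q t s₁)
    (l₂ : Line P Q t s₂) (l₃ : Line P Q t s₃) (h : s₁ * s₂ * s₃ ∈ Q t) (h12 : s₁ * s₂ ∉ Q t) :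
    ∃ w : (B.large t l₁.hp).V, w ≠ 0 ∧ w ∈ Wd B l₁.hp s₂ ∧ w ∈ Wd B l₁.hp s₃ := by
  set S := qs (B.large t l₁.good.hp) with hS
  have hc : ∀ {s : G}, Line P Q t s → s * t = t * s := fun l => l.good.com.symm
  have h12c : s₁ * s₂ * t = t * (s₁ * s₂) := by rw [mul_assoc, hc l₂, ← mul_assoc, hc l₁, mul_assoc]
  have h123c : s₁ * s₂ * s₃ * t = t * (s₁ * s₂ * s₃) := by
    rw [mul_assoc, hc l₃, ← mul_assoc, h12c, mul_assoc]
  have hT3 : ∀ v, Com.T B l₃.good.toCom v = Com.T B l₂.good.toCom (Com.T B l₁.good.toCom v) := by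
    intro v
    have h1 := ac_triv B l₁.hp h123c h v
    rw [ac_mul _ _ _ h12c (hc l₃), ac_mul _ _ _ (hc l₁) (hc l₂)] at h1
    have h2 : Com.T B l₁.good.toCom (Com.T B l₂.good.toCom (Com.T B l₃.good.toCom v)) = v := h1
    have h3 := (Com.T_inv B l₂.good.toCom).inv (Com.T B l₃.good.toCom v)
    have h4 := (Com.T_inv B l₁.good.toCom).inv (Com.T B l₂.good.toCom (Com.T B l₃.good.toCom v))
    rw [h2] at h4
    rw [h4, h3]
  -- `v` fixed by `T₁`, not by `T₂`
  have hex : ∃ v, Com.T B l₁.good.toCom v = v ∧ Com.T B l₂.good.toCom v ≠ v := by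
    by_contra hcon
    push Not at hcon
    have h1 : S.perp (QS.W (Com.T B l₁.good.toCom)) ≤ S.perp (QS.W (Com.T B l₂.good.toCom)) := by
      intro v hv
      exact (Com.T_inv B l₂.good.toCom).fix_iff.1 (hcon v ((Com.T_inv B l₁.good.toCom).fix_iff.2 hv))
    have h2 : QS.W (Com.T B l₂.good.toCom) ≤ QS.W (Com.T B l₁.good.toCom) := by
      intro w hw
      rw [← S.perp_perp (QS.W (Com.T B l₁.good.toCom)), S.mem_perp]
      intro u hu
      rw [S.b_comm]
      exact S.mem_perp.1 (h1 hu) w hw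
    have h3 := Line.card_W_eq B l₂ l₁ h2
    exact h12 (Line.eq_of_W B l₁ l₂ h3.symm)
  obtain ⟨v, hv1, hv2⟩ := hex
  have h3v : Com.T B l₃.good.toCom v = Com.T B l₂.good.toCom v := by rw [hT3, hv1]
  refine ⟨Com.T B l₂.good.toCom v + v, fun h0 => hv2 (eq_of_add h0), ?_, ?_⟩
  · rw [show Wd B l₁.hp s₂ = Wd B l₂.hp s₂ from rfl, l₂.Wd_eq B]
    exact QS.f_mem_W _ _
  · rw [← h3v, show Wd B l₁.hp s₃ = Wd B l₃.hp s₃ from rfl, l₃.Wd_eq B]
    exact QS.f_mem_W _ _

/-- three subspaces of order four whose sum has at least `64` elements are independent -/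
theorem indep_of_card {V : Type*} [AddCommGroup V] [Module (ZMod 2) V] [Finite V] {A A' A'' : Submodule (ZMod 2) V}
    (hA : Nat.card A = 4) (hA' : Nat.card A' = 4) (hA'' : Nat.card A'' = 4) {W : Submodule (ZMod 2) V}
    (hW : W ≤ A ⊔ A' ⊔ A'') (h64 : 64 ≤ Nat.card W) {a a' a'' : V} (ha : a ∈ A) (ha' : a' ∈ A') (ha'' : a'' ∈ A'')
    (h : a + a' + a'' = 0) : a = 0 ∧ a' = 0 ∧ a'' = 0 := by
  let f : (A × A') × A'' → ↥(A ⊔ A' ⊔ A'') := fun x =>
    ⟨(x.1.1 : V) + x.1.2 + x.2, Submodule.add_mem_sup (Submodule.add_mem_sup x.1.1.2 x.1.2.2) x.2.2⟩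
  have hf : Function.Surjective f := by
    rintro ⟨v, hv⟩
    obtain ⟨u, hu, c, hc, rfl⟩ := Submodule.mem_sup.1 hv
    obtain ⟨a, ha, b, hb, rfl⟩ := Submodule.mem_sup.1 hu
    exact ⟨((⟨a, ha⟩, ⟨b, hb⟩), ⟨c, hc⟩), rfl⟩
  have h1 : Nat.card ((A × A') × A'') = 64 := by
    rw [Nat.card_prod, Nat.card_prod, hA, hA', hA'']
  have h2 : Nat.card W ≤ Nat.card ↥(A ⊔ A' ⊔ A'') :=
    Nat.card_le_card_of_injective (Submodule.inclusion hW) (Submodule.inclusion_injective _)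
  have h3 := hf.bijective_of_nat_card_le (by rw [h1]; exact h64.trans h2)
  have h4 : f ((⟨a, ha⟩, ⟨a', ha'⟩), ⟨a'', ha''⟩) = f ((0, 0), 0) := by
    apply Subtype.ext
    show a + a' + a'' = 0 + 0 + 0
    rw [h, add_zero, add_zero]
  have h5 := h3.1 h4
  refine ⟨congrArg (fun x => (x.1.1 : V)) h5, congrArg (fun x => (x.1.2 : V)) h5, congrArg (fun x => (x.2 : V)) h5⟩

/-- a line cannot meet three independent lines -/
theorem false_of_meet {V : Type*} [AddCommGroup V] [Module (ZMod 2) V] {A A' A'' : Submodule (ZMod 2) V}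
    (hind : ∀ a ∈ A, ∀ a' ∈ A', ∀ a'' ∈ A'', a + a' + a'' = 0 → a = 0 ∧ a' = 0 ∧ a'' = 0)
    {M : Submodule (ZMod 2) V} (hM : Nat.card M = 4) {a a' a'' : V} (ha : a ∈ A) (ha' : a' ∈ A') (ha'' : a'' ∈ A'')
    (haM : a ∈ M) (haM' : a' ∈ M) (haM'' : a'' ∈ M) (h0 : a ≠ 0) (h0' : a' ≠ 0) (h0'' : a'' ≠ 0) : False := by
  have h1 : a ≠ a' := by
    rintro rfl
    exact h0 (hind a ha a ha' 0 A''.zero_mem (by rw [vadd_self, add_zero])).1
  rcases QS.four hM haM haM' haM'' h0 h0' h1 with h | h | h | h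
  · exact h0'' h
  · exact h0 (hind a ha 0 A'.zero_mem a'' ha'' (by rw [h, add_zero, vadd_self])).1
  · exact h0' (hind 0 A.zero_mem a' ha' a'' ha'' (by rw [h, zero_add, vadd_self])).2.1
  · exact h0 (hind a ha a' ha' a'' ha'' (by rw [h, vadd_self])).1

/-- lines from elements of `Q p`: the U-lines of `x` and `y` meet if `x y` is also a root element -/
theorem meetR' [Finite G] (B : Base P Q) {x y : G} (hyn : y ∉ Q t)
    (hxt : t * x = x * t) (hyt : t * y = y * t) (hxy : x * y = y * x) (hx2 : x * x = 1) (hy2 : y * y = 1)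
    (lx : Line P Q t (t * x)) (ly : Line P Q t (t * y)) (lxy : Line P Q t (t * (x * y))) :
    ∃ w : (B.large t lx.hp).V, w ≠ 0 ∧ w ∈ Wd B lx.hp (t * x) ∧ w ∈ Wd B lx.hp (t * y) := by
  have htt := B.sq lx.hp
  refine meet_three B lxy lx ly ?_ ?_
  · have e : t * (x * y) * (t * x) * (t * y) = t := by
      calc t * (x * y) * (t * x) * (t * y) = t * x * (y * t) * x * t * y := by group
        _ = t * x * t * (y * x) * t * y := by rw [← hyt]; group
        _ = t * (x * t) * x * (y * t) * y := by rw [← hxy]; group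
        _ = (t * t) * x * x * t * (y * y) := by rw [← hxt, ← hyt]; group
        _ = (x * x) * t := by rw [htt, hy2]; group
        _ = t := by rw [hx2, one_mul]
    rw [e]
    exact (B.large t lx.hp).z_mem
  · intro h
    have e : t * (x * y) * (t * x) = y := by
      calc t * (x * y) * (t * x) = t * x * (y * t) * x := by group
        _ = t * (x * t) * y * x := by rw [← hyt]; group
        _ = (t * t) * x * (y * x) := by rw [← hxt]; group
        _ = x * (x * y) := by rw [htt, ← hxy]; group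
        _ = (x * x) * y := by group
        _ = y := by rw [hx2, one_mul]
    rw [e] at h
    exact hyn h

/-- the case `Q p ∩ Q t = 1` -/
theorem meetR [Finite G] (B : Base P Q) (hD1 : ∀ d ∈ Q p, d ∈ Q t → d = 1) {x y : G} (hy : y ∈ Q p)
    (hxt : t * x = x * t) (hyt : t * y = y * t) (hxy : x * y = y * x) (hx2 : x * x = 1) (hy2 : y * y = 1)
    (lx : Line P Q t (t * x)) (ly : Line P Q t (t * y)) (lxy : Line P Q t (t * (x * y))) :
    ∃ w : (B.large t lx.hp).V, w ≠ 0 ∧ w ∈ Wd B lx.hp (t * x) ∧ w ∈ Wd B lx.hp (t * y) :=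
  meetR' B (fun h => ly.ne (by rw [hD1 y hy h, mul_one])) hxt hyt hxy hx2 hy2 lx ly lxy

section F

variable (B : Base P Q) (c : Good P p t)
include B c

theorem Good.nn_comm_t {x : G} (hx : x ∈ Q p) : t * (t * x * t⁻¹ * x⁻¹) = (t * x * t⁻¹ * x⁻¹) * t := by
  have h1 := Com.inv_aux B c.toCom (x := x)
  rw [inv_eq_of_mul_eq_one_left (c.sq_comm B hx)] at h1
  exact mul_inv_eq_iff_eq_mul.1 h1

omit B c in
theorem nn_mul {x y : G} : t * (x * y) * t⁻¹ * (x * y)⁻¹ = (t * x * t⁻¹ * x⁻¹) * (x * (t * y * t⁻¹ * y⁻¹) * x⁻¹) := by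
  group

omit B c in
theorem nn_mul_of_comm {x y : G} (h : x * (t * y * t⁻¹ * y⁻¹) = (t * y * t⁻¹ * y⁻¹) * x) :
    t * (x * y) * t⁻¹ * (x * y)⁻¹ = (t * x * t⁻¹ * x⁻¹) * (t * y * t⁻¹ * y⁻¹) := by
  rw [nn_mul, h, mul_inv_cancel_right]

theorem Good.nn_mul_of_ncomm {x y : G} (hx : x ∈ Q p) (hy : y ∈ Q p)
    (h : x * (t * y * t⁻¹ * y⁻¹) ≠ (t * y * t⁻¹ * y⁻¹) * x) :
    t * (x * y) * t⁻¹ * (x * y)⁻¹ = (t * x * t⁻¹ * x⁻¹) * ((t * y * t⁻¹ * y⁻¹) * p) := by
  rw [nn_mul, ((B.large p c.hp).comm x hx _ (Com.u_mem B c.toCom hy)).resolve_left h]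
  congr 1
  have hxp : x * p = p * x := (B.large p c.hp).comm_z x hx
  calc (t * y * t⁻¹ * y⁻¹) * x * p * x⁻¹ = (t * y * t⁻¹ * y⁻¹) * (x * p) * x⁻¹ := by group
    _ = (t * y * t⁻¹ * y⁻¹) * p := by rw [hxp]; group

theorem Good.comm_nn_iff {x y : G} (hx : x ∈ Q p) (hy : y ∈ Q p) :
    x * (t * y * t⁻¹ * y⁻¹) = (t * y * t⁻¹ * y⁻¹) * x ↔ y * (t * x * t⁻¹ * x⁻¹) = (t * x * t⁻¹ * x⁻¹) * y := by
  have key : ∀ {x y : G} (hx : x ∈ Q p) (hy : y ∈ Q p), x * (t * y * t⁻¹ * y⁻¹) = (t * y * t⁻¹ * y⁻¹) * x ↔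
      (qs (B.large p c.hp)).b ((B.large p c.hp).pr ⟨x, hx⟩)
        (Com.T B c.toCom ((B.large p c.hp).pr ⟨y, hy⟩) + (B.large p c.hp).pr ⟨y, hy⟩) = 0 := by
    intro x y hx hy
    rw [Com.T, ac_add]
    exact ((B.large p c.hp).b_pr ⟨x, hx⟩ ⟨t * y * t⁻¹ * y⁻¹, Com.u_mem B c.toCom hy⟩).symm
  rw [key hx hy, key hy hx, ← (Com.T_inv B c.toCom).adj, QS.b_comm]

theorem Good.comm_nn_self {x : G} (hx : x ∈ Q p) : x * (t * x * t⁻¹ * x⁻¹) = (t * x * t⁻¹ * x⁻¹) * x := by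
  have h1 := (Com.T_inv B c.toCom).iso.q_f ((B.large p c.hp).pr ⟨x, hx⟩)
  have h2 : (qs (B.large p c.hp)).q (Com.T B c.toCom ((B.large p c.hp).pr ⟨x, hx⟩) +
      (B.large p c.hp).pr ⟨x, hx⟩) = 0 := c.q_W B (QS.f_mem_W _ _)
  rw [h2, Com.T, ac_add] at h1
  exact ((B.large p c.hp).b_pr _ _).1 h1.symm

end F

/-- **No pairs of type F** if `|Q| ≥ 2 ^ 11`. -/
theorem TypeF.false_of_big [Finite G] (B : Base P Q)
    (hbig : ∀ p (hp : p ∈ P), 1024 ≤ Nat.card (B.large p hp).V) (c : Good P p t) (f : TypeF Q p t) : False := by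
  have h64 : ∀ p (hp : p ∈ P), 64 ≤ Nat.card (B.large p hp).V := fun p hp => by
    have := hbig p hp
    omega
  set S := qs (B.large p c.hp) with hS
  have hpp := B.sq c.hp
  have htt := B.sq c.ht
  have hD1 : ∀ d ∈ Q p, d ∈ Q t → d = 1 := fun d h1 h2 => TypeF.eq_one B h64 c f h1 h2
  -- all `(t, t^q)` are lines
  have hline : ∀ q ∈ Q p, t * q ≠ q * t → Line P Q t (t * (t * q * t⁻¹ * q⁻¹)) := by
    intro q hq hqt
    rw [← Com.conj_eq B c.toCom q]
    obtain ⟨c', h1⟩ := shift_q B c f hq (fun d h1 h2 => by rw [hD1 d h1 h2]; group) hqt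
    rcases c'.dichotomy B (h64 t c.ht) with hU | hF
    · exact line_of_typeU B c' hU
    · exfalso
      have h2 := Nat.card_pos (α := ↥(Q p ⊓ Q t))
      obtain ⟨d, hd, hd1⟩ := exists_ne_one (by omega : 1 < Nat.card ↥(Q t ⊓ Q (q * t * q⁻¹)))
      obtain ⟨h3, h4⟩ := Subgroup.mem_inf.1 hd
      exact hd1 (TypeF.eq_one B h64 c' hF h3 h4)
  have hne1 : ∀ q, t * q * t⁻¹ * q⁻¹ ≠ 1 → t * q ≠ q * t := by
    intro q h h1
    apply h
    rw [h1]; group
  have hQn : ∀ {q}, q ∈ Q p → t * q * t⁻¹ * q⁻¹ ∈ Q p := fun hq => Com.u_mem B c.toCom hq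
  have hcomm : ∀ {x y}, x ∈ Q p → y ∈ Q p → (t * x * t⁻¹ * x⁻¹) * (t * y * t⁻¹ * y⁻¹) =
      (t * y * t⁻¹ * y⁻¹) * (t * x * t⁻¹ * x⁻¹) := fun hx hy =>
    f.comm _ (hQn hx) _ (hQn hy) (c.nn_comm_t B hx) (c.nn_comm_t B hy)
  have hpc : ∀ {x}, x ∈ Q p → x * p = p * x := fun hx => (B.large p c.hp).comm_z _ hx
  -- choice of `q₁'`, `q₁`
  obtain ⟨v', hv'⟩ := Com.T_ne B c.toCom
  obtain ⟨v, hv⟩ : ∃ v, S.b v (Com.T B c.toCom v' + v') ≠ 0 := by
    by_contra hcon
    push Not at hcon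
    apply hv'
    apply eq_of_add
    apply S.nondeg
    intro w
    rw [S.b_comm]; exact hcon w
  obtain ⟨q', hq', rfl⟩ := pr_surj _ v'
  obtain ⟨q, hq, rfl⟩ := pr_surj _ v
  have hqq' : q * (t * q' * t⁻¹ * q'⁻¹) ≠ (t * q' * t⁻¹ * q'⁻¹) * q := by
    intro h
    apply hv
    rw [Com.T, ac_add]
    exact ((B.large p c.hp).b_pr _ _).2 h
  -- `n`, `n'`
  obtain ⟨n, hn⟩ : ∃ n, n = t * q * t⁻¹ * q⁻¹ := ⟨_, rfl⟩
  obtain ⟨n', hn'⟩ : ∃ n', n' = t * q' * t⁻¹ * q'⁻¹ := ⟨_, rfl⟩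
  have hnQ : n ∈ Q p := by rw [hn]; exact hQn hq
  have hnQ' : n' ∈ Q p := by rw [hn']; exact hQn hq'
  have hnt : t * n = n * t := by rw [hn]; exact c.nn_comm_t B hq
  have hnt' : t * n' = n' * t := by rw [hn']; exact c.nn_comm_t B hq'
  have hn2 : n * n = 1 := by rw [hn]; exact c.sq_comm B hq
  have hn2' : n' * n' = 1 := by rw [hn']; exact c.sq_comm B hq'
  have hnn' : n * n' = n' * n := by rw [hn, hn']; exact hcomm hq hq'
  have hqn' : q * n' ≠ n' * q := by rw [hn']; exact hqq'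
  have hq'n : q' * n ≠ n * q' := by
    rw [hn]
    exact fun h => hqq' ((c.comm_nn_iff B hq hq').2 h)
  have hqn : q * n = n * q := by rw [hn]; exact c.comm_nn_self B hq
  have hn'1 : n' ≠ 1 := by
    intro h
    apply hqn'
    rw [h]; group
  have hn1 : n ≠ 1 := by
    intro h
    apply hq'n
    rw [h]; group
  have hn'' : t * (q * q') * t⁻¹ * (q * q')⁻¹ = n * (n' * p) := by
    rw [hn, hn']; exact c.nn_mul_of_ncomm B hq hq' hqq'
  have hn''Q : n * (n' * p) ∈ Q p := mul_mem hnQ (mul_mem hnQ' (B.large p c.hp).z_mem)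
  have hn''1 : n * (n' * p) ≠ 1 := by
    intro h
    apply hqn'
    have h1 : n' * p = n := by
      calc n' * p = (n * n) * (n' * p) := by rw [hn2, one_mul]
        _ = n * (n * (n' * p)) := by group
        _ = n := by rw [h, mul_one]
    have h2 : n' = n * p := by rw [← h1, mul_assoc, hpp, mul_one]
    rw [h2, ← mul_assoc, hqn, mul_assoc, mul_assoc, hpc hq]
  have hqq'Q : q * q' ∈ Q p := mul_mem hq hq'
  have l := hline q hq (hne1 q (by rw [← hn]; exact hn1))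
  have l' := hline q' hq' (hne1 q' (by rw [← hn']; exact hn'1))
  have l'' := hline (q * q') hqq'Q (hne1 _ (by rw [hn'']; exact hn''1))
  rw [← hn] at l
  rw [← hn'] at l'
  rw [hn''] at l''
  -- choice of `q₂`
  obtain ⟨q₂, hq₂, hq₂n, hq₂n', hq₂t⟩ : ∃ q₂ ∈ Q p, q₂ * n = n * q₂ ∧ q₂ * n' = n' * q₂ ∧ t * q₂ ≠ q₂ * t := by
    by_contra hcon
    push Not at hcon
    set w := (B.large p c.hp).pr ⟨n, hnQ⟩ with hw
    set w' := (B.large p c.hp).pr ⟨n', hnQ'⟩ with hw'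
    have h1 : S.perp (Submodule.span (ZMod 2) {w, w'}) ≤ S.perp (QS.W (Com.T B c.toCom)) := by
      intro v hv
      obtain ⟨x, hx, rfl⟩ := pr_surj _ v
      rw [c.fix_iff B hx]
      apply hcon x hx
      · have h2 := S.mem_perp.1 hv w (Submodule.subset_span (by simp))
        exact (((B.large p c.hp).b_pr _ _).1 h2).symm
      · have h2 := S.mem_perp.1 hv w' (Submodule.subset_span (by simp))
        exact (((B.large p c.hp).b_pr _ _).1 h2).symm
    have h2 : QS.W (Com.T B c.toCom) ≤ Submodule.span (ZMod 2) {w, w'} := by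
      intro u hu
      rw [← S.perp_perp (Submodule.span (ZMod 2) {w, w'}), S.mem_perp]
      intro v hv
      rw [S.b_comm]
      exact S.mem_perp.1 (h1 hv) u hu
    have h3 : Nat.card (QS.W (Com.T B c.toCom)) ≤ 4 := by
      classical
      have h4 : (QS.W (Com.T B c.toCom) : Set (B.large p c.hp).V) ⊆ (({0, w, w', w + w'} : Finset _) : Set _) := by
        intro v hv
        obtain ⟨a, b, rfl⟩ := Submodule.mem_span_pair.1 (h2 hv)
        simp only [Finset.coe_insert, Finset.coe_singleton, Set.mem_insert_iff, Set.mem_singleton_iff]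
        rcases zm_cases a with rfl | rfl <;> rcases zm_cases b with rfl | rfl <;> simp
      have h5 : Nat.card (QS.W (Com.T B c.toCom)) = Set.ncard (QS.W (Com.T B c.toCom) : Set (B.large p c.hp).V) := rfl
      rw [h5]
      refine (Set.ncard_le_ncard h4 (Finset.finite_toSet _)).trans ?_
      rw [Set.ncard_coe_finset]
      exact Finset.card_le_four
    have h4 := c.card_W B f
    have h5 := Nat.mul_le_mul h3 h3
    have h6 := hbig p c.hp
    omega
  obtain ⟨n₂, hn₂⟩ : ∃ n₂, n₂ = t * q₂ * t⁻¹ * q₂⁻¹ := ⟨_, rfl⟩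
  have hnQ₂ : n₂ ∈ Q p := by rw [hn₂]; exact hQn hq₂
  have hnt₂ : t * n₂ = n₂ * t := by rw [hn₂]; exact c.nn_comm_t B hq₂
  have hn2₂ : n₂ * n₂ = 1 := by rw [hn₂]; exact c.sq_comm B hq₂
  have hqn₂ : q * n₂ = n₂ * q := by
    rw [hn₂]
    rw [hn] at hq₂n
    exact (c.comm_nn_iff B hq₂ hq).1 hq₂n
  have hq'n₂ : q' * n₂ = n₂ * q' := by
    rw [hn₂]
    rw [hn'] at hq₂n'
    exact (c.comm_nn_iff B hq₂ hq').1 hq₂n'
  have hn₂n : n₂ * n = n * n₂ := by rw [hn₂, hn]; exact hcomm hq₂ hq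
  have hn₂n' : n₂ * n' = n' * n₂ := by rw [hn₂, hn']; exact hcomm hq₂ hq'
  have l₂ := hline q₂ hq₂ hq₂t
  rw [← hn₂] at l₂
  have cancel : ∀ {a b : G}, b * b = 1 → a * b = 1 → a = b := by
    intro a b hb h
    rw [eq_inv_of_mul_eq_one_left h]
    exact inv_eq_of_mul_eq_one_left hb
  -- `n₂ n`
  have m1 : t * (q₂ * q) * t⁻¹ * (q₂ * q)⁻¹ = n₂ * n := by
    rw [hn₂, hn]
    exact nn_mul_of_comm (by rw [← hn]; exact hq₂n)
  have l1 := hline (q₂ * q) (mul_mem hq₂ hq) (hne1 _ (by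
    rw [m1]
    intro h
    apply hq'n
    rw [← cancel hn2 h]; exact hq'n₂))
  rw [m1] at l1
  have m2 : t * (q₂ * q') * t⁻¹ * (q₂ * q')⁻¹ = n₂ * n' := by
    rw [hn₂, hn']
    exact nn_mul_of_comm (by rw [← hn']; exact hq₂n')
  have l2 := hline (q₂ * q') (mul_mem hq₂ hq') (hne1 _ (by
    rw [m2]
    intro h
    apply hqn'
    rw [← cancel hn2' h]; exact hqn₂))
  rw [m2] at l2
  have hq₂n'' : q₂ * (n * (n' * p)) = n * (n' * p) * q₂ := by
    calc q₂ * (n * (n' * p)) = (q₂ * n) * n' * p := by group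
      _ = n * (q₂ * n') * p := by rw [hq₂n]; group
      _ = n * n' * (q₂ * p) := by rw [hq₂n']; group
      _ = n * (n' * p) * q₂ := by rw [hpc hq₂]; group
  have m3 : t * (q₂ * (q * q')) * t⁻¹ * (q₂ * (q * q'))⁻¹ = n₂ * (n * (n' * p)) := by
    rw [nn_mul_of_comm (by rw [hn'']; exact hq₂n''), hn'', ← hn₂]
  have hn''2 : n * (n' * p) * (n * (n' * p)) = 1 := by
    rw [← hn'']; exact c.sq_comm B hqq'Q
  have l3 := hline (q₂ * (q * q')) (mul_mem hq₂ hqq'Q) (hne1 _ (by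
    rw [m3]
    intro h
    have h1 := cancel hn''2 h
    apply hqn'
    have h2 : n' = n * (n₂ * p) := by
      rw [h1]
      calc n' = (n * n) * (n' * (p * p)) := by rw [hn2, hpp]; group
        _ = n * (n * (n' * p) * p) := by group
    rw [h2]
    calc q * (n * (n₂ * p)) = (q * n) * n₂ * p := by group
      _ = n * (q * n₂) * p := by rw [hqn]; group
      _ = n * n₂ * (q * p) := by rw [hqn₂]; group
      _ = n * (n₂ * p) * q := by rw [hpc hq]; group))
  rw [m3] at l3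
  have hn''t : t * (n * (n' * p)) = n * (n' * p) * t := by
    rw [← hn'']; exact c.nn_comm_t B hqq'Q
  -- the four lines
  obtain ⟨b1, hb1, hb1', hb1''⟩ := meetR B hD1 hnQ hnt₂ hnt hn₂n hn2₂ hn2 l₂ l l1
  obtain ⟨b2, hb2, hb2', hb2''⟩ := meetR B hD1 hnQ' hnt₂ hnt' hn₂n' hn2₂ hn2' l₂ l' l2
  obtain ⟨b3, hb3, hb3', hb3''⟩ := meetR B hD1 hn''Q hnt₂ hn''t (by
    calc n₂ * (n * (n' * p)) = (n₂ * n) * n' * p := by group
      _ = n * (n₂ * n') * p := by rw [hn₂n]; group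
      _ = n * n' * (n₂ * p) := by rw [hn₂n']; group
      _ = n * (n' * p) * n₂ := by rw [hpc hnQ₂]; group) hn2₂ hn''2 l₂ l'' l3
  -- `W_t ≤ A + A' + A''`
  have hcW := c.symm.card_W B f.symm
  have hcV := hbig t c.ht
  obtain ⟨k, hk⟩ := QS.Inv.card_W (Com.T_inv B c.symm.toCom) (fun v => c.symm.q_W B (QS.f_mem_W _ v))
    (c.symm.W_eq B f.symm)
  have hc64 : 64 ≤ Nat.card (QS.W (Com.T B c.symm.toCom)) := by
    rw [hk]
    by_contra h
    push Not at h
    have hk3 : k < 3 := by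
      by_contra h1
      push Not at h1
      have := Nat.pow_le_pow_right (by norm_num : 1 ≤ 4) h1
      omega
    have h2 : 4 ^ k ≤ 4 ^ 2 := Nat.pow_le_pow_right (by norm_num) (by omega)
    rw [hk] at hcW
    have h3 := Nat.mul_le_mul h2 h2
    have h4 : Nat.card (B.large t c.symm.hp).V = Nat.card (B.large t c.ht).V := rfl
    omega
  have hsub : QS.W (Com.T B c.symm.toCom) ≤ Wd B c.ht (t * n) ⊔ Wd B c.ht (t * n') ⊔ Wd B c.ht (t * (n * (n' * p))) := by
    rintro _ ⟨v, rfl⟩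
    show Com.T B c.symm.toCom v + v ∈ _
    have hc1 : (t * n) * t = t * (t * n) := l.com.symm
    have hc2 : (t * n') * t = t * (t * n') := l'.com.symm
    have hc3 : (t * (n * (n' * p))) * t = t * (t * (n * (n' * p))) := l''.com.symm
    have hc12 : (t * n) * (t * n') * t = t * ((t * n) * (t * n')) := by
      rw [mul_assoc, hc2, ← mul_assoc, hc1, mul_assoc]
    have hc123 : (t * n) * (t * n') * (t * (n * (n' * p))) * t = t * ((t * n) * (t * n') * (t * (n * (n' * p)))) := by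
      rw [mul_assoc, hc3, ← mul_assoc, hc12, mul_assoc]
    have hc123t : (t * n) * (t * n') * (t * (n * (n' * p))) * t * t =
        t * ((t * n) * (t * n') * (t * (n * (n' * p))) * t) := by
      rw [← mul_assoc t ((t * n) * (t * n') * (t * (n * (n' * p)))) t, ← hc123]
    have ep : p = (t * n) * (t * n') * (t * (n * (n' * p))) * t := by
      have a1 : (t * n) * (t * n') = n * n' := by
        calc (t * n) * (t * n') = (n * t) * (t * n') := by rw [hnt]
          _ = n * (t * t) * n' := by group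
          _ = n * n' := by rw [htt, mul_one]
      have a2 : t * (n * (n' * p)) * t = n * (n' * p) := by
        rw [mul_assoc, ← hn''t, ← mul_assoc, htt, one_mul]
      have a3 : n * n' * (n * (n' * p)) = p := by
        calc n * n' * (n * (n' * p)) = n * (n' * n) * (n' * p) := by group
          _ = n * (n * n') * (n' * p) := by rw [← hnn']
          _ = (n * n) * (n' * n') * p := by group
          _ = p := by rw [hn2, hn2', one_mul, one_mul]
      rw [mul_assoc, a1, a2, a3]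
    have e1 : Com.T B c.symm.toCom v = ac (B.large t c.ht) (t * n) hc1 (ac (B.large t c.ht) (t * n') hc2
        (ac (B.large t c.ht) (t * (n * (n' * p))) hc3 v)) := by
      have h1 : Com.T B c.symm.toCom v = ac (B.large t c.ht) p c.com v := rfl
      rw [h1, ac_congr B c.ht c.com hc123t ep v, ac_mul _ _ _ hc123 rfl,
        ac_triv B c.ht rfl (B.large t c.ht).z_mem, ac_mul _ _ _ hc12 hc3, ac_mul _ _ _ hc1 hc2]
    set v3 := ac (B.large t c.ht) (t * (n * (n' * p))) hc3 v with hv3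
    set v2 := ac (B.large t c.ht) (t * n') hc2 v3 with hv2
    set v1 := ac (B.large t c.ht) (t * n) hc1 v2 with hv1
    have e2 : Com.T B c.symm.toCom v + v = (v1 + v2) + (v2 + v3) + (v3 + v) := by
      rw [e1]
      have : (v1 + v2) + (v2 + v3) + (v3 + v) = v1 + v + (v2 + v2) + (v3 + v3) := by abel
      rw [this, vadd_self, vadd_self, add_zero, add_zero]
    rw [e2]
    refine Submodule.add_mem_sup (Submodule.add_mem_sup ?_ ?_) ?_
    · rw [show Wd B c.ht (t * n) = Wd B l.hp (t * n) from rfl, l.Wd_eq B]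
      exact QS.f_mem_W _ _
    · rw [show Wd B c.ht (t * n') = Wd B l'.hp (t * n') from rfl, l'.Wd_eq B]
      exact QS.f_mem_W _ _
    · rw [show Wd B c.ht (t * (n * (n' * p))) = Wd B l''.hp (t * (n * (n' * p))) from rfl, l''.Wd_eq B]
      exact QS.f_mem_W _ _
  exact false_of_meet (fun a ha a' ha' a'' ha'' h => indep_of_card (card_Wd' B l) (card_Wd' B l') (card_Wd' B l'')
    hsub hc64 ha ha' ha'' h) (card_Wd' B l₂) hb1'' hb2'' hb3'' hb1' hb2' hb3' hb1 hb2 hb3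

end Cfsg.Agent.LargeExtra.WCIrr
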