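import Cfsg.Agent.LargeExtra.WN5
import Cfsg.Agent.LargeExtra.WG7

/-!
# Large extraspecial 2-subgroups, `z` weakly closed in `Q`: no triples `(p, t, p t)` of points (helper888)
-/

set_option autoImplicit false

namespace Cfsg.Agent.LargeExtra.WC.QS

variable {V : Type*} [AddCommGroup V] [Module (ZMod 2) V] {S : QS V}

/-- four root elements with `T₁ T₂ = T₃ T₄` and lines in a grid -/
theorem false_of_four [Finite V] {T₁ T₂ T₃ T₄ : V ≃ₗ[ZMod 2] V} (h1 : S.Sing T₁) (h2 : S.Sing T₂) (h3 : S.Sing T₃)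
    (h4 : S.Sing T₄) (hT : ∀ x, T₁ (T₂ x) = T₃ (T₄ x)) (d12 : ∀ w ∈ W T₁, w ∈ W T₂ → w = 0)
    (d34 : ∀ w ∈ W T₃, w ∈ W T₄ → w = 0) {e b e' b' : V} (he : e ∈ W T₁) (he3 : e ∈ W T₃) (hb : b ∈ W T₂)
    (hb3 : b ∈ W T₃) (he' : e' ∈ W T₁) (he4 : e' ∈ W T₄) (hb' : b' ∈ W T₂) (hb4 : b' ∈ W T₄) (e0 : e ≠ 0)
    (b0 : b ≠ 0) (e0' : e' ≠ 0) (b0' : b' ≠ 0) : False := by
  have hee : e ≠ e' := fun h => e0 (d34 e he3 (by rw [h]; exact he4))
  have hbb : b ≠ b' := fun h => b0 (d34 b hb3 (by rw [h]; exact hb4))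
  have heb : e ≠ b := fun h => e0 (d12 e he (by rw [h]; exact hb))
  have heb' : e' ≠ b' := fun h => e0' (d12 e' he' (by rw [h]; exact hb'))
  -- the dual vector
  obtain ⟨x, hx1, hx2, hx3, hx4⟩ : ∃ x, S.b x e = 1 ∧ S.b x e' = 0 ∧ S.b x b = 0 ∧ S.b x b' = 0 := by
    by_contra hcon
    push Not at hcon
    have h5 : e ∈ Submodule.span (ZMod 2) ({e', b, b'} : Set V) := by
      rw [← S.perp_perp (Submodule.span (ZMod 2) ({e', b, b'} : Set V)), S.mem_perp]
      intro x hx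
      have k1 : S.b x e' = 0 := by
        rw [S.b_comm]; exact S.mem_perp.1 hx e' (Submodule.subset_span (by simp))
      have k2 : S.b x b = 0 := by
        rw [S.b_comm]; exact S.mem_perp.1 hx b (Submodule.subset_span (by simp))
      have k3 : S.b x b' = 0 := by
        rw [S.b_comm]; exact S.mem_perp.1 hx b' (Submodule.subset_span (by simp))
      rcases zm_cases (S.b x e) with h | h
      · exact h
      · exact absurd k3 (hcon x h k1 k2)
    obtain ⟨α, β, γ, h6⟩ := Submodule.mem_span_triple.1 h5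
    have h7 : e + α • e' = β • b + γ • b' := by
      rw [← h6]
      have : α • e' + β • b + γ • b' + α • e' = (α • e' + α • e') + (β • b + γ • b') := by abel
      rw [this, vadd_self, zero_add]
    have h8 : e + α • e' = 0 := by
      apply d12
      · exact Submodule.add_mem _ he (Submodule.smul_mem _ _ he')
      · rw [h7]
        exact Submodule.add_mem _ (Submodule.smul_mem _ _ hb) (Submodule.smul_mem _ _ hb')
    rcases zm_cases α with h | h
    · rw [h, zero_smul, add_zero] at h8; exact e0 h8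
    · rw [h, one_smul] at h8; exact hee (eq_of_add h8)
  have f1 := h1.formula he he' e0 e0' hee
  have f2 := h2.formula hb hb' b0 b0' hbb
  have f3 := h3.formula he3 hb3 e0 b0 heb
  have f4 := h4.formula he4 hb4 e0' b0' heb'
  have k1 : T₂ x = x := by rw [f2, hx3, hx4, zero_smul, zero_smul, add_zero, add_zero]
  have k2 : T₄ x = x := by rw [f4, hx2, hx4, zero_smul, zero_smul, add_zero, add_zero]
  have k3 := hT x
  rw [k1, k2, f1, f3, hx1, hx2, hx3] at k3
  simp only [one_smul, zero_smul, add_zero] at k3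
  have k4 := add_left_cancel k3
  exact e0' (d12 e' he' (by rw [k4]; exact hb))

theorem Sing.exists_other {T : V ≃ₗ[ZMod 2] V} (h : S.Sing T) (w : V) : ∃ c ∈ W T, c ≠ 0 ∧ c ≠ w := by
  obtain ⟨a, ha, b, hb, a0, b0, hab⟩ := h.exists_basis
  by_cases h1 : a = w
  · exact ⟨b, hb, b0, by rw [← h1]; exact hab.symm⟩
  · exact ⟨a, ha, a0, h1⟩

/-- product of two root elements with perpendicular lines which meet -/
theorem sing_of_meet [Finite V] {T R X : V ≃ₗ[ZMod 2] V} (hT : S.Sing T) (hR : S.Sing R) (hX : S.Inv X)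
    (hp : W T ≤ S.perp (W R)) {w : V} (hw : w ∈ W T) (hw' : w ∈ W R) (w0 : w ≠ 0) (h : ∀ v, X v = T (R v))
    (hne : ∃ v, X v ≠ v) : S.Sing X := by
  obtain ⟨c, hc, c0, hcw⟩ := hT.exists_other w
  obtain ⟨c', hc', c0', hcw'⟩ := hR.exists_other w
  have f1 := hT.formula hw hc w0 c0 hcw.symm
  have f2 := hR.formula hw' hc' w0 c0' hcw'.symm
  have hTc' : T c' = c' := by
    rw [hT.fix_iff, S.mem_perp]
    intro u hu
    rw [S.b_comm]
    exact S.mem_perp.1 (hp hu) c' hc'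
  have hTw : T w = w := hT.fix_W hw
  have hf : ∀ v, X v = v + S.b v w • (c + c') + S.b v (c + c') • w := by
    intro v
    rw [h, f2, map_add, map_add, map_smul, map_smul, hTc', hTw, f1, map_add, add_smul, smul_add]
    abel
  have hcc : c + c' ≠ 0 := by
    intro h0
    obtain ⟨v, hv⟩ := hne
    apply hv
    rw [hf, h0, map_zero, smul_zero, zero_smul, add_zero, add_zero]
  have hccw : w ≠ c + c' := by
    intro h0
    obtain ⟨v, hv⟩ := hne
    apply hv
    rw [hf, ← h0, add_assoc, vadd_self, add_zero]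
  have hqc := hT.q_W hc
  have hqc' := hR.q_W hc'
  have hbc : S.b c c' = 0 := by
    rw [S.b_comm]; exact S.mem_perp.1 (hp hc) c' hc'
  refine (sing_of_formula hX w0 hcc hccw (hT.q_W hw) ?_ ?_ hf).1
  · rw [S.q_add, hqc, hqc', hbc]; decide
  · rw [map_add, S.mem_perp.1 (hT.W_le hc) w hw, S.mem_perp.1 (hR.W_le hc') w hw', add_zero]

end Cfsg.Agent.LargeExtra.WC.QS

namespace Cfsg.Agent.LargeExtra.WCIrr

open Cfsg.Agent.Co2Type.Quad Cfsg.Agent.LargeExtra.WC

variable {G : Type*} [Group G] {P : Set G} {Q : G → Subgroup G} {p t : G}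

/-- a nonzero singular vector of `[V_p, t]` -/
theorem exists_sing_vec [Finite G] (B : Base P Q) (c : Com P p t) (hR : NoRefl (Q p) p) :
    ∃ v, Com.T B c v + v ≠ 0 ∧ (B.large p c.hp).q (Com.T B c v + v) = 0 := by
  set h := B.large p c.hp with hh
  by_contra hcon
  push Not at hcon
  obtain ⟨v1, hv1⟩ := Com.T_ne B c
  set w := Com.T B c v1 + v1 with hw
  have hw0 : w ≠ 0 := fun h => hv1 (eq_of_add h)
  have hqw : h.q w = 1 := by
    rcases zm_cases (h.q w) with h1 | h1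
    · exact absurd h1 (hcon v1 hw0)
    · exact h1
  have hT := Com.T_inv B c
  have hW : ∀ v, Com.T B c v + v = 0 ∨ Com.T B c v + v = w := by
    intro v
    by_contra hne
    push Not at hne
    have h1 : h.q (Com.T B c v + v) = 1 := by
      rcases zm_cases (h.q (Com.T B c v + v)) with h1 | h1
      · exact absurd h1 (hcon v hne.1)
      · exact h1
    have h2 : Com.T B c (v + v1) + (v + v1) = (Com.T B c v + v) + w := by
      rw [map_add, hw]; abel
    have h3 : h.b (Com.T B c v + v) w = 0 := hT.isotropic (QS.f_mem_W _ _) (QS.f_mem_W _ _)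
    apply hcon (v + v1)
    · rw [h2]
      exact fun h4 => hne.2 (eq_of_add h4)
    · rw [h2, h.q_add', h1, hqw, h3]; decide
  have hfix : ∀ v, h.b w v = 0 → Com.T B c v = v := by
    intro v hv
    rw [hT.fix_iff, QS.mem_perp]
    rintro _ ⟨u, rfl⟩
    show h.b (Com.T B c u + u) v = 0
    rcases hW u with h1 | h1
    · rw [h1, map_zero]; rfl
    · rw [h1]; exact hv
  rcases TwoCentral.eq_or_refl_of_fix_perp h (Com.T B c) (fun v w => hT.iso.b_eq v w) hfix with h1 | h1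
  · apply hv1
    rw [h1]; rfl
  · obtain ⟨u, hu, huw⟩ := pr_surj h w
    rw [← huw] at h1 hqw
    refine hR u hu (h.q_eq_one.1 hqw) t c.com.symm fun x hx => ?_
    have h2 := h1 (h.pr ⟨x, hx⟩)
    rw [Com.T, ac_pr] at h2
    constructor
    · intro h3
      rw [(h.b_pr ⟨u, hu⟩ ⟨x, hx⟩).2 h3.symm, zero_smul, add_zero, h.pr_eq_pr] at h2
      exact h2
    · intro h3
      have h4 : h.b (h.pr ⟨u, hu⟩) (h.pr ⟨x, hx⟩) = 1 := by
        rcases zm_cases (h.b (h.pr ⟨u, hu⟩) (h.pr ⟨x, hx⟩)) with h5 | h5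
        · exact absurd ((h.b_pr _ _).1 h5).symm h3
        · exact h5
      rw [h4, one_smul, ← h.pr_mul, h.pr_eq_pr] at h2
      exact h2

section triple

variable (B : Base P Q) (hgood : ∀ p t, Good P p t → Line P Q p t) (c : Com P p t) (hpt : p * t ∈ P)
include B hgood c hpt

/-- `t [t, x]` and `t [t, x] p` are points; both form lines with `t` -/
theorem line_of_nn {x u : G} (hx : x ∈ Q p) (hu : u = t * x * t⁻¹ * x⁻¹ ∨ u = t * x * t⁻¹ * x⁻¹ * p)
    (hu2 : u * u = 1) (h1 : u ≠ 1) (hp1 : u ≠ p) : Line P Q t (t * u) ∧ t * u = u * t := by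
  have hpp := B.sq c.hp
  have htt := B.sq c.ht
  have hxp : x * p = p * x := (B.large p c.hp).comm_z x hx
  have hnQ := Com.u_mem B c hx
  have huQ : u ∈ Q p := by
    rcases hu with rfl | rfl
    · exact hnQ
    · exact mul_mem hnQ (B.large p c.hp).z_mem
  have hP : t * u ∈ P := by
    rcases hu with rfl | rfl
    · rw [← Com.conj_eq B c x]
      exact B.conj_mem t c.ht x
    · have e : x * (p * t) * x⁻¹ = t * (t * x * t⁻¹ * x⁻¹ * p) := by
        calc x * (p * t) * x⁻¹ = (x * p) * t * x⁻¹ := by group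
          _ = p * (x * t * x⁻¹) := by rw [hxp]; group
          _ = p * (t * (t * x * t⁻¹ * x⁻¹)) := by rw [Com.conj_eq B c x]
          _ = (p * t) * (t * x * t⁻¹ * x⁻¹) := by group
          _ = t * (p * (t * x * t⁻¹ * x⁻¹)) := by rw [c.com]; group
          _ = t * (t * x * t⁻¹ * x⁻¹ * p) := by rw [(B.large p c.hp).comm_z _ hnQ]
      rw [← e]
      exact B.conj_mem _ hpt x
  have hcomm : t * u = u * t := by
    have h2 := B.sq hP
    calc t * u = (t * u) * (u * u) := by rw [hu2, mul_one]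
      _ = t * u * (t * t) * u * u := by rw [htt]; group
      _ = (t * u * (t * u)) * (u⁻¹ * t * u * u) := by group
      _ = u⁻¹ * t * (u * u) := by rw [h2]; group
      _ = u * t := by rw [hu2, mul_one, inv_eq_of_mul_eq_one_left hu2]
  refine ⟨hgood _ _ ⟨⟨c.ht, hP, ?_, ?_⟩, ?_⟩, hcomm⟩
  · intro h
    exact h1 (mul_eq_left.1 h.symm)
  · rw [mul_assoc, hcomm]
  · rw [← mul_assoc, htt, one_mul]
    intro h
    exact hp1 (B.eq_of_mem p c.hp u h huQ)

omit hgood hpt in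
/-- `p` acts on `V_t` as the product of `t u` and `t (u p)` -/
theorem act_p {u : G} (hu2 : u * u = 1) (hut : t * u = u * t) (hp1 : (t * u) * t = t * (t * u))
    (hp2 : (t * (u * p)) * t = t * (t * (u * p))) (v : (B.large t c.ht).V) :
    Com.T B c.symm v = ac (B.large t c.ht) (t * u) hp1 (ac (B.large t c.ht) (t * (u * p)) hp2 v) := by
  have htt := B.sq c.ht
  have e : p = (t * u) * (t * (u * p)) := by
    calc p = (t * t) * (u * u) * p := by rw [htt, hu2]; group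
      _ = t * (t * u) * (u * p) := by group
      _ = t * (u * t) * (u * p) := by rw [hut]
      _ = _ := by group
  have h3 : (t * u) * (t * (u * p)) * t = t * ((t * u) * (t * (u * p))) := by
    rw [← e]; exact c.com
  have h1 : Com.T B c.symm v = ac (B.large t c.ht) p c.com v := rfl
  rw [h1, ac_congr B c.ht c.com h3 e v, ac_mul _ _ _ hp1 hp2]

omit hgood in
/-- the lines of `t u` and `t (u p)` are perpendicular and disjoint -/
theorem disj_of_triple [Finite G] (hbig : ∀ p (hp : p ∈ P), 128 ≤ Nat.card (B.large p hp).V) {u : G}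
    (huQ : u ∈ Q p) (hu2 : u * u = 1) (hut : t * u = u * t) (l : Line P Q t (t * u)) (l' : Line P Q t (t * (u * p))) :
    Wd B c.ht (t * u) ≤ (qs (B.large t c.ht)).perp (Wd B c.ht (t * (u * p))) ∧
      ∀ w ∈ Wd B c.ht (t * u), w ∈ Wd B c.ht (t * (u * p)) → w = 0 := by
  have htt := B.sq c.ht
  have hup : u * p = p * u := (B.large p c.hp).comm_z u huQ
  have hcomm : t * u * (t * (u * p)) = t * (u * p) * (t * u) := by
    calc t * u * (t * (u * p)) = (t * u) * t * u * p := by group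
      _ = (u * t) * t * u * p := by rw [hut]
      _ = u * (t * t) * u * p := by group
      _ = (u * u) * p := by rw [htt]; group
      _ = p := by rw [hu2, one_mul]
      _ = (t * t) * (u * u) * p := by rw [htt, hu2]; group
      _ = t * (t * u) * (u * p) := by group
      _ = t * (u * t) * (p * u) := by rw [hut, hup]
      _ = t * u * (t * p) * u := by group
      _ = t * u * (p * t) * u := by rw [c.com]
      _ = _ := by group
  have h64 : ∀ p (hp : p ∈ P), 64 ≤ Nat.card (B.large p hp).V := fun p hp => by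
    have := hbig p hp
    omega
  have hperp := l.perp_of_comm B h64 l' hcomm
  have e1 : Wd B c.ht (t * u) = QS.W (Com.T B l.toCom) := l.Wd_eq B
  have e2 : Wd B c.ht (t * (u * p)) = QS.W (Com.T B l'.toCom) := l'.Wd_eq B
  refine ⟨?_, ?_⟩
  · rw [e1, e2]; exact hperp
  · intro w hw hw'
    by_contra w0
    rw [e1] at hw
    rw [e2] at hw'
    have hs := QS.sing_of_meet (l.sing B) (l'.sing B) (Com.T_inv B c.symm) hperp hw hw' w0
      (fun v => act_p B c hu2 hut l.com.symm l'.com.symm v) (Com.T_ne B c.symm)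
    have l2 := line_of_sing B c.symm (hbig t c.ht) hs
    apply l2.good.nmem
    rw [← c.com]; exact hpt

/-- `[V_t, p]` is totally singular -/
theorem triple_sing [Finite G] (hbig : ∀ p (hp : p ∈ P), 128 ≤ Nat.card (B.large p hp).V)
    (hR : NoRefl (Q p) p) (v : (B.large t c.ht).V) : (B.large t c.ht).q (Com.T B c.symm v + v) = 0 := by
  have hpp := B.sq c.hp
  obtain ⟨v1, h1, h2⟩ := exists_sing_vec B c hR
  obtain ⟨x, hx, rfl⟩ := pr_surj _ v1
  rw [Com.T, ac_add] at h1 h2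
  obtain ⟨u, hu⟩ : ∃ u, u = t * x * t⁻¹ * x⁻¹ := ⟨_, rfl⟩
  have huQ : u ∈ Q p := by rw [hu]; exact Com.u_mem B c hx
  have hu2 : u * u = 1 := by rw [hu]; exact (B.large p c.hp).q_eq_zero.1 h2
  have hu1 : u ≠ 1 := by
    intro h
    exact h1 ((B.large p c.hp).pr_eq_zero.2 (Or.inl (hu.symm.trans h)))
  have hup1 : u ≠ p := by
    intro h
    exact h1 ((B.large p c.hp).pr_eq_zero.2 (Or.inr (hu.symm.trans h)))
  have hup : u * p = p * u := (B.large p c.hp).comm_z u huQ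
  obtain ⟨l, hut⟩ := line_of_nn B hgood c hpt hx (Or.inl hu) hu2 hu1 hup1
  obtain ⟨l', -⟩ := line_of_nn B hgood c hpt (u := u * p) hx (Or.inr (by rw [hu])) (by
    calc u * p * (u * p) = u * (p * u) * p := by group
      _ = u * (u * p) * p := by rw [hup]
      _ = (u * u) * (p * p) := by group
      _ = 1 := by rw [hu2, hpp, one_mul]) (by
    intro h
    apply hup1
    rw [eq_inv_of_mul_eq_one_left h, B.inv c.hp]) (by
    intro h
    exact hu1 (mul_eq_right.1 h))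
  obtain ⟨h3, h4⟩ := disj_of_triple B c hpt hbig huQ hu2 hut l l'
  have e1 : Wd B c.ht (t * u) = QS.W (Com.T B l.toCom) := l.Wd_eq B
  have e2 : Wd B c.ht (t * (u * p)) = QS.W (Com.T B l'.toCom) := l'.Wd_eq B
  rw [e1, e2] at h3
  rw [act_p B c hu2 hut l.com.symm l'.com.symm v]
  set v2 := ac (B.large t c.ht) (t * (u * p)) l'.com.symm v with hv2
  set v3 := ac (B.large t c.ht) (t * u) l.com.symm v2 with hv3
  have k1 : v3 + v2 ∈ QS.W (Com.T B l.toCom) := QS.f_mem_W _ v2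
  have k2 : v2 + v ∈ QS.W (Com.T B l'.toCom) := QS.f_mem_W _ v
  have e3 : v3 + v = (v3 + v2) + (v2 + v) := by
    have : (v3 + v2) + (v2 + v) = v3 + v + (v2 + v2) := by abel
    rw [this, vadd_self, add_zero]
  rw [e3, (B.large t c.ht).q_add']
  have k3 : (B.large t c.ht).q (v3 + v2) = 0 := (l.sing B).q_W k1
  have k4 : (B.large t c.ht).q (v2 + v) = 0 := (l'.sing B).q_W k2
  have k5 : (B.large t c.ht).b (v3 + v2) (v2 + v) = 0 := by
    rw [(B.large t c.ht).b_comm]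
    exact QS.mem_perp _ |>.1 (h3 k1) _ k2
  rw [k3, k4, k5]; decide

end triple

/-- **No triples** `(p, t, p t)` of points -/
theorem false_of_triple_big [Finite G] (B : Base P Q) (hgood : ∀ p t, Good P p t → Line P Q p t)
    (hbig : ∀ p (hp : p ∈ P), 128 ≤ Nat.card (B.large p hp).V) (hR : ∀ p ∈ P, NoRefl (Q p) p)
    (c : Com P p t) (hpt : p * t ∈ P) : False := by
  have hpp := B.sq c.hp
  have htp : t * p ∈ P := by rw [← c.com]; exact hpt
  have hs : ∀ v : (B.large p c.hp).V, (B.large p c.hp).q (Com.T B c v + v) = 0 := fun v =>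
    triple_sing B hgood c.symm htp hbig (hR t c.ht) v
  have hT := Com.T_inv B c
  have hqW : ∀ w ∈ QS.W (Com.T B c), (B.large p c.hp).q w = 0 := by
    rintro _ ⟨v, rfl⟩
    exact hs v
  have hpr : ∀ u (hu : u ∈ Q p), (B.large p c.hp).pr ⟨u, hu⟩ ≠ 0 → u ≠ 1 ∧ u ≠ p := by
    intro u hu h
    constructor
    · rintro rfl; exact h ((B.large p c.hp).pr_eq_zero.2 (Or.inl rfl))
    · intro h1; exact h ((B.large p c.hp).pr_eq_zero.2 (Or.inr h1))
  have lineR : ∀ u (hu : u ∈ Q p), (B.large p c.hp).pr ⟨u, hu⟩ ∈ QS.W (Com.T B c) →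
      (B.large p c.hp).pr ⟨u, hu⟩ ≠ 0 → Line P Q t (t * u) ∧ t * u = u * t ∧ u * u = 1 ∧ u ∉ Q t := by
    intro u hu h1 h2
    obtain ⟨k1, k2⟩ := hpr u hu h2
    have hu2 : u * u = 1 := (B.large p c.hp).q_eq_zero.1 (hqW _ h1)
    obtain ⟨v, hv⟩ := id h1
    obtain ⟨x, hx, rfl⟩ := pr_surj _ v
    change Com.T B c ((B.large p c.hp).pr ⟨x, hx⟩) + (B.large p c.hp).pr ⟨x, hx⟩ = _ at hv
    rw [Com.T, ac_add, (B.large p c.hp).pr_eq_pr] at hv
    have h3 : u = t * x * t⁻¹ * x⁻¹ ∨ u = t * x * t⁻¹ * x⁻¹ * p := by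
      rcases hv with h | h
      · exact Or.inl h.symm
      · right
        have h' : t * x * t⁻¹ * x⁻¹ = u * p := h
        rw [h', mul_assoc, hpp, mul_one]
    obtain ⟨l, k3⟩ := line_of_nn B hgood c hpt hx h3 hu2 k1 k2
    refine ⟨l, k3, hu2, fun h => h2 ?_⟩
    exact Com.U_inf_W B c hpt ((Com.mem_U B c).2 ⟨u, hu, h, rfl⟩) h1
  -- two vectors
  obtain ⟨v1, hv1⟩ := Com.T_ne B c
  have hw0 : Com.T B c v1 + v1 ≠ 0 := fun h => hv1 (eq_of_add h)
  obtain ⟨v2, hv20, hv2⟩ : ∃ v2, Com.T B c v2 + v2 ≠ 0 ∧ Com.T B c v2 + v2 ≠ Com.T B c v1 + v1 := by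
    by_contra hcon
    push Not at hcon
    have h5 : Com.T B c = 1 := by
      apply TwoCentral.eq_one_of_fix_perp (B.large p c.hp) (a := Com.T B c v1 + v1)
      · exact hs v1
      · exact hT.iso
      · intro v hv
        rw [hT.fix_iff, QS.mem_perp]
        rintro _ ⟨w, rfl⟩
        show (B.large p c.hp).b (Com.T B c w + w) v = 0
        by_cases hw : Com.T B c w + w = 0
        · rw [hw, map_zero]; rfl
        · rw [hcon w hw]; exact hv
    apply hv1
    rw [h5]; rfl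
  have m1 := QS.f_mem_W (Com.T B c) v1
  have m2 := QS.f_mem_W (Com.T B c) v2
  obtain ⟨u, hu, huv⟩ := pr_surj _ (Com.T B c v1 + v1)
  obtain ⟨v, hv, hvv⟩ := pr_surj _ (Com.T B c v2 + v2)
  rw [← huv] at hw0 m1 hv2
  rw [← hvv] at hv20 m2 hv2
  have hpQ : p ∈ Q p := (B.large p c.hp).z_mem
  have prp : ∀ x (hx : x ∈ Q p), (B.large p c.hp).pr ⟨x * p, mul_mem hx hpQ⟩ = (B.large p c.hp).pr ⟨x, hx⟩ :=
    fun x hx => (B.large p c.hp).pr_eq_pr.2 (Or.inr rfl)
  have prm : ∀ x y (hx : x ∈ Q p) (hy : y ∈ Q p), (B.large p c.hp).pr ⟨x * y, mul_mem hx hy⟩ =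
      (B.large p c.hp).pr ⟨x, hx⟩ + (B.large p c.hp).pr ⟨y, hy⟩ :=
    fun x y hx hy => (B.large p c.hp).pr_mul ⟨x, hx⟩ ⟨y, hy⟩
  have hup : u * p ∈ Q p := mul_mem hu hpQ
  have hvp : v * p ∈ Q p := mul_mem hv hpQ
  obtain ⟨lu, u1, u2, u3⟩ := lineR u hu m1 hw0
  obtain ⟨lv, w1, w2, w3⟩ := lineR v hv m2 hv20
  obtain ⟨lup, up1, up2, up3⟩ := lineR (u * p) hup (by rw [prp u hu]; exact m1) (by rw [prp u hu]; exact hw0)
  obtain ⟨lvp, vp1, vp2, vp3⟩ := lineR (v * p) hvp (by rw [prp v hv]; exact m2) (by rw [prp v hv]; exact hv20)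
  have hsum : (B.large p c.hp).pr ⟨u, hu⟩ + (B.large p c.hp).pr ⟨v, hv⟩ ∈ QS.W (Com.T B c) :=
    Submodule.add_mem _ m1 m2
  have hsum0 : (B.large p c.hp).pr ⟨u, hu⟩ + (B.large p c.hp).pr ⟨v, hv⟩ ≠ 0 := fun h => hv2 (eq_of_add h).symm
  have L : ∀ x y (hx : x ∈ Q p) (hy : y ∈ Q p), (B.large p c.hp).pr ⟨x, hx⟩ = (B.large p c.hp).pr ⟨u, hu⟩ →
      (B.large p c.hp).pr ⟨y, hy⟩ = (B.large p c.hp).pr ⟨v, hv⟩ → Line P Q t (t * (x * y)) ∧ x * y = y * x := by
    intro x y hx hy h1 h2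
    refine ⟨(lineR (x * y) (mul_mem hx hy) (by rw [prm x y hx hy, h1, h2]; exact hsum)
      (by rw [prm x y hx hy, h1, h2]; exact hsum0)).1, ?_⟩
    have h3 : (B.large p c.hp).b ((B.large p c.hp).pr ⟨x, hx⟩) ((B.large p c.hp).pr ⟨y, hy⟩) = 0 := by
      rw [h1, h2]
      exact hT.isotropic m1 m2
    exact ((B.large p c.hp).b_pr _ _).1 h3
  obtain ⟨L1, c1⟩ := L u v hu hv rfl rfl
  obtain ⟨L2, c2⟩ := L (u * p) v hup hv (prp u hu) rfl
  obtain ⟨L3, c3⟩ := L u (v * p) hu hvp rfl (prp v hv)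
  obtain ⟨L4, c4⟩ := L (u * p) (v * p) hup hvp (prp u hu) (prp v hv)
  obtain ⟨e, e0, ee, ee3⟩ := meetR' B w3 u1 w1 c1 u2 w2 lu lv L1
  obtain ⟨b, b0, bb, bb3⟩ := meetR' B w3 up1 w1 c2 up2 w2 lup lv L2
  obtain ⟨e', e0', ee', ee4⟩ := meetR' B vp3 u1 vp1 c3 u2 vp2 lu lvp L3
  obtain ⟨b', b0', bb', bb4⟩ := meetR' B vp3 up1 vp1 c4 up2 vp2 lup lvp L4
  have d12 := (disj_of_triple B c hpt hbig hu u2 u1 lu lup).2
  have d34 := (disj_of_triple B c hpt hbig hv w2 w1 lv lvp).2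
  have E1 : Wd B c.ht (t * u) = QS.W (Com.T B lu.toCom) := lu.Wd_eq B
  have E2 : Wd B c.ht (t * (u * p)) = QS.W (Com.T B lup.toCom) := lup.Wd_eq B
  have E3 : Wd B c.ht (t * v) = QS.W (Com.T B lv.toCom) := lv.Wd_eq B
  have E4 : Wd B c.ht (t * (v * p)) = QS.W (Com.T B lvp.toCom) := lvp.Wd_eq B
  rw [E1, E2] at d12
  rw [E3, E4] at d34
  change e ∈ Wd B c.ht (t * u) at ee
  change e ∈ Wd B c.ht (t * v) at ee3
  change b ∈ Wd B c.ht (t * (u * p)) at bb
  change b ∈ Wd B c.ht (t * v) at bb3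
  change e' ∈ Wd B c.ht (t * u) at ee'
  change e' ∈ Wd B c.ht (t * (v * p)) at ee4
  change b' ∈ Wd B c.ht (t * (u * p)) at bb'
  change b' ∈ Wd B c.ht (t * (v * p)) at bb4
  rw [E1] at ee ee'
  rw [E2] at bb bb'
  rw [E3] at ee3 bb3
  rw [E4] at ee4 bb4
  refine QS.false_of_four (lu.sing B) (lup.sing B) (lv.sing B) (lvp.sing B) (fun x => ?_) d12 d34 ee ee3 bb bb3 ee' ee4
    bb' bb4 e0 b0 e0' b0'
  have k1 := act_p B c u2 u1 lu.com.symm lup.com.symm x
  have k2 := act_p B c w2 w1 lv.com.symm lvp.com.symm x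
  exact k1.symm.trans k2

end Cfsg.Agent.LargeExtra.WCIrr
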