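import Cfsg.Agent.LargeExtra.WN3
import Cfsg.Agent.LargeExtra.WN6

/-!
# Large extraspecial 2-subgroups of width at least five, `z` weakly closed in `Q`: `z ^ G` is a class of
3-transpositions (helper888)
-/

set_option autoImplicit false

namespace Cfsg.Agent.LargeExtra.WCIrr

open Cfsg.Agent.Co2Type.Quad Cfsg.Agent.LargeExtra.WC

universe u

section

variable {G : Type*} [Group G] {P : Set G} {Q : G → Subgroup G} {p t : G}

/-- good pairs are lines -/
theorem line_of_good_big [Finite G] (B : Base P Q) (hbig : ∀ p (hp : p ∈ P), 1024 ≤ Nat.card (B.large p hp).V)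
    (c : Good P p t) : Line P Q p t := by
  rcases c.dichotomy B (by have := hbig p c.hp; omega) with hU | hF
  · exact line_of_typeU B c hU
  · exact (TypeF.false_of_big B hbig c hF).elim

/-- all commuting pairs are lines -/
theorem allN_of_big [Finite G] (B : Base P Q) (hbig : ∀ p (hp : p ∈ P), 1024 ≤ Nat.card (B.large p hp).V)
    (hR : ∀ p ∈ P, NoRefl (Q p) p) : AllN P Q where
  toBase := B
  all := by
    intro p hp t ht hne hc
    by_cases hpt : p * t ∈ P
    · exact (false_of_triple_big B (fun p t c => line_of_good_big B hbig c)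
        (fun p hp => by have := hbig p hp; omega) hR ⟨hp, ht, hne, hc⟩ hpt).elim
    · exact line_of_good_big B hbig ⟨⟨hp, ht, hne, hc⟩, hpt⟩
  big := by
    intro p hp
    have h1 := (B.large p hp).card_eq
    have h2 := hbig p hp
    omega

end

variable {G : Type u} [Group G] [Finite G]

/-- **weakly closed, `|Q| ≥ 2 ^ 11`**: all commuting pairs of conjugates of `z` are lines -/
theorem allN_of_wc {Q : Subgroup G} {z : G} (h : Large Q z) (hQ : 2 ^ 11 ≤ Nat.card Q)
    (hwc : ∀ g : G, g * z * g⁻¹ ∈ Q → g * z * g⁻¹ = z) (hR : NoRefl Q z) : AllN (cls z) (QQ Q z) := by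
  have B := base h hwc
  have hz : z ∈ cls z := ⟨1, by group⟩
  refine allN_of_big B ?_ ?_
  · intro p hp
    have h1 := (B.large p hp).card_eq
    have h2 := B.card_eq hp hz
    rw [QQ_self h] at h2
    omega
  · rintro _ ⟨k, rfl⟩
    rw [QQ_eq h]
    exact hR.conj k

/-- **weakly closed, `|Q| ≥ 2 ^ 11`**: the conjugates of `z` are 3-transpositions -/
theorem isThree_of_wc [IsSimpleGroup G] (hG : ¬ IsMulCommutative G) {Q : Subgroup G} {z : G} (h : Large Q z)
    (hQ : 2 ^ 11 ≤ Nat.card Q) (hwc : ∀ g : G, g * z * g⁻¹ ∈ Q → g * z * g⁻¹ = z) :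
    Cfsg.IsThreeTranspositionClass (cls z) := by
  have hnc : ∃ a b : G, a * b ≠ b * a := by
    by_contra hcon
    push Not at hcon
    exact hG ⟨⟨hcon⟩⟩
  have hR : NoRefl Q z := noRefl_of_index h (by omega) (fun H => index_ne_two hnc H)
  have hz : z ∈ cls z := ⟨1, by group⟩
  exact (allN_of_wc h hQ hwc hR).geoN.isThree hG hz

end Cfsg.Agent.LargeExtra.WCIrr
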